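import Groth.Agent.H1DFun.BCStalk

/-!
# Stalks of higher direct images at a strict henselization
-/

set_option autoImplicit false
set_option backward.isDefEq.respectTransparency false
set_option backward.isDefEq.respectTransparency.types false

universe u

open CategoryTheory CategoryTheory.Limits AlgebraicGeometry Opposite
open Groth.Agent.H12AlgSp.EtStrictHens

namespace Groth.Agent.H1DFun

/-- Stalks of higher direct images are cohomology over the strict localisation. -/
theorem nonempty_Rpush_geomPt_iso {X S : Scheme.{u}} (f : X ⟶ S)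
    [QuasiCompact f] [QuasiSeparated f] (s : S) (R : Type u) [CommRing R] [IsLocalRing R]
    [Algebra (S.presheaf.stalk s) R] [IsLocalHom (algebraMap (S.presheaf.stalk s) R)]
    [Hensel.IsStrictHenselization (S.presheaf.stalk s) R] [IsSepClosed (IsLocalRing.ResidueField R)] (n : ℕ) :
    Nonempty (EtCoh.Rpush f n ⋙ EtCoh.stalk (Hens2.geomPt S s R) ≅
      EtCoh.pull (pullback.fst f (Hens2.specOf S s R)) ⋙ EtCoh.HF (pullback f (Hens2.specOf S s R)) n) := by
  obtain ⟨e, he⟩ := exists_iso_specOf (Hens2.geomPt S s R) R s (imagePt_geomPt s R)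
  exact nonempty_Rpush_stalk_iso (Hens2.geomPt S s R) f (Hens2.specOf S s R) e he n

end Groth.Agent.H1DFun
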