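import Groth.Agent.H18Et.Cons.Compact

/-!
# Maps out of constructible sheaves factor through stages
-/

set_option autoImplicit false
set_option backward.isDefEq.respectTransparency false
set_option backward.isDefEq.respectTransparency.types false

universe u

open CategoryTheory CategoryTheory.Limits AlgebraicGeometry Opposite
open Groth.Agent.H18Et
open scoped Groth.Agent.H18Et

namespace Groth.Agent.H1DFun

variable {X : Scheme.{u}} [CompactSpace X] [QuasiSeparatedSpace X] {I : Type u} [Preorder I]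
  [IsDirected I (fun a b => a ≤ b)] [Nonempty I]
  {G : EtCoh.Ab X} {Gs : I → EtCoh.Ab X} (η : ∀ v, Gs v ⟶ G) (t : ∀ {v w : I}, v ≤ w → (Gs v ⟶ Gs w))

include t in
/-- A morphism out of a constructible sheaf into a colimit of sheaves comes from a stage, when sections over
affine etale objects do. -/
theorem exists_factor (ht : ∀ {v w : I} (h : v ≤ w), t h ≫ η w = η v)
    (hA : ∀ (U : X.Etale) [IsAffine U.left] (s : EtCoh.sect G U),
      ∃ (v : I) (s' : EtCoh.sect (Gs v) U), (η v).hom.app (op U) s' = s)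
    (hB : ∀ (U : X.Etale) [IsAffine U.left] (v : I) (s : EtCoh.sect (Gs v) U), (η v).hom.app (op U) s = 0 →
      ∃ (w : I) (_ : v ≤ w), ∀ (w' : I) (h : v ≤ w'), w ≤ w' → (t h).hom.app (op U) s = 0)
    (F : EtCoh.Ab X) (hF : EtPBC.IsConstructible F) (φ : F ⟶ G) :
    ∃ (v : I) (ψ : F ⟶ Gs v), ψ ≫ η v = φ := by
  classical
  obtain ⟨n, hn0, hn⟩ := Cons.exists_killedBy F hF
  obtain ⟨a, b, V, U, hV, hU, rel, ⟨e⟩⟩ := Cons.exists_presentation F hF n hn
  choose ev hev_inj hev0 hevn hev_nat hev_surj using fun W : X.Etale => Cons.exists_ev W n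
  let χ : (⨁ fun i => EtPBC.extZeroConst (U i) (ZMod n)) ⟶ G := cokernel.π rel ≫ e.inv ≫ φ
  let s : ∀ i, EtCoh.sect G (U i) := fun i => ev (U i) G (biproduct.ι (fun i => EtPBC.extZeroConst (U i) (ZMod n)) i ≫ χ)
  choose v₁ s' hs' using fun i => @hA (U i) (hU i) (s i)
  obtain ⟨v₂, hv₂⟩ := Finite.exists_le v₁
  let s₂ : ∀ i, EtCoh.sect (Gs v₂) (U i) := fun i => (t (hv₂ i)).hom.app (op (U i)) (s' i)
  have hs₂ : ∀ i, (η v₂).hom.app (op (U i)) (s₂ i) = s i := fun i =>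
    (ConcreteCategory.congr_hom (congrArg (fun k : Gs (v₁ i) ⟶ G => k.hom.app (op (U i))) (ht (hv₂ i))) (s' i)).trans
      (hs' i)
  have hkill : ∀ i, (η v₂).hom.app (op (U i)) (n • s₂ i) = 0 := fun i => by
    rw [map_nsmul, hs₂]
    exact hevn _ _ _
  choose w₁ hw₁ hw₁' using fun i => @hB (U i) (hU i) v₂ _ (hkill i)
  obtain ⟨v₃, hv₃⟩ := Finite.exists_le w₁
  obtain ⟨v₄, hv₄, hv₄'⟩ := exists_ge_ge v₂ v₃
  have hex : ∀ i, ∃ ψ : EtPBC.extZeroConst (U i) (ZMod n) ⟶ Gs v₄,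
      ev (U i) (Gs v₄) ψ = (t hv₄).hom.app (op (U i)) (s₂ i) := fun i => hev_surj _ _ _ (by
    rw [← map_nsmul]
    exact hw₁' i v₄ hv₄ ((hv₃ i).trans hv₄'))
  choose ψ hψ using hex
  have hd : biproduct.desc ψ ≫ η v₄ = χ := biproduct.hom_ext' _ _ fun i => by
    refine hev_inj _ _ ?_
    rw [biproduct.ι_desc_assoc, hev_nat, hψ]
    exact (ConcreteCategory.congr_hom (congrArg (fun k : Gs v₂ ⟶ G => k.hom.app (op (U i))) (ht hv₄)) (s₂ i)).trans
      (hs₂ i)
  let r : ∀ j, EtCoh.sect (Gs v₄) (V j) := fun j =>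
    ev (V j) (Gs v₄) ((biproduct.ι (fun j => EtPBC.extZeroConst (V j) (ZMod n)) j ≫ rel) ≫ biproduct.desc ψ)
  have hr : ∀ j, (η v₄).hom.app (op (V j)) (r j) = 0 := fun j => by
    rw [← hev_nat, Category.assoc, hd, Category.assoc, show rel ≫ χ = 0 from by
      rw [cokernel.condition_assoc, zero_comp], comp_zero, hev0]
  choose w₂ hw₂ hw₂' using fun j => @hB (V j) (hV j) v₄ _ (hr j)
  obtain ⟨v₅, hv₅⟩ := Finite.exists_le w₂
  obtain ⟨v₆, hv₆, hv₆'⟩ := exists_ge_ge v₄ v₅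
  have hzero : rel ≫ biproduct.desc ψ ≫ t hv₆ = 0 := biproduct.hom_ext' _ _ fun j => by
    refine hev_inj _ _ ?_
    rw [comp_zero, hev0, ← Category.assoc, ← Category.assoc, hev_nat]
    exact hw₂' j v₆ hv₆ ((hv₅ j).trans hv₆')
  refine ⟨v₆, e.hom ≫ cokernel.desc rel (biproduct.desc ψ ≫ t hv₆) hzero, ?_⟩
  rw [← cancel_epi e.inv, Category.assoc, Iso.inv_hom_id_assoc, ← cancel_epi (cokernel.π rel),
    cokernel.π_desc_assoc, Category.assoc, ht hv₆]
  exact hd

end Groth.Agent.H1DFun
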