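import Groth.Agent.H1DFun.ConstCmp
import Groth.Agent.H1DFun.CompactFactor
import Groth.Agent.H7Lim.Approx.IntegralSystem

/-!
# Maps to integral direct images of finite constant sheaves factor through finite morphisms
-/

set_option autoImplicit false
set_option backward.isDefEq.respectTransparency false
set_option backward.isDefEq.respectTransparency.types false

universe u

open CategoryTheory CategoryTheory.Limits AlgebraicGeometry Opposite Topology TopologicalSpace
open Groth.Agent.H18Et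
open scoped Groth.Agent.H18Et

namespace Groth.Agent.H1DFun

variable {X : Scheme.{u}} (M : Type) [AddCommGroup M]

theorem bcHom_comp {D D' D'' : Scheme.{u}} (π : D' ⟶ D) (π' : D'' ⟶ D') (π'' : D'' ⟶ D) (ν : D ⟶ X)
    (ν' : D' ⟶ X) (ν'' : D'' ⟶ X) (w : π ≫ ν = ν') (w' : π' ≫ ν' = ν'') (w'' : π'' ≫ ν = ν'')
    (h : π' ≫ π = π'') (U : X.Etale) :
    bcHom π' ν' ν'' w' U ≫ bcHom π ν ν' w U = bcHom π'' ν ν'' w'' U := by
  refine pullback.hom_ext ?_ ?_
  · rw [Category.assoc, bcHom, bcHom, bcHom, pullback.lift_fst, pullback.lift_fst, pullback.lift_fst]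
  · rw [Category.assoc, bcHom, bcHom, bcHom, pullback.lift_snd, pullback.lift_snd_assoc, pullback.lift_snd,
      Category.assoc, h]

theorem cmp_comp {D D' D'' : Scheme.{u}} (π : D' ⟶ D) (π' : D'' ⟶ D') (π'' : D'' ⟶ D) (ν : D ⟶ X)
    (ν' : D' ⟶ X) (ν'' : D'' ⟶ X) (w : π ≫ ν = ν') (w' : π' ≫ ν' = ν'') (w'' : π'' ≫ ν = ν'')
    (h : π' ≫ π = π'') :
    cmp M π ν ν' w ≫ cmp M π' ν' ν'' w' = cmp M π'' ν ν'' w'' := by
  refine ObjectProperty.hom_ext _ (NatTrans.ext (funext fun U => ConcreteCategory.hom_ext _ _ fun s => ?_))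
  refine eq_of_locus (isConstant_const D'' M) _ _ fun z => ?_
  obtain ⟨m, hm⟩ := ConstSheaf.exists_mem_locus (isConstant_const D M) s (bcHom π'' ν ν'' w'' U.unop z)
  refine ⟨m, ?_, mem_locus_cmp M π'' ν ν'' w'' U.unop s z m hm⟩
  have hm' : bcHom π ν ν' w U.unop (bcHom π' ν' ν'' w' U.unop z) ∈ ConstSheaf.locus (isConstant_const D M) s m := by
    rw [← Scheme.Hom.comp_apply, bcHom_comp π π' π'' ν ν' ν'' w w' w'' h]
    exact hm
  exact mem_locus_cmp M π' ν' ν'' w' U.unop _ z m (mem_locus_cmp M π ν ν' w U.unop s _ m hm')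

section System

variable {I : Type u} [Preorder I] (Ds : Iᵒᵖ ⥤ Over X) (U : X.Etale)

/-- The base changes of the members of a system. -/
noncomputable def bcSys : Iᵒᵖ ⥤ Scheme.{u} where
  obj v := ((EtCoh.bc (Ds.obj v).hom).obj U).left
  map {v w} a := bcHom (Ds.map a).left (Ds.obj w).hom (Ds.obj v).hom (Over.w (Ds.map a)) U
  map_id v := pullback.hom_ext ((pullback.lift_fst _ _ _).trans (Category.id_comp _).symm)
    ((pullback.lift_snd _ _ _).trans (by
      rw [Ds.map_id, Over.id_left, Category.comp_id]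
      exact (Category.id_comp _).symm))
  map_comp a b := (bcHom_comp _ _ _ _ _ _ (Over.w (Ds.map b)) (Over.w (Ds.map a)) _
    (by rw [← Over.comp_left, ← Ds.map_comp]) U).symm

variable {D : Scheme.{u}} {ν : D ⟶ X} (c : Cone Ds) (e : c.pt ≅ Over.mk ν)

/-- The base change of the cone. -/
noncomputable def sysBcCone : Cone (bcSys Ds U) where
  pt := ((EtCoh.bc ν).obj U).left
  π :=
    { app := fun v => bcHom (e.inv ≫ c.π.app v).left (Ds.obj v).hom ν (Over.w (e.inv ≫ c.π.app v)) U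
      naturality := fun v w a => (Category.id_comp _).trans (bcHom_comp _ _ _ _ _ _ (Over.w (Ds.map a))
        (Over.w (e.inv ≫ c.π.app v)) _ (by rw [← Over.comp_left, Category.assoc, c.w]) U).symm }

theorem nonempty_isLimit_sysBcCone [IsDirected I (fun a b => a ≤ b)] [Nonempty I]
    (hc₀ : IsLimit ((Over.forget X).mapCone c)) : Nonempty (IsLimit (sysBcCone Ds U c e)) := by
  let j₀ : Iᵒᵖ := op (Classical.arbitrary I)
  have hfst : ∀ (s : Cone (bcSys Ds U)) (v : Iᵒᵖ), s.π.app v ≫ pullback.fst U.hom (Ds.obj v).hom =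
      s.π.app j₀ ≫ pullback.fst U.hom (Ds.obj j₀).hom := fun s v => by
    obtain ⟨k, hk₁, hk₂⟩ := exists_ge_ge v.unop j₀.unop
    rw [← s.w (j := op k) (j' := v) (homOfLE hk₁).op, ← s.w (j := op k) (j' := j₀) (homOfLE hk₂).op,
      Category.assoc, Category.assoc]
    exact congrArg (s.π.app (op k) ≫ ·) ((pullback.lift_fst _ _ _).trans (pullback.lift_fst _ _ _).symm)
  let sD : Cone (bcSys Ds U) → Cone (Ds ⋙ Over.forget X) := fun s =>
    { pt := s.pt
      π :=
        { app := fun v => s.π.app v ≫ pullback.snd U.hom (Ds.obj v).hom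
          naturality := fun v w a => by
            show 𝟙 _ ≫ _ = (_ ≫ _) ≫ (Ds.map a).left
            rw [Category.id_comp, ← s.w a, Category.assoc, Category.assoc]
            exact congrArg (s.π.app v ≫ ·) (pullback.lift_snd _ _ _) } }
  have hlift : ∀ (s : Cone (bcSys Ds U)) (v : Iᵒᵖ), (hc₀.lift (sD s) ≫ e.hom.left) ≫ (e.inv ≫ c.π.app v).left =
      s.π.app v ≫ pullback.snd U.hom (Ds.obj v).hom := fun s v => by
    refine Eq.trans ?_ (hc₀.fac (sD s) v)
    rw [Category.assoc]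
    refine congrArg (hc₀.lift (sD s) ≫ ·) ?_
    show (e.hom ≫ e.inv ≫ c.π.app v).left = (c.π.app v).left
    rw [Iso.hom_inv_id_assoc]
  have hν : (e.inv ≫ c.π.app j₀).left ≫ (Ds.obj j₀).hom = ν := Over.w (e.inv ≫ c.π.app j₀)
  refine ⟨⟨fun s => pullback.lift (s.π.app j₀ ≫ pullback.fst U.hom (Ds.obj j₀).hom)
      (hc₀.lift (sD s) ≫ e.hom.left) (by
        have h := congrArg (· ≫ (Ds.obj j₀).hom) (hlift s j₀)
        simp only [Category.assoc, hν] at h
        rw [Category.assoc, Category.assoc, pullback.condition]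
        exact h.symm), fun s v => ?_, fun s m hm => ?_⟩⟩
  · refine pullback.hom_ext ?_ ?_
    · rw [Category.assoc, hfst s v]
      refine (congrArg (_ ≫ ·) (pullback.lift_fst _ _ _)).trans ?_
      exact pullback.lift_fst _ _ _
    · rw [Category.assoc]
      refine (congrArg (_ ≫ ·) (pullback.lift_snd _ _ _)).trans ?_
      erw [pullback.lift_snd_assoc]
      exact hlift s v
  · refine pullback.hom_ext ?_ ?_
    · rw [pullback.lift_fst, ← hm j₀, Category.assoc]
      exact congrArg (m ≫ ·) (pullback.lift_fst _ _ _).symm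
    · rw [pullback.lift_snd]
      have heq : (m ≫ pullback.snd U.hom ν) ≫ e.inv.left = hc₀.lift (sD s) :=
        hc₀.uniq (sD s) _ fun v => by
          show ((m ≫ _) ≫ e.inv.left) ≫ (c.π.app v).left = s.π.app v ≫ _
          rw [← hm v, Category.assoc, Category.assoc, Category.assoc]
          exact congrArg (m ≫ ·) (pullback.lift_snd _ _ _).symm
      have hei : e.inv.left ≫ e.hom.left = 𝟙 _ := by
        rw [← Over.comp_left, e.inv_hom_id]; rfl
      rw [← heq, Category.assoc, hei]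
      exact (Category.comp_id _).symm

end System

/-- A map from a constructible sheaf to the direct image of a finite constant sheaf along an integral
morphism factors through a finite morphism of finite presentation. -/
theorem exists_finite_stage [CompactSpace X] [QuasiSeparatedSpace X] {D : Scheme.{u}} (ν : D ⟶ X)
    [IsIntegralHom ν] [Finite M] (F : EtCoh.Ab X) (hF : EtPBC.IsConstructible F)
    (φ : F ⟶ (EtCoh.push ν).obj (EtCoh.const D M)) :
    ∃ (D' : Scheme.{u}) (ν' : D' ⟶ X) (_ : IsFinite ν') (_ : LocallyOfFinitePresentation ν') (π : D ⟶ D')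
      (w : π ≫ ν' = ν) (ψ : F ⟶ (EtCoh.push ν').obj (EtCoh.const D' M)), ψ ≫ cmp M π ν' ν w = φ := by
  classical
  obtain ⟨I, _, _, _, Ds, c, hc, hD, ⟨e⟩⟩ := H7Lim.Approx.exists_finite_fp_system ν
  obtain ⟨hc₀⟩ := H7Lim.Approx.nonempty_isLimit_forget hc
  let νs : ∀ v : I, (Ds.obj (op v)).left ⟶ X := fun v => (Ds.obj (op v)).hom
  have hfin : ∀ v, IsFinite (νs v) := fun v => (hD _).1
  let π : ∀ v : I, D ⟶ (Ds.obj (op v)).left := fun v => (e.inv ≫ c.π.app (op v)).left
  have hπ : ∀ v, π v ≫ νs v = ν := fun v => Over.w (e.inv ≫ c.π.app (op v))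
  let tr : ∀ {v w : I}, v ≤ w → ((Ds.obj (op w)).left ⟶ (Ds.obj (op v)).left) := fun h =>
    (Ds.map (homOfLE h).op).left
  have htr : ∀ {v w : I} (h : v ≤ w), tr h ≫ νs v = νs w := fun h => Over.w (Ds.map (homOfLE h).op)
  have hπtr : ∀ {v w : I} (h : v ≤ w), π w ≫ tr h = π v := fun {v w} h => by
    show ((e.inv ≫ c.π.app (op w)) ≫ Ds.map (homOfLE h).op).left = (e.inv ≫ c.π.app (op v)).left
    rw [Category.assoc, c.w]
  let Gs : I → EtCoh.Ab X := fun v => (EtCoh.push (νs v)).obj (EtCoh.const _ M)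
  suffices h : ∃ (v : I) (ψ : F ⟶ Gs v), ψ ≫ cmp M (π v) (νs v) ν (hπ v) = φ by
    obtain ⟨v, ψ, hψ⟩ := h
    exact ⟨_, νs v, hfin v, (hD _).2, π v, hπ v, ψ, hψ⟩
  refine exists_factor (Gs := Gs) (fun v => cmp M (π v) (νs v) ν (hπ v))
    (fun h => cmp M (tr h) _ _ (htr h)) (fun h => cmp_comp M _ _ _ _ _ _ _ _ _ (hπtr h)) ?_ ?_ F hF φ
  all_goals intro U hUa
  all_goals
    let K : Iᵒᵖ ⥤ Scheme.{u} := bcSys Ds U
    let cK : Cone K := sysBcCone Ds U c e
    have hK : IsLimit cK := (nonempty_isLimit_sysBcCone Ds U c e hc₀).some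
    haveI : IsAffine U.left := hUa
    haveI : IsAffine ((𝟭 Scheme).obj U.left) := hUa
    haveI : ∀ v, IsAffine (K.obj v) := fun v => by
      haveI := hfin v.unop
      haveI : IsAffineHom (pullback.fst U.hom (νs v.unop)) :=
        MorphismProperty.pullback_fst (P := @IsAffineHom) _ _ inferInstance
      exact isAffine_of_isAffineHom (pullback.fst U.hom (νs v.unop))
    haveI : ∀ {v w : Iᵒᵖ} (a : v ⟶ w), IsAffineHom (K.map a) := fun a => inferInstance
    haveI : IsAffine ((EtCoh.bc ν).obj U).left := by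
      haveI : IsAffineHom (pullback.fst U.hom ν) :=
        MorphismProperty.pullback_fst (P := @IsAffineHom) _ _ inferInstance
      exact isAffine_of_isAffineHom (pullback.fst U.hom ν)
    haveI : IsAffine cK.pt := inferInstanceAs (IsAffine ((EtCoh.bc ν).obj U).left)
  · intro s
    let hD' := isConstant_const D M
    let L : ULift.{u + 1} M → Set ((EtCoh.bc ν).obj U).left := fun m => ConstSheaf.locus hD' s m
    let val : ULift.{u} M → ULift.{u + 1} M := fun k => ULift.up k.down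
    let Lo : ULift.{u} M → cK.pt.Opens := fun k => ⟨L (val k), ConstSheaf.isOpen_locus hD' s _⟩
    choose iv A hAc hA using fun k => exists_preimage_eq K cK hK (Lo k)
      ((ConstSheaf.isClopen_locus hD' s (val k)).1.isCompact)
    obtain ⟨v₀, hv₀⟩ := Finite.exists_le fun k => (iv k).unop
    let B : ULift.{u} M → (K.obj (op v₀)).Opens := fun k => K.map (homOfLE (hv₀ k)).op ⁻¹ᵁ A k
    have hB : ∀ k, cK.π.app (op v₀) ⁻¹ᵁ B k = Lo k := fun k => by
      rw [← Scheme.Hom.comp_preimage, cK.w, hA]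
    have hBc : ∀ k, IsCompact (B k : Set (K.obj (op v₀))) := fun k =>
      QuasiCompact.isCompact_preimage _ (A k).2 (hAc k)
    -- disjointness and covering hold at a later stage
    have hdis : ∀ p : ULift.{u} M × ULift.{u} M, ∃ (w : I) (h : v₀ ≤ w), p.1 = p.2 ∨
        K.map (homOfLE h).op ⁻¹ᵁ (B p.1 ⊓ B p.2) ≤ ⊥ := fun p => by
      by_cases hp : p.1 = p.2
      · exact ⟨v₀, le_rfl, Or.inl hp⟩
      · obtain ⟨w, a, ha⟩ := exists_map_preimage_le_map_preimage K cK hK (U := B p.1 ⊓ B p.2) (V := ⊥)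
          ((hBc p.1).inter_of_isOpen (hBc p.2) (B p.1).2 (B p.2).2) (fun z hz => by
            have h1 : z ∈ Lo p.1 := (hB p.1) ▸ hz.1
            have h2 : z ∈ Lo p.2 := (hB p.2) ▸ hz.2
            exact (hp (ULift.ext _ _ (congrArg (fun x : ULift.{u + 1} M => x.down) (ConstSheaf.locus_unique hD' s h1 h2)))).elim)
        exact ⟨w.unop, a.unop.le, Or.inr (le_trans ha fun z hz => hz.elim)⟩
    choose wd hwd hwd' using hdis
    obtain ⟨v₁, hv₁⟩ := Finite.exists_le wd
    obtain ⟨v₂, hv₂, hv₂'⟩ := exists_ge_ge v₀ v₁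
    obtain ⟨w₃, a₃, ha₃⟩ := exists_map_preimage_le_map_preimage K cK hK (i := op v₂) (U := ⊤)
      (V := K.map (homOfLE hv₂).op ⁻¹ᵁ (⨆ k, B k)) (by simpa using isCompact_univ) (fun z _ => by
        obtain ⟨m, hm⟩ := ConstSheaf.exists_mem_locus hD' s z
        rw [← Scheme.Hom.comp_preimage, cK.w]
        show cK.π.app (op v₀) z ∈ ⨆ k, B k
        refine Opens.mem_iSup.2 ⟨ULift.up m.down, ?_⟩
        have : z ∈ Lo (ULift.up m.down) := hm
        rw [← hB] at this
        exact this)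
    let w₄ := w₃.unop
    have h₀₄ : v₀ ≤ w₄ := hv₂.trans a₃.unop.le
    let C : ULift.{u} M → ((EtCoh.bc (νs w₄)).obj U).left.Opens := fun k => K.map (homOfLE h₀₄).op ⁻¹ᵁ B k
    have hC : ∀ k (z : cK.pt), z ∈ Lo k → cK.π.app w₃ z ∈ C k := fun k z hz => by
      rw [← hB] at hz
      show K.map (homOfLE h₀₄).op (cK.π.app w₃ z) ∈ B k
      rw [← Scheme.Hom.comp_apply, cK.w]
      exact hz
    obtain ⟨s', hs'⟩ := exists_of_locus (isConstant_const (Ds.obj (op w₄)).left M)
      ((EtCoh.bc (νs w₄)).obj U) val C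
      (fun z => by
        obtain ⟨k, hk⟩ := Opens.mem_iSup.1 (show K.map (homOfLE hv₂).op (K.map a₃ z) ∈ ⨆ k, B k from
          ha₃ (Set.mem_univ z))
        refine ⟨k, ?_⟩
        show K.map (homOfLE h₀₄).op z ∈ B k
        rw [show K.map (homOfLE h₀₄).op = K.map a₃ ≫ K.map (homOfLE hv₂).op from
          (congrArg K.map (Subsingleton.elim _ _)).trans (K.map_comp _ _), Scheme.Hom.comp_apply]
        exact hk)
      (fun k l z hk hl => by
        by_contra hne
        have h₅ : wd (k, l) ≤ w₄ := (hv₁ (k, l)).trans (hv₂'.trans a₃.unop.le)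
        have hb := (hwd' (k, l)).resolve_left hne
        refine (hb (show K.map (homOfLE h₅).op z ∈ K.map (homOfLE (hwd (k, l))).op ⁻¹ᵁ (B k ⊓ B l) from ?_)).elim
        show K.map (homOfLE (hwd (k, l))).op (K.map (homOfLE h₅).op z) ∈ B k ⊓ B l
        rw [← Scheme.Hom.comp_apply, ← K.map_comp, Subsingleton.elim (_ ≫ _) (homOfLE h₀₄).op]
        exact ⟨hk, hl⟩)
    refine ⟨w₄, s', eq_of_locus hD' _ _ fun z => ?_⟩
    obtain ⟨m, hm⟩ := ConstSheaf.exists_mem_locus hD' s z
    refine ⟨m, ?_, hm⟩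
    exact mem_locus_cmp M (π w₄) (νs w₄) ν (hπ w₄) U s' z m (hs' (ULift.up m.down) _ (hC (ULift.up m.down) z hm))
  · intro v s hs
    let hV := isConstant_const (Ds.obj (op v)).left M
    let hD' := isConstant_const D M
    have hzero : ∀ {Y : Scheme.{u}} (V : Y.Etale) (z : V.left),
        z ∈ ConstSheaf.locus (isConstant_const Y M) (U := V) (0 : EtCoh.sect (EtCoh.const Y M) V) 0 := fun {Y} V z =>
      ⟨V, 𝟙 V, ⟨z, rfl⟩, by
        rw [map_zero, show ConstSheaf.unitTop (X := Y) (AddCommGrpCat.of (ULift.{u + 1} M)) 0 = 0 from map_zero _]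
        exact (map_zero _).symm⟩
    have hex : ∀ k : {k : ULift.{u} M // ULift.up.{u + 1} k.down ≠ 0}, ∃ (w : I) (h : v ≤ w),
        ∀ z : (K.obj (op w)), K.map (homOfLE h).op z ∉ ConstSheaf.locus hV s (ULift.up k.1.down) := fun k => by
      let Lo : (K.obj (op v)).Opens := ⟨ConstSheaf.locus hV s (ULift.up k.1.down), ConstSheaf.isOpen_locus hV s _⟩
      haveI : CompactSpace ↥((EtCoh.bc (νs v)).obj U).left := inferInstanceAs (CompactSpace (K.obj (op v)))
      obtain ⟨w, a, ha⟩ := exists_map_preimage_le_map_preimage K cK hK (U := Lo) (V := ⊥)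
        ((ConstSheaf.isClopen_locus hV s _).1.isCompact) (fun z hz => by
          have h1 := mem_locus_cmp M (π v) (νs v) ν (hπ v) U s z _ hz
          rw [hs] at h1
          exact (k.2 (ConstSheaf.locus_unique hD' _ h1 (hzero _ z))).elim)
      exact ⟨w.unop, a.unop.le, fun z hz => (ha (show z ∈ K.map a ⁻¹ᵁ Lo from hz)).elim⟩
    choose wz hwz hwz' using hex
    obtain ⟨w₀, hw₀⟩ := Finite.exists_le wz
    obtain ⟨w₁, hw₁, hw₁'⟩ := exists_ge_ge v w₀
    refine ⟨w₁, hw₁, fun w' h hw' => eq_of_locus (isConstant_const (Ds.obj (op w')).left M) _ _ fun z =>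
      ⟨0, ?_, hzero _ z⟩⟩
    refine mem_locus_cmp M (tr h) (νs v) (νs w') (htr h) U s z 0 ?_
    obtain ⟨m, hm⟩ := ConstSheaf.exists_mem_locus hV s (bcHom (tr h) (νs v) (νs w') (htr h) U z)
    by_cases hm0 : m = 0
    · exact hm0 ▸ hm
    exfalso
    have h₅ : wz ⟨ULift.up m.down, hm0⟩ ≤ w' := (hw₀ _).trans (hw₁'.trans hw')
    refine hwz' ⟨ULift.up m.down, hm0⟩ (K.map (homOfLE h₅).op z) ?_
    rw [← Scheme.Hom.comp_apply, ← K.map_comp, Subsingleton.elim (_ ≫ _) (homOfLE h).op]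
    exact hm

end Groth.Agent.H1DFun
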