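import Groth.Agent.H1DFun.IntegralConstEmbed
import Groth.Agent.H1DFun.FiniteStage

/-!
# Constructible sheaves embed in finite direct images of constant sheaves
-/

set_option autoImplicit false
set_option backward.isDefEq.respectTransparency false
set_option backward.isDefEq.respectTransparency.types false

universe u

open CategoryTheory CategoryTheory.Limits AlgebraicGeometry Opposite
open scoped Groth.Agent.H18Et

namespace Groth.Agent.H1DFun

variable {X : Scheme.{u}}

/-- A constructible sheaf on a qcqs scheme embeds in a finite sum of direct images of finite constant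
sheaves along finite morphisms of finite presentation. -/
theorem exists_mono_finite_const [CompactSpace X] [QuasiSeparatedSpace X] (F : EtCoh.Ab X)
    (hF : EtPBC.IsConstructible F) :
    ∃ (n : ℕ) (Y : Fin n → Scheme.{u}) (f : ∀ i, Y i ⟶ X) (_ : ∀ i, IsFinite (f i))
      (_ : ∀ i, LocallyOfFinitePresentation (f i))
      (M : Fin n → Type) (_ : ∀ i, AddCommGroup (M i)) (_ : ∀ i, Finite (M i))
      (ι : F ⟶ ⨁ fun i => (EtCoh.push (f i)).obj (EtCoh.const (Y i) (M i))), Mono ι := by
  obtain ⟨n, D, ν, hν, M, iM, iF, ι, hι⟩ := exists_mono_integral_const F hF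
  choose Y f hf hfp π w ψ hψ using fun k => @exists_finite_stage X (M k) (iM k) _ _ _ (ν k) (hν k) (iF k) F hF
    (ι ≫ biproduct.π (fun k => (EtCoh.push (ν k)).obj (EtCoh.const (D k) (M k))) k)
  refine ⟨n, Y, f, hf, hfp, M, iM, iF, biproduct.lift ψ, ?_⟩
  have h : biproduct.lift ψ ≫ biproduct.map (fun k => cmp (M k) (π k) (f k) (ν k) (w k)) = ι :=
    biproduct.hom_ext _ _ fun k => by
      rw [Category.assoc, biproduct.map_π, biproduct.lift_π_assoc, hψ]
  haveI : Mono (biproduct.lift ψ ≫ biproduct.map (fun k => cmp (M k) (π k) (f k) (ν k) (w k))) := h ▸ hι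
  exact mono_of_mono (biproduct.lift ψ) (biproduct.map fun k => cmp (M k) (π k) (f k) (ν k) (w k))

end Groth.Agent.H1DFun
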