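import Groth.Agent.H1DFun.ClosedInduction
import Groth.Agent.H1DFun.FiniteConstEmbed
import Groth.Agent.H1Lim.PushSys

/-!
# Effacing classes on closed subschemes, reduction to constant sheaves
-/

set_option autoImplicit false
set_option backward.isDefEq.respectTransparency false
set_option backward.isDefEq.respectTransparency.types false

universe u

open CategoryTheory CategoryTheory.Limits AlgebraicGeometry Opposite Abelian
open Groth.Agent.H18Et Groth.Agent.H1Lim
open scoped Groth.Agent.H18Et Groth.Agent.H18Et.CohColim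

namespace Groth.Agent.H1DFun

attribute [local instance] Groth.Agent.H18Et.pull_preservesFiniteLimits

theorem baseChange0_natural {X Y X' Y' : Scheme.{u}} (f : X ⟶ Y) (g : Y' ⟶ Y) (f' : X' ⟶ Y')
    (g' : X' ⟶ X) (w : g' ≫ f = f' ≫ g) {F G : EtCoh.Ab X} (φ : F ⟶ G) :
    (EtCoh.pull g).map ((EtCoh.push f).map φ) ≫ EtCoh.baseChange0 f g f' g' w G =
      EtCoh.baseChange0 f g f' g' w F ≫ (EtCoh.push f').map ((EtCoh.pull g').map φ) := by
  dsimp only [EtCoh.baseChange0]
  rw [← Adjunction.homEquiv_naturality_left_symm, ← Adjunction.homEquiv_naturality_right_symm]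
  refine congrArg _ ?_
  let ψ : EtCoh.push g' ⋙ EtCoh.push f ⟶ EtCoh.push f' ⋙ EtCoh.push g :=
    (EtCoh.pushComp f g').hom ≫ (EtCoh.pushCongr w).hom ≫ (EtCoh.pushComp g f').inv
  show (EtCoh.push f).map φ ≫ (EtCoh.push f).map ((EtCoh.pullPushAdj g').unit.app G) ≫ ψ.app _ =
    ((EtCoh.push f).map ((EtCoh.pullPushAdj g').unit.app F) ≫ ψ.app _) ≫ _
  rw [Category.assoc, ← Functor.map_comp_assoc, ← Adjunction.unit_naturality, Functor.map_comp_assoc]
  exact congrArg (_ ≫ ·) (ψ.naturality ((EtCoh.pull g').map φ))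

theorem isTorsion_biproduct {X : Scheme.{u}} {n : ℕ} (K : Fin n → EtCoh.Ab X) (h : ∀ k, EtCoh.IsTorsion (K k)) :
    EtCoh.IsTorsion (⨁ K) := by
  rw [H18Et.Coh.isTorsion_iff_stalk]
  intro Ω _ _ ξ p
  haveI : (EtCoh.stalk ξ).Additive := inferInstance
  have ht := congrArg (EtCoh.stalk ξ).map (biproduct.total (f := K))
  rw [Functor.map_sum, CategoryTheory.Functor.map_id] at ht
  rw [show p = ∑ k, (EtCoh.stalk ξ).map (biproduct.ι K k) ((EtCoh.stalk ξ).map (biproduct.π K k) p) from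
    ((ConcreteCategory.congr_hom ht p).symm.trans
      ((map_sum (AddMonoidHom.mk' (fun φ : (EtCoh.stalk ξ).obj (⨁ K) ⟶ (EtCoh.stalk ξ).obj (⨁ K) => φ p)
        (fun _ _ => rfl)) _ _).trans (Finset.sum_congr rfl fun k _ =>
          ConcreteCategory.congr_hom ((EtCoh.stalk ξ).map_comp (biproduct.π K k) (biproduct.ι K k)) p)))]
  exact (AddCommGroup.torsion _).sum_mem (fun k _ => AddMonoidHom.isOfFinAddOrder _
    ((H18Et.Coh.isTorsion_iff_stalk _).1 (h k) Ω ξ _))

variable {X Z : Scheme.{u}} (i : Z ⟶ X)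

/-- Effacement of classes with constant coefficients on finite schemes over `X`. -/
abbrev KillConst : Prop :=
  ∀ (Y : Scheme.{u}) (ν : Y ⟶ X), IsFinite ν → LocallyOfFinitePresentation ν →
    ∀ (M : Type) [AddCommGroup M] [Finite M] (q : ℕ), 0 < q →
      ∀ ξ : Sheaf.H ((EtCoh.pull (pullback.fst ν i)).obj (EtCoh.const Y M)) q,
        ∃ (G : EtCoh.Ab Y) (_ : EtCoh.IsTorsion G) (a : EtCoh.const Y M ⟶ G) (_ : Mono a),
          Sheaf.H.map ((EtCoh.pull (pullback.fst ν i)).map a) q ξ = 0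

variable [CompactSpace X] [QuasiSeparatedSpace X] [IsClosedImmersion i]

theorem exists_mono_kill_push_const (hC : KillConst i) {Y : Scheme.{u}} (ν : Y ⟶ X) [IsFinite ν]
    [LocallyOfFinitePresentation ν] (M : Type) [AddCommGroup M] [Finite M] (q : ℕ) (hq : 0 < q)
    (y : Sheaf.H ((EtCoh.pull i).obj ((EtCoh.push ν).obj (EtCoh.const Y M))) q) :
    ∃ (K : EtCoh.Ab X) (_ : EtCoh.IsTorsion K) (b : (EtCoh.push ν).obj (EtCoh.const Y M) ⟶ K) (_ : Mono b),
      Sheaf.H.map ((EtCoh.pull i).map b) q y = 0 := by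
  let i' := pullback.fst ν i
  let ρ := pullback.snd ν i
  haveI : IsIntegralHom ρ := MorphismProperty.pullback_snd (P := @IsIntegralHom) _ _ inferInstance
  have sq : IsPullback i' ρ ν i := IsPullback.of_hasPullback ν i
  let τ : ∀ H : EtCoh.Ab Y, Sheaf.H ((EtCoh.pull i).obj ((EtCoh.push ν).obj H)) q →
      Sheaf.H ((EtCoh.pull i').obj H) q := fun H x =>
    Sheaf.H.map ((EtCoh.pull ρ).map (EtCoh.baseChange0 ν i ρ i' sq.w H) ≫ (EtCoh.pullPushAdj ρ).counit.app _) q
      (hpull ρ ((EtCoh.pull i).obj ((EtCoh.push ν).obj H)) q x)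
  obtain ⟨G, hG, a, ha, h⟩ := hC Y ν inferInstance inferInstance M q hq (τ _ y)
  haveI : (EtCoh.push ν).IsRightAdjoint := ⟨_, ⟨EtCoh.pullPushAdj ν⟩⟩
  haveI : Mono ((EtCoh.push ν).map a) := inferInstance
  refine ⟨(EtCoh.push ν).obj G, H1Lim.isTorsion_push ν G hG, (EtCoh.push ν).map a, inferInstance, ?_⟩
  haveI := isIso_baseChange0_of_isIntegralHom ν i ρ i' sq G
  refine (hpull_map_bijective ρ (EtCoh.baseChange0 ν i ρ i' sq.w G) q).1 ?_
  show τ G _ = τ G 0
  rw [show τ G 0 = 0 from (congrArg _ (map_zero _)).trans (map_zero _), ← h]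
  show Sheaf.H.map _ q (hpull ρ _ q (Sheaf.H.map _ q y)) = Sheaf.H.map _ q (Sheaf.H.map _ q (hpull ρ _ q y))
  rw [Hpull_map]
  refine (H_map_map _ _ q _).trans (Eq.trans ?_ (H_map_map _ _ q _).symm)
  refine congrArg (fun k => Sheaf.H.map k q _) ?_
  rw [← Functor.map_comp_assoc, baseChange0_natural, Functor.map_comp, Category.assoc, Category.assoc]
  exact congrArg (_ ≫ ·) ((EtCoh.pullPushAdj ρ).counit.naturality ((EtCoh.pull i').map a))

/-- Effacement for constructible sheaves. -/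
theorem exists_mono_kill_constructible (hC : KillConst i) (C : EtCoh.Ab X) (hC' : EtPBC.IsConstructible C)
    (q : ℕ) (hq : 0 < q) (y : Sheaf.H ((EtCoh.pull i).obj C) q) :
    ∃ (K : EtCoh.Ab X) (a : C ⟶ K), Mono a ∧ EtCoh.IsTorsion K ∧ Sheaf.H.map ((EtCoh.pull i).map a) q y = 0 := by
  obtain ⟨n, Y, ν, hν, hνp, M, iM, iF, ι, hι⟩ := exists_mono_finite_const C hC'
  let P : Fin n → EtCoh.Ab X := fun k => (EtCoh.push (ν k)).obj (EtCoh.const (Y k) (M k))
  have key := fun k => @exists_mono_kill_push_const X Z i _ _ _ hC (Y k) (ν k) (hν k) (hνp k) (M k) (iM k) (iF k)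
    q hq (Sheaf.H.map ((EtCoh.pull i).map (ι ≫ biproduct.π P k)) q y)
  choose K hK b hb hz using key
  haveI : Mono (biproduct.map b) := inferInstance
  refine ⟨⨁ K, ι ≫ biproduct.map b, @mono_comp _ _ _ _ _ _ hι _ inferInstance, isTorsion_biproduct K hK, ?_⟩
  haveI : (EtCoh.pull i).IsLeftAdjoint := ⟨_, ⟨EtCoh.pullPushAdj i⟩⟩
  haveI : (EtCoh.pull i).Additive := Functor.additive_of_preserves_binary_products _
  let x := Sheaf.H.map ((EtCoh.pull i).map (ι ≫ biproduct.map b)) q y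
  have hx : ∀ k, x.comp (Ext.mk₀ ((EtCoh.pull i).map (biproduct.π K k))) (add_zero q) = 0 := fun k => by
    refine Eq.trans ?_ (hz k)
    rw [← Sheaf.H.map_apply]
    refine (H_map_map _ _ q y).trans (Eq.trans ?_ (H_map_map _ _ q y).symm)
    refine congrArg (fun t => Sheaf.H.map t q y) ?_
    rw [← Functor.map_comp, ← Functor.map_comp, Category.assoc, biproduct.map_π, Category.assoc]
  have ht := congrArg (EtCoh.pull i).map (biproduct.total (f := K))
  rw [Functor.map_sum, CategoryTheory.Functor.map_id] at ht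
  rw [show Sheaf.H.map ((EtCoh.pull i).map (ι ≫ biproduct.map b)) q y = x from rfl,
    ← Ext.comp_mk₀_id x, ← ht, Ext.mk₀_sum, Ext.comp_sum]
  refine Finset.sum_eq_zero fun k _ => ?_
  rw [Functor.map_comp, ← Ext.mk₀_comp_mk₀, ← Ext.comp_assoc_of_second_deg_zero]
  erw [hx k]
  rw [Ext.zero_comp]

/-- Effacement on a closed subscheme from constant coefficients. -/
theorem killOn_of_killConst (hC : KillConst i) : KillOn i := by
  intro F hF q hq ξ
  let Q : EtCoh.Ab X → Prop := fun _ => True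
  haveI := Cons.isFiltered_idxCat (F := F) (Q := Q) (fun _ _ => trivial) (fun _ _ _ _ _ _ => trivial)
    (fun _ _ _ _ => trivial)
  obtain ⟨hc⟩ := Cons.nonempty_isColimit_idxCocone (F := F) (Q := Q) (fun _ _ => trivial)
    (fun _ _ _ _ _ _ => trivial) (fun _ _ _ _ => trivial)
    (fun {C} f hC => ⟨C, 𝟙 C, f, hC, trivial, Category.id_comp f⟩) hF
  haveI : CompactSpace Z := QuasiCompact.compactSpace_of_compactSpace i
  haveI : QuasiSeparatedSpace Z := quasiSeparatedSpace_of_quasiSeparated i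
  haveI : (EtCoh.pull i).IsLeftAdjoint := ⟨_, ⟨EtCoh.pullPushAdj i⟩⟩
  let D := Cons.idxDiagram F Q ⋙ EtCoh.pull i
  have hc' := isColimitOfPreserves (EtCoh.pull i) hc
  let e : ((EtCoh.pull i).mapCocone (Cons.idxCocone F Q)).pt ≅ colimit D :=
    hc'.coconePointUniqueUpToIso (colimit.isColimit D)
  obtain ⟨j, y, hy⟩ := (CohColim.hSurj_hInj q D).1 (Sheaf.H.map e.hom q ξ)
  let f := (Cons.idxCocone F Q).ι.app j
  have hξ : Sheaf.H.map ((EtCoh.pull i).map f) q y = ξ := by
    apply H_map_injective e q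
    rw [hy.symm]
    refine (H_map_map _ _ q y).trans ?_
    exact congrArg (fun φ => Sheaf.H.map φ q y)
      (IsColimit.comp_coconePointUniqueUpToIso_hom hc' (colimit.isColimit D) j)
  obtain ⟨K, a, ha, hK, hz⟩ := exists_mono_kill_constructible i hC _ (Cons.Idx.isConstructible j) q hq y
  let f' : (Cons.idxDiagram F Q).obj j ⟶ F := f
  let a' : (Cons.idxDiagram F Q).obj j ⟶ K := a
  haveI : Mono a' := ha
  have hepi : Epi (biprod.desc (pushout.inl f' a') (pushout.inr f' a')) :=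
    ⟨fun g₁ g₂ h => pushout.hom_ext (by simpa using congrArg (biprod.inl ≫ ·) h)
      (by simpa using congrArg (biprod.inr ≫ ·) h)⟩
  refine ⟨pushout f' a', isTorsion_of_epi_biprod (biprod.desc (pushout.inl f' a') (pushout.inr f' a')) hF hK,
    pushout.inl f' a', inferInstance, ?_⟩
  rw [← hξ]
  refine (H_map_map _ _ q y).trans ?_
  erw [← Functor.map_comp, pushout.condition, Functor.map_comp]
  refine (H_map_map _ _ q y).symm.trans ?_
  exact (congrArg (Sheaf.H.map ((EtCoh.pull i).map (pushout.inr f' a')) q) hz).trans (map_zero _)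

end Groth.Agent.H1DFun
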