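import Groth.Agent.H1DFun.StrictLoc
import Groth.Agent.H18Et.SitePoints

/-!
# Strict localisations at geometric points with their geometric point
-/

set_option autoImplicit false
set_option backward.isDefEq.respectTransparency false
set_option backward.isDefEq.respectTransparency.types false

universe u

open CategoryTheory CategoryTheory.Limits AlgebraicGeometry Opposite IsLocalRing
open Groth.Agent.H18Et Groth.Agent.H12AlgSp.EtStrictHens

namespace Groth.Agent.H1DFun

/-- Separable elements over a separably closed field are rational. -/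
theorem mem_range_of_isSeparable {K L : Type*} [Field K] [Field L] [IsSepClosed K] [Algebra K L] (x : L)
    (hx : _root_.IsSeparable K x) : x ∈ (algebraMap K L).range := by
  have h1 := IsSepClosed.degree_eq_one_of_irreducible K (minpoly.irreducible hx.isIntegral) hx
  exact minpoly.degree_eq_one_iff.1 h1

variable {S : Scheme.{u}} {Ω : Type u} [Field Ω] [IsSepClosed Ω] (ξ : Spec (CommRingCat.of Ω) ⟶ S)

instance isLocalHom_valueHom : IsLocalHom (valueHom ξ).hom :=
  ⟨fun r hr => isUnit_of_valueHom_ne_zero ξ r hr.ne_zero⟩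

theorem valueHom_leg (U : S.Etale) (z : (Scheme.pointSmallEtale ξ).fiber.obj U) [IsAffine U.left] :
    Spec.map (valueHom ξ) ≫ leg ξ U z = (z.left : Spec (CommRingCat.of Ω) ⟶ U.left) := by
  rw [leg, ← Category.assoc, ← Spec.map_comp]
  have h : funGerm ξ U z ≫ valueHom ξ = funValue ξ U z := by
    ext a
    exact funGerm_valueHom ξ U z a
  let l : Spec (CommRingCat.of Ω) ⟶ U.left := z.left
  show _ = l
  rw [h, IsAffineOpen.fromSpec_top,
    show funValue ξ U z = l.appTop ≫ (Scheme.ΓSpecIso (CommRingCat.of Ω)).hom from rfl,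
    Spec.map_comp, Category.assoc, Scheme.isoSpec_inv_naturality, ← Scheme.isoSpec_Spec_hom]
  exact Iso.hom_inv_id_assoc _ _

theorem valueHom_fac :
    Spec.map (valueHom ξ) ≫ Spec.map (stalkHom ξ) ≫ S.fromSpecStalk (imagePt ξ) = ξ := by
  obtain ⟨V, g, z', -, hV, -⟩ :=
    exists_affine_refinement ξ (EtCoh.top S) (Over.homMk ξ (Category.comp_id _)) ⊤ trivial
  rw [← leg_hom ξ V z', ← Category.assoc, valueHom_leg]
  exact Over.w z'

section Hom

variable (T : Type u) [CommRing T] [HenselianLocalRing T] [IsSepClosed (ResidueField T)]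
  (f₀ : ↥(S.presheaf.stalk (imagePt ξ)) →+* T) [IsLocalHom f₀] (v : T →+* Ω) [IsLocalHom v]
  (hv : v.comp f₀ = (valueHom ξ).hom.comp (stalkHom ξ).hom)

include hv in
theorem residue_compat (x : ResidueField ↥(S.presheaf.stalk (imagePt ξ))) :
    ResidueField.lift v (ResidueField.map f₀ x) =
      ResidueField.lift (valueHom ξ).hom
        (ResidueField.map (algebraMap ↥(S.presheaf.stalk (imagePt ξ)) ↥(EtBase.etaleLocalRing ξ)) x) := by
  obtain ⟨a, rfl⟩ := residue_surjective x
  rw [ResidueField.map_residue, ResidueField.map_residue, ResidueField.lift_residue_apply,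
    ResidueField.lift_residue_apply]
  exact RingHom.congr_fun hv a

include hv in
/-- The universal property of the etale local ring, with a geometric point. -/
theorem existsUnique_hom :
    ∃! g : ↥(EtBase.etaleLocalRing ξ) →+* T,
      g.comp (stalkHom ξ).hom = f₀ ∧ v.comp g = (valueHom ξ).hom := by
  let O := ↥(EtBase.etaleLocalRing ξ)
  let vb : ResidueField T →+* Ω := ResidueField.lift v
  let ub : ResidueField O →+* Ω := ResidueField.lift (valueHom ξ).hom
  have hsep := isSeparable_residueField ξ
  have hrange : ∀ x : ResidueField O, ub x ∈ vb.range := by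
    intro x
    let : Algebra (ResidueField T) Ω := vb.toAlgebra
    let : Algebra (ResidueField ↥(S.presheaf.stalk (imagePt ξ))) (ResidueField T) := (ResidueField.map f₀).toAlgebra
    let : Algebra (ResidueField ↥(S.presheaf.stalk (imagePt ξ))) Ω := (vb.comp (ResidueField.map f₀)).toAlgebra
    haveI : IsScalarTower (ResidueField ↥(S.presheaf.stalk (imagePt ξ))) (ResidueField T) Ω :=
      IsScalarTower.of_algebraMap_eq fun _ => rfl
    let ub' : ResidueField O →ₐ[ResidueField ↥(S.presheaf.stalk (imagePt ξ))] Ω :=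
      { ub with commutes' := fun a => (residue_compat ξ T f₀ v hv a).symm }
    refine mem_range_of_isSeparable (K := ResidueField T) (ub x) ?_
    have h := Algebra.IsSeparable.isSeparable (ResidueField ↥(S.presheaf.stalk (imagePt ξ))) x
    have h2 : _root_.IsSeparable (ResidueField ↥(S.presheaf.stalk (imagePt ξ))) (ub' x) := by
      unfold _root_.IsSeparable at h ⊢
      rwa [minpoly.algHom_eq ub' ub'.toRingHom.injective x]
    exact h2.tower_top (ResidueField T)
  let τ : ResidueField O →+* ResidueField T :=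
    (RingEquiv.ofBijective vb.rangeRestrict
      ⟨fun a b h => vb.injective (congrArg Subtype.val h), vb.rangeRestrict_surjective⟩).symm.toRingHom.comp
        (ub.codRestrict vb.range hrange)
  have hτ : ∀ x, vb (τ x) = ub x := fun x =>
    congrArg Subtype.val ((RingEquiv.ofBijective vb.rangeRestrict
      ⟨fun a b h => vb.injective (congrArg Subtype.val h), vb.rangeRestrict_surjective⟩).apply_symm_apply
        (ub.codRestrict vb.range hrange x))
  have hτ0 : τ.comp (ResidueField.map (algebraMap ↥(S.presheaf.stalk (imagePt ξ)) O)) = ResidueField.map f₀ := by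
    ext x
    apply vb.injective
    refine (hτ _).trans (residue_compat ξ T f₀ v hv _).symm
  obtain ⟨g, ⟨hg1, hg2⟩, hu⟩ := (isStrictHenselization ξ).universal T f₀ τ hτ0
  refine ⟨g, ⟨hg1, RingHom.ext fun r => ?_⟩, fun g' hg' => hu g' ⟨hg'.1, fun r => ?_⟩⟩
  · show v (g r) = _
    rw [← ResidueField.lift_residue_apply (S := Ω) v, hg2]
    exact (hτ _).trans (ResidueField.lift_residue_apply (valueHom ξ).hom r)
  · apply vb.injective
    rw [hτ]
    exact (ResidueField.lift_residue_apply v (g' r)).trans ((RingHom.congr_fun hg'.2 r).trans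
      (ResidueField.lift_residue_apply (valueHom ξ).hom r).symm)

end Hom

/-- An endomorphism of a strict henselization over the base is bijective. -/
theorem bijective_endo {R O : Type u} [CommRing R] [IsLocalRing R] [CommRing O] [IsLocalRing O]
    [Algebra R O] [IsLocalHom (algebraMap R O)] [hO : Hensel.IsStrictHenselization R O]
    (h : O →+* O) [IsLocalHom h] (hh : h.comp (algebraMap R O) = algebraMap R O) : Function.Bijective h := by
  haveI := hO.henselian
  haveI : Algebra.IsSeparable (ResidueField R) (ResidueField O) := hO.isSepClosure.2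
  let τ : ResidueField O →+* ResidueField O := ResidueField.map h
  have hτ : ∀ x, τ (ResidueField.map (algebraMap R O) x) = ResidueField.map (algebraMap R O) x := by
    intro x
    obtain ⟨a, rfl⟩ := residue_surjective x
    rw [ResidueField.map_residue, ResidueField.map_residue]
    exact congrArg (residue O) (RingHom.congr_fun hh a)
  let τ' : ResidueField O →ₐ[ResidueField R] ResidueField O := { τ with commutes' := hτ }
  have hb : Function.Bijective τ := Algebra.IsAlgebraic.algHom_bijective τ'
  let σ : ResidueField O →+* ResidueField O := (RingEquiv.ofBijective τ hb).symm.toRingHom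
  have hσ0 : σ.comp (ResidueField.map (algebraMap R O)) = ResidueField.map (algebraMap R O) := by
    ext x
    apply hb.1
    exact ((RingEquiv.ofBijective τ hb).apply_symm_apply _).trans (hτ _).symm
  obtain ⟨h', ⟨h'1, h'2⟩, -⟩ := hO.universal O (algebraMap R O) σ hσ0
  have huniq : ∀ k : O →+* O, k.comp (algebraMap R O) = algebraMap R O →
      (∀ x, residue O (k x) = residue O x) → k = RingHom.id O := fun k k1 k2 => by
    refine (hO.universal O (algebraMap R O) (RingHom.id _) ?_).unique ⟨k1, k2⟩ ⟨RingHom.id_comp _, fun x => rfl⟩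
    exact RingHom.id_comp _
  have e1 : h'.comp h = RingHom.id O := huniq _ (by rw [RingHom.comp_assoc, hh, h'1]) fun x => by
    show residue O (h' (h x)) = _
    rw [h'2, show residue O (h x) = τ (residue O x) from (ResidueField.map_residue h x).symm]
    exact (RingEquiv.ofBijective τ hb).symm_apply_apply (residue O x)
  have e2 : h.comp h' = RingHom.id O := huniq _ (by rw [RingHom.comp_assoc, h'1, hh]) fun x => by
    show residue O (h (h' x)) = _
    rw [show residue O (h (h' x)) = τ (residue O (h' x)) from (ResidueField.map_residue h _).symm, h'2]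
    exact (RingEquiv.ofBijective τ hb).apply_symm_apply _
  exact ⟨Function.LeftInverse.injective (RingHom.congr_fun e1), Function.RightInverse.surjective (RingHom.congr_fun e2)⟩

/-- A strict localisation at a geometric point. -/
structure Datum where
  /-- The scheme. -/
  P : Scheme.{u}
  /-- Its map to the base. -/
  p : P ⟶ S
  /-- The geometric point. -/
  c : Spec (CommRingCat.of Ω) ⟶ P
  /-- The identification. -/
  e : P ≅ Spec (EtBase.etaleLocalRing ξ)
  he : e.hom ≫ Spec.map (stalkHom ξ) ≫ S.fromSpecStalk (imagePt ξ) = p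
  hce : c ≫ e.hom = Spec.map (valueHom ξ)

/-- The tautological one. -/
noncomputable def Datum.std : Datum ξ where
  P := Spec (EtBase.etaleLocalRing ξ)
  p := Spec.map (stalkHom ξ) ≫ S.fromSpecStalk (imagePt ξ)
  c := Spec.map (valueHom ξ)
  e := Iso.refl _
  he := Category.id_comp _
  hce := Category.comp_id _

variable {ξ}

theorem Datum.c_p (d : Datum ξ) : d.c ≫ d.p = ξ := by
  rw [← d.he, ← Category.assoc, d.hce, valueHom_fac]

/-- The section of a datum over an affine neighbourhood. -/
noncomputable def Datum.sec (d : Datum ξ) (U : S.Etale) (z : (Scheme.pointSmallEtale ξ).fiber.obj U)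
    [IsAffine U.left] : d.P ⟶ U.left :=
  d.e.hom ≫ leg ξ U z

theorem Datum.sec_hom (d : Datum ξ) (U : S.Etale) (z : (Scheme.pointSmallEtale ξ).fiber.obj U)
    [IsAffine U.left] : d.sec U z ≫ U.hom = d.p := by
  rw [Datum.sec, Category.assoc, leg_hom, d.he]

theorem Datum.c_sec (d : Datum ξ) (U : S.Etale) (z : (Scheme.pointSmallEtale ξ).fiber.obj U)
    [IsAffine U.left] : d.c ≫ d.sec U z = (z.left : Spec (CommRingCat.of Ω) ⟶ U.left) := by
  rw [Datum.sec, ← Category.assoc, d.hce, valueHom_leg]

/-- Morphisms into an etale scheme are determined by the geometric point. -/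
theorem Datum.hom_ext (d : Datum ξ) {U S' : Scheme.{u}} (q : U ⟶ S') [Etale q] (a b : d.P ⟶ U)
    (h : a ≫ q = b ≫ q) (hc : d.c ≫ a = d.c ≫ b) : a = b := by
  obtain ⟨E, hE, hv⟩ := H18Et.SitePoints.exists_equalizer_open q a b h
  have hm : d.c default ∈ E := hv d.c hc default
  have hcl : (d.c ≫ d.e.hom) default = closedPoint ↥(EtBase.etaleLocalRing ξ) := by
    rw [d.hce, Subsingleton.elim (α := ↥(Spec (CommRingCat.of Ω))) default (closedPoint Ω)]
    exact Spec_closedPoint
  have hm' : closedPoint ↥(EtBase.etaleLocalRing ξ) ∈ d.e.inv ⁻¹ᵁ E := by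
    rw [← hcl]
    show d.e.inv (d.e.hom (d.c default)) ∈ E
    rwa [← Scheme.Hom.comp_apply, Iso.hom_inv_id]
  have htop : d.e.inv ⁻¹ᵁ E = ⊤ := IsLocalRing.closed_point_mem_iff.1 hm'
  have hE' : ∀ x, x ∈ E := fun x => by
    have h2 : d.e.hom x ∈ d.e.inv ⁻¹ᵁ E := htop ▸ trivial
    have h3 : d.e.inv (d.e.hom x) = x := by
      rw [← Scheme.Hom.comp_apply, Iso.hom_inv_id]; rfl
    exact h3 ▸ h2
  haveI : IsIso E.ι := by
    rw [show E = ⊤ from top_le_iff.1 fun x _ => hE' x, show (⊤ : d.P.Opens).ι = d.P.topIso.hom from d.P.topIso_hom.symm]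
    infer_instance
  exact (cancel_epi E.ι).1 hE

theorem Datum.sec_unique (d : Datum ξ) (U : S.Etale) (z : (Scheme.pointSmallEtale ξ).fiber.obj U)
    [IsAffine U.left] (l : d.P ⟶ U.left) (hl : l ≫ U.hom = d.p)
    (hc : d.c ≫ l = (z.left : Spec (CommRingCat.of Ω) ⟶ U.left)) : l = d.sec U z :=
  haveI : Etale U.hom := U.prop
  d.hom_ext U.hom _ _ (hl.trans (d.sec_hom U z).symm) (hc.trans (d.c_sec U z).symm)

theorem Datum.sec_map (d : Datum ξ) {U V : S.Etale} [IsAffine U.left] [IsAffine V.left] (g : V ⟶ U)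
    (z : (Scheme.pointSmallEtale ξ).fiber.obj V) :
    d.sec V z ≫ g.left = d.sec U ((Scheme.pointSmallEtale ξ).fiber.map g z) := by
  rw [Datum.sec, Category.assoc, leg_map]
  rfl

/-- Data from a strict henselization and a geometric point of its spectrum. -/
theorem exists_datum (s : S) (hs : imagePt ξ = s) (R : Type u) [CommRing R] [IsLocalRing R]
    [Algebra (S.presheaf.stalk s) R] [IsLocalHom (algebraMap (S.presheaf.stalk s) R)]
    [Hensel.IsStrictHenselization (S.presheaf.stalk s) R] (v : R →+* Ω) [IsLocalHom v]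
    (hξ : Spec.map (CommRingCat.ofHom v) ≫ Hens2.specOf S s R = ξ) :
    ∃ e : Spec (CommRingCat.of R) ≅ Spec (EtBase.etaleLocalRing ξ),
      e.hom ≫ Spec.map (stalkHom ξ) ≫ S.fromSpecStalk (imagePt ξ) = Hens2.specOf S s R ∧
        Spec.map (CommRingCat.ofHom v) ≫ e.hom = Spec.map (valueHom ξ) := by
  subst hs
  haveI := isStrictHenselization ξ
  haveI hR : Hensel.IsStrictHenselization ↥(S.presheaf.stalk (imagePt ξ)) R := ‹_›
  haveI := hR.henselian
  haveI : IsSepClosed (ResidueField R) := hR.isSepClosure.1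
  have hv : v.comp (algebraMap (S.presheaf.stalk (imagePt ξ)) R) =
      (valueHom ξ).hom.comp (stalkHom ξ).hom := by
    have h2 : Spec.map (CommRingCat.ofHom (algebraMap ↥(S.presheaf.stalk (imagePt ξ)) R) ≫ CommRingCat.ofHom v) =
        Spec.map (stalkHom ξ ≫ valueHom ξ) := by
      rw [← cancel_mono (S.fromSpecStalk (imagePt ξ)), Spec.map_comp, Spec.map_comp, Category.assoc,
        Category.assoc, valueHom_fac]
      exact hξ
    exact congrArg CommRingCat.Hom.hom (Spec.map_injective h2)
  obtain ⟨g, ⟨hg1, hg2⟩, -⟩ := existsUnique_hom ξ R (algebraMap _ R) v hv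
  obtain ⟨e₀⟩ := H9Hens.strictHenselization_algEquiv (R := ↥(S.presheaf.stalk (imagePt ξ))) R
    ↥(EtBase.etaleLocalRing ξ)
  let h : ↥(EtBase.etaleLocalRing ξ) →+* ↥(EtBase.etaleLocalRing ξ) := e₀.toRingEquiv.toRingHom.comp g
  haveI : IsLocalHom g := ⟨fun r hr => isUnit_of_valueHom_ne_zero ξ r (by
    have h3 := RingHom.congr_fun hg2 r
    exact fun h4 => (hr.map v).ne_zero (h3.trans h4))⟩
  haveI : IsLocalHom h := ⟨fun r hr => IsLocalHom.map_nonunit (f := g) r
    ((MulEquiv.isUnit_map e₀.toRingEquiv.toMulEquiv).1 hr)⟩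
  have hb : Function.Bijective h := bijective_endo (R := ↥(S.presheaf.stalk (imagePt ξ))) h (by
    refine RingHom.ext fun a => ?_
    exact (congrArg e₀ (RingHom.congr_fun hg1 a)).trans (e₀.commutes a))
  have hgb : Function.Bijective g := by
    have : ⇑g = ⇑e₀.symm ∘ ⇑h := funext fun x => (e₀.symm_apply_apply (g x)).symm
    rw [this]
    exact e₀.symm.bijective.comp hb
  refine ⟨Scheme.Spec.mapIso (RingEquiv.ofBijective g hgb).toCommRingCatIso.op, ?_, ?_⟩
  · show Spec.map (CommRingCat.ofHom g) ≫ Spec.map (stalkHom ξ) ≫ _ = _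
    rw [← Category.assoc, ← Spec.map_comp]
    exact congrArg (fun k => Spec.map (CommRingCat.ofHom k) ≫ S.fromSpecStalk (imagePt ξ)) hg1
  · show Spec.map (CommRingCat.ofHom v) ≫ Spec.map (CommRingCat.ofHom g) = _
    rw [← Spec.map_comp]
    exact congrArg (fun k => Spec.map (CommRingCat.ofHom k)) hg2

/-- Data are functorial. -/
theorem Datum.exists_map {X : Scheme.{u}} {η : Spec (CommRingCat.of Ω) ⟶ X} (f : X ⟶ S)
    (d : Datum η) (d' : Datum (η ≫ f)) :
    ∃ φ : d.P ⟶ d'.P, φ ≫ d'.p = d.p ≫ f ∧ d.c ≫ φ = d'.c := by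
  let O := ↥(EtBase.etaleLocalRing η)
  haveI : HenselianLocalRing O := (isStrictHenselization η).henselian
  haveI : IsSepClosed (ResidueField O) := (isStrictHenselization η).isSepClosure.1
  let f₀ : ↥(S.presheaf.stalk (imagePt (η ≫ f))) →+* O := (f.stalkMap (imagePt η) ≫ stalkHom η).hom
  haveI : IsLocalHom f₀ :=
    haveI : IsLocalHom (stalkHom η).hom := isLocalHom_stalkHom η
    inferInstanceAs (IsLocalHom ((stalkHom η).hom.comp (f.stalkMap (imagePt η)).hom))
  have hv : (valueHom η).hom.comp f₀ = (valueHom (η ≫ f)).hom.comp (stalkHom (η ≫ f)).hom := by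
    have h2 : Spec.map ((f.stalkMap (imagePt η) ≫ stalkHom η) ≫ valueHom η) =
        Spec.map (stalkHom (η ≫ f) ≫ valueHom (η ≫ f)) := by
      rw [← cancel_mono (S.fromSpecStalk (imagePt (η ≫ f)))]
      simp only [Spec.map_comp, Category.assoc]
      refine Eq.trans ?_ (valueHom_fac (η ≫ f)).symm
      conv_rhs => rw [← valueHom_fac η]
      simp only [Category.assoc]
      refine congrArg (fun k => Spec.map (valueHom η) ≫ Spec.map (stalkHom η) ≫ k) ?_
      exact Scheme.SpecMap_stalkMap_fromSpecStalk f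
    exact congrArg CommRingCat.Hom.hom (Spec.map_injective h2)
  obtain ⟨g, ⟨hg1, hg2⟩, -⟩ := existsUnique_hom (η ≫ f) O f₀ (valueHom η).hom hv
  refine ⟨d.e.hom ≫ Spec.map (CommRingCat.ofHom g) ≫ d'.e.inv, ?_, ?_⟩
  · rw [← d'.he, ← d.he]
    simp only [Category.assoc, Iso.inv_hom_id_assoc]
    refine congrArg (d.e.hom ≫ ·) ?_
    rw [← Category.assoc, ← Spec.map_comp,
      show stalkHom (η ≫ f) ≫ CommRingCat.ofHom g = f.stalkMap (imagePt η) ≫ stalkHom η from
        CommRingCat.hom_ext hg1, Spec.map_comp, Category.assoc]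
    exact congrArg (Spec.map (stalkHom η) ≫ ·) (Scheme.SpecMap_stalkMap_fromSpecStalk f)
  · rw [← cancel_mono d'.e.hom]
    simp only [Category.assoc, Iso.inv_hom_id, Category.comp_id]
    rw [← Category.assoc, d.hce, d'.hce, ← Spec.map_comp]
    exact congrArg (fun k => Spec.map (CommRingCat.ofHom k)) hg2

end Groth.Agent.H1DFun
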