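import Groth.Agent.S6667
import Groth.Agent.S0094
import Groth.Agent.H18Et.PullSections
import Groth.Agent.H9Hens.StrictHens
import Groth.Agent.H9Hens.FlatEpi
import Groth.Agent.H26ProEt.Weakly

/-!
# Degree zero base change and connected fibres between strict henselizations
-/

set_option autoImplicit false
set_option backward.isDefEq.respectTransparency false
set_option backward.isDefEq.respectTransparency.types false

universe u

open CategoryTheory CategoryTheory.Limits AlgebraicGeometry Opposite

namespace Groth.Agent.H1DFun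

attribute [local instance] Groth.Agent.H18Et.pull_preservesFiniteLimits

/-- Pullback of classes in degree zero is bijective when pullback of global sections is. -/
theorem bijective_Hpull_zero {X Y : Scheme.{u}} (m : X ⟶ Y) [PreservesFiniteLimits (EtCoh.pull m)]
    (G : EtCoh.Ab Y) (H : Function.Bijective (((EtCoh.pullPushAdj m).unit.app G).hom.app (op (EtCoh.top Y)))) :
    Function.Bijective (EtCore.Hpull m G 0) := by
  have h1 : Function.Bijective (H18Et.PullSections.res0 m G) := by
    have hi : IsIso (((EtCoh.pull m).obj G).obj.map (EtCore.bcTopIso m).inv.op) := inferInstance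
    exact ((ConcreteCategory.isIso_iff_bijective _).1 hi).comp H
  have h2 : (fun x => Sheaf.H.equiv₀ ((EtCoh.pull m).obj G) (EtCore.topIsTerminal X) (EtCore.Hpull m G 0 x)) =
      fun x => H18Et.PullSections.res0 m G (Sheaf.H.equiv₀ G (EtCore.topIsTerminal Y) x) :=
    funext (H18Et.PullSections.equiv₀_Hpull m G)
  refine (Function.Bijective.of_comp_iff'
    (Sheaf.H.equiv₀ ((EtCoh.pull m).obj G) (EtCore.topIsTerminal X)).bijective _).1 ?_
  show Function.Bijective fun x =>
    Sheaf.H.equiv₀ ((EtCoh.pull m).obj G) (EtCore.topIsTerminal X) (EtCore.Hpull m G 0 x)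
  rw [h2]
  exact h1.comp (Sheaf.H.equiv₀ G (EtCore.topIsTerminal Y)).bijective

/-- Relative pullback in degree zero. -/
theorem bijective_HpullVia_zero {X Y Z : Scheme.{u}} (m : X ⟶ Y) (t : Y ⟶ Z) (t' : X ⟶ Z) (w : m ≫ t = t')
    [PreservesFiniteLimits (EtCoh.pull m)] (G : EtCoh.Ab Z)
    (H : Function.Bijective (((EtCoh.pullPushAdj m).unit.app ((EtCoh.pull t).obj G)).hom.app
      (op (EtCoh.top Y)))) :
    Function.Bijective (EtCore.HpullVia m t t' w G 0) := by
  show Function.Bijective (fun x => ((EtCoh.HF X 0).map (((EtCore.pullComp m t).symm ≪≫ EtCore.pullCongr w).app G).hom)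
    (EtCore.Hpull m ((EtCoh.pull t).obj G) 0 x))
  exact (ConcreteCategory.bijective_of_isIso ((EtCoh.HF X 0).map
    (((EtCore.pullComp m t).symm ≪≫ EtCore.pullCongr w).app G).hom)).comp (bijective_Hpull_zero m _ H)

/-- The degree zero base change map is an isomorphism iff the map in degree zero of derived functors is. -/
theorem isIso_baseChange0_of_bcQ {X S Y T : Scheme.{u}} (f : X ⟶ S) (g : T ⟶ S) (h : Y ⟶ X) (e : Y ⟶ T)
    (w : e ≫ g = h ≫ f) (F : EtCoh.Ab T) (H : IsIso (EtBC.bcQ g f h e w 0 F)) :
    IsIso (EtCoh.baseChange0 g f h e w F) := by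
  have h1 := EtBC.bcQ_zero_compat g f h e w F
  haveI : IsIso ((EtCoh.push g).toRightDerivedZero.app F) := inferInstance
  haveI : IsIso (((EtCoh.push h).toRightDerivedZero).app ((EtCoh.pull e).obj F)) := inferInstance
  have h2 : IsIso (EtCoh.baseChange0 g f h e w F ≫
      (EtCoh.push h).toRightDerivedZero.app ((EtCoh.pull e).obj F)) := by
    rw [← h1]; infer_instance
  exact IsIso.of_isIso_comp_right _ ((EtCoh.push h).toRightDerivedZero.app ((EtCoh.pull e).obj F))

/-- A local homomorphism of strict henselizations over a flat map of local rings is flat. -/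
theorem flat_of_strictHenselization {A B RS RX : Type u} [CommRing A] [IsLocalRing A] [CommRing B] [IsLocalRing B]
    [CommRing RS] [IsLocalRing RS] [Algebra A RS] [IsLocalHom (algebraMap A RS)]
    [Hensel.IsStrictHenselization A RS] [CommRing RX] [IsLocalRing RX] [Algebra B RX]
    [IsLocalHom (algebraMap B RX)] [Hensel.IsStrictHenselization B RX]
    (φ : A →+* B) (hφ : φ.Flat) (ψ : RS →+* RX) (hψ : ψ.comp (algebraMap A RS) = (algebraMap B RX).comp φ) :
    ψ.Flat := by
  obtain ⟨k, _, _, _, _, _, π, hπ⟩ := H9Hens.exists_isPtColim_of_isStrictHenselization (R := A) RS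
  haveI := H26ProEt.weaklyEtale hπ
  obtain ⟨k', _, _, _, _, _, π', hπ'⟩ := H9Hens.exists_isPtColim_of_isStrictHenselization (R := B) RX
  haveI := hπ'.faithfullyFlat H9Hens.ker_algebraMap_of_tower
  letI := ψ.toAlgebra
  letI := φ.toAlgebra
  letI : Algebra A RX := ((algebraMap B RX).comp φ).toAlgebra
  haveI : IsScalarTower A RS RX := IsScalarTower.of_algebraMap_eq' hψ.symm
  haveI : IsScalarTower A B RX := IsScalarTower.of_algebraMap_eq' rfl
  haveI : Module.Flat A B := RingHom.flat_algebraMap_iff.1 hφ
  haveI : Module.Flat A RX := Module.Flat.trans A B RX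
  exact RingHom.flat_algebraMap_iff.2
    (H9Hens.flat_of_restrictScalars_of_flat_lmul' A RS (Algebra.WeaklyEtale.flat_lmul' A RS) RX)

/-- Degree zero base change along maps whose maps of strict henselizations are flat with connected fibres. -/
theorem isIso_baseChange0_of_shConn {X S : Scheme.{u}} (f : X ⟶ S)
    (H : ∀ (x : X) (RS : Type u) [CommRing RS] [IsLocalRing RS] [Algebra (S.presheaf.stalk (f.base x)) RS]
      [IsLocalHom (algebraMap (S.presheaf.stalk (f.base x)) RS)]
      [Hensel.IsStrictHenselization (S.presheaf.stalk (f.base x)) RS]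
      (RX : Type u) [CommRing RX] [IsLocalRing RX] [Algebra (X.presheaf.stalk x) RX]
      [IsLocalHom (algebraMap (X.presheaf.stalk x) RX)] [Hensel.IsStrictHenselization (X.presheaf.stalk x) RX]
      (ψ : RS →+* RX) [IsLocalHom ψ],
      ψ.comp (algebraMap (S.presheaf.stalk (f.base x)) RS) = (algebraMap (X.presheaf.stalk x) RX).comp (f.stalkMap x).hom →
      ψ.Flat ∧ ∀ (Ω : Type u) [Field Ω] [IsAlgClosed Ω] (η : Spec (CommRingCat.of Ω) ⟶ Spec (CommRingCat.of RS)),
        ConnectedSpace ↥(pullback (Spec.map (CommRingCat.ofHom ψ)) η))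
    {Y T : Scheme.{u}} (g : T ⟶ S) [QuasiCompact g] [QuasiSeparated g] (h : Y ⟶ X) (e : Y ⟶ T)
    (c : IsPullback e h g f) (F : EtCoh.Ab T) :
    IsIso (EtCoh.baseChange0 g f h e c.w F) := by
  refine isIso_baseChange0_of_bcQ f g h e c.w F ((S6667.result f g h e c F 0).1 ?_)
  intro x RS _ _ _ _ _ RX _ _ _ _ _ ψ _ hψ PS PX aS bS hS aX bX hXT m wm hm _
  obtain ⟨hfl, hc⟩ := H x RS RX ψ hψ
  have hsq : Spec.map (CommRingCat.ofHom ψ) ≫ Hens2.specOf S (f.base x) RS = Hens2.specOf X x RX ≫ f := by
    show _ ≫ Spec.map _ ≫ _ = (Spec.map _ ≫ _) ≫ f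
    rw [← Category.assoc, ← Spec.map_comp, ← CommRingCat.ofHom_comp, hψ, CommRingCat.ofHom_comp,
      Spec.map_comp, Category.assoc, Category.assoc]
    exact congrArg (Spec.map _ ≫ ·) (Scheme.SpecMap_stalkMap_fromSpecStalk f)
  have sq : IsPullback m bX bS (Spec.map (CommRingCat.ofHom ψ)) :=
    IsPullback.of_right (by rw [wm, hsq]; exact hXT) hm hS
  haveI : Flat (Spec.map (CommRingCat.ofHom ψ)) := Flat.SpecMap_iff.2 hfl
  haveI : Flat m := MorphismProperty.of_isPullback (P := @Flat) sq.flip inferInstance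
  haveI : QuasiCompact m := MorphismProperty.of_isPullback (P := @QuasiCompact) sq.flip inferInstance
  refine bijective_HpullVia_zero m aS aX wm F (S0094.result m (fun Ω _ _ s => ?_) _)
  haveI := hc Ω (s ≫ bS)
  exact ((IsPullback.of_hasPullback m s).paste_horiz sq.flip).isoPullback.inv.homeomorph.surjective.connectedSpace
    ((IsPullback.of_hasPullback m s).paste_horiz sq.flip).isoPullback.inv.homeomorph.continuous

end Groth.Agent.H1DFun
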