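import Groth.Agent.H1DFun.ExtRD
import Groth.Agent.H18Et.Henselian
import Groth.Agent.H21SubEq.Spread
import Groth.Agent.H02CA.Adeq.Big.LanMono
import Groth.Prelude.Def_EtCore
import Groth.Prelude.Def_EtZar
import Mathlib.CategoryTheory.Abelian.Exact
import Mathlib.Algebra.Homology.ShortComplex.ExactFunctor

/-!
# Etale and Zariski cohomology when all local rings are strictly henselian
-/

set_option autoImplicit false
set_option backward.isDefEq.respectTransparency false
set_option backward.isDefEq.respectTransparency.types false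
set_option linter.style.haveILetI false

universe u

open CategoryTheory CategoryTheory.Limits AlgebraicGeometry Opposite Abelian TopologicalSpace

namespace Groth.Agent.H1DFun

variable (S : Scheme.{u})

theorem zarToEt_range {V : S.Etale} {U : S.Opens} (v : V ⟶ (EtZar.zarToEt S).obj U) :
    Set.range V.hom ⊆ (U : Set S) := by
  rintro _ ⟨x, rfl⟩
  have e : v.left ≫ U.ι = V.hom := MorphismProperty.Over.w v
  rw [← e, Scheme.Hom.comp_apply]
  exact (v.left x).2

theorem zarToEt_hom_ext {V : S.Etale} {U : S.Opens} (v v' : V ⟶ (EtZar.zarToEt S).obj U) : v = v' := by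
  apply MorphismProperty.Over.Hom.ext
  have e : v.left ≫ U.ι = V.hom := MorphismProperty.Over.w v
  have e' : v'.left ≫ U.ι = V.hom := MorphismProperty.Over.w v'
  exact (cancel_mono U.ι).1 (e.trans e'.symm)

theorem nonempty_zarToEt_hom {V : S.Etale} (U : S.Opens) (h : Set.range V.hom ⊆ (U : Set S)) :
    Nonempty (V ⟶ (EtZar.zarToEt S).obj U) := by
  have h' : Set.range V.hom ⊆ Set.range U.ι := by rwa [Scheme.Opens.range_ι]
  exact ⟨MorphismProperty.Over.homMk (IsOpenImmersion.lift U.ι V.hom h')
    (IsOpenImmersion.lift_fac U.ι V.hom h') trivial⟩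

/-- The inclusion of opens is representably flat. -/
theorem representablyFlat_zarToEt : RepresentablyFlat (EtZar.zarToEt S) := by
  refine ⟨fun V => ?_⟩
  haveI : Nonempty (StructuredArrow V (EtZar.zarToEt S)) :=
    (nonempty_zarToEt_hom S (⊤ : S.Opens) fun _ _ => trivial).map StructuredArrow.mk
  haveI : IsCofilteredOrEmpty (StructuredArrow V (EtZar.zarToEt S)) := by
    refine ⟨fun X Y => ?_, fun X Y f g => ⟨X, 𝟙 X, StructuredArrow.ext _ _ (Subsingleton.elim _ _)⟩⟩
    obtain ⟨w⟩ := nonempty_zarToEt_hom S (V := V) (X.right ⊓ Y.right : S.Opens) fun s hs =>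
      ⟨zarToEt_range S X.hom hs, zarToEt_range S Y.hom hs⟩
    exact ⟨StructuredArrow.mk w, StructuredArrow.homMk (homOfLE inf_le_left) (zarToEt_hom_ext S _ _),
      StructuredArrow.homMk (homOfLE inf_le_right) (zarToEt_hom_ext S _ _), trivial⟩
  exact { }

variable [EtZar.ZarCont S]

/-- The left adjoint of restriction to opens. -/
noncomputable abbrev zarPull : EtZar.Ab S ⥤ EtCoh.Ab S :=
  (EtZar.zarToEt S).sheafPullback AddCommGrpCat.{u + 1} (Opens.grothendieckTopology S) S.smallEtaleTopology

/-- Its adjunction. -/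
noncomputable def zarAdj : zarPull S ⊣ EtZar.resZar S :=
  (EtZar.zarToEt S).sheafAdjunctionContinuous AddCommGrpCat.{u + 1} (Opens.grothendieckTopology S)
    S.smallEtaleTopology

theorem preservesMonomorphisms_zarPull : (zarPull S).PreservesMonomorphisms := by
  haveI := representablyFlat_zarToEt S
  haveI : ((EtZar.zarToEt S).op.lan : (S.Opensᵒᵖ ⥤ AddCommGrpCat.{u + 1}) ⥤
      (S.Etaleᵒᵖ ⥤ AddCommGrpCat.{u + 1})).PreservesMonomorphisms := by
    refine H02CA.Adq.LanMono.preservesMonomorphisms_lan_of_colim _ fun Z P Q φ hφ => ?_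
    haveI : IsFiltered (CostructuredArrow (EtZar.zarToEt S).op Z) :=
      IsFiltered.of_equivalence (structuredArrowOpEquivalence (EtZar.zarToEt S) Z.unop)
    haveI : Mono (Functor.whiskerLeft (CostructuredArrow.proj (EtZar.zarToEt S).op Z) φ) :=
      @NatTrans.mono_of_mono_app _ _ _ _ _ _ _ fun x => inferInstanceAs (Mono (φ.app _))
    haveI := H02CA.Adq.LanMono.ab5.{u}
    haveI : PreservesFiniteLimits (colim (J := CostructuredArrow (EtZar.zarToEt S).op Z)
      (C := AddCommGrpCat.{u + 1})) := inferInstance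
    exact (colim (J := CostructuredArrow (EtZar.zarToEt S).op Z) (C := AddCommGrpCat.{u + 1})).map_mono _
  haveI : (Functor.sheafPullbackConstruction.sheafPullback (EtZar.zarToEt S) AddCommGrpCat.{u + 1}
      (Opens.grothendieckTopology S) S.smallEtaleTopology).PreservesMonomorphisms := by
    haveI : (sheafToPresheaf (Opens.grothendieckTopology S) AddCommGrpCat.{u + 1}).PreservesMonomorphisms :=
      Functor.preservesMonomorphisms_of_adjunction (sheafificationAdjunction _ _)
    haveI : (presheafToSheaf S.smallEtaleTopology AddCommGrpCat.{u + 1}).PreservesMonomorphisms :=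
      preservesMonomorphisms_of_preservesLimitsOfShape _
    unfold Functor.sheafPullbackConstruction.sheafPullback; infer_instance
  exact Functor.PreservesMonomorphisms.of_iso (Functor.sheafPullbackConstruction.sheafPullbackIso
    (EtZar.zarToEt S) AddCommGrpCat.{u + 1} (Opens.grothendieckTopology S) S.smallEtaleTopology).symm

theorem injective_resZar_et (I : EtCoh.Ab S) [Injective I] : Injective ((EtZar.resZar S).obj I) := by
  haveI := preservesMonomorphisms_zarPull S
  exact Injective.injective_of_adjoint (zarAdj S) I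

variable (hS : ∀ s : S, EtCoh.IsStrictlyHenselianLocalRing (S.presheaf.stalk s))

omit [EtZar.ZarCont S] in
include hS in
theorem exists_open_section (V : S.Etale) (v : V.left) :
    ∃ U : S.Opens, V.hom v ∈ U ∧ ∃ σ : (U : Scheme.{u}) ⟶ V.left, σ ≫ V.hom = U.ι := by
  haveI : Etale V.hom := V.prop
  obtain ⟨_, hk⟩ := hS (V.hom v)
  let R := S.presheaf.stalk (V.hom v)
  let g : Spec (CommRingCat.of (IsLocalRing.ResidueField R)) ⟶ S :=
    H18Et.closedGeomPt R ≫ S.fromSpecStalk (V.hom v)
  have hg : V.hom v = g default := by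
    haveI : IsLocalHom (CommRingCat.ofHom (IsLocalRing.residue R)).hom :=
      inferInstanceAs (IsLocalHom (IsLocalRing.residue R))
    rw [Scheme.Hom.comp_apply, Subsingleton.elim (α := ↥(Spec (CommRingCat.of (IsLocalRing.ResidueField R))))
      default (IsLocalRing.closedPoint (IsLocalRing.ResidueField R))]
    erw [Spec_closedPoint]
    exact Scheme.fromSpecStalk_closedPoint.symm
  obtain ⟨l, hl, -⟩ := Scheme.exists_fac_of_etale_of_isSepClosed V.hom g v hg
  obtain ⟨s, hs, -⟩ := H18Et.exists_section_of_etale R (pullback.snd V.hom (S.fromSpecStalk (V.hom v)))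
    (pullback.lift l (H18Et.closedGeomPt R) hl) (pullback.lift_snd _ _ _)
  exact H21SubEq.exists_nhd_lift_of_stalk V.hom (V.hom v) (s ≫ pullback.fst _ _) (by
    rw [Category.assoc, pullback.condition, ← Category.assoc]
    exact (congrArg (· ≫ S.fromSpecStalk (V.hom v)) hs).trans (Category.id_comp _))

include hS in
theorem isLocallySurjective_resZar {F G : EtCoh.Ab S} (g : F ⟶ G) [Epi g] :
    Sheaf.IsLocallySurjective ((EtZar.resZar S).map g) := by
  haveI : Sheaf.IsLocallySurjective g := (Sheaf.isLocallySurjective_iff_epi' (φ := g)).2 inferInstance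
  refine ⟨fun {U'} s x hx => ?_⟩
  obtain ⟨U, rfl⟩ : ∃ U : S.Opens, U = U' := ⟨U', rfl⟩
  have hmem := Presheaf.imageSieve_mem S.smallEtaleTopology g.hom (U := op ((EtZar.zarToEt S).obj U)) s
  revert hmem
  generalize hR : Presheaf.imageSieve g.hom s = R
  intro hmem
  rw [show S.smallEtaleTopology = (S.smallPretopology (P := EtCoh.etaleMP) (Q := EtCoh.etaleMP)).toGrothendieck
    from Scheme.smallGrothendieckTopology_eq_toGrothendieck_smallPretopology S le_rfl] at hmem
  obtain ⟨V, h, v, hh, -, hv⟩ := (Scheme.mem_toGrothendieck_smallPretopology _ _).1 hmem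
    (⟨x, hx⟩ : U.toScheme)
  rw [← hR] at hh
  obtain ⟨t, ht⟩ := hh
  obtain ⟨O', hxO', σ, hσ⟩ := exists_open_section S hS V v
  have hvx : V.hom v = x := by
    rw [show V.hom = h.left ≫ U.ι from (MorphismProperty.Over.w h).symm, Scheme.Hom.comp_apply]
    refine (congrArg (fun z => U.ι z) hv).trans ?_
    rfl
  refine ⟨O' ⊓ U, homOfLE inf_le_right, ?_, ⟨hvx ▸ hxO', hx⟩⟩
  let m : (EtZar.zarToEt S).obj (O' ⊓ U) ⟶ V := MorphismProperty.Over.homMk
    (S.homOfLE (inf_le_left : O' ⊓ U ≤ O') ≫ σ)
    (by rw [Category.assoc, hσ]; exact S.homOfLE_ι _) trivial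
  refine ⟨F.obj.map m.op t, ?_⟩
  refine (NatTrans.naturality_apply g.hom m.op t).trans ((congrArg (G.obj.map m.op) ht).trans ?_)
  rw [← ConcreteCategory.comp_apply, ← Functor.map_comp, ← op_comp]
  exact congrArg (fun k => G.obj.map k.op s) (zarToEt_hom_ext S _ _)

include hS in
theorem preservesFiniteColimits_resZar : PreservesFiniteColimits (EtZar.resZar S) := by
  haveI := (zarAdj S).rightAdjoint_preservesLimits.{0, 0}
  haveI : (EtZar.resZar S).PreservesEpimorphisms := ⟨fun g _ => by
    haveI := isLocallySurjective_resZar S hS g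
    exact Sheaf.epi_of_isLocallySurjective _⟩
  haveI : PreservesFiniteLimits (EtZar.resZar S) := PreservesLimitsOfSize.preservesFiniteLimits _
  haveI : (EtZar.resZar S).Additive := Functor.additive_of_preserves_binary_products _
  haveI : (EtZar.resZar S).PreservesHomology := Functor.preservesHomology_of_preservesEpis_and_kernels _
  exact Functor.preservesFiniteColimits_of_preservesHomology _

/-- Sections over the largest open are global sections. -/
noncomputable def zarTopIso : (EtZar.zarToEt S).obj ⊤ ≅ EtCoh.top S :=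
  MorphismProperty.Over.isoMk S.topIso ((Category.comp_id _).trans S.topIso_hom)

/-- Degree zero. -/
noncomputable def zarDegZero (F : EtCoh.Ab S) :
    Sheaf.H ((EtZar.resZar S).obj F) 0 ≃+ Sheaf.H F 0 :=
  ((Sheaf.H.equiv₀ ((EtZar.resZar S).obj F) (isTerminalTop : IsTerminal (⊤ : S.Opens))).trans
    (F.obj.mapIso (zarTopIso S).op.symm).addCommGroupIsoToAddEquiv).trans
      (Sheaf.H.equiv₀ F (EtCore.topIsTerminal S)).symm

theorem zarDegZero_natural {F G : EtCoh.Ab S} (φ : F ⟶ G) (x : Sheaf.H ((EtZar.resZar S).obj F) 0) :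
    zarDegZero S G (Sheaf.H.map ((EtZar.resZar S).map φ) 0 x) = Sheaf.H.map φ 0 (zarDegZero S F x) := by
  apply (Sheaf.H.equiv₀ G (EtCore.topIsTerminal S)).injective
  simp only [zarDegZero, AddEquiv.trans_apply, AddEquiv.apply_symm_apply]
  rw [← Sheaf.H.equiv₀_naturality, ← Sheaf.H.equiv₀_naturality, AddEquiv.apply_symm_apply]
  exact (NatTrans.naturality_apply φ.hom (zarTopIso S).inv.op _).symm

include hS in
/-- Etale and Zariski cohomology agree. -/
theorem nonempty_etale_iso_zariski (F : EtCoh.Ab S) (i : ℕ) :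
    Nonempty (Sheaf.H F i ≃+ Sheaf.H ((EtZar.resZar S).obj F) i) := by
  let A : EtCoh.Ab S := (constantSheaf S.smallEtaleTopology AddCommGrpCat.{u + 1}).obj (AddCommGrpCat.of (ULift ℤ))
  let A' : EtZar.Ab S :=
    (constantSheaf (Opens.grothendieckTopology S) AddCommGrpCat.{u + 1}).obj (AddCommGrpCat.of (ULift ℤ))
  haveI := (zarAdj S).rightAdjoint_preservesLimits.{0, 0}
  haveI : PreservesFiniteLimits (EtZar.resZar S) := PreservesLimitsOfSize.preservesFiniteLimits _
  haveI := preservesFiniteColimits_resZar S hS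
  haveI : (EtZar.resZar S).Additive := Functor.additive_of_preserves_binary_products _
  have h₁ : ∀ (I : EtCoh.Ab S) [Injective I] (m : ℕ), Subsingleton (Ext A' ((EtZar.resZar S).obj I) (m + 1)) :=
    fun I _ m => by
      haveI := injective_resZar_et S I
      exact subsingleton_of_forall_eq 0 fun x => Ext.eq_zero_of_injective x
  have h₂ : ∀ (I : EtCoh.Ab S) [Injective I] (m : ℕ), Subsingleton (Ext A ((𝟭 (EtCoh.Ab S)).obj I) (m + 1)) :=
    fun I _ m => by
      haveI : Injective ((𝟭 (EtCoh.Ab S)).obj I) := inferInstanceAs (Injective I)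
      exact subsingleton_of_forall_eq 0 fun x => Ext.eq_zero_of_injective x
  let e : homFun A' (EtZar.resZar S) ≅ homFun A (𝟭 (EtCoh.Ab S)) :=
    NatIso.ofComponents (fun G => (zarDegZero S G).toAddCommGrpIso)
      (fun {G G'} φ => AddCommGrpCat.ext fun x => by
        show zarDegZero S G' (Sheaf.H.map ((EtZar.resZar S).map φ) 0 x) = Sheaf.H.map φ 0 (zarDegZero S G x)
        exact zarDegZero_natural S φ x)
  obtain ⟨i₁⟩ := nonempty_rightDerived_iso A' (EtZar.resZar S) h₁ i
  obtain ⟨i₂⟩ := nonempty_rightDerived_iso A (𝟭 (EtCoh.Ab S)) h₂ i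
  let j : (homFun A' (EtZar.resZar S)).rightDerived i ≅ (homFun A (𝟭 (EtCoh.Ab S))).rightDerived i :=
    { hom := NatTrans.rightDerived e.hom i
      inv := NatTrans.rightDerived e.inv i
      hom_inv_id := by rw [← NatTrans.rightDerived_comp, e.hom_inv_id, NatTrans.rightDerived_id]
      inv_hom_id := by rw [← NatTrans.rightDerived_comp, e.inv_hom_id, NatTrans.rightDerived_id] }
  exact ⟨((i₂.symm ≪≫ j.symm ≪≫ i₁).app F).addCommGroupIsoToAddEquiv⟩

end Groth.Agent.H1DFun
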