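import Groth.Agent.H1DFun.PushClass
import Groth.Agent.H1Lim.ConstSys
import Groth.Agent.H18Et.Coh.Colimit
import Groth.Prelude.Def_EtLim

/-!
# Classes on limits with coefficients in a system of sheaves
-/

set_option autoImplicit false
set_option backward.isDefEq.respectTransparency false
set_option backward.isDefEq.respectTransparency.types false

universe u

open CategoryTheory CategoryTheory.Limits AlgebraicGeometry Opposite Abelian
open Groth.Agent.H18Et Groth.Agent.H1Lim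
open scoped Groth.Agent.H18Et.CohColim

namespace Groth.Agent.H1DFun

attribute [local instance] Groth.Agent.H18Et.pull_preservesFiniteLimits

section CT

variable {T T' : Scheme.{u}} {F : EtCoh.Ab T} {F' : EtCoh.Ab T'} (u : T' ⟶ T) (γ : (EtCoh.pull u).obj F ⟶ F') (q : ℕ)

/-- Classes move along a map of schemes with coefficients. -/
noncomputable def cT {V : Scheme.{u}} (b : V ⟶ T') (c : V ⟶ T) (hc : b ≫ u = c) :
    (CL F q c : Type (u + 1)) →+ CL F' q b :=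
  Sheaf.H.map (((viaIso b u c hc).app F).inv ≫ (EtCoh.pull b).map γ) q

theorem cT_apply {V : Scheme.{u}} (b : V ⟶ T') (c : V ⟶ T) (hc : b ≫ u = c) (x : CL F q c) :
    cT u γ q b c hc x = cM γ q b (Sheaf.H.map ((viaIso b u c hc).app F).inv q x) :=
  Sheaf.H.map_comp_apply _ _ _

/-- Moving classes commutes with restriction. -/
theorem cR_cT {V V' : Scheme.{u}} (b : V ⟶ T') (b' : V' ⟶ T') (m : V' ⟶ V) (wm : m ≫ b = b') (c : V ⟶ T)
    (c' : V' ⟶ T) (hc : b ≫ u = c) (hc' : b' ≫ u = c') (x : CL F q c) :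
    cR F' q m wm (cT u γ q b c hc x) =
      cT u γ q b' c' hc' (cR F q m (by rw [← hc, ← Category.assoc, wm, hc']) x) := by
  let y : CL ((EtCoh.pull u).obj F) q b := Sheaf.H.map ((viaIso b u c hc).app F).inv q x
  rw [cT_apply, cT_apply]
  refine (cR_cM γ m wm y).trans (congrArg (cM γ q b') ?_)
  apply H_map_injective ((viaIso b' u c' hc').app F) q
  refine (HpullVia_sigma u m b b' wm c c' hc hc' (by rw [← hc, ← Category.assoc, wm, hc']) F q y).trans ?_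
  refine Eq.trans (congrArg _ (H_map_inv_hom ((viaIso b u c hc).app F) q x)) ?_
  exact (H_map_inv_hom ((viaIso b' u c' hc').app F) q _).symm

theorem cT_congr {V : Scheme.{u}} (b : V ⟶ T') (c : V ⟶ T) (hc : b ≫ u = c) {γ₁ : (EtCoh.pull u).obj F ⟶ F'}
    (h : γ = γ₁) (x : CL F q c) : cT u γ q b c hc x = cT u γ₁ q b c hc x := by
  subst h; rfl

theorem cM_cT {G : EtCoh.Ab T'} (δ : F' ⟶ G) {V : Scheme.{u}} (b : V ⟶ T') (c : V ⟶ T) (hc : b ≫ u = c)
    (x : CL F q c) : cM δ q b (cT u γ q b c hc x) = cT u (γ ≫ δ) q b c hc x := by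
  rw [cT_apply, cT_apply]
  refine (Sheaf.H.map_comp_apply _ _ _).symm.trans ?_
  exact congrArg (fun k => Sheaf.H.map k q _) ((EtCoh.pull b).map_comp γ δ).symm

theorem cT_cR_eq {V V' : Scheme.{u}} {a : V' ⟶ T} (b : V ⟶ T') (c c₀ : V ⟶ T) (h : c = c₀) (hb : b ≫ u = c)
    (p : V ⟶ V') (wp : p ≫ a = c) (x : CL F q a) :
    cT u γ q b c hb (cR F q p wp x) = cT u γ q b c₀ (hb.trans h) (cR F q p (wp.trans h) x) := by
  subst h; rfl

/-- Moving classes twice. -/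
theorem cT_cT {T'' : Scheme.{u}} {F'' : EtCoh.Ab T''} (u' : T'' ⟶ T') (γ' : (EtCoh.pull u').obj F' ⟶ F'')
    (u'' : T'' ⟶ T) (hu : u' ≫ u = u'') {V : Scheme.{u}} (b : V ⟶ T'') (c' : V ⟶ T') (c : V ⟶ T)
    (h₁ : b ≫ u' = c') (h₂ : c' ≫ u = c) (x : CL F q c) :
    cT u' γ' q b c' h₁ (cT u γ q c' c h₂ x) =
      cT u'' (((viaIso u' u u'' hu).app F).inv ≫ (EtCoh.pull u').map γ ≫ γ') q b c
        (by rw [← hu, ← Category.assoc, h₁, h₂]) x := by
  have h₃ : b ≫ u'' = c := by rw [← hu, ← Category.assoc, h₁, h₂]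
  refine (Sheaf.H.map_comp_apply _ _ _).symm.trans (congrArg (fun k => Sheaf.H.map k q x) ?_)
  have n1 : (EtCoh.pull c').map γ ≫ ((viaIso b u' c' h₁).app F').inv =
      ((viaIso b u' c' h₁).app ((EtCoh.pull u).obj F)).inv ≫ (EtCoh.pull b).map ((EtCoh.pull u').map γ) :=
    (viaIso b u' c' h₁).inv.naturality γ
  have h4 := viaIso_cocycle b u' c' u u'' c h₁ hu h₃ h₂ F
  have n2 : ((viaIso c' u c h₂).app F).inv ≫ ((viaIso b u' c' h₁).app ((EtCoh.pull u).obj F)).inv =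
      ((viaIso b u'' c h₃).app F).inv ≫ (EtCoh.pull b).map ((viaIso u' u u'' hu).app F).inv := by
    rw [← cancel_epi ((viaIso b u'' c h₃).app F).hom, Iso.hom_inv_id_assoc,
      ← cancel_epi ((EtCoh.pull b).map ((viaIso u' u u'' hu).app F).hom), ← Functor.map_comp, Iso.hom_inv_id,
      CategoryTheory.Functor.map_id, ← Category.assoc, h4, Category.assoc, Iso.hom_inv_id_assoc,
      Iso.hom_inv_id]
  rw [Category.assoc, ← Category.assoc ((EtCoh.pull c').map γ), n1, Category.assoc, ← Category.assoc, n2,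
    Category.assoc, Functor.map_comp, Functor.map_comp]

end CT

section Sys

variable {I : Type u} [SmallCategory I] [IsCofiltered I] (D : I ⥤ Scheme.{u})
  [∀ ⦃a b : I⦄ (f : a ⟶ b), IsAffineHom (D.map f)] [∀ i, CompactSpace (D.obj i)]
  [∀ i, QuasiSeparatedSpace (D.obj i)] (c : Cone D) (hc : IsLimit c)
  {P : Scheme.{u}} (F₀ : EtCoh.Ab P) (a : ∀ i, D.obj i ⟶ P) (ha : ∀ {i k : I} (m : k ⟶ i), D.map m ≫ a i = a k)
  (a' : c.pt ⟶ P) (ha' : ∀ i, c.π.app i ≫ a i = a') (q : ℕ)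

include hc ha in
/-- Classes of a fixed sheaf on a limit. -/
theorem cR_lim :
    (∀ x : CL F₀ q a', ∃ (k : I) (y : CL F₀ q (a k)), cR F₀ q (c.π.app k) (ha' k) y = x) ∧
      ∀ (i : I) (y : CL F₀ q (a i)), cR F₀ q (c.π.app i) (ha' i) y = 0 →
        ∃ (k : I) (m : k ⟶ i), cR F₀ q (D.map m) (ha m) y = 0 := by
  obtain ⟨hs, hi⟩ := constSys_surj_inj (D := D) a (fun i k m => ha m) F₀ c a' ha' hc q
  refine ⟨hs, fun i y hy => ?_⟩
  obtain ⟨k, m, hm⟩ := hi i y hy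
  exact ⟨k, m, (HpullVia_def _ _ _ _ _ _ _).trans ((congrArg _ hm).trans (map_zero _))⟩

end Sys

section Colim

variable {X P : Scheme.{u}} [CompactSpace X] [QuasiSeparatedSpace X] (a : X ⟶ P) (q : ℕ)
  {J : Type u} [SmallCategory J] [IsFiltered J] (G : J ⥤ EtCoh.Ab P)

/-- Classes commute with filtered colimits of coefficients. -/
theorem cM_colim :
    (∀ s : CL (colimit G) q a, ∃ (j : J) (t : CL (G.obj j) q a), cM (colimit.ι G j) q a t = s) ∧
      ∀ (j : J) (t : CL (G.obj j) q a), cM (colimit.ι G j) q a t = 0 →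
        ∃ (k : J) (f : j ⟶ k), cM (G.map f) q a t = 0 := by
  obtain ⟨hs, hi⟩ := CohColim.hSurj_hInj (X := X) q (G ⋙ EtCoh.pull a)
  haveI : PreservesColimitsOfSize.{u, u} (EtCoh.pull a) := (EtCoh.pullPushAdj a).leftAdjoint_preservesColimits
  let e := preservesColimitIso (EtCoh.pull a) G
  have he : ∀ j, (EtCoh.pull a).map (colimit.ι G j) ≫ e.hom = colimit.ι (G ⋙ EtCoh.pull a) j := fun j =>
    ι_preservesColimitIso_hom (EtCoh.pull a) G j
  have hcm : ∀ j (t : CL (G.obj j) q a), Sheaf.H.map (colimit.ι (G ⋙ EtCoh.pull a) j) q t =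
      Sheaf.H.map e.hom q (cM (colimit.ι G j) q a t) := fun j t =>
    (congrArg (fun k => Sheaf.H.map k q t) (he j).symm).trans (Sheaf.H.map_comp_apply _ _ _)
  refine ⟨fun s => ?_, fun j t ht => ?_⟩
  · obtain ⟨j, t, ht⟩ := hs (Sheaf.H.map e.hom q s)
    exact ⟨j, t, H_map_injective e q ((hcm j t).symm.trans ht)⟩
  · obtain ⟨k, f, hf⟩ := hi j t ((hcm j t).trans ((congrArg _ ht).trans (map_zero _)))
    exact ⟨k, f, hf⟩

end Colim

variable {ι : Type u} [Preorder ι] [IsDirected ι (· ≤ ·)] (Ts : ιᵒᵖ ⥤ Scheme.{u}) (cT₀ : Cone Ts)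
  (F : ∀ i : ι, EtCoh.Ab (Ts.obj (op i)))
  (φ : ∀ ⦃i j : ι⦄ (hij : i ≤ j), (EtCoh.pull (Ts.map (homOfLE hij).op)).obj (F i) ⟶ F j)
  (G : ι ⥤ EtCoh.Ab cT₀.pt) (ψ : ∀ i : ι, (EtCoh.pull (cT₀.π.app (op i))).obj (F i) ≅ G.obj i) (q : ℕ)

theorem pullCongr_symm {A B : Scheme.{u}} {f g : A ⟶ B} (e : f = g) (e' : g = f) :
    EtCore.pullCongr e' = (EtCore.pullCongr e).symm := by
  subst e; rw [EtCore.pullCongr, eqToIso_refl]; rfl

theorem symm_trans_inv {C E : Type*} [Category C] [Category E] {A B D : C ⥤ E} (α : B ≅ A) (β : B ≅ D) (β' : D ≅ B)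
    (h : β' = β.symm) (X : C) : (β' ≪≫ α).hom.app X = ((α.symm ≪≫ β).app X).inv := by
  subst h; rfl

/-- An iso presented as a congruence followed by a composition. -/
theorem app_eq_viaIso_inv {A B C : Scheme.{u}} (f : A ⟶ B) (g : B ⟶ C) (h : A ⟶ C) (w : f ≫ g = h)
    (α : EtCoh.pull h ≅ EtCoh.pull g ⋙ EtCoh.pull f)
    (hα : α = EtCore.pullCongr w.symm ≪≫ EtCore.pullComp f g) (H : EtCoh.Ab C) :
    α.hom.app H = ((viaIso f g h w).app H).inv := by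
  subst hα
  exact symm_trans_inv (EtCore.pullComp f g) (EtCore.pullCongr w) (EtCore.pullCongr w.symm) (pullCongr_symm w _) H

theorem pullTrans_def {i j k : ι} (hij : i ≤ j) (hjk : j ≤ k)
    (w : Ts.map (homOfLE hjk).op ≫ Ts.map (homOfLE hij).op = Ts.map (homOfLE (hij.trans hjk)).op) :
    EtLim.pullTrans Ts hij hjk =
      EtCore.pullCongr w.symm ≪≫ EtCore.pullComp (Ts.map (homOfLE hjk).op) (Ts.map (homOfLE hij).op) := by
  rw [EtLim.pullTrans]

theorem pullTrans_app {i j k : ι} (hij : i ≤ j) (hjk : j ≤ k)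
    (w : Ts.map (homOfLE hjk).op ≫ Ts.map (homOfLE hij).op = Ts.map (homOfLE (hij.trans hjk)).op) :
    (EtLim.pullTrans Ts hij hjk).hom.app (F i) =
      ((viaIso (Ts.map (homOfLE hjk).op) (Ts.map (homOfLE hij).op) (Ts.map (homOfLE (hij.trans hjk)).op)
        w).app (F i)).inv :=
  app_eq_viaIso_inv _ _ _ w _ (pullTrans_def Ts hij hjk w) _

theorem pullTransCone_def {i j : ι} (hij : i ≤ j) :
    EtLim.pullTransCone Ts cT₀ hij =
      EtCore.pullCongr (cT₀.w (homOfLE hij).op).symm ≪≫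
        EtCore.pullComp (cT₀.π.app (op j)) (Ts.map (homOfLE hij).op) := by
  rw [EtLim.pullTransCone]

theorem pullTransCone_app {i j : ι} (hij : i ≤ j) :
    (EtLim.pullTransCone Ts cT₀ hij).hom.app (F i) =
      ((viaIso (X := cT₀.pt) (cT₀.π.app (op j)) (Ts.map (homOfLE hij).op) (cT₀.π.app (op i))
        (cT₀.w (homOfLE hij).op)).app (F i)).inv :=
  app_eq_viaIso_inv _ _ _ _ _ (pullTransCone_def Ts cT₀ hij) _

variable {V : Scheme.{u}}

/-- A class on a stage gives a class on the limit. -/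
noncomputable def toLim (k : ι) {Vk : Scheme.{u}} (ak : Vk ⟶ Ts.obj (op k)) (p : V ⟶ Vk) (b : V ⟶ cT₀.pt)
    (hp : p ≫ ak = b ≫ cT₀.π.app (op k)) :
    (CL (F k) q ak : Type (u + 1)) →+ CL (colimit G) q b :=
  (cT (cT₀.π.app (op k)) ((ψ k).hom ≫ colimit.ι G k) q b _ rfl).comp (cR (F k) q p hp)

/-- A class on a stage gives a class on a later stage. -/
noncomputable def toStage {k l : ι} (hkl : k ≤ l) {Vk Vl : Scheme.{u}} (ak : Vk ⟶ Ts.obj (op k))
    (al : Vl ⟶ Ts.obj (op l)) (p : Vl ⟶ Vk) (hp : p ≫ ak = al ≫ Ts.map (homOfLE hkl).op) :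
    (CL (F k) q ak : Type (u + 1)) →+ CL (F l) q al :=
  (cT (Ts.map (homOfLE hkl).op) (φ hkl) q al _ rfl).comp (cR (F k) q p hp)

theorem toLim_toStage
    (hψ : ∀ ⦃i j : ι⦄ (hij : i ≤ j), (ψ i).hom ≫ G.map (homOfLE hij) =
      (EtLim.pullTransCone Ts cT₀ hij).hom.app (F i) ≫ (EtCoh.pull (cT₀.π.app (op j))).map (φ hij) ≫ (ψ j).hom)
    {k l : ι} (hkl : k ≤ l) {Vk Vl : Scheme.{u}} (ak : Vk ⟶ Ts.obj (op k))
    (al : Vl ⟶ Ts.obj (op l)) (p : Vl ⟶ Vk) (hp : p ≫ ak = al ≫ Ts.map (homOfLE hkl).op) (pl : V ⟶ Vl)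
    (pk : V ⟶ Vk) (b : V ⟶ cT₀.pt) (hl : pl ≫ al = b ≫ cT₀.π.app (op l))
    (hk : pk ≫ ak = b ≫ cT₀.π.app (op k)) (hpp : pl ≫ p = pk) (x : CL (F k) q ak) :
    toLim Ts cT₀ F G ψ q l al pl b hl (toStage Ts F φ q hkl ak al p hp x) =
      toLim Ts cT₀ F G ψ q k ak pk b hk x := by
  have h0 : pl ≫ al ≫ Ts.map (homOfLE hkl).op = b ≫ cT₀.π.app (op k) := by
    rw [← Category.assoc, hl, Category.assoc, cT₀.w (homOfLE hkl).op]
  refine (congrArg (cT _ _ q b _ rfl) (cR_cT _ (φ hkl) q al _ pl hl _ _ rfl rfl _)).trans ?_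
  refine (cT_cT (Ts.map (homOfLE hkl).op) (φ hkl) q (cT₀.π.app (op l)) _ (cT₀.π.app (op k))
    (cT₀.w (homOfLE hkl).op) b _ _ rfl rfl _).trans ?_
  have hcomp : (b ≫ cT₀.π.app (op l)) ≫ Ts.map (homOfLE hkl).op = b ≫ cT₀.π.app (op k) := by
    rw [Category.assoc, cT₀.w (homOfLE hkl).op]
  refine (cT_congr (F' := colimit G) _ _ q b _ _ (γ₁ := (ψ k).hom ≫ colimit.ι G k) ?_ _).trans ?_
  · rw [← pullTransCone_app Ts cT₀ F hkl, ← colimit.w G (homOfLE hkl)]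
    simp only [← Category.assoc]
    exact congrArg (· ≫ colimit.ι G l) ((Category.assoc _ _ _).trans (hψ hkl).symm)
  · exact (congrArg _ (cR_cR p hp pl _ pk hpp x)).trans (cT_cR_eq _ _ q b _ _ hcomp _ pk _ x)

theorem toStage_toStage
    (hφ : ∀ ⦃i j k : ι⦄ (hij : i ≤ j) (hjk : j ≤ k),
      φ (hij.trans hjk) = (EtLim.pullTrans Ts hij hjk).hom.app (F i) ≫
        (EtCoh.pull (Ts.map (homOfLE hjk).op)).map (φ hij) ≫ φ hjk)
    {i k l : ι} (hik : i ≤ k) (hkl : k ≤ l) {Vi Vk Vl : Scheme.{u}} (ai : Vi ⟶ Ts.obj (op i))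
    (ak : Vk ⟶ Ts.obj (op k)) (al : Vl ⟶ Ts.obj (op l)) (p : Vk ⟶ Vi) (p' : Vl ⟶ Vk) (pp : Vl ⟶ Vi)
    (hp : p ≫ ai = ak ≫ Ts.map (homOfLE hik).op) (hp' : p' ≫ ak = al ≫ Ts.map (homOfLE hkl).op)
    (hpp' : pp ≫ ai = al ≫ Ts.map (homOfLE (hik.trans hkl)).op) (hc : p' ≫ p = pp) (x : CL (F i) q ai) :
    toStage Ts F φ q hkl ak al p' hp' (toStage Ts F φ q hik ai ak p hp x) =
      toStage Ts F φ q (hik.trans hkl) ai al pp hpp' x := by
  have hw : Ts.map (homOfLE hkl).op ≫ Ts.map (homOfLE hik).op = Ts.map (homOfLE (hik.trans hkl)).op := by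
    rw [← Functor.map_comp]; rfl
  refine (congrArg (cT _ _ q al _ rfl) (cR_cT _ (φ hik) q ak _ p' hp' _ _ rfl rfl _)).trans ?_
  refine (cT_cT (Ts.map (homOfLE hik).op) (φ hik) q (Ts.map (homOfLE hkl).op) _
    (Ts.map (homOfLE (hik.trans hkl)).op) hw al _ _ rfl rfl _).trans ?_
  refine (cT_congr (F' := F l) _ _ q al _ _ (γ₁ := φ (hik.trans hkl)) ?_ _).trans ?_
  · rw [hφ hik hkl, pullTrans_app Ts F hik hkl hw]
  · have hcomp : (al ≫ Ts.map (homOfLE hkl).op) ≫ Ts.map (homOfLE hik).op =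
        al ≫ Ts.map (homOfLE (hik.trans hkl)).op := by rw [Category.assoc, hw]
    exact (congrArg _ (cR_cR p hp p' _ pp hc x)).trans (cT_cR_eq _ _ q al _ _ hcomp _ pp _ x)

end Groth.Agent.H1DFun
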