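import Groth.Agent.H1Lim.ConstSys
import Groth.Agent.H26EtPull.Basic

/-!
# Functoriality of relative inverse images of classes
-/

set_option autoImplicit false
set_option backward.isDefEq.respectTransparency false
set_option backward.isDefEq.respectTransparency.types false

universe u

open CategoryTheory CategoryTheory.Limits AlgebraicGeometry Opposite
open Groth.Agent.H1Lim

namespace Groth.Agent.H1DFun

attribute [local instance] Groth.Agent.H18Et.pull_preservesFiniteLimits

variable {X V V' V'' : Scheme.{u}}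

/-- The morphism of base changes along a composite. -/
noncomputable def bcCompHom {A B C : Scheme.{u}} (f : A ⟶ B) (g : B ⟶ C) (h : A ⟶ C) (w : f ≫ g = h)
    (U : C.Etale) : (EtCoh.bc f).obj ((EtCoh.bc g).obj U) ⟶ (EtCoh.bc h).obj U :=
  MorphismProperty.Over.homMk (pullback.lift
    (pullback.fst ((EtCoh.bc g).obj U).hom f ≫ pullback.fst U.hom g)
    (pullback.snd ((EtCoh.bc g).obj U).hom f)
    (by rw [Category.assoc, pullback.condition, ← w]
        exact (Category.assoc _ _ _).symm.trans ((congrArg (· ≫ g) pullback.condition).trans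
          (Category.assoc _ _ _))))
    (pullback.lift_snd _ _ _) trivial

theorem bcCompHom_fst {A B C : Scheme.{u}} (f : A ⟶ B) (g : B ⟶ C) (h : A ⟶ C) (w : f ≫ g = h)
    (U : C.Etale) : (bcCompHom f g h w U).left ≫ pullback.fst U.hom h =
      pullback.fst ((EtCoh.bc g).obj U).hom f ≫ pullback.fst U.hom g := pullback.lift_fst _ _ _

/-- Cocycle law for the comparison of inverse images. -/
theorem viaIso_cocycle (f' : V'' ⟶ V') (f : V' ⟶ V) (fc : V'' ⟶ V) (h : V ⟶ X) (h' : V' ⟶ X)
    (h'' : V'' ⟶ X) (hc : f' ≫ f = fc) (w : f ≫ h = h') (w' : f' ≫ h' = h'') (wc : fc ≫ h = h'')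
    (G : EtCoh.Ab X) :
    (EtCoh.pull f').map ((viaIso f h h' w).app G).hom ≫ ((viaIso f' h' h'' w').app G).hom =
      ((viaIso f' f fc hc).app ((EtCoh.pull h).obj G)).hom ≫ ((viaIso fc h h'' wc).app G).hom := by
  apply ((EtCoh.pullPushAdj f').homEquiv _ _).injective
  apply ((EtCoh.pullPushAdj f).homEquiv _ _).injective
  refine pull_hom_ext h fun U t => ?_
  rw [homEquiv_apply, homEquiv_apply]
  refine (homEquiv_apply f' _ _ _).trans (Eq.trans ?_ (homEquiv_apply f' _ _ _).symm)
  let T := (EtCoh.pull h'').obj G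
  let W₀ := (EtCoh.bc f).obj ((EtCoh.bc h).obj U)
  let x₀ := secUnit f ((EtCoh.pull h).obj G) _ (secUnit h G U t)
  have e1 : ((EtCoh.pull f').map ((viaIso f h h' w).app G).hom).hom.app (op ((EtCoh.bc f').obj W₀))
      (secUnit f' _ W₀ x₀) = secUnit f' ((EtCoh.pull h').obj G) W₀
        (((EtCoh.pull h').obj G).obj.map (bcCompHom f h h' w U).op (secUnit h' G U t)) :=
    ((congrArg (fun k => k.hom.app (op W₀) x₀)
      ((EtCoh.pullPushAdj f').unit.naturality ((viaIso f h h' w).app G).hom)).symm).trans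
      (congrArg (secUnit f' ((EtCoh.pull h').obj G) W₀)
        (viaIso_unit f h h' w G U (bcCompHom f h h' w U) (bcCompHom_fst f h h' w U) t))
  refine (congrArg (((viaIso f' h' h'' w').app G).hom.hom.app _) e1).trans ?_
  refine (congrArg (((viaIso f' h' h'' w').app G).hom.hom.app _)
    (NatTrans.naturality_apply ((EtCoh.pullPushAdj f').unit.app _).hom (bcCompHom f h h' w U).op _)).trans ?_
  refine (NatTrans.naturality_apply ((viaIso f' h' h'' w').app G).hom.hom
    ((EtCoh.bc f').map (bcCompHom f h h' w U)).op _).trans ?_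
  refine (congrArg (T.obj.map ((EtCoh.bc f').map (bcCompHom f h h' w U)).op)
    (viaIso_unit f' h' h'' w' G U (bcCompHom f' h' h'' w' U) (bcCompHom_fst f' h' h'' w' U) t)).trans ?_
  symm
  let W := (EtCoh.bc h).obj U
  refine (congrArg (((viaIso fc h h'' wc).app G).hom.hom.app _)
    (viaIso_unit f' f fc hc ((EtCoh.pull h).obj G) W (bcCompHom f' f fc hc W) (bcCompHom_fst f' f fc hc W) _)).trans ?_
  refine (NatTrans.naturality_apply ((viaIso fc h h'' wc).app G).hom.hom (bcCompHom f' f fc hc W).op _).trans ?_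
  refine (congrArg (T.obj.map (bcCompHom f' f fc hc W).op)
    (viaIso_unit fc h h'' wc G U (bcCompHom fc h h'' wc U) (bcCompHom_fst fc h h'' wc U) t)).trans ?_
  refine (Functor.map_comp_apply _ _ _ _).symm.trans (Eq.trans ?_ (Functor.map_comp_apply _ _ _ _))
  refine congrArg (fun z => T.obj.map z (secUnit h'' G U t)) (congrArg Quiver.Hom.op (bc_hom_ext h'' ?_))
  show ((bcCompHom f' f fc hc W).left ≫ (bcCompHom fc h h'' wc U).left) ≫ _ =
    (((EtCoh.bc f').map (bcCompHom f h h' w U)).left ≫ (bcCompHom f' h' h'' w' U).left) ≫ _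
  rw [Category.assoc, Category.assoc, bcCompHom_fst, bcCompHom_fst]
  refine (Category.assoc _ _ _).symm.trans ((congrArg (· ≫ pullback.fst U.hom h) (bcCompHom_fst f' f fc hc W)).trans ?_)
  refine Eq.trans ?_ ((congrArg (· ≫ pullback.fst U.hom h') (pullback.lift_fst _ _ _).symm).trans
    (Category.assoc _ _ _))
  exact (Category.assoc _ _ _).trans ((congrArg (_ ≫ ·) (bcCompHom_fst f h h' w U).symm).trans
    (Category.assoc _ _ _).symm)

/-- Relative inverse images compose. -/
theorem HpullVia_comp (f' : V'' ⟶ V') (f : V' ⟶ V) (fc : V'' ⟶ V) (h : V ⟶ X) (h' : V' ⟶ X)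
    (h'' : V'' ⟶ X) (hc : f' ≫ f = fc) (w : f ≫ h = h') (w' : f' ≫ h' = h'') (wc : fc ≫ h = h'')
    (G : EtCoh.Ab X) (n : ℕ) (x : Sheaf.H ((EtCoh.pull h).obj G) n) :
    EtCore.HpullVia f' h' h'' w' G n (EtCore.HpullVia f h h' w G n x) =
      EtCore.HpullVia fc h h'' wc G n x := by
  subst hc
  rw [HpullVia_def, HpullVia_def, HpullVia_def]
  let A := (EtCoh.pull h).obj G
  refine (H_map_Hpull f' ((viaIso f h h' w).app G).hom (𝟙 _)
    ((EtCoh.pull f').map ((viaIso f h h' w).app G).hom ≫ ((viaIso f' h' h'' w').app G).hom)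
    ((viaIso f' h' h'' w').app G).hom (Category.id_comp _) n _).symm.trans ?_
  rw [viaIso_cocycle f' f (f' ≫ f) h h' h'' rfl w w' wc G, H_map_comp₀]
  have h2 : Sheaf.H.map (𝟙 _) n (hpull f' _ n (hpull f A n x)) =
      Sheaf.H.map ((EtCore.pullComp f' f).hom.app A) n (hpull (f' ≫ f) A n x) := by
    refine (by rw [Sheaf.H.map_apply, Abelian.Ext.comp_mk₀_id] : _ = hpull f' _ n (hpull f A n x)).trans ?_
    exact H26EtPull.Hpull_comp f' f A n x
  refine congrArg (Sheaf.H.map ((viaIso (f' ≫ f) h h'' wc).app G).hom n) ?_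
  refine (congrArg (Sheaf.H.map ((viaIso f' f (f' ≫ f) rfl).app A).hom n) h2).trans ?_
  rw [← H_map_comp₀]
  refine (congrArg (fun k => Sheaf.H.map k n (hpull (f' ≫ f) A n x)) ?_).trans
    (by rw [Sheaf.H.map_apply, Abelian.Ext.comp_mk₀_id])
  show (EtCore.pullComp f' f).hom.app A ≫ (EtCore.pullComp f' f).inv.app A ≫ (EtCore.pullCongr rfl).hom.app A = _
  rw [← Category.assoc]
  exact (congrArg (· ≫ _) ((EtCore.pullComp f' f).hom_inv_id_app A)).trans ((Category.id_comp _).trans (by simp [EtCore.pullCongr]))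

theorem HpullVia_congr {f f₁ : V' ⟶ V} (e : f = f₁) (h : V ⟶ X) (h' : V' ⟶ X) (w : f ≫ h = h')
    (w₁ : f₁ ≫ h = h') (G : EtCoh.Ab X) (n : ℕ) (x : Sheaf.H ((EtCoh.pull h).obj G) n) :
    EtCore.HpullVia f h h' w G n x = EtCore.HpullVia f₁ h h' w₁ G n x := by
  subst e; rfl

/-- Relative inverse images commute with the change of coefficients along a base map. -/
theorem HpullVia_sigma {Y T : Scheme.{u}} (e : Y ⟶ T) (f : V' ⟶ V) (b : V ⟶ Y) (b' : V' ⟶ Y)
    (w : f ≫ b = b') (a : V ⟶ T) (a' : V' ⟶ T) (ha : b ≫ e = a) (ha' : b' ≫ e = a') (wa : f ≫ a = a')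
    (F : EtCoh.Ab T) (n : ℕ) (x : Sheaf.H ((EtCoh.pull b).obj ((EtCoh.pull e).obj F)) n) :
    Sheaf.H.map ((viaIso b' e a' ha').app F).hom n
        (EtCore.HpullVia f b b' w ((EtCoh.pull e).obj F) n x) =
      EtCore.HpullVia f a a' wa F n (Sheaf.H.map ((viaIso b e a ha).app F).hom n x) := by
  rw [HpullVia_def, HpullVia_def]
  refine (H_map_comp₀ _ _ _).symm.trans ?_
  refine (congrArg (fun k => Sheaf.H.map k n (hpull f _ n x))
    (viaIso_cocycle f b b' e a a' w ha wa ha' F).symm).trans ((H_map_comp₀ _ _ _).trans ?_)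
  exact congrArg _ (Hpull_map f ((viaIso b e a ha).app F).hom n x).symm

end Groth.Agent.H1DFun
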