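import Groth.Agent.H1DFun.BCCompat
import Groth.Agent.H1DFun.PullCocycle

/-!
# Sections of higher direct images given by classes on etale schemes
-/

set_option autoImplicit false
set_option backward.isDefEq.respectTransparency false
set_option backward.isDefEq.respectTransparency.types false

universe u

open CategoryTheory CategoryTheory.Limits AlgebraicGeometry Opposite Abelian
open Groth.Agent.H1Lim Groth.Agent.H18Et Groth.Agent.H12AlgSp.EtStrictHens

namespace Groth.Agent.H1DFun

attribute [local instance] Groth.Agent.H18Et.pull_preservesFiniteLimits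

section One

variable {S T : Scheme.{u}} (g : T ⟶ S) (F : EtCoh.Ab T) (q : ℕ)

/-- Classes on the base change of an etale scheme. -/
abbrev H0 (U : S.Etale) : Type (u + 1) := Sheaf.H ((EtCoh.pull ((EtCoh.bc g).obj U).hom).obj F) q

/-- Restriction of classes. -/
noncomputable abbrev r0 {U V : S.Etale} (m : V ⟶ U) : H0 g F q U →+ H0 g F q V :=
  EtCore.HpullVia ((EtCoh.bc g).map m).left ((EtCoh.bc g).obj U).hom ((EtCoh.bc g).obj V).hom
    (MorphismProperty.Over.w ((EtCoh.bc g).map m)) F q

/-- The class of a cycle. -/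
noncomputable def clsVal (U : S.Etale) (c : ((pushCx g (injectiveResolution F)).cycles q).obj.obj (op U)) :
    H0 g F q U :=
  pb ((EtCoh.bc g).obj U).hom ((EtCoh.bc g).obj U) (𝟙 _) (Category.id_comp _) F q
    (secCls (injectiveResolution F) ((EtCoh.bc g).obj U) q (cycSect g _ q U c) (cycSect_d g _ q U c))

theorem clsVal_def (U : S.Etale) (c : ((pushCx g (injectiveResolution F)).cycles q).obj.obj (op U)) :
    clsVal g F q U c = pb ((EtCoh.bc g).obj U).hom ((EtCoh.bc g).obj U) (𝟙 _) (Category.id_comp _) F q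
      (secCls (injectiveResolution F) ((EtCoh.bc g).obj U) q (cycSect g _ q U c) (cycSect_d g _ q U c)) := rfl

theorem clsVal_surjective (U : S.Etale) : Function.Surjective (clsVal g F q U) := fun x => by
  obtain ⟨x₀, rfl⟩ := (pb_self_bijective ((EtCoh.bc g).obj U) F q).2 x
  obtain ⟨s, hs, rfl⟩ := secCls_surjective (injectiveResolution F) ((EtCoh.bc g).obj U) q x₀
  obtain ⟨c, rfl⟩ := exists_cycSect g (injectiveResolution F) q U s hs
  exact ⟨c, rfl⟩

theorem clsVal_add (U : S.Etale) (c c' : ((pushCx g (injectiveResolution F)).cycles q).obj.obj (op U)) :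
    clsVal g F q U (c + c') = clsVal g F q U c + clsVal g F q U c' := by
  rw [clsVal_def, clsVal_def, clsVal_def, ← map_add, ← secCls_add]
  exact congrArg _ (secCls_congr _ _ q _ _ (map_add _ _ _) _)

theorem clsVal_map {U V : S.Etale} (m : V ⟶ U)
    (c : ((pushCx g (injectiveResolution F)).cycles q).obj.obj (op U)) :
    clsVal g F q V (((pushCx g (injectiveResolution F)).cycles q).obj.map m.op c) =
      r0 g F q m (clsVal g F q U c) := by
  rw [clsVal_def, clsVal_def]
  let b := (EtCoh.bc g).map m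
  refine Eq.trans ?_ (pb_via b.left ((EtCoh.bc g).obj U).hom ((EtCoh.bc g).obj V).hom
    (MorphismProperty.Over.w b) ((EtCoh.bc g).obj U) (𝟙 _) (Category.id_comp _) b.left
    (MorphismProperty.Over.w b) (Category.comp_id _) F q _).symm
  refine Eq.trans ?_ (pb_precomp ((EtCoh.bc g).obj V).hom b (𝟙 _) (Category.id_comp _) b.left
    (MorphismProperty.Over.w b) (Category.id_comp _) F q _)
  refine congrArg _ ((secCls_congr _ _ q _ _ (cycSect_map g _ q m c) ?_).trans (secCls_map _ _ q _ _ _ _).symm)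
  rw [← cycSect_map]
  exact cycSect_d g _ q _ _

/-- The projection of the cycles to the higher direct image. -/
noncomputable abbrev rpi : (pushCx g (injectiveResolution F)).cycles q ⟶ (EtCoh.Rpush g q).obj F :=
  (pushCx g (injectiveResolution F)).homologyπ q ≫
    ((injectiveResolution F).isoRightDerivedObj (EtCoh.push g) q).inv

theorem rpi_eq_zero_of_clsVal (U : S.Etale) (c : ((pushCx g (injectiveResolution F)).cycles q).obj.obj (op U))
    (h : clsVal g F q U c = 0) : (rpi g F q).hom.app (op U) c = 0 := by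
  have h' := (pb_self_bijective ((EtCoh.bc g).obj U) F q).1 (h.trans (map_zero _).symm)
  cases q with
  | zero =>
    have h0 : c = 0 := cycSect_injective g _ 0 _ ((eq_zero_of_secCls _ _ _ _ h').trans (map_zero _).symm)
    rw [h0, map_zero]
  | succ i =>
    obtain ⟨b, hb⟩ := (secCls_eq_zero_iff _ _ i _ _).1 h'
    have hc : c = ((pushCx g (injectiveResolution F)).toCycles i (i + 1)).hom.app (op U) b :=
      cycSect_injective g _ (i + 1) _ (hb.symm.trans (toCycles_cycSect g _ i _ b).symm)
    rw [hc]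
    exact ConcreteCategory.congr_hom (congrArg (fun φ : (pushCx g (injectiveResolution F)).X i ⟶ _ =>
      φ.hom.app (op U)) (show (pushCx g (injectiveResolution F)).toCycles i (i + 1) ≫ rpi g F (i + 1) = 0 by
        rw [rpi, HomologicalComplex.toCycles_comp_homologyπ_assoc, zero_comp])) b

/-- The section of the higher direct image given by a class. -/
noncomputable def toSect (U : S.Etale) : H0 g F q U →+ ((EtCoh.Rpush g q).obj F).obj.obj (op U) :=
  AddMonoidHom.mk' (fun x => (rpi g F q).hom.app (op U) (clsVal_surjective g F q U x).choose) fun x y => by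
    let c := (clsVal_surjective g F q U (x + y)).choose
    let a := (clsVal_surjective g F q U x).choose
    let b := (clsVal_surjective g F q U y).choose
    show (rpi g F q).hom.app (op U) c = (rpi g F q).hom.app (op U) a + (rpi g F q).hom.app (op U) b
    let f₀ := AddMonoidHom.mk' (clsVal g F q U) (clsVal_add g F q U)
    rw [← sub_eq_zero, ← map_add, ← map_sub]
    refine rpi_eq_zero_of_clsVal g F q U _ ?_
    show f₀ (c - (a + b)) = 0
    rw [map_sub, map_add]
    show clsVal g F q U c - (clsVal g F q U a + clsVal g F q U b) = 0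
    rw [(clsVal_surjective g F q U (x + y)).choose_spec, (clsVal_surjective g F q U x).choose_spec,
      (clsVal_surjective g F q U y).choose_spec, sub_self]

theorem toSect_clsVal (U : S.Etale) (c : ((pushCx g (injectiveResolution F)).cycles q).obj.obj (op U)) :
    toSect g F q U (clsVal g F q U c) = (rpi g F q).hom.app (op U) c := by
  let a := (clsVal_surjective g F q U (clsVal g F q U c)).choose
  show (rpi g F q).hom.app (op U) a = _
  let f₀ := AddMonoidHom.mk' (clsVal g F q U) (clsVal_add g F q U)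
  rw [← sub_eq_zero, ← map_sub]
  refine rpi_eq_zero_of_clsVal g F q U _ ?_
  show f₀ (a - c) = 0
  rw [map_sub]
  exact sub_eq_zero.2 (clsVal_surjective g F q U (clsVal g F q U c)).choose_spec

theorem toSect_map {U V : S.Etale} (m : V ⟶ U) (x : H0 g F q U) :
    ((EtCoh.Rpush g q).obj F).obj.map m.op (toSect g F q U x) = toSect g F q V (r0 g F q m x) := by
  obtain ⟨c, rfl⟩ := clsVal_surjective g F q U x
  rw [← clsVal_map, toSect_clsVal, toSect_clsVal]
  exact (NatTrans.naturality_apply (rpi g F q).hom m.op c).symm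

variable {Ω : Type u} [Field Ω] [IsSepClosed Ω] (ξ : Spec (CommRingCat.of Ω) ⟶ S)

theorem exists_toSect_germ (y : (EtCoh.stalk ξ).obj ((EtCoh.Rpush g q).obj F)) :
    ∃ (U : S.Etale) (z : (Scheme.pointSmallEtale ξ).fiber.obj U) (x : H0 g F q U),
      H18Et.germ ξ ((EtCoh.Rpush g q).obj F) U z (toSect g F q U x) = y := by
  haveI : Epi ((EtCoh.stalk ξ).map (rpi g F q)) := inferInstance
  obtain ⟨c₀, rfl⟩ := (AddCommGrpCat.epi_iff_surjective _).1 this y
  obtain ⟨U, z, c, rfl⟩ := H18Et.germ_surjective ξ ((pushCx g (injectiveResolution F)).cycles q) c₀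
  exact ⟨U, z, clsVal g F q U c, by rw [toSect_clsVal]; exact (H18Et.germ_naturality ξ (rpi g F q) U z c).symm⟩

theorem exists_r0_eq_zero (U : S.Etale) (z : (Scheme.pointSmallEtale ξ).fiber.obj U) (x : H0 g F q U)
    (h : H18Et.germ ξ ((EtCoh.Rpush g q).obj F) U z (toSect g F q U x) = 0) :
    ∃ (V : S.Etale) (m : V ⟶ U) (w : (Scheme.pointSmallEtale ξ).fiber.obj V),
      (Scheme.pointSmallEtale ξ).fiber.map m w = z ∧ r0 g F q m x = 0 := by
  obtain ⟨c, rfl⟩ := clsVal_surjective g F q U x
  rw [toSect_clsVal] at h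
  let K := pushCx g (injectiveResolution F)
  have h1 : (EtCoh.stalk ξ).map (K.homologyπ q) (H18Et.germ ξ (K.cycles q) U z c) = 0 := by
    apply (ConcreteCategory.bijective_of_isIso ((EtCoh.stalk ξ).map
      ((injectiveResolution F).isoRightDerivedObj (EtCoh.push g) q).inv)).1
    rw [map_zero]
    refine (ConcreteCategory.congr_hom ((EtCoh.stalk ξ).map_comp _ _).symm _).trans ?_
    exact (H18Et.germ_naturality ξ (rpi g F q) U z c).trans h
  have hS : (ShortComplex.mk _ _ (K.toCycles_comp_homologyπ ((ComplexShape.up ℕ).prev q) q)).Exact :=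
    ShortComplex.exact_of_g_is_cokernel _ (K.homologyIsCokernel ((ComplexShape.up ℕ).prev q) q rfl)
  obtain ⟨b₀, hb₀⟩ := (ShortComplex.ab_exact_iff _).1
    (hS.map_of_epi_of_preservesCokernel (EtCoh.stalk ξ) inferInstance inferInstance) _ h1
  obtain ⟨W, w, b, rfl⟩ := H18Et.germ_surjective ξ (K.X ((ComplexShape.up ℕ).prev q)) b₀
  let o : (Scheme.pointSmallEtale ξ).fiber.Elements := Functor.elementsMk _ U z
  let o' : (Scheme.pointSmallEtale ξ).fiber.Elements := Functor.elementsMk _ W w
  obtain ⟨o'', a, a', -⟩ := IsCofilteredOrEmpty.cone_objs o o'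
  have hb₁ : H18Et.germ ξ (K.cycles q) o''.1 o''.2
      ((K.toCycles _ q).hom.app (op o''.1) ((K.X _).obj.map a'.1.op b) - (K.cycles q).obj.map a.1.op c) = 0 := by
    rw [map_sub, sub_eq_zero]
    refine (H18Et.germ_naturality ξ (K.toCycles _ q) o''.1 o''.2 _).symm.trans ?_
    refine (congrArg ((EtCoh.stalk ξ).map (K.toCycles _ q)) (((Scheme.pointSmallEtale ξ).toPresheafFiber_w_apply
      a'.1 o''.2 (K.X _).obj b).trans (congrArg (fun t => H18Et.germ ξ (K.X _) W t b) a'.2))).trans ?_
    refine hb₀.trans ?_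
    exact (((Scheme.pointSmallEtale ξ).toPresheafFiber_w_apply a.1 o''.2 (K.cycles q).obj c).trans
      (congrArg (fun t => H18Et.germ ξ (K.cycles q) U t c) a.2)).symm
  obtain ⟨V, m, v, hv, hm⟩ := (H18Et.germ_eq_iff ξ (K.cycles q) o''.1 o''.2 _ 0).1 (hb₁.trans (map_zero _).symm)
  refine ⟨V, m ≫ a.1, v, ?_, ?_⟩
  · rw [Functor.map_comp_apply, hv, a.2]
  rw [map_zero, map_sub, sub_eq_zero] at hm
  rw [← clsVal_map, op_comp, Functor.map_comp_apply]
  rw [← hm, ← NatTrans.naturality_apply (K.toCycles _ q).hom m.op]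
  generalize (K.X ((ComplexShape.up ℕ).prev q)).obj.map m.op ((K.X _).obj.map a'.1.op b) = β
  clear hm hb₁ hb₀ hS h1 h c b
  cases q with
  | zero =>
    have hz : K.toCycles ((ComplexShape.up ℕ).prev 0) 0 = 0 := by
      rw [← cancel_mono (K.iCycles 0), K.toCycles_i, zero_comp, K.shape _ _ (by simp)]
    refine (congrArg (clsVal g F 0 V) (congrArg (fun m : K.X _ ⟶ K.cycles 0 => m.hom.app (op V) β) hz)).trans ?_
    exact map_zero (AddMonoidHom.mk' (clsVal g F 0 V) (clsVal_add g F 0 V))
  | succ i =>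
    have hp : (ComplexShape.up ℕ).prev (i + 1) = i := CochainComplex.prev_nat_succ i
    obtain ⟨b', hb'⟩ : ∃ b', ((injectiveResolution F).cocomplex.d i (i + 1)).hom.app
        (op ((EtCoh.bc g).obj V)) b' =
          cycSect g (injectiveResolution F) (i + 1) V ((K.toCycles _ (i + 1)).hom.app (op V) β) := by
      generalize (ComplexShape.up ℕ).prev (i + 1) = p at hp β
      subst hp
      exact ⟨β, (toCycles_cycSect g _ _ _ β).symm⟩
    rw [clsVal_def, (secCls_eq_zero_iff _ _ i _ _).2 ⟨b', hb'⟩, map_zero]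

end One

section BC

variable {X S Y T : Scheme.{u}} (f : X ⟶ S) (g : T ⟶ S) (h : Y ⟶ X) (e : Y ⟶ T) (w : e ≫ g = h ≫ f)

/-- The morphism between the base changes of an etale scheme. -/
noncomputable def lam (U : S.Etale) :
    ((EtCoh.bc h).obj ((EtCoh.bc f).obj U)).left ⟶ ((EtCoh.bc g).obj U).left :=
  pullback.lift (pullback.fst ((EtCoh.bc f).obj U).hom h ≫ pullback.fst U.hom f)
    (pullback.snd ((EtCoh.bc f).obj U).hom h ≫ e)
    (by rw [Category.assoc, pullback.condition, Category.assoc, w, ← Category.assoc, ← Category.assoc]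
        exact congrArg (· ≫ f) pullback.condition)

theorem lam_fst (U : S.Etale) : lam f g h e w U ≫ pullback.fst U.hom g =
    pullback.fst ((EtCoh.bc f).obj U).hom h ≫ pullback.fst U.hom f := pullback.lift_fst _ _ _

theorem lam_hom (U : S.Etale) : lam f g h e w U ≫ ((EtCoh.bc g).obj U).hom =
    ((EtCoh.bc h).obj ((EtCoh.bc f).obj U)).hom ≫ e := pullback.lift_snd _ _ _

variable (F : EtCoh.Ab T) (q : ℕ)

/-- Classes on the upper left corner with coefficients from the right. -/
abbrev H1 (W : X.Etale) : Type (u + 1) :=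
  Sheaf.H ((EtCoh.pull (((EtCoh.bc h).obj W).hom ≫ e)).obj F) q

/-- The sections they give. -/
noncomputable def toSect' (W : X.Etale) :
    H1 h e F q W →+ ((EtCoh.Rpush h q).obj ((EtCoh.pull e).obj F)).obj.obj (op W) :=
  (toSect h ((EtCoh.pull e).obj F) q W).comp
    (Sheaf.H.map ((viaIso ((EtCoh.bc h).obj W).hom e (((EtCoh.bc h).obj W).hom ≫ e) rfl).app F).inv q)

theorem toSect'_def (W : X.Etale) (x : H1 h e F q W) : toSect' h e F q W x =
    toSect h ((EtCoh.pull e).obj F) q W
      (Sheaf.H.map ((viaIso ((EtCoh.bc h).obj W).hom e (((EtCoh.bc h).obj W).hom ≫ e) rfl).app F).inv q x) := rfl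

/-- The base change morphism in each degree on classes. -/
theorem bcQ_toSect (U : S.Etale) (x : H0 g F q U) :
    (EtBC.bcQ g f h e w q F).hom.app (op ((EtCoh.bc f).obj U))
        (((EtCoh.pullPushAdj f).unit.app _).hom.app (op U) (toSect g F q U x)) =
      toSect' h e F q ((EtCoh.bc f).obj U)
        (EtCore.HpullVia (lam f g h e w U) ((EtCoh.bc g).obj U).hom
          (((EtCoh.bc h).obj ((EtCoh.bc f).obj U)).hom ≫ e) (lam_hom f g h e w U) F q x) := by
  let I := injectiveResolution F
  let R := injectiveResolution ((EtCoh.pull e).obj F)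
  obtain ⟨c, rfl⟩ := clsVal_surjective g F q U x
  rw [toSect_clsVal]
  obtain ⟨θ, Z, hθ0, hZi, hZ⟩ := exists_bcCycles f g h e w F q
  obtain ⟨l, hl, hsq⟩ := exists_sqIso_app f g h e w U
  let c' : ((pushCx h R).cycles q).obj.obj (op ((EtCoh.bc f).obj U)) := Z.hom.app (op U) c
  have e' := ((EtCoh.pullPushAdj f).homEquiv _ _).apply_symm_apply (EtBC.bcQAdj g f h e w q F)
  rw [Adjunction.homEquiv_unit] at e'
  refine (ConcreteCategory.congr_hom (congrArg (fun k => k.hom.app (op U)) e') _).trans ?_
  refine (ConcreteCategory.congr_hom (congrArg (fun k => k.hom.app (op U)) hZ) c).trans ?_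
  refine (toSect_clsVal h ((EtCoh.pull e).obj F) q ((EtCoh.bc f).obj U) c').symm.trans ?_
  rw [toSect'_def]
  refine congrArg (toSect h _ q _) ?_
  have h2 : cycSect h R q ((EtCoh.bc f).obj U) c' =
      (R.cocomplex.X q).obj.map l.op ((θ.f q).hom.app (op ((EtCoh.bc g).obj U)) (cycSect g I q U c)) := by
    refine Eq.trans ?_ (hsq _ _)
    exact ConcreteCategory.congr_hom (congrArg (fun k => k.hom.app (op U)) hZi) c
  let s := cycSect g I q U c
  have hs' : (R.cocomplex.d q (q + 1)).hom.app (op ((EtCoh.bc e).obj ((EtCoh.bc g).obj U)))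
      ((θ.f q).hom.app (op ((EtCoh.bc g).obj U)) s) = 0 := by
    refine (ConcreteCategory.congr_hom (congrArg (fun k => k.hom.app (op ((EtCoh.bc g).obj U)))
      (θ.comm q (q + 1))) s).trans ?_
    show (θ.f (q + 1)).hom.app (op ((EtCoh.bc g).obj U))
      ((I.cocomplex.d q (q + 1)).hom.app (op ((EtCoh.bc g).obj U)) s) = 0
    rw [cycSect_d g I q U c, map_zero]
  rw [clsVal_def]
  let aY := ((EtCoh.bc h).obj ((EtCoh.bc f).obj U)).hom
  refine (congrArg (pb aY _ (𝟙 _) (Category.id_comp _) _ q) ((secCls_congr R _ q _ _ h2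
    (h2 ▸ cycSect_d h R q _ c')).trans (secCls_map R _ q _ hs' l _).symm)).trans ?_
  refine (pb_precomp aY l (𝟙 _) (Category.id_comp _) l.left (MorphismProperty.Over.w l) (Category.id_comp _)
    _ q _).trans ?_
  have e₀ : l.left ≫ pullback.fst ((EtCoh.bc g).obj U).hom e = lam f g h e w U := by
    refine pullback.hom_ext ((Category.assoc _ _ _).trans (hl.trans (lam_fst f g h e w U).symm)) ?_
    refine Eq.trans ?_ (lam_hom f g h e w U).symm
    refine (Category.assoc _ _ _).trans ((congrArg (l.left ≫ ·) pullback.condition).trans ?_)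
    exact (Category.assoc _ _ _).symm.trans (congrArg (· ≫ e) (MorphismProperty.Over.w l))
  refine (pb_map aY e (aY ≫ e) rfl ((EtCoh.bc g).obj U) l.left (MorphismProperty.Over.w l)
    (lam f g h e w U) (lam_hom f g h e w U) e₀ I R ((EtCoh.pullPushAdj e).unit.app F) θ.f
    (fun i => θ.comm i (i + 1)) hθ0 q s (cycSect_d g I q U c) hs').trans ?_
  have hu : ((EtCoh.pullPushAdj e).homEquiv F ((EtCoh.pull e).obj F)).symm
      ((EtCoh.pullPushAdj e).unit.app F) = 𝟙 _ := by
    rw [Equiv.symm_apply_eq]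
    exact ((EtCoh.pullPushAdj e).homEquiv_id F).symm
  refine (congrArg (fun k => Sheaf.H.map (((viaIso aY e (aY ≫ e) rfl).app F).inv ≫ (EtCoh.pull aY).map k) q
    (pb (aY ≫ e) ((EtCoh.bc g).obj U) (lam f g h e w U) (lam_hom f g h e w U) F q
      (secCls I ((EtCoh.bc g).obj U) q s (cycSect_d g I q U c)))) hu).trans ?_
  refine (congrArg (fun k => Sheaf.H.map k q _)
    ((congrArg (((viaIso aY e (aY ≫ e) rfl).app F).inv ≫ ·) ((EtCoh.pull aY).map_id _)).trans (Category.comp_id _))).trans ?_
  refine congrArg (Sheaf.H.map _ q) ?_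
  exact (pb_via (lam f g h e w U) ((EtCoh.bc g).obj U).hom (aY ≫ e) (lam_hom f g h e w U)
    ((EtCoh.bc g).obj U) (𝟙 _) (Category.id_comp _) (lam f g h e w U) (lam_hom f g h e w U)
    (Category.comp_id _) F q _).symm

end BC

end Groth.Agent.H1DFun
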