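import Groth.Agent.H1DFun.ZarEt
import Groth.Agent.H18Et.Stalk

/-!
# Continuity of the inclusion of opens into the small etale site
-/

set_option autoImplicit false
set_option backward.isDefEq.respectTransparency false
set_option backward.isDefEq.respectTransparency.types false

universe u

open CategoryTheory CategoryTheory.Limits AlgebraicGeometry Opposite TopologicalSpace

namespace Groth.Agent.H1DFun

theorem zarCont (S : Scheme.{u}) : EtZar.ZarCont S := by
  haveI := representablyFlat_zarToEt S
  refine Functor.isContinuous_of_coverPreserving (compatiblePreservingOfFlat _ _) ⟨fun {U R} hR => ?_⟩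
  refine H18Et.mem_topology_of_forall_point _ fun x => ?_
  obtain ⟨V, i, hi, hx⟩ := hR (U.ι x) x.2
  refine ⟨(EtZar.zarToEt S).obj V, (EtZar.zarToEt S).map i, ⟨U.ι x, hx⟩,
    ⟨V, i, 𝟙 _, hi, (Category.id_comp _).symm⟩, ?_⟩
  apply Subtype.ext
  exact congrArg (fun k => k ⟨U.ι x, hx⟩) (MorphismProperty.Over.w ((EtZar.zarToEt S).map i))

end Groth.Agent.H1DFun
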