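import Groth.Agent.H1DFun.ConstFlasque
import Groth.Agent.H1DFun.ZarContinuous
import Groth.Agent.H1DFun.StalkCls
import Groth.Agent.H15Site.Shriek.Exact
import Groth.Agent.S0090

/-!
# Higher direct images of constant sheaves from normal schemes with separably closed function field
-/

set_option autoImplicit false
set_option backward.isDefEq.respectTransparency false
set_option backward.isDefEq.respectTransparency.types false

universe u

open CategoryTheory CategoryTheory.Limits AlgebraicGeometry Opposite TopologicalSpace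
open Groth.Agent.H18Et

namespace Groth.Agent.H1DFun

theorem isZero_of_stalks {Y : Scheme.{u}} (F : EtCoh.Ab Y)
    (h : ∀ (Ω : Type u) [Field Ω] [IsAlgClosed Ω] (ξ : Spec (CommRingCat.of Ω) ⟶ Y),
      Subsingleton ((EtCoh.stalk ξ).obj F)) : IsZero F := by
  have hS : (ShortComplex.mk (0 : F ⟶ F) (0 : F ⟶ F) (zero_comp)).Exact :=
    H15Site.Shriek.exact_of_algClosed _ fun Ω _ _ ξ =>
      ShortComplex.exact_of_isZero_X₂ _ (@AddCommGrpCat.isZero_of_subsingleton _ (h Ω ξ))
  exact hS.isZero_X₂ rfl rfl

variable {X : Scheme.{u}} [IsIntegral X] (hN : ∀ x : X, IsIntegrallyClosed (X.presheaf.stalk x))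
  [IsSepClosed X.functionField] {W : Scheme.{u}}

include hN

theorem strictlyHenselian_of_etale (j : W ⟶ X) [Etale j] (v : W) : EtCoh.IsStrictlyHenselianLocalRing (W.presheaf.stalk v) := by
  obtain ⟨U, σ, hσ, u, rfl⟩ := exists_open_iso_of_etale (fun x => S0090.result X hN x) j v
  exact H12AlgSp.isStrictlyHenselianLocalRing_of_ringEquiv
    ((U.stalkIso u).symm.commRingCatIsoToRingEquiv.trans (asIso (σ.stalkMap u)).symm.commRingCatIsoToRingEquiv)
    (S0090.result X hN _)

theorem exists_preirreducible_nhd (j : W ⟶ X) [Etale j] (v : W) : ∃ V : W.Opens, v ∈ V ∧ IsPreirreducible (V : Set W) := by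
  obtain ⟨U, σ, hσ, hv⟩ := exists_open_iso_of_etale (fun x => S0090.result X hN x) j v
  refine ⟨σ.opensRange, hv, ?_⟩
  haveI : PreirreducibleSpace ↥U := Subtype.preirreducibleSpace
    ((PreirreducibleSpace.isPreirreducible_univ (X := X)).open_subset U.isOpen (Set.subset_univ _))
  have h : IsPreirreducible (σ '' (Set.univ : Set ↥U)) :=
    (PreirreducibleSpace.isPreirreducible_univ (X := ↥U)).image _ σ.continuous.continuousOn
  rwa [Set.image_univ] at h

/-- The constant sheaf has no higher cohomology on an etale scheme over `X`. -/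
theorem subsingleton_H_const_etale (j : W ⟶ X) [Etale j] (M : Type) [AddCommGroup M] (n : ℕ) :
    Subsingleton (Sheaf.H ((EtCoh.pull j).obj (EtCoh.const X M)) (n + 1)) := by
  haveI : Subsingleton (Sheaf.H (EtCoh.const W M) (n + 1)) :=
    subsingleton_H_of_zflasque (strictlyHenselian_of_etale hN j) (EtCoh.const W M)
      (zflasque_const (exists_preirreducible_nhd hN j) M) n
  refine Function.Injective.subsingleton (f := Sheaf.H.map (EtCore.pullConst j M).hom (n + 1))
    (Function.LeftInverse.injective (g := Sheaf.H.map (EtCore.pullConst j M).inv (n + 1)) fun x => ?_)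
  rw [← Sheaf.H.map_comp_apply, Iso.hom_inv_id, Sheaf.H.map_id_apply]

theorem isZero_Rpush_const {Y : Scheme.{u}} (f : X ⟶ Y) (M : Type) [AddCommGroup M] (q : ℕ) (hq : 1 ≤ q) :
    IsZero ((EtCoh.Rpush f q).obj (EtCoh.const X M)) := by
  refine isZero_of_stalks _ fun Ω _ _ ξ => subsingleton_of_forall_eq 0 fun y => ?_
  obtain ⟨n, rfl⟩ : ∃ n, q = n + 1 := ⟨q - 1, by omega⟩
  obtain ⟨U, z, x, rfl⟩ := exists_toSect_germ f (EtCoh.const X M) (n + 1) ξ y
  haveI : Etale ((EtCoh.bc f).obj U).hom := ((EtCoh.bc f).obj U).prop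
  have hx := subsingleton_H_const_etale hN ((EtCoh.bc f).obj U).hom M n
  rw [@Subsingleton.elim _ hx x 0, map_zero, map_zero]

end Groth.Agent.H1DFun
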