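import Groth.Agent.S0091
import Groth.Agent.H9Hens.BranchNormal
import Mathlib.RingTheory.Localization.Integral
import Mathlib.AlgebraicGeometry.FunctionField
import Mathlib.FieldTheory.IsAlgClosed.AlgebraicClosure

/-!
# Affine schemes are covered by closed subschemes of absolutely integrally closed schemes
-/

set_option autoImplicit false
set_option backward.isDefEq.respectTransparency false
set_option backward.isDefEq.respectTransparency.types false

universe u

open CategoryTheory CategoryTheory.Limits AlgebraicGeometry Opposite

namespace Groth.Agent.H1DFun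

/-- The function field of the spectrum of a domain is its fraction field. -/
theorem isSepClosed_functionField (B : Type u) [CommRing B] [IsDomain B] (L : Type u) [Field L] [IsSepClosed L]
    [Algebra B L] [IsFractionRing B L] : IsSepClosed (Spec (CommRingCat.of B)).functionField := by
  letI : Algebra B (Spec (CommRingCat.of B)).functionField :=
    instAlgebraCarrierFunctionFieldSpec (CommRingCat.of B)
  haveI : IsFractionRing B (Spec (CommRingCat.of B)).functionField :=
    functionField_isFractionRing_of_affine (CommRingCat.of B)
  exact H9Hens.isSepClosed_of_ringEquiv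
    (IsLocalization.algEquiv (nonZeroDivisors B) L (Spec (CommRingCat.of B)).functionField).toRingEquiv

/-- Every affine scheme has an integral surjective cover whose closed subschemes have no higher
cohomology with finite constant coefficients. -/
theorem exists_integral_cover_vanishing (X : Scheme.{u}) [IsAffine X] :
    ∃ (X' : Scheme.{u}) (π : X' ⟶ X) (_ : IsIntegralHom π) (_ : Surjective π),
      ∀ (Z' : Scheme.{u}) (i : Z' ⟶ X') (_ : IsClosedImmersion i)
        (M : Type) (_ : AddCommGroup M) (_ : Finite M) (q : ℕ), 1 ≤ q →
        Subsingleton (EtCoh.H Z' (EtCoh.const Z' M) q) := by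
  let A := Γ(X, ⊤)
  haveI : IsDomain (ULift.{u} ℤ) := ULift.ringEquiv.toMulEquiv.isDomain ℤ
  let P : Type u := MvPolynomial A (ULift.{u} ℤ)
  let L := AlgebraicClosure (FractionRing P)
  let B := integralClosure P L
  haveI : Algebra.IsAlgebraic P (FractionRing P) := IsLocalization.isAlgebraic (FractionRing P) (nonZeroDivisors P)
  haveI : Algebra.IsAlgebraic P L := Algebra.IsAlgebraic.trans P (FractionRing P) L
  have hinj : Function.Injective (algebraMap P L) := by
    rw [IsScalarTower.algebraMap_eq P (FractionRing P) L]
    exact (algebraMap (FractionRing P) L).injective.comp (IsFractionRing.injective P (FractionRing P))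
  haveI : IsFractionRing B L :=
    integralClosure.isFractionRing_of_algebraic fun x hx => hinj (hx.trans (map_zero _).symm)
  haveI : IsIntegrallyClosed B := (isIntegrallyClosed_iff L).2 fun {x} hx =>
    ⟨⟨x, isIntegral_trans x hx⟩, rfl⟩
  let Y : Scheme.{u} := Spec (CommRingCat.of B)
  haveI : IsSepClosed Y.functionField := isSepClosed_functionField B L
  have hN : ∀ y : Y, IsIntegrallyClosed (Y.presheaf.stalk y) := fun y => by
    show IsIntegrallyClosed ((Spec.structureSheaf B).presheaf.stalk (y : PrimeSpectrum B))
    exact isIntegrallyClosed_of_isLocalization _ (PrimeSpectrum.asIdeal y).primeCompl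
      (PrimeSpectrum.asIdeal y).primeCompl_le_nonZeroDivisors
  let φ : P →+* A := MvPolynomial.eval₂Hom ((Int.castRingHom A).comp ULift.ringEquiv.toRingHom) id
  have hφ : Function.Surjective φ := fun a => ⟨MvPolynomial.X a, MvPolynomial.eval₂Hom_X' _ _ a⟩
  let j : X ⟶ Spec (CommRingCat.of P) := X.isoSpec.hom ≫ Spec.map (CommRingCat.ofHom φ)
  haveI : IsClosedImmersion (Spec.map (CommRingCat.ofHom φ)) := IsClosedImmersion.spec_of_surjective _ hφ
  haveI : IsClosedImmersion j := inferInstance
  let p : Y ⟶ Spec (CommRingCat.of P) := Spec.map (CommRingCat.ofHom (algebraMap P B))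
  haveI : IsIntegralHom p := IsIntegralHom.SpecMap_iff.2
    (show (algebraMap P B).IsIntegral from fun x => Algebra.IsIntegral.isIntegral x)
  haveI : FaithfulSMul P B := (faithfulSMul_iff_algebraMap_injective _ _).2 fun a b h =>
    hinj (congrArg (fun z : B => (z : L)) h)
  haveI : Surjective p := ⟨fun y => Algebra.IsIntegral.comap_surjective P B y⟩
  refine ⟨pullback j p, pullback.fst j p, MorphismProperty.pullback_fst (P := @IsIntegralHom) _ _ ‹_›,
    MorphismProperty.pullback_fst (P := @Surjective) _ _ ‹_›, fun Z' i hi M _ _ q hq => ?_⟩
  haveI : IsClosedImmersion (pullback.snd j p) := MorphismProperty.pullback_snd (P := @IsClosedImmersion) _ _ ‹_›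
  exact S0091.result hN (i ≫ pullback.snd j p) M q hq

end Groth.Agent.H1DFun
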