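import Groth.Agent.H1DFun.ZFlasque
import Groth.Agent.H18Et.ConstSheaf
import Groth.Agent.H18Gal.NormalSepClosed
import Groth.Agent.H12AlgSp.EtLocalRing
import Groth.Agent.H17.Spreading
import Groth.Agent.H18Et.Henselian
import Groth.Agent.H18Et.TopInvariance
import Mathlib.AlgebraicGeometry.FunctionField

/-!
# Constant sheaves on locally irreducible schemes are flasque on opens
-/

set_option autoImplicit false
set_option backward.isDefEq.respectTransparency false
set_option backward.isDefEq.respectTransparency.types false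

universe u

open CategoryTheory CategoryTheory.Limits AlgebraicGeometry Opposite TopologicalSpace
open Groth.Agent.H18Et

namespace Groth.Agent.H1DFun

theorem zflasque_const {S : Scheme.{u}} (hirr : ∀ x : S, ∃ U : S.Opens, x ∈ U ∧ IsPreirreducible (U : Set S))
    (M : Type) [AddCommGroup M] : ZFlasque (EtCoh.const S M) := by
  refine zflasque_of_local _ fun x => ?_
  obtain ⟨U, hxU, hU⟩ := hirr x
  refine ⟨U, hxU, fun W V h hW s => ?_⟩
  by_cases hV : ∃ y, y ∈ V
  · obtain ⟨y, hy⟩ := hV
    haveI : PreirreducibleSpace ↥V :=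
      Subtype.preirreducibleSpace (hU.open_subset V.isOpen (fun z hz => hW (h hz)))
    haveI : PreconnectedSpace ↥((EtZar.zarToEt S).obj V).left :=
      inferInstanceAs (PreconnectedSpace ↥V)
    have hc := ConstSheaf.isConstant_unitTop (X := S) (AddCommGrpCat.of (ULift.{u + 1} M))
    obtain ⟨m, hm⟩ := ConstSheaf.exists_mem_locus hc (U := (EtZar.zarToEt S).obj V) s (⟨y, hy⟩ : V)
    have he := (ConstSheaf.isClopen_locus hc (U := (EtZar.zarToEt S).obj V) s m).eq_univ ⟨_, hm⟩
    refine ⟨ConstSheaf.rest (EtCoh.const S M) _ (ConstSheaf.unitTop _ m), ?_⟩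
    refine (ConstSheaf.map_rest (EtCoh.const S M) _ _).trans ?_
    exact (ConstSheaf.eq_rest hc s m (fun z => he.symm ▸ Set.mem_univ z)).symm
  · refine ⟨0, zext _ (fun i : PEmpty.{u + 1} => V) (fun i => i.elim) (fun z hz => (hV ⟨z, hz⟩).elim) _ _
      fun i => i.elim⟩

theorem exists_nhd_lift_of_stalk' {X P : Scheme.{u}} (p : P ⟶ X) [LocallyOfFinitePresentation p] (w : X)
    (l : Spec (X.presheaf.stalk w) ⟶ P) (hl : l ≫ p = X.fromSpecStalk w) :
    ∃ (U : X.Opens) (hw : w ∈ U) (f : (U : Scheme.{u}) ⟶ P),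
      f ≫ p = U.ι ∧ l (IsLocalRing.closedPoint _) = f ⟨w, hw⟩ := by
  let φ := Scheme.stalkClosedPointTo l
  have e : (𝟙 X : X ⟶ X) w = p (l (IsLocalRing.closedPoint _)) := by
    have h1 := congr($hl (IsLocalRing.closedPoint (X.presheaf.stalk w)))
    rw [Scheme.Hom.comp_apply, Scheme.fromSpecStalk_closedPoint] at h1
    exact h1.symm
  obtain ⟨U, hwU, f, hφ, hf⟩ := H17.spread_out (𝟙 X) p e φ (by
    apply Spec.map_injective
    rw [← cancel_mono (X.fromSpecStalk _), Spec.map_comp, Category.assoc,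
      Scheme.SpecMap_stalkMap_fromSpecStalk, Scheme.Spec_stalkClosedPointTo_fromSpecStalk_assoc, hl,
      Spec.map_comp, Category.assoc, Scheme.SpecMap_stalkSpecializes_fromSpecStalk,
      Scheme.SpecMap_stalkMap_fromSpecStalk, Category.comp_id])
  refine ⟨U, hwU, f, hf.trans (Category.comp_id _), ?_⟩
  rw [show l = U.fromSpecStalkOfMem w hwU ≫ f from
    (Scheme.Spec_stalkClosedPointTo_fromSpecStalk l).symm.trans hφ, Scheme.Hom.comp_apply]
  refine congrArg (fun z => f z) (Subtype.ext ?_)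
  show U.ι (U.fromSpecStalkOfMem w hwU _) = w
  rw [← Scheme.Hom.comp_apply, Scheme.Opens.fromSpecStalkOfMem_ι, Scheme.fromSpecStalk_closedPoint]

theorem exists_open_iso_of_etale {X W : Scheme.{u}}
    (hX : ∀ x : X, EtCoh.IsStrictlyHenselianLocalRing (X.presheaf.stalk x)) (j : W ⟶ X) [Etale j] (v : W) :
    ∃ (U : X.Opens) (σ : U.toScheme ⟶ W) (_ : IsOpenImmersion σ), v ∈ σ.opensRange := by
  let V : X.Etale := MorphismProperty.Over.mk ⊤ j (inferInstance : Etale j)
  obtain ⟨s, hs⟩ : ∃ s : X, s = j v := ⟨_, rfl⟩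
  haveI := hX
  obtain ⟨_, hk⟩ := hX (j v)
  let R := X.presheaf.stalk (j v)
  obtain ⟨l, hl, hlv⟩ := Scheme.exists_fac_of_etale_of_isSepClosed j
    (H18Et.closedGeomPt R ≫ X.fromSpecStalk (j v)) v (by
      haveI : IsLocalHom (CommRingCat.ofHom (IsLocalRing.residue R)).hom :=
        inferInstanceAs (IsLocalHom (IsLocalRing.residue R))
      rw [Scheme.Hom.comp_apply, Subsingleton.elim (α := ↥(Spec (CommRingCat.of (IsLocalRing.ResidueField R))))
        default (IsLocalRing.closedPoint (IsLocalRing.ResidueField R))]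
      erw [Spec_closedPoint]
      exact Scheme.fromSpecStalk_closedPoint.symm)
  obtain ⟨σ₀, hσ₀, hσl⟩ := H18Et.exists_section_of_etale R (pullback.snd j (X.fromSpecStalk (j v)))
    (pullback.lift l (H18Et.closedGeomPt R) hl) (pullback.lift_snd _ _ _)
  let g₀ : Spec (CommRingCat.of R) ⟶ W := σ₀ ≫ pullback.fst j (X.fromSpecStalk (j v))
  obtain ⟨U, hU, σ, hσj, hσg⟩ := exists_nhd_lift_of_stalk' j (j v) g₀ (by
    rw [Category.assoc, pullback.condition, ← Category.assoc]
    exact (congrArg (· ≫ X.fromSpecStalk (j v)) hσ₀).trans (Category.id_comp _))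
  haveI : IsOpenImmersion (σ ≫ j) := hσj.symm ▸ inferInstance
  haveI : Etale (σ ≫ j) := inferInstance
  haveI : Etale σ := Etale.of_comp σ j
  haveI : Mono σ := mono_of_mono σ j
  haveI := TopInv.isOpenImmersion_of_etale_of_universallyInjective σ
  refine ⟨U, σ, inferInstance, ⟨⟨j v, hU⟩, ?_⟩⟩
  rw [← hσg, Scheme.Hom.comp_apply]
  have h1 : σ₀ (IsLocalRing.closedPoint R) =
      pullback.lift l (H18Et.closedGeomPt R) hl (default : Spec (CommRingCat.of (IsLocalRing.ResidueField R))) := by
    rw [← hσl, Scheme.Hom.comp_apply]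
    refine congrArg (fun z => σ₀ z) ?_
    haveI : IsLocalHom (CommRingCat.ofHom (IsLocalRing.residue R)).hom :=
      inferInstanceAs (IsLocalHom (IsLocalRing.residue R))
    rw [Subsingleton.elim (α := ↥(Spec (CommRingCat.of (IsLocalRing.ResidueField R))))
      default (IsLocalRing.closedPoint (IsLocalRing.ResidueField R))]
    exact Spec_closedPoint.symm
  refine (congrArg (fun z => pullback.fst j (X.fromSpecStalk (j v)) z) h1).trans ?_
  rw [← Scheme.Hom.comp_apply, pullback.lift_fst]
  exact hlv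

end Groth.Agent.H1DFun
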