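import Groth.Agent.H1DFun.LimSys
import Groth.Agent.H18Et.PushClosed

/-!
# Classes over the whole scheme
-/

set_option autoImplicit false
set_option backward.isDefEq.respectTransparency false
set_option backward.isDefEq.respectTransparency.types false

universe u

open CategoryTheory CategoryTheory.Limits AlgebraicGeometry Opposite
open Groth.Agent.H18Et Groth.Agent.H1Lim

namespace Groth.Agent.H1DFun

attribute [local instance] Groth.Agent.H18Et.pull_preservesFiniteLimits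

variable {X Y Z : Scheme.{u}}

theorem hpull_via (f : X ⟶ Y) (g : Y ⟶ Z) (h : X ⟶ Z) (w : f ≫ g = h) (A : EtCoh.Ab Z) (n : ℕ)
    (x : Sheaf.H A n) :
    Sheaf.H.map ((viaIso f g h w).app A).hom n (hpull f _ n (hpull g A n x)) = hpull h A n x := by
  subst w
  have h2 : hpull f _ n (hpull g A n x) =
      Sheaf.H.map ((EtCore.pullComp f g).hom.app A) n (hpull (f ≫ g) A n x) :=
    H26EtPull.Hpull_comp f g A n x
  rw [h2, ← H_map_comp₀]
  refine (congrArg (fun k => Sheaf.H.map k n (hpull (f ≫ g) A n x)) ?_).trans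
    (by rw [Sheaf.H.map_apply, Abelian.Ext.comp_mk₀_id])
  show (EtCore.pullComp f g).hom.app A ≫ (EtCore.pullComp f g).inv.app A ≫ (EtCore.pullCongr rfl).hom.app A = _
  rw [← Category.assoc]
  exact (congrArg (· ≫ _) ((EtCore.pullComp f g).hom_inv_id_app A)).trans ((Category.id_comp _).trans (by simp [EtCore.pullCongr]))

/-- Classes of the whole scheme as classes along a map. -/
noncomputable def topC {V : Scheme.{u}} (A : EtCoh.Ab Z) (q : ℕ) (b : V ⟶ Z) :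
    Sheaf.H A q →+ CL A q b :=
  hpull b A q

theorem cR_topC {V V' : Scheme.{u}} (A : EtCoh.Ab Z) (q : ℕ) (a : V' ⟶ Z) (p : V ⟶ V') (b : V ⟶ Z) (w : p ≫ a = b)
    (x : Sheaf.H A q) : cR A q p w (topC A q a x) = topC A q b x :=
  (HpullVia_def p a b w A q _).trans (hpull_via p a b w A q x)

theorem cT_topC {T T' V : Scheme.{u}} {F : EtCoh.Ab T} {F' : EtCoh.Ab T'} (u : T' ⟶ T)
    (γ : (EtCoh.pull u).obj F ⟶ F') (q : ℕ) (b : V ⟶ T') (c : V ⟶ T) (hc : b ≫ u = c) (x : Sheaf.H F q) :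
    cT u γ q b c hc (topC F q c x) = topC F' q b (Sheaf.H.map γ q (hpull u F q x)) := by
  rw [cT_apply]
  refine Eq.trans ?_ (Hpull_map b γ q _).symm
  refine congrArg (cM γ q b) ?_
  apply H_map_injective ((viaIso b u c hc).app F) q
  refine (H_map_inv_hom ((viaIso b u c hc).app F) q _).trans ?_
  exact (hpull_via b u c hc F q x).symm

theorem topC_id_bijective (A : EtCoh.Ab Z) (q : ℕ) : Function.Bijective (topC A q (𝟙 Z)) := by
  haveI : IsIso ((EtCoh.pullPushAdj (𝟙 Z)).unit.app A) := by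
    refine H18Et.isIso_of_stalk _ fun z => ⟨_, inferInstance, SeparableClosure.isSepClosed _,
      geomPt z ≫ 𝟙 Z, ?_, bijective_stalk_unit (liftsEtaleUniv_of_isClosedImmersion (𝟙 Z)) A (geomPt z)⟩
    rw [Category.comp_id, geomPt_base]
  refine (congrArg Function.Bijective (funext fun x => ?_)).mp
    (hpull_map_bijective (𝟙 Z) ((EtCoh.pullPushAdj (𝟙 Z)).unit.app A) q)
  rw [(EtCoh.pullPushAdj (𝟙 Z)).left_triangle_components A, Sheaf.H.map_apply]
  exact Abelian.Ext.comp_mk₀_id _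

section

variable {ι : Type u} [Preorder ι] (Ts : ιᵒᵖ ⥤ Scheme.{u}) (cT₀ : Cone Ts)
  (F : ∀ i : ι, EtCoh.Ab (Ts.obj (op i)))
  (φ : ∀ ⦃i j : ι⦄ (hij : i ≤ j), (EtCoh.pull (Ts.map (homOfLE hij).op)).obj (F i) ⟶ F j)
  (G : ι ⥤ EtCoh.Ab cT₀.pt) (ψ : ∀ i : ι, (EtCoh.pull (cT₀.π.app (op i))).obj (F i) ≅ G.obj i) (q : ℕ)

theorem toLim_topC (j : ι) (h : cT₀.π.app (op j) ≫ 𝟙 (Ts.obj (op j)) = 𝟙 cT₀.pt ≫ cT₀.π.app (op j))
    (x : Sheaf.H (F j) q) :
    toLim Ts cT₀ F G ψ q j (𝟙 (Ts.obj (op j))) (cT₀.π.app (op j)) (𝟙 cT₀.pt) h (topC (F j) q (𝟙 _) x) =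
      topC (colimit G) q (𝟙 cT₀.pt)
        (Sheaf.H.map ((ψ j).hom ≫ colimit.ι G j) q (hpull (cT₀.π.app (op j)) (F j) q x)) := by
  rw [toLim, AddMonoidHom.comp_apply, cR_topC, cT_topC]
  rfl

theorem toStage_topC {k l : ι} (hkl : k ≤ l)
    (h : Ts.map (homOfLE hkl).op ≫ 𝟙 (Ts.obj (op k)) = 𝟙 (Ts.obj (op l)) ≫ Ts.map (homOfLE hkl).op)
    (x : Sheaf.H (F k) q) :
    toStage Ts F φ q hkl (𝟙 (Ts.obj (op k))) (𝟙 (Ts.obj (op l))) (Ts.map (homOfLE hkl).op) h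
        (topC (F k) q (𝟙 _) x) =
      topC (F l) q (𝟙 _) (Sheaf.H.map (φ hkl) q (hpull (Ts.map (homOfLE hkl).op) (F k) q x)) := by
  rw [toStage, AddMonoidHom.comp_apply, cR_topC, cT_topC]

theorem HpullThen_eq {A B : Scheme.{u}} (f : A ⟶ B) [PreservesFiniteLimits (EtCoh.pull f)] (M : EtCoh.Ab B)
    {N : EtCoh.Ab A} (α : (EtCoh.pull f).obj M ⟶ N) (x : Sheaf.H M q) :
    EtLim.HpullThen f M α q x = Sheaf.H.map α q (hpull f M q x) :=
  congrArg (Sheaf.H.map α q) (hpull_def f M q x).symm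

end

end Groth.Agent.H1DFun
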