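import Groth.Agent.H1DFun.ClosedPair
import Groth.Agent.H1DFun.ConstFlasque
import Groth.Agent.H1DFun.LimTop
import Groth.Agent.H1Lim.ConstSys
import Groth.Agent.H12AlgSp.LimitQuotient
import Groth.Agent.H12AlgSp.EtLocalRing
import Groth.Agent.H9Hens.BranchNormal
import Groth.Agent.H18Et.TopInvSheaf
import Groth.Agent.H18Et.TopInvLocal

/-!
# Vanishing of the cohomology of constant sheaves on closed subschemes, by dévissage
-/

set_option autoImplicit false
set_option backward.isDefEq.respectTransparency false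
set_option backward.isDefEq.respectTransparency.types false

universe u

open CategoryTheory CategoryTheory.Limits AlgebraicGeometry Opposite
open Groth.Agent.H18Et Groth.Agent.H1Lim

namespace Groth.Agent.H1DFun

attribute [local instance] Groth.Agent.H18Et.pull_preservesFiniteLimits

/-- A local quotient of a strictly henselian local ring is strictly henselian. -/
theorem strictlyHenselian_of_surjective {R S : Type u} [CommRing R] [CommRing S] [IsLocalRing S]
    (φ : R →+* S) (hφ : Function.Surjective φ) (h : EtCoh.IsStrictlyHenselianLocalRing R) :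
    EtCoh.IsStrictlyHenselianLocalRing S := by
  obtain ⟨hh, hk⟩ := h
  let e := RingHom.quotientKerEquivOfSurjective hφ
  haveI : IsLocalRing (R ⧸ RingHom.ker φ) := e.symm.isLocalRing
  haveI hq : HenselianLocalRing (R ⧸ RingHom.ker φ) := H9Hens.henselianLocalRing_quotient _
  haveI : IsLocalHom (Ideal.Quotient.mk (RingHom.ker φ)) :=
    IsLocalHom.of_surjective _ Ideal.Quotient.mk_surjective
  refine H12AlgSp.isStrictlyHenselianLocalRing_of_ringEquiv e
    ⟨hq, H9Hens.isSepClosed_of_ringEquiv (RingEquiv.ofBijective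
      (IsLocalRing.ResidueField.map (Ideal.Quotient.mk (RingHom.ker φ))) ⟨RingHom.injective _, ?_⟩)⟩
  intro z
  obtain ⟨z, rfl⟩ := IsLocalRing.residue_surjective z
  obtain ⟨z, rfl⟩ := Ideal.Quotient.mk_surjective z
  exact ⟨IsLocalRing.residue R z, IsLocalRing.ResidueField.map_residue _ _⟩

theorem subsingleton_H_pull_const {V Z : Scheme.{u}} (f : V ⟶ Z) (M : Type) [AddCommGroup M] (q : ℕ)
    (h : Subsingleton (EtCoh.H V (EtCoh.const V M) q)) :
    Subsingleton (Sheaf.H ((EtCoh.pull f).obj (EtCoh.const Z M)) q) :=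
  ⟨fun a b => H_map_injective (EtCore.pullConst f M) q (h.elim _ _)⟩

theorem hpullVia_eq {X Y Z : Scheme.{u}} (f : X ⟶ Y) (g : Y ⟶ Z) (h : X ⟶ Z) (w : f ≫ g = h)
    (A : EtCoh.Ab Z) (n : ℕ) (x : Sheaf.H A n) :
    EtCore.HpullVia f g h w A n (hpull g A n x) = hpull h A n x :=
  (HpullVia_def f g h w A n _).trans (hpull_via f g h w A n x)

theorem hpull_eq_zero_of_comp {X Y Z : Scheme.{u}} (f : X ⟶ Y) (g : Y ⟶ Z) (h : X ⟶ Z) (w : f ≫ g = h)
    (A : EtCoh.Ab Z) (n : ℕ) (x : Sheaf.H A n) (hx : hpull f _ n (hpull g A n x) = 0) :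
    hpull h A n x = 0 :=
  (hpull_via f g h w A n x).symm.trans ((congrArg _ hx).trans (map_zero _))

theorem injective_hpull_of_iso {V Z : Scheme.{u}} (f : V ⟶ Z) [IsIso f] (A : EtCoh.Ab Z) (n : ℕ) :
    Function.Injective (hpull f A n) := by
  haveI : IsIntegralHom f := inferInstance
  haveI : UniversallyInjective f := inferInstance
  haveI : Surjective f := inferInstance
  haveI := TopInvLocal.bc_isEquivalence f
  exact (TopInvSheaf.bijective_Hpull f A n).1

section Zorn

variable {R : CommRingCat.{u}} {Z : Scheme.{u}} (t : Spec R ⟶ Z)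

/-- The closed subscheme of an ideal. -/
noncomputable def quotTo (J : Ideal R) : Spec (CommRingCat.of (R ⧸ J)) ⟶ Z :=
  (H12AlgSp.quotOver J).hom ≫ t

theorem quotTo_map {I J : Ideal R} (h : I ≤ J) :
    (H12AlgSp.quotMapOver h).left ≫ quotTo t I = quotTo t J :=
  (Category.assoc _ _ _).symm.trans (congrArg (· ≫ t) (Over.w (H12AlgSp.quotMapOver h)))

/-- Vanishing on the limit of a chain of closed subschemes happens at a finite stage. -/
theorem exists_vanish_of_iSup {ι : Type u} [Preorder ι] [IsDirected ι (· ≤ ·)] [Nonempty ι]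
    (c : ι → Ideal R) (hc : Monotone c) (G : EtCoh.Ab Z) (n : ℕ) (ξ : Sheaf.H G n)
    (h : hpull (quotTo t (⨆ i, c i)) G n ξ = 0) : ∃ i, hpull (quotTo t (c i)) G n ξ = 0 := by
  haveI : IsFiltered ι := inferInstance
  haveI : IsCofiltered ιᵒᵖ := inferInstance
  haveI : IsConnected ιᵒᵖ := IsCofiltered.isConnected _
  let D : ιᵒᵖ ⥤ Scheme.{u} := H12AlgSp.quotSystem c hc ⋙ Over.forget (Spec R)
  let cn : Cone D := (Over.forget (Spec R)).mapCone (H12AlgSp.quotCone c hc)
  have hcn : IsLimit cn := isLimitOfPreserves _ (H12AlgSp.isLimitQuotCone c hc)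
  haveI : ∀ i, IsAffine (D.obj i) := fun i => inferInstanceAs (IsAffine (Spec _))
  haveI : ∀ ⦃a b : ιᵒᵖ⦄ (f : a ⟶ b), IsAffineHom (D.map f) := fun a b f => inferInstance
  haveI : ∀ a, CompactSpace ↥(D.obj a) := fun a => inferInstanceAs (CompactSpace ↥(Spec _))
  haveI : ∀ a, QuasiSeparatedSpace ↥(D.obj a) := fun a => inferInstanceAs (QuasiSeparatedSpace ↥(Spec _))
  obtain ⟨i⟩ := ‹Nonempty ι›
  have key := constSys_surj_inj (D := D) (fun k => quotTo t (c k.unop))
    (fun i k a => quotTo_map t (hc a.unop.le)) G cn (quotTo t (⨆ i, c i))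
    (fun k => quotTo_map t (le_iSup c k.unop)) hcn n
  obtain ⟨k, a, hk⟩ := key.2 (op i) (hpull (quotTo t (c i)) G n ξ)
    ((hpullVia_eq _ _ _ _ G n ξ).trans h)
  exact ⟨k.unop, hpull_eq_zero_of_comp (D.map a) (quotTo t (c i)) (quotTo t (c k.unop))
    (quotTo_map t (hc a.unop.le)) G n ξ hk⟩

/-- A maximal closed subscheme on which a class does not vanish. -/
theorem exists_maximal_nonvanish (G : EtCoh.Ab Z) (n : ℕ) (ξ : Sheaf.H G n)
    (h₀ : hpull (quotTo t ⊥) G n ξ ≠ 0) :
    ∃ J : Ideal R, Maximal (fun J => hpull (quotTo t J) G n ξ ≠ 0) J := by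
  refine (zorn_le_nonempty₀ {J : Ideal R | hpull (quotTo t J) G n ξ ≠ 0}
    (fun s hs hchain y hy => ?_) ⊥ h₀).imp fun J hJ => hJ.2
  haveI : Nonempty s := ⟨⟨y, hy⟩⟩
  haveI : IsDirected s (· ≤ ·) := ⟨fun a b => let ⟨c, hc, h1, h2⟩ := hchain.directedOn a a.2 b b.2; ⟨⟨c, hc⟩, h1, h2⟩⟩
  refine ⟨⨆ j : s, (j : Ideal R), fun h0 => ?_, fun j hj => le_iSup (fun j : s => (j : Ideal R)) ⟨j, hj⟩⟩
  obtain ⟨j, hj⟩ := exists_vanish_of_iSup t (fun j : s => (j : Ideal R)) (fun a b h => h) G n ξ h0
  exact hs j.2 hj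

theorem isClosedImmersion_quotMap [IsClosedImmersion t] {I J : Ideal R} (h : I ≤ J) :
    IsClosedImmersion (H12AlgSp.quotMapOver h).left := by
  haveI : IsClosedImmersion (quotTo t J) := by unfold quotTo; infer_instance
  haveI : IsClosedImmersion (quotTo t I) := by unfold quotTo; infer_instance
  haveI : IsClosedImmersion ((H12AlgSp.quotMapOver h).left ≫ quotTo t I) := (quotTo_map t h).symm ▸ inferInstance
  exact IsClosedImmersion.of_comp _ (quotTo t I)

omit t in
theorem le_asIdeal_quotOver {I : Ideal R} (z : (H12AlgSp.quotOver I).left) :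
    I ≤ ((H12AlgSp.quotOver I).hom z).asIdeal := fun x hx => by
  show Ideal.Quotient.mk I x ∈ (z : PrimeSpectrum (R ⧸ I)).asIdeal
  rw [Ideal.Quotient.eq_zero_iff_mem.2 hx]
  exact Ideal.zero_mem _

omit t in
theorem mem_range_quotMap {I J : Ideal R} (h : I ≤ J) (z : (H12AlgSp.quotOver I).left) :
    z ∈ Set.range (H12AlgSp.quotMapOver h).left ↔ J ≤ ((H12AlgSp.quotOver I).hom z).asIdeal := by
  have e : ∀ w, (H12AlgSp.quotOver I).hom ((H12AlgSp.quotMapOver h).left w) = (H12AlgSp.quotOver J).hom w :=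
    fun w => (Scheme.Hom.comp_apply _ _ w).symm.trans
      (congrArg (fun m => m w) (Over.w (H12AlgSp.quotMapOver h)))
  constructor
  · rintro ⟨w, rfl⟩
    rw [e]
    exact le_asIdeal_quotOver w
  · intro hz
    have : (H12AlgSp.quotOver I).hom z ∈ Set.range (H12AlgSp.quotOver J).hom := by
      have hr := range_comap_of_surjective (R ⧸ J) (Ideal.Quotient.mk J) Ideal.Quotient.mk_surjective
      rw [Ideal.mk_ker] at hr
      exact hr.symm ▸ hz
    obtain ⟨w, hw⟩ := this
    exact ⟨w, (H12AlgSp.quotOver I).hom.isClosedEmbedding.injective ((e w).trans hw)⟩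

end Zorn

/-- On closed subschemes of an affine scheme with strictly henselian local rings, vanishing in degree
one implies vanishing in all positive degrees. -/
theorem subsingleton_H_const_of_H1 {X : Scheme.{u}} [IsAffine X]
    (hX : ∀ x : X, EtCoh.IsStrictlyHenselianLocalRing (X.presheaf.stalk x)) (M : Type) [AddCommGroup M]
    (h1 : ∀ {Z : Scheme.{u}} (i : Z ⟶ X) [IsClosedImmersion i], Subsingleton (EtCoh.H Z (EtCoh.const Z M) 1))
    (q : ℕ) : ∀ {Z : Scheme.{u}} (i : Z ⟶ X) [IsClosedImmersion i],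
      Subsingleton (EtCoh.H Z (EtCoh.const Z M) (q + 1)) := by
  induction q with
  | zero => exact fun i _ => h1 i
  | succ q ih =>
    intro Z i _
    haveI : IsAffine Z := isAffine_of_isAffineHom i
    let G := EtCoh.const Z M
    let R := Γ(Z, ⊤)
    let t : Spec R ⟶ Z := Z.isoSpec.inv
    haveI : ∀ J : Ideal R, IsClosedImmersion (quotTo t J) := fun J => by
      unfold quotTo; infer_instance
    refine subsingleton_of_forall_eq 0 fun (ξ : Sheaf.H G (q + 1 + 1)) => by_contra fun hξ => ?_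
    obtain ⟨J, hJ⟩ := exists_maximal_nonvanish t G _ ξ fun h => by
      haveI : IsIso (quotTo t (⊥ : Ideal R)) := by
        unfold quotTo
        haveI : IsIso (H12AlgSp.quotOver (⊥ : Ideal R)).hom := by
          show IsIso (Spec.map _)
          haveI : IsIso (CommRingCat.ofHom (Ideal.Quotient.mk (⊥ : Ideal R))) :=
            (RingEquiv.toCommRingCatIso (RingEquiv.quotientBot R).symm).isIso_hom
          infer_instance
        infer_instance
      exact hξ (injective_hpull_of_iso (quotTo t ⊥) G _ (h.trans (map_zero _).symm))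
    refine hJ.prop ?_
    let V : Scheme.{u} := Spec (CommRingCat.of (R ⧸ J))
    let j : V ⟶ Z := quotTo t J
    by_cases hp : J = ⊤ ∨ J.IsPrime
    · have hV : ∀ v : V, EtCoh.IsStrictlyHenselianLocalRing (V.presheaf.stalk v) := fun v =>
        strictlyHenselian_of_surjective ((j ≫ i).stalkMap v).hom ((j ≫ i).stalkMap_surjective v) (hX _)
      have hirr : IsPreirreducible (Set.univ : Set V) := by
        rcases hp with hp | hp
        · haveI : Subsingleton (R ⧸ J) := Submodule.Quotient.subsingleton_iff.2 hp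
          exact fun u v _ _ hx => isEmptyElim (α := PrimeSpectrum (R ⧸ J)) hx.choose
        · haveI : IsDomain (R ⧸ J) := Ideal.Quotient.isDomain J
          haveI : IrreducibleSpace (PrimeSpectrum (R ⧸ J)) := inferInstance
          exact (IrreducibleSpace.isIrreducible_univ (PrimeSpectrum (R ⧸ J))).2
      have := subsingleton_H_pull_const j M (q + 1 + 1) (subsingleton_H_of_zflasque hV _
        (zflasque_const (fun v => ⟨⊤, trivial, hirr⟩) M) (q + 1))
      exact this.elim _ _
    obtain ⟨a, ha, b, hb, hab⟩ :=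
      (Ideal.not_isPrime_iff.1 fun h => hp (Or.inr h)).resolve_left fun h => hp (Or.inl h)
    let J₁ := J ⊔ Ideal.span {a}
    let J₂ := J ⊔ Ideal.span {b}
    have hlt : ∀ c : R, c ∉ J → hpull (quotTo t (J ⊔ Ideal.span {c})) G _ ξ = 0 := fun c hc =>
      not_not.1 fun h => hc (hJ.2 h le_sup_left (Ideal.mem_sup_right (Ideal.mem_span_singleton_self c)))
    let i₁ := (H12AlgSp.quotMapOver (le_sup_left : J ≤ J₁)).left
    let i₂ := (H12AlgSp.quotMapOver (le_sup_left : J ≤ J₂)).left
    let k := (H12AlgSp.quotMapOver (le_sup_left.trans le_sup_left : J ≤ J₁ ⊔ J₂)).left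
    haveI : IsClosedImmersion i₁ := isClosedImmersion_quotMap t _
    haveI : IsClosedImmersion i₂ := isClosedImmersion_quotMap t _
    haveI : IsClosedImmersion k := isClosedImmersion_quotMap t _
    have hz : ∀ c : R, c ∉ J → ∀ e : J ≤ J ⊔ Ideal.span {c},
        hpull (H12AlgSp.quotMapOver e).left ((EtCoh.pull j).obj G) (q + 1 + 1) (hpull j G _ ξ) = 0 := fun c hc e => by
      refine H_map_injective ((viaIso _ j _ (quotTo_map t e)).app G) _ ?_
      exact ((hpull_via _ _ _ _ G _ ξ).trans (hlt c hc)).trans (map_zero _).symm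
    refine eq_zero_of_closed_pair i₁ i₂ k
      (H12AlgSp.quotMapOver (le_sup_left : J₁ ≤ J₁ ⊔ J₂)).left (congrArg (·.left) (Subsingleton.elim
        (H12AlgSp.quotMapOver (le_sup_left : J₁ ≤ J₁ ⊔ J₂) ≫ H12AlgSp.quotMapOver (le_sup_left : J ≤ J₁)) _))
      (H12AlgSp.quotMapOver (le_sup_right : J₂ ≤ J₁ ⊔ J₂)).left (congrArg (·.left) (Subsingleton.elim
        (H12AlgSp.quotMapOver (le_sup_right : J₂ ≤ J₁ ⊔ J₂) ≫ H12AlgSp.quotMapOver (le_sup_left : J ≤ J₂)) _))
      (fun z => ?_) (fun z hz => ?_) _ (q + 1) _ (hz a ha _) (hz b hb _) ?_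
    · have hab' := le_asIdeal_quotOver z hab
      rcases ((H12AlgSp.quotOver J).hom z).isPrime.mem_or_mem hab' with h | h
      · exact Or.inl ((mem_range_quotMap _ z).2 (sup_le (le_asIdeal_quotOver z)
          ((Ideal.span_singleton_le_iff_mem _).2 h)))
      · exact Or.inr ((mem_range_quotMap _ z).2 (sup_le (le_asIdeal_quotOver z)
          ((Ideal.span_singleton_le_iff_mem _).2 h)))
    · exact (mem_range_quotMap _ z).2 (sup_le ((mem_range_quotMap _ z).1 hz.1) ((mem_range_quotMap _ z).1 hz.2))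
    · have h := ih (k ≫ j ≫ i)
      exact ⟨fun x y => H_map_injective ((EtCoh.pull k).mapIso (EtCore.pullConst j M) ≪≫ EtCore.pullConst k M)
        _ (h.elim _ _)⟩

end Groth.Agent.H1DFun
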