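import Groth.Agent.H1DFun.BCDelta

/-!
# Effacing higher direct images by sheaves killed by an integer
-/

set_option autoImplicit false
set_option backward.isDefEq.respectTransparency false
set_option backward.isDefEq.respectTransparency.types false

universe u

open CategoryTheory CategoryTheory.Limits AlgebraicGeometry Opposite Abelian
open Groth.Agent.H18Et Groth.Agent.H1Lim

namespace Groth.Agent.H1DFun

attribute [local instance] Groth.Agent.H18Et.pull_preservesFiniteLimits

theorem mono_zsmul_free {X : Scheme.{u}} (W : X.Etale) (n : ℤ) (hn : n ≠ 0) :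
    Mono (n • 𝟙 ((FreeSheaf.free X).obj W)) := by
  let P := (FreeSheaf.freeP X).obj W
  haveI : ∀ V, Mono ((n • 𝟙 P).app V) := fun V => by
    rw [AddCommGrpCat.mono_iff_injective]
    intro (a : FreeAbelianGroup (((uliftYoneda.{u + 1}).obj W).obj V))
      (b : FreeAbelianGroup (((uliftYoneda.{u + 1}).obj W).obj V)) (hab : n • a = n • b)
    have h := congrArg (FreeAbelianGroup.equivFinsupp (((uliftYoneda.{u + 1}).obj W).obj V)) hab
    rw [map_zsmul, map_zsmul] at h
    exact (FreeAbelianGroup.equivFinsupp _).injective (smul_right_injective (_ →₀ ℤ) hn h)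
  haveI : Mono (n • 𝟙 P) := NatTrans.mono_of_mono_app _
  have h : Mono ((presheafToSheaf X.smallEtaleTopology AddCommGrpCat.{u + 1}).map (n • 𝟙 P)) := inferInstance
  rwa [Functor.map_zsmul, CategoryTheory.Functor.map_id] at h

variable {T S : Scheme.{u}}

/-- Sections of an injective sheaf are divisible. -/
theorem exists_sect_zsmul (J : EtCoh.Ab T) [Injective J] (n : ℤ) (hn : n ≠ 0) (W : T.Etale)
    (s : J.obj.obj (op W)) : ∃ t, (n • 𝟙 J : J ⟶ J).hom.app (op W) t = s := by
  haveI := mono_zsmul_free W n hn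
  let φ := (FreeSheaf.homEquiv W J).symm s
  refine ⟨FreeSheaf.homEquiv W J (Injective.factorThru φ (n • 𝟙 _)), ?_⟩
  rw [← FreeSheaf.homEquiv_comp, Preadditive.comp_zsmul, Category.comp_id]
  have h := Injective.comp_factorThru φ (n • 𝟙 ((FreeSheaf.free T).obj W))
  rw [Preadditive.zsmul_comp, Category.id_comp] at h
  rw [h]
  exact Equiv.apply_symm_apply _ _

variable (J : EtCoh.Ab T) [Injective J]

theorem subsingleton_CL_injective (W : T.Etale) (q : ℕ) : Subsingleton (CL J (q + 1) W.hom) := by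
  refine subsingleton_of_forall_eq 0 fun x => ?_
  obtain ⟨x₀, hx⟩ := (pb_self_bijective W J (q + 1)).2 x
  rw [Ext.eq_zero_of_injective x₀, map_zero] at hx
  exact hx.symm

theorem exists_CL_zero_zsmul (n : ℤ) (hn : n ≠ 0) (W : T.Etale) (x : CL J 0 W.hom) :
    ∃ y, cM (n • 𝟙 J : J ⟶ J) 0 W.hom y = x := by
  obtain ⟨x₀, rfl⟩ := (pb_self_bijective W J 0).2 x
  obtain ⟨φ, rfl⟩ := (Ext.mk₀_bijective _ _).2 x₀
  obtain ⟨t, ht⟩ := exists_sect_zsmul J n hn W (FreeSheaf.homEquiv W J φ)
  refine ⟨pb W.hom W (𝟙 _) (Category.id_comp _) J 0 (Ext.mk₀ ((FreeSheaf.homEquiv W J).symm t)), ?_⟩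
  refine (pb_naturality _ _ _ _ (n • 𝟙 J : J ⟶ J) 0 _).symm.trans (congrArg _ ?_)
  rw [Ext.mk₀_comp_mk₀]
  refine congrArg Ext.mk₀ ((FreeSheaf.homEquiv W J).injective ?_)
  rw [FreeSheaf.homEquiv_comp, Equiv.apply_symm_apply, ht]

omit [Injective J] in
theorem isZero_Rpush_of_subsingleton (g : T ⟶ S) (F : EtCoh.Ab T) (q : ℕ)
    (h : ∀ U : S.Etale, Subsingleton (C0 g F q U)) : IsZero ((EtCoh.Rpush g q).obj F) := by
  rw [H18Et.isZero_iff_stalk]
  intro Ω _ _ ξ
  refine @AddCommGrpCat.isZero_of_subsingleton _ (subsingleton_of_forall_eq 0 fun y => ?_)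
  obtain ⟨U, z, x, rfl⟩ := exists_toSect_germ g F q ξ y
  rw [@Subsingleton.elim _ (h U) x 0]
  exact (congrArg _ (map_zero (toSect g F q U))).trans (map_zero _)

omit [Injective J] in
/-- Sheaves killed by `n` embed into ones with no higher direct images. -/
theorem exists_efface {n : ℕ} {F : EtCoh.Ab T} (hF : EtCoh.KilledBy n F) :
    ∃ (G : EtCoh.Ab T) (ι : F ⟶ G), Mono ι ∧ EtCoh.KilledBy n G ∧
      ∀ (S : Scheme.{u}) (g : T ⟶ S) (q : ℕ), IsZero ((EtCoh.Rpush g (q + 1)).obj G) := by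
  let J := Injective.under F
  rcases Nat.eq_zero_or_pos n with rfl | hn
  · refine ⟨J, Injective.ι F, inferInstance, fun U s => zero_smul ℕ s, fun S g q => ?_⟩
    exact isZero_Rpush_of_subsingleton g J (q + 1) fun U => subsingleton_CL_injective J ((EtCoh.bc g).obj U) q
  have hn' : (n : ℤ) ≠ 0 := by exact_mod_cast hn.ne'
  let m : J ⟶ J := (n : ℤ) • 𝟙 J
  have hsec : ∀ (E : EtCoh.Ab T) (U : T.Etale) (s : E.obj.obj (op U)),
      ((n : ℤ) • 𝟙 E : E ⟶ E).hom.app (op U) s = n • s := fun E U s =>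
    (rfl : _ = (n : ℤ) • s).trans (natCast_zsmul s n)
  haveI : Epi m := by
    refine (H18Et.epi_iff_stalk m).2 fun Ω _ _ ξ => ?_
    rw [AddCommGrpCat.epi_iff_surjective]
    intro y
    obtain ⟨U, z, s, rfl⟩ := H18Et.germ_surjective ξ J y
    obtain ⟨t, rfl⟩ := exists_sect_zsmul J n hn' U s
    exact ⟨_, H18Et.germ_naturality ξ m U z t⟩
  have hι : Injective.ι F ≫ m = 0 := by
    rw [Preadditive.comp_zsmul, Category.comp_id]
    refine Sheaf.hom_ext (NatTrans.ext (funext fun U => ?_))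
    ext s
    show (n : ℤ) • (Injective.ι F).hom.app U s = 0
    rw [natCast_zsmul, ← map_nsmul, hF U.unop s, map_zero]
  let Sh : ShortComplex (EtCoh.Ab T) := ShortComplex.mk (kernel.ι m) m (kernel.condition m)
  have hSh : Sh.ShortExact :=
    { exact := ShortComplex.exact_of_f_is_kernel _ (kernelIsKernel m) }
  refine ⟨kernel m, kernel.lift m (Injective.ι F) hι, ?_, fun U s => ?_, fun S g q => ?_⟩
  · haveI : Mono (kernel.lift m (Injective.ι F) hι ≫ kernel.ι m) := by rw [kernel.lift_ι]; infer_instance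
    exact mono_of_mono _ (kernel.ι m)
  · haveI : Mono (((sheafToPresheaf T.smallEtaleTopology AddCommGrpCat.{u + 1}) ⋙
        (evaluation _ _).obj (op U)).map (kernel.ι m)) := inferInstance
    refine (AddCommGrpCat.mono_iff_injective _).1 this ?_
    show (kernel.ι m).hom.app (op U) (n • s) = (kernel.ι m).hom.app (op U) 0
    rw [map_nsmul, map_zero, ← hsec]
    exact ConcreteCategory.congr_hom (congrArg (fun k => k.hom.app (op U)) (kernel.condition m)) s
  · refine isZero_Rpush_of_subsingleton g (kernel m) (q + 1) fun U => subsingleton_of_forall_eq 0 fun x => ?_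
    obtain ⟨t, ht⟩ := exists_cD hSh _ x ((subsingleton_CL_injective J ((EtCoh.bc g).obj U) q).elim _ _)
    rw [← ht]
    cases q with
    | zero =>
      obtain ⟨y, rfl⟩ := exists_CL_zero_zsmul J n hn' ((EtCoh.bc g).obj U) t
      exact cD_cM hSh _ y
    | succ i =>
      exact (congrArg _ ((subsingleton_CL_injective J ((EtCoh.bc g).obj U) i).elim t 0)).trans (map_zero _)

end Groth.Agent.H1DFun
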