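import Groth.Agent.H9Et.LccRepresentable
import Groth.Agent.H18Et.Cons.ExtZeroConst
import Groth.Agent.H1DFun.Efface
import Groth.Agent.S6645
import Mathlib.AlgebraicGeometry.Morphisms.Finite

/-!
# Degree one classes when finite etale covers split
-/

set_option autoImplicit false
set_option backward.isDefEq.respectTransparency false
set_option backward.isDefEq.respectTransparency.types false

universe u

open CategoryTheory CategoryTheory.Limits AlgebraicGeometry Opposite Abelian

namespace Groth.Agent.H1DFun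

variable {Z : Scheme.{u}}

/-- An epimorphism of sheaves lifts sections near every point. -/
theorem exists_nbhd_lift {F G : EtCoh.Ab Z} (g : F ⟶ G) [Epi g] (U : Z.Etale) (s : G.obj.obj (op U)) (w : U.left) :
    ∃ (V : Z.Etale) (h : V ⟶ U) (v : V.left) (t : F.obj.obj (op V)),
      h.left v = w ∧ g.hom.app (op V) t = G.obj.map h.op s := by
  haveI : Sheaf.IsLocallySurjective g := (Sheaf.isLocallySurjective_iff_epi' (φ := g)).2 inferInstance
  have hmem := Presheaf.imageSieve_mem Z.smallEtaleTopology g.hom (U := op U) s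
  revert hmem
  generalize hR : Presheaf.imageSieve g.hom s = R
  intro hmem
  rw [show Z.smallEtaleTopology = (Z.smallPretopology (P := EtCoh.etaleMP) (Q := EtCoh.etaleMP)).toGrothendieck
    from Scheme.smallGrothendieckTopology_eq_toGrothendieck_smallPretopology Z le_rfl] at hmem
  obtain ⟨V, h, v, hh, -, hv⟩ := (Scheme.mem_toGrothendieck_smallPretopology _ _).1 hmem w
  rw [← hR] at hh
  obtain ⟨t, ht⟩ := hh
  exact ⟨V, h, v, t, hv, ht⟩

variable (hsec : ∀ (Y : Scheme.{u}) (p : Y ⟶ Z) [IsFinite p] [Etale p] [Surjective p], ∃ s : Z ⟶ Y, s ≫ p = 𝟙 Z)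

include hsec in
/-- Epimorphisms of finite locally constant sheaves are surjective on global sections. -/
theorem surjective_top_of_epi {E C : EtCoh.Ab Z} (hE : EtCoh.IsFiniteLocallyConstant E)
    (hC : EtCoh.IsFiniteLocallyConstant C) (q : E ⟶ C) [Epi q] :
    Function.Surjective (q.hom.app (op (EtCoh.top Z))) := by
  obtain ⟨UE, hUEf, ⟨α⟩⟩ := H9Et.LccRep.exists_representable_of_isFiniteLocallyConstant E hE
  obtain ⟨UC, hUCf, ⟨β⟩⟩ := H9Et.LccRep.exists_representable_of_isFiniteLocallyConstant C hC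
  let tE : E.obj.obj (op UE) := α.inv.app (op UE) ⟨𝟙 UE⟩
  let m : UE ⟶ UC := (β.hom.app (op UE) (q.hom.app (op UE) tE)).down
  -- values on points of `UE`
  have hval : ∀ (W : Z.Etale) (g : W ⟶ UE),
      (β.hom.app (op W) (q.hom.app (op W) (E.obj.map g.op tE))).down = g ≫ m := fun W g => by
    refine (congrArg ULift.down (congrArg (β.hom.app (op W)) (NatTrans.naturality_apply q.hom g.op tE))).trans ?_
    exact congrArg ULift.down (NatTrans.naturality_apply β.hom g.op (q.hom.app (op UE) tE))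
  have hrep : ∀ (W : Z.Etale) (e : E.obj.obj (op W)), ∃ g : W ⟶ UE, E.obj.map g.op tE = e := fun W e => by
    refine ⟨(α.hom.app (op W) e).down, ?_⟩
    have h := (NatTrans.naturality_apply α.inv ((α.hom.app (op W) e).down).op
      (show (yoneda.obj UE ⋙ uliftFunctor.{u + 1}).obj (op UE) from ⟨𝟙 UE⟩)).symm
    refine h.trans ?_
    have h2 : (yoneda.obj UE ⋙ uliftFunctor.{u + 1}).map ((α.hom.app (op W) e).down).op ⟨𝟙 UE⟩ =
        α.hom.app (op W) e := ULift.ext _ _ (by exact Category.comp_id ((α.hom.app (op W) e).down))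
    rw [h2]
    exact congrArg (fun k => k.app (op W) e) α.hom_inv_id
  haveI : Surjective m.left := by
    refine ⟨fun w => ?_⟩
    let tC : C.obj.obj (op UC) := β.inv.app (op UC) ⟨𝟙 UC⟩
    obtain ⟨V, h, v, t, hv, ht⟩ := exists_nbhd_lift q UC tC w
    obtain ⟨g, rfl⟩ := hrep V t
    have h1 : g ≫ m = h := by
      rw [← hval V g, ht]
      refine (congrArg ULift.down (NatTrans.naturality_apply β.hom h.op tC)).trans ?_
      rw [show β.hom.app (op UC) tC = ⟨𝟙 UC⟩ from congrArg (fun k : (yoneda.obj UC ⋙ uliftFunctor.{u + 1}) ⟶ (yoneda.obj UC ⋙ uliftFunctor.{u + 1}) =>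
        k.app (op UC) (ULift.up (𝟙 UC))) β.inv_hom_id]
      exact Category.comp_id h
    exact ⟨g.left v, by rw [← hv, ← h1]; rfl⟩
  haveI : Etale UC.hom := UC.prop
  haveI : Etale UE.hom := UE.prop
  haveI : IsFinite m.left := by
    haveI : IsFinite (m.left ≫ UC.hom) := by rw [MorphismProperty.Over.w m]; exact hUEf
    haveI := hUCf
    exact IsFinite.of_comp m.left UC.hom
  haveI : Etale m.left := by
    haveI : Etale (m.left ≫ UC.hom) := by rw [MorphismProperty.Over.w m]; infer_instance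
    exact Etale.of_comp m.left UC.hom
  intro c
  let g : EtCoh.top Z ⟶ UC := (β.hom.app (op (EtCoh.top Z)) c).down
  obtain ⟨s, hs⟩ := hsec _ (pullback.snd m.left g.left)
  let l : EtCoh.top Z ⟶ UE := MorphismProperty.Over.homMk (s ≫ pullback.fst m.left g.left) (by
    rw [← MorphismProperty.Over.w m]
    simp only [Category.assoc]
    rw [pullback.condition_assoc, MorphismProperty.Over.w g, ← Category.assoc, hs]
    exact Category.id_comp _) trivial
  have hl : l ≫ m = g := MorphismProperty.Over.Hom.ext (by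
    show (s ≫ pullback.fst m.left g.left) ≫ m.left = g.left
    rw [Category.assoc, pullback.condition, ← Category.assoc, hs, Category.id_comp])
  refine ⟨E.obj.map l.op tE, ?_⟩
  have hb : Function.Injective (β.hom.app (op (EtCoh.top Z))) :=
    Function.LeftInverse.injective (g := β.inv.app (op (EtCoh.top Z)))
      fun x => congrArg (fun k => k.app (op (EtCoh.top Z)) x) β.hom_inv_id
  exact hb (ULift.ext _ _ ((hval _ l).trans hl))

/-- Sections of a constant sheaf are killed by the order of the group. -/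
theorem killedBy_const (M : Type) [AddCommGroup M] (n : ℕ) (hn : ∀ x : M, n • x = 0) :
    n • (𝟙 (EtCoh.const Z M)) = 0 := by
  have h : n • (𝟙 (AddCommGrpCat.of (ULift.{u + 1} M))) = 0 := by
    ext x
    simp [hn]
  have h2 := congrArg (constantSheaf Z.smallEtaleTopology AddCommGrpCat.{u + 1}).map h
  rwa [Functor.map_nsmul, CategoryTheory.Functor.map_id, Functor.map_zero] at h2

theorem mk₀_nsmul {C : Type*} [Category C] [Abelian C] [HasExt.{u + 1} C] {A B : C} (n : ℕ) (f : A ⟶ B) :
    Ext.mk₀ (n • f) = n • Ext.mk₀ f := by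
  induction n with
  | zero => rw [zero_nsmul, zero_nsmul, Ext.mk₀_zero]
  | succ n ih => rw [succ_nsmul, succ_nsmul, Ext.mk₀_add, ih]

theorem comp_nsmul' {C : Type*} [Category C] [Abelian C] [HasExt.{u + 1} C] {A B D : C} {a b c : ℕ}
    (x : Ext A B a) (y : Ext B D b) (h : a + b = c) (n : ℕ) : x.comp (n • y) h = n • x.comp y h := by
  induction n with
  | zero => rw [zero_nsmul, zero_nsmul, Ext.comp_zero]
  | succ n ih => rw [succ_nsmul, succ_nsmul, Ext.comp_add, ih]

theorem nsmul_comp' {C : Type*} [Category C] [Abelian C] [HasExt.{u + 1} C] {A B D : C} {a b c : ℕ}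
    (x : Ext A B a) (y : Ext B D b) (h : a + b = c) (n : ℕ) : (n • x).comp y h = n • x.comp y h := by
  induction n with
  | zero => rw [zero_nsmul, zero_nsmul, Ext.zero_comp]
  | succ n ih => rw [succ_nsmul, succ_nsmul, Ext.add_comp, ih]

theorem exists_hom_const_zmod {F : EtCoh.Ab Z} (n : ℕ) (s : F.obj.obj (op (EtCoh.top Z))) (hs : n • s = 0) :
    ∃ (φ : EtCoh.const Z (ZMod n) ⟶ F) (one : (EtCoh.const Z (ZMod n)).obj.obj (op (EtCoh.top Z))),
      φ.hom.app (op (EtCoh.top Z)) one = s := by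
  let ψ : AddCommGrpCat.of (ULift.{u + 1} (ZMod n)) ⟶ (EtCore.gsec Z).obj F :=
    AddCommGrpCat.ofHom ((ZMod.lift n ⟨zmultiplesHom _ s, by
      rw [zmultiplesHom_apply, natCast_zsmul]; exact hs⟩).comp AddEquiv.ulift.toAddMonoidHom)
  refine ⟨((EtCore.constAdj Z).homEquiv _ _).symm ψ, (EtCore.constAdj Z).unit.app _ ⟨1⟩, ?_⟩
  have h := ((EtCore.constAdj Z).homEquiv _ _).apply_symm_apply ψ
  rw [Adjunction.homEquiv_unit] at h
  refine (ConcreteCategory.congr_hom h (ULift.up (1 : ZMod n))).trans ?_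
  simp only [ψ, AddCommGrpCat.hom_ofHom]
  refine (AddMonoidHom.comp_apply _ _ _).trans ?_
  rw [show AddEquiv.ulift.toAddMonoidHom (ULift.up (1 : ZMod n)) = (1 : ZMod n) from rfl, ← Int.cast_one]
  exact (ZMod.lift_coe n _ (1 : ℤ)).trans (one_zsmul s)

include hsec in
/-- Constant finite coefficients have no degree one classes when finite etale covers split. -/
theorem subsingleton_H1_const (M : Type) [AddCommGroup M] [Finite M] :
    Subsingleton (EtCoh.H Z (EtCoh.const Z M) 1) := by
  let F := EtCoh.const Z M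
  let n := Nat.card M
  have hn : 0 < n := Nat.card_pos
  haveI : NeZero n := ⟨hn.ne'⟩
  have hF : n • (𝟙 F) = 0 := killedBy_const M n fun x => card_nsmul_eq_zero'
  have hS := H10Coh.injSeq_shortExact F
  let Q := (H10Coh.injSeq F).X₃
  let g := (H10Coh.injSeq F).g
  refine subsingleton_of_forall_eq 0 fun ξ => ?_
  obtain ⟨y, hy⟩ := Ext.covariant_sequence_exact₁ (EtCoh.const Z ℤ) hS ξ (Ext.eq_zero_of_injective _)
    (n₀ := 0) (zero_add 1)
  obtain ⟨y, rfl⟩ := (Ext.mk₀_bijective _ _).2 y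
  let e₀ := (EtCore.constAdj Z).homEquiv (AddCommGrpCat.of (ULift.{u + 1} ℤ))
  let s : Q.obj.obj (op (EtCoh.top Z)) := e₀ Q y ⟨1⟩
  have hξn : n • ξ = 0 := by
    have h : ξ.comp (Ext.mk₀ (n • 𝟙 F)) (add_zero 1) = n • ξ := by
      rw [mk₀_nsmul, comp_nsmul', Ext.comp_mk₀_id]
    rw [← h, hF, Ext.mk₀_zero, Ext.comp_zero]
  have hny : (Ext.mk₀ (n • y)).comp hS.extClass (zero_add 1) = 0 := by
    rw [mk₀_nsmul, nsmul_comp', hy, hξn]
  obtain ⟨z, hz⟩ := Ext.covariant_sequence_exact₃ _ hS _ (zero_add 1) hny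
  obtain ⟨z, rfl⟩ := (Ext.mk₀_bijective _ _).2 z
  rw [Ext.mk₀_comp_mk₀] at hz
  have hz' : z ≫ g = n • y := (Ext.mk₀_bijective _ _).1 hz
  have heval : ∀ {G G' : EtCoh.Ab Z} (a : EtCoh.const Z ℤ ⟶ G) (b : G ⟶ G'),
      e₀ G' (a ≫ b) ⟨1⟩ = b.hom.app (op (EtCoh.top Z)) (e₀ G a ⟨1⟩) := fun a b => by
    rw [Adjunction.homEquiv_naturality_right]; rfl
  obtain ⟨t, ht⟩ := exists_sect_zsmul (H10Coh.injSeq F).X₂ (n : ℤ) (by exact_mod_cast hn.ne') (EtCoh.top Z)
    (e₀ _ z ⟨1⟩)
  have ht' : n • t = e₀ _ z ⟨1⟩ := ((natCast_zsmul t n).symm.trans rfl).trans ht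
  let s' := s - g.hom.app (op (EtCoh.top Z)) t
  have hs' : n • s' = 0 := by
    rw [nsmul_sub, ← map_nsmul, ht', ← heval, hz', sub_eq_zero]
    exact (ConcreteCategory.congr_hom (map_nsmul ((EtCore.constAdj Z).homAddEquiv
      (AddCommGrpCat.of (ULift.{u + 1} ℤ)) Q) n y) (ULift.up (1 : ℤ))).symm
  obtain ⟨φ, one, hone⟩ := exists_hom_const_zmod n s' hs'
  -- the extension by `ℤ/n`
  haveI := hS.epi_g
  haveI := hS.mono_f
  let E : EtCoh.Ab Z := pullback g φ
  let ι : F ⟶ E := pullback.lift (H10Coh.injSeq F).f 0 (by rw [(H10Coh.injSeq F).zero, zero_comp])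
  let Sh : ShortComplex (EtCoh.Ab Z) := ShortComplex.mk ι (pullback.snd g φ) (pullback.lift_snd _ _ _)
  have hSh : Sh.ShortExact := by
    haveI : Mono ι := by
      haveI : Mono (ι ≫ pullback.fst g φ) := by rw [pullback.lift_fst]; exact hS.mono_f
      exact mono_of_mono ι (pullback.fst g φ)
    haveI : Epi (pullback.snd g φ) := inferInstance
    refine ShortComplex.ShortExact.mk' (ShortComplex.exact_of_f_is_kernel _ ?_) ‹Mono ι› ‹Epi (pullback.snd g φ)›
    refine KernelFork.IsLimit.ofι _ _ (fun {W} a ha => hS.fIsKernel.lift (KernelFork.ofι (a ≫ pullback.fst g φ)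
      (by rw [Category.assoc, pullback.condition, ← Category.assoc, ha, zero_comp]))) (fun {W} a ha => ?_)
      (fun {W} a ha b hb => (cancel_mono ι).1 (hb.trans ?_))
    all_goals refine pullback.hom_ext ?_ ?_
    · rw [Category.assoc, pullback.lift_fst]
      exact hS.fIsKernel.fac _ WalkingParallelPair.zero
    · rw [Category.assoc, pullback.lift_snd, comp_zero, ha]
    · rw [Category.assoc, pullback.lift_fst]
      exact (hS.fIsKernel.fac (KernelFork.ofι (a ≫ pullback.fst g φ) (by
        rw [Category.assoc, pullback.condition, ← Category.assoc, ha, zero_comp])) WalkingParallelPair.zero).symm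
    · rw [Category.assoc, pullback.lift_snd, comp_zero, ha]
  haveI : Finite (ULift.{u + 1} (ZMod n)) := inferInstance
  haveI : Finite (ULift.{u + 1} M) := inferInstance
  have hC : EtCoh.IsFiniteLocallyConstant (EtCoh.const Z (ZMod n)) := H18Et.LC.isFiniteLocallyConstant_const _
  have hE : EtCoh.IsFiniteLocallyConstant E :=
    (S6645.result Z).2.prop_X₂_of_shortExact hSh (H18Et.LC.isFiniteLocallyConstant_const _) hC
  haveI := hSh.epi_g
  obtain ⟨e, he⟩ := surjective_top_of_epi hsec hE hC (pullback.snd g φ) one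
  let a : EtCoh.const Z ℤ ⟶ (H10Coh.injSeq F).X₂ := (e₀ _).symm
    (AddCommGrpCat.ofHom ((zmultiplesHom _ (t + (pullback.fst g φ).hom.app (op (EtCoh.top Z)) e)).comp
      AddEquiv.ulift.toAddMonoidHom))
  have ha : a ≫ g = y := by
    apply (e₀ Q).injective
    ext1
    apply AddMonoidHom.ext
    rintro ⟨k⟩
    have h1 : e₀ Q (a ≫ g) ⟨1⟩ = s := by
      rw [heval, Equiv.apply_symm_apply]
      show g.hom.app _ ((1 : ℤ) • (t + (pullback.fst g φ).hom.app _ e)) = s
      rw [one_zsmul, map_add, show g.hom.app _ ((pullback.fst g φ).hom.app _ e) = s' from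
        (congrArg (fun k => k.hom.app (op (EtCoh.top Z)) e) (pullback.condition (f := g) (g := φ))).trans
          ((congrArg (φ.hom.app _) he).trans hone)]
      exact add_sub_cancel _ _
    rw [show (⟨k⟩ : ULift.{u + 1} ℤ) = k • ⟨1⟩ from ULift.ext _ _ (by simp), map_zsmul, map_zsmul]
    exact congrArg (k • ·) h1
  rw [← hy, ← ha, ← Ext.mk₀_comp_mk₀, Ext.comp_assoc_of_second_deg_zero]
  exact (congrArg (fun k => Ext.comp _ k (zero_add 1)) hS.comp_extClass).trans (Ext.comp_zero _ _ _ _ _)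

end Groth.Agent.H1DFun
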