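import Groth.Agent.H1DFun.IntegralConstEmbed
import Groth.Agent.H1DFun.AbsIntClosedCover
import Groth.Agent.H1DFun.ClosedVanish
import Groth.Agent.H1DFun.FinLCSplit
import Groth.Agent.H18Et.Cons.TorsionColim
import Groth.Agent.H18Et.Coh.TorsionRpush
import Groth.Agent.H15Site.HensCoh.Basic

/-!
# Effacing cohomology on closed subschemes of affine schemes
-/

set_option autoImplicit false
set_option backward.isDefEq.respectTransparency false
set_option backward.isDefEq.respectTransparency.types false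

universe u

open CategoryTheory CategoryTheory.Limits AlgebraicGeometry Opposite
open Groth.Agent.H18Et Groth.Agent.H1Lim
open scoped Groth.Agent.H18Et

namespace Groth.Agent.H1DFun

attribute [local instance] Groth.Agent.H18Et.pull_preservesFiniteLimits

variable {X : Scheme.{u}}

theorem H_map_map {F G K : EtCoh.Ab X} (φ : F ⟶ G) (ψ : G ⟶ K) (n : ℕ) (x : Sheaf.H F n) :
    Sheaf.H.map ψ n (Sheaf.H.map φ n x) = Sheaf.H.map (φ ≫ ψ) n x :=
  (CohColim.H_map_comp φ ψ x).symm

theorem isTorsion_of_nsmul_id {F : EtCoh.Ab X} {n : ℕ} (hn : 0 < n) (h : n • 𝟙 F = 0) : EtCoh.IsTorsion F := by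
  refine (Coh.isTorsion_iff_stalk F).2 fun Ω _ _ ξ p => isOfFinAddOrder_iff_nsmul_eq_zero.2 ⟨n, hn, ?_⟩
  haveI : (EtCoh.stalk ξ).Additive := inferInstance
  have h' := congrArg (EtCoh.stalk ξ).map h
  rw [Functor.map_nsmul, CategoryTheory.Functor.map_id, Functor.map_zero] at h'
  exact ConcreteCategory.congr_hom h' p

theorem isTorsion_of_epi_biprod {A B G : EtCoh.Ab X} (g : A ⊞ B ⟶ G) [Epi g] (hA : EtCoh.IsTorsion A)
    (hB : EtCoh.IsTorsion B) : EtCoh.IsTorsion G := by
  rw [Coh.isTorsion_iff_stalk] at hA hB ⊢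
  intro Ω _ _ ξ p
  obtain ⟨q, rfl⟩ := (AddCommGrpCat.epi_iff_surjective _).1 ((epi_iff_stalk g).1 inferInstance Ω ξ) p
  refine AddMonoidHom.isOfFinAddOrder _ ?_
  haveI : (EtCoh.stalk ξ).Additive := inferInstance
  have h := congrArg (EtCoh.stalk ξ).map (biprod.total (X := A) (Y := B))
  rw [Functor.map_add, CategoryTheory.Functor.map_id, Functor.map_comp, Functor.map_comp] at h
  rw [show q = (EtCoh.stalk ξ).map biprod.inl ((EtCoh.stalk ξ).map biprod.fst q) +
    (EtCoh.stalk ξ).map biprod.inr ((EtCoh.stalk ξ).map biprod.snd q) from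
      (ConcreteCategory.congr_hom h q).symm]
  exact (AddMonoidHom.isOfFinAddOrder _ (hA Ω ξ _)).add (AddMonoidHom.isOfFinAddOrder _ (hB Ω ξ _))

/-- A constructible sheaf on an affine scheme embeds in a torsion sheaf without higher cohomology on a given
closed subscheme. -/
theorem exists_mono_acyclic_of_constructible [IsAffine X] {Z : Scheme.{u}} (i : Z ⟶ X) [IsClosedImmersion i]
    (C : EtCoh.Ab X) (hC : EtPBC.IsConstructible C) :
    ∃ (K : EtCoh.Ab X) (a : C ⟶ K), Mono a ∧ EtCoh.IsTorsion K ∧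
      ∀ q, 1 ≤ q → Subsingleton (Sheaf.H ((EtCoh.pull i).obj K) q) := by
  obtain ⟨n, D, ν, hν, M, iM, iF, ι, hι⟩ := exists_mono_integral_const C hC
  have hD : ∀ k, IsAffine (D k) := fun k => isAffine_of_isAffineHom (ν k)
  choose D' π hπi hπs hvan using fun k => exists_integral_cover_vanishing (D k)
  let ρ : ∀ k, D' k ⟶ X := fun k => π k ≫ ν k
  let K₀ : Fin n → EtCoh.Ab X := fun k => (EtCoh.push (ρ k)).obj (EtCoh.const (D' k) (M k))
  let b : ∀ k, (EtCoh.push (ν k)).obj (EtCoh.const (D k) (M k)) ⟶ K₀ k := fun k =>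
    (EtCoh.push (ν k)).map ((EtCoh.pullPushAdj (π k)).unit.app _ ≫
      (EtCoh.push (π k)).map (EtCore.pullConst (π k) (M k)).hom) ≫ (EtCoh.pushComp (ν k) (π k)).hom.app _
  have hb : ∀ k, Mono (b k) := fun k => by
    have h1 := H15Site.HensCoh.mono_unit (π k) (EtCoh.const (D k) (M k))
    haveI : (EtCoh.push (ν k)).IsRightAdjoint := ⟨_, ⟨EtCoh.pullPushAdj (ν k)⟩⟩
    have h2 := @Functor.map_mono _ _ _ _ (EtCoh.push (ν k)) _ _ _ _ (@mono_comp _ _ _ _ _ _ h1
      ((EtCoh.push (π k)).map (EtCore.pullConst (π k) (M k)).hom) inferInstance)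
    exact @mono_comp _ _ _ _ _ _ h2 _ inferInstance
  refine ⟨⨁ K₀, ι ≫ biproduct.map b, ?_, ?_, fun q hq => ?_⟩
  · haveI : Mono (biproduct.map b) := inferInstance
    exact @mono_comp _ _ _ _ _ _ hι _ inferInstance
  · refine isTorsion_of_nsmul_id (n := ∏ k, Nat.card (M k))
      (Finset.prod_pos fun k _ => Nat.card_pos) (biproduct.hom_ext _ _ fun k => ?_)
    haveI : (EtCoh.push (ρ k)).IsRightAdjoint := ⟨_, ⟨EtCoh.pullPushAdj (ρ k)⟩⟩
    haveI : (EtCoh.push (ρ k)).Additive := Functor.additive_of_preserves_binary_products _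
    have h0 : (∏ j, Nat.card (M j)) • 𝟙 (K₀ k) = 0 := by
      rw [← Finset.prod_erase_mul _ _ (Finset.mem_univ k), mul_smul,
        show Nat.card (M k) • 𝟙 (K₀ k) = 0 from by
          have h := congrArg (EtCoh.push (ρ k)).map
            (killedBy_const (Z := D' k) (M k) (Nat.card (M k)) fun x => card_nsmul_eq_zero')
          rwa [Functor.map_nsmul, CategoryTheory.Functor.map_id, Functor.map_zero] at h,
        smul_zero]
    rw [Preadditive.nsmul_comp, Category.id_comp, zero_comp, ← Category.comp_id (biproduct.π K₀ k),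
      ← Preadditive.comp_nsmul, h0, comp_zero]
  · haveI : (EtCoh.pull i).IsLeftAdjoint := ⟨_, ⟨EtCoh.pullPushAdj i⟩⟩
    haveI : (EtCoh.pull i).Additive := Functor.additive_of_preserves_binary_products _
    have key : ∀ k, ∀ x : Sheaf.H ((EtCoh.pull i).obj (K₀ k)) q, x = 0 := fun k x => by
      haveI : IsIntegralHom (ρ k) := inferInstance
      let ρ' := pullback.snd (ρ k) i
      let i' := pullback.fst (ρ k) i
      haveI : IsIntegralHom ρ' := MorphismProperty.pullback_snd (P := @IsIntegralHom) _ _ inferInstance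
      haveI : IsClosedImmersion i' := MorphismProperty.pullback_fst (P := @IsClosedImmersion) _ _ inferInstance
      have sq : IsPullback i' ρ' (ρ k) i := IsPullback.of_hasPullback (ρ k) i
      haveI := isIso_baseChange0_of_isIntegralHom (ρ k) i ρ' i' sq (EtCoh.const (D' k) (M k))
      have h : Subsingleton (Sheaf.H ((EtCoh.pull i').obj (EtCoh.const (D' k) (M k))) q) :=
        subsingleton_H_pull_const i' (M k) q (hvan k _ i' inferInstance (M k) (iM k) (iF k) q hq)
      exact (hpull_map_bijective ρ' (EtCoh.baseChange0 (ρ k) i ρ' i' sq.w (EtCoh.const (D' k) (M k))) q).1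
        (h.elim _ _)
    refine subsingleton_of_forall_eq 0 fun x => ?_
    have ht := congrArg (EtCoh.pull i).map (biproduct.total (f := K₀))
    rw [Functor.map_sum, CategoryTheory.Functor.map_id] at ht
    rw [← Abelian.Ext.comp_mk₀_id x, ← ht, Abelian.Ext.mk₀_sum, Abelian.Ext.comp_sum]
    refine Finset.sum_eq_zero fun k _ => ?_
    rw [Functor.map_comp, ← Abelian.Ext.mk₀_comp_mk₀, ← Abelian.Ext.comp_assoc_of_second_deg_zero]
    erw [key k (x.comp (Abelian.Ext.mk₀ ((EtCoh.pull i).map (biproduct.π K₀ k))) (add_zero q))]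
    rw [Abelian.Ext.zero_comp]

/-- Cohomology classes on closed subschemes of affine schemes are killed by injective maps of torsion
sheaves. -/
theorem exists_mono_kill [IsAffine X] {Z : Scheme.{u}} (i : Z ⟶ X) [IsClosedImmersion i]
    (F : EtCoh.Ab X) (hF : EtCoh.IsTorsion F) (q : ℕ) (hq : 0 < q)
    (ξ : Sheaf.H ((EtCoh.pull i).obj F) q) :
    ∃ (F' : EtCoh.Ab X) (_ : EtCoh.IsTorsion F') (φ : F ⟶ F') (_ : Mono φ),
      Sheaf.H.map ((EtCoh.pull i).map φ) q ξ = 0 := by
  let Q : EtCoh.Ab X → Prop := fun _ => True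
  haveI := Cons.isFiltered_idxCat (F := F) (Q := Q) (fun _ _ => trivial) (fun _ _ _ _ _ _ => trivial)
    (fun _ _ _ _ => trivial)
  obtain ⟨hc⟩ := Cons.nonempty_isColimit_idxCocone (F := F) (Q := Q) (fun _ _ => trivial)
    (fun _ _ _ _ _ _ => trivial) (fun _ _ _ _ => trivial)
    (fun {C} f hC => ⟨C, 𝟙 C, f, hC, trivial, Category.id_comp f⟩) hF
  haveI : IsAffine Z := isAffine_of_isAffineHom i
  haveI : (EtCoh.pull i).IsLeftAdjoint := ⟨_, ⟨EtCoh.pullPushAdj i⟩⟩
  let D := Cons.idxDiagram F Q ⋙ EtCoh.pull i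
  have hc' := isColimitOfPreserves (EtCoh.pull i) hc
  let e : ((EtCoh.pull i).mapCocone (Cons.idxCocone F Q)).pt ≅ colimit D :=
    hc'.coconePointUniqueUpToIso (colimit.isColimit D)
  obtain ⟨j, y, hy⟩ := (CohColim.hSurj_hInj q D).1 (Sheaf.H.map e.hom q ξ)
  let f := (Cons.idxCocone F Q).ι.app j
  have hξ : Sheaf.H.map ((EtCoh.pull i).map f) q y = ξ := by
    apply H_map_injective e q
    rw [hy.symm]
    refine (H_map_map _ _ q y).trans ?_
    exact congrArg (fun φ => Sheaf.H.map φ q y)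
      (IsColimit.comp_coconePointUniqueUpToIso_hom hc' (colimit.isColimit D) j)
  obtain ⟨K, a, ha, hK, hvan⟩ := exists_mono_acyclic_of_constructible i _ (Cons.Idx.isConstructible j)
  let f' : (Cons.idxDiagram F Q).obj j ⟶ F := f
  let a' : (Cons.idxDiagram F Q).obj j ⟶ K := a
  haveI : Mono a' := ha
  have hepi : Epi (biprod.desc (pushout.inl f' a') (pushout.inr f' a')) :=
    ⟨fun g₁ g₂ h => pushout.hom_ext (by simpa using congrArg (biprod.inl ≫ ·) h)
      (by simpa using congrArg (biprod.inr ≫ ·) h)⟩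
  refine ⟨pushout f' a', isTorsion_of_epi_biprod (biprod.desc (pushout.inl f' a') (pushout.inr f' a')) hF hK,
    pushout.inl f' a', inferInstance, ?_⟩
  rw [← hξ]
  refine (H_map_map _ _ q y).trans ?_
  erw [← Functor.map_comp, pushout.condition, Functor.map_comp]
  refine (H_map_map _ _ q y).symm.trans ?_
  exact (congrArg (Sheaf.H.map ((EtCoh.pull i).map (pushout.inr f' a')) q)
    ((hvan q hq).elim _ 0)).trans (map_zero _)

end Groth.Agent.H1DFun
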