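import Groth.Agent.H1DFun.PBCAcyclic

/-!
# Proper base change for torsion sheaves from sheaves killed by integers
-/

set_option autoImplicit false
set_option backward.isDefEq.respectTransparency false
set_option backward.isDefEq.respectTransparency.types false

universe u

open CategoryTheory CategoryTheory.Limits AlgebraicGeometry Opposite Abelian
open Groth.Agent.H18Et Groth.Agent.H1Lim
open scoped Groth.Agent.H18Et.CohColim Nat

namespace Groth.Agent.H1DFun

attribute [local instance] Groth.Agent.H18Et.pull_preservesFiniteLimits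

section Sys

variable {T : Scheme.{u}} (F : EtCoh.Ab T)

/-- Exponents along which torsion sheaves are exhausted. -/
abbrev tExp (k : ULift.{u} ℕ) : ℕ := (k.down + 1)!

theorem tExp_dvd {i j : ULift.{u} ℕ} (h : i ≤ j) : tExp i ∣ tExp j :=
  Nat.factorial_dvd_factorial (Nat.succ_le_succ h)

theorem comp_nsmul_eq_zero_of_dvd {a b : ℕ} (hab : a ∣ b) : kernel.ι (a • 𝟙 F) ≫ (b • 𝟙 F) = 0 := by
  obtain ⟨c, rfl⟩ := hab
  rw [mul_comm, mul_nsmul', Preadditive.comp_nsmul, kernel.condition, nsmul_zero]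

/-- The subsheaves killed by factorials. -/
noncomputable def torSys : ULift.{u} ℕ ⥤ EtCoh.Ab T where
  obj k := kernel (tExp k • 𝟙 F)
  map {i j} m := kernel.lift _ (kernel.ι _) (comp_nsmul_eq_zero_of_dvd F (tExp_dvd m.le))
  map_id i := by rw [← cancel_mono (kernel.ι _), kernel.lift_ι, Category.id_comp]
  map_comp f g := by
    rw [← cancel_mono (kernel.ι _), kernel.lift_ι, Category.assoc, kernel.lift_ι, kernel.lift_ι]

/-- The tautological cocone. -/
noncomputable def torCocone : Cocone (torSys F) where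
  pt := F
  ι := { app := fun _ => kernel.ι _, naturality := fun _ _ _ => (kernel.lift_ι _ _ _).trans (Category.comp_id _).symm }

theorem isIso_desc_torSys (hF : EtCoh.IsTorsion F) : IsIso (colimit.desc (torSys F) (torCocone F)) := by
  refine (isIso_iff_stalk _).2 fun Ω _ _ ξ => ?_
  haveI := ((Scheme.pointSmallEtale ξ).skyscraperSheafAdjunction
    (A := AddCommGrpCat.{u + 1})).leftAdjoint_preservesColimits
  have hcs := isColimitOfPreserves (EtCoh.stalk ξ) (colimit.isColimit (torSys F))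
  have hd : ∀ l (p : (EtCoh.stalk ξ).obj ((torSys F).obj l)),
      (EtCoh.stalk ξ).map (colimit.desc (torSys F) (torCocone F))
        ((EtCoh.stalk ξ).map (colimit.ι (torSys F) l) p) = (EtCoh.stalk ξ).map (kernel.ι _) p := fun l p => by
    rw [← ConcreteCategory.comp_apply, ← Functor.map_comp, colimit.ι_desc]
    rfl
  rw [ConcreteCategory.isIso_iff_bijective]
  refine ⟨(injective_iff_map_eq_zero _).2 fun x hx => ?_, fun p => ?_⟩
  · obtain ⟨l, p, hp⟩ := Concrete.isColimit_exists_rep _ hcs x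
    replace hp : (EtCoh.stalk ξ).map (colimit.ι (torSys F) l) p = x := hp
    subst hp
    rw [hd] at hx
    have hinj := (AddCommGrpCat.mono_iff_injective _).1
      ((H18Et.mono_iff_stalk (kernel.ι (tExp l • 𝟙 F))).1 inferInstance Ω ξ)
    rw [hinj (hx.trans (map_zero _).symm), map_zero]
  · obtain ⟨m, hm, hmp⟩ := ((H18Et.Coh.isTorsion_iff_stalk F).1 hF Ω ξ p).exists_nsmul_eq_zero
    let l : ULift.{u} ℕ := ⟨m⟩
    have hex := (ShortComplex.exact_of_f_is_kernel (ShortComplex.mk _ _ (kernel.condition (tExp l • 𝟙 F)))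
      (kernelIsKernel _)).map (EtCoh.stalk ξ)
    obtain ⟨p', hp'⟩ := (ShortComplex.ab_exact_iff _).1 hex p (by
      refine (stalk_map_nsmul ξ _ p).trans ?_
      obtain ⟨c, hc⟩ : m ∣ tExp l := Nat.dvd_factorial hm (Nat.le_succ m)
      rw [hc, mul_comm, mul_nsmul', hmp, nsmul_zero])
    exact ⟨(EtCoh.stalk ξ).map (colimit.ι (torSys F) l) p', (hd l p').trans hp'⟩

end Sys

variable {X S Y T : Scheme.{u}} (f : X ⟶ S) (g : T ⟶ S) (h : Y ⟶ X) (e : Y ⟶ T) (w : e ≫ g = h ≫ f)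

/-- Base change isomorphisms pass to filtered colimits. -/
theorem isIso_bcQ_colimit [QuasiCompact g] [QuasiSeparated g] [QuasiCompact h] [QuasiSeparated h]
    {J : Type u} [SmallCategory J] [IsFiltered J] (D : J ⥤ EtCoh.Ab T) (q : ℕ)
    (hD : ∀ j, IsIso (EtBC.bcQ g f h e w q (D.obj j))) :
    IsIso (EtBC.bcQ g f h e w q (colimit D)) := by
  rw [isIso_bcQ_iff]
  intro Ω _ _ η
  have hj := fun j => (isIso_bcQ_iff f g h e w (D.obj j) q).1 (hD j) Ω η
  constructor
  · intro U z x Q n v hn h0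
    obtain ⟨P, hP, i, z', hz'⟩ := H18Et.Cons.exists_affine_nbhd z
    obtain ⟨Q₁, a, n₁, v₁, ha, hn₁, hc⟩ := exists_lift_nbhd f i z' hz' n v hn
    obtain ⟨Q₂, hQ₂, b, v₂, hb⟩ := H18Et.Cons.exists_affine_nbhd v₁
    haveI : CompactSpace ↥((𝟭 Scheme).obj ((EtCoh.bc g).obj P).left) := (H18Et.Coh.qcqs_bc g P).1
    haveI : QuasiSeparatedSpace ↥((𝟭 Scheme).obj ((EtCoh.bc g).obj P).left) := (H18Et.Coh.qcqs_bc g P).2
    haveI : CompactSpace ↥((𝟭 Scheme).obj ((EtCoh.bc h).obj Q₂).left) := (H18Et.Coh.qcqs_bc h Q₂).1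
    haveI : QuasiSeparatedSpace ↥((𝟭 Scheme).obj ((EtCoh.bc h).obj Q₂).left) := (H18Et.Coh.qcqs_bc h Q₂).2
    obtain ⟨j, t, ht⟩ := (cM_colim (((EtCoh.bc g).obj P).hom) q D).1 (c0 g (colimit D) q i x)
    have h1 : cM (colimit.ι D j) q _ (cl g h e (D.obj j) q f w P (b ≫ n₁) t) = 0 := by
      refine (cR_cM (colimit.ι D j) _ _ t).symm.trans ?_
      refine (congrArg (cl g h e (colimit D) q f w P (b ≫ n₁)) ht).trans ?_
      rw [cl_c0, cl_congr g h e (colimit D) q f w (show (b ≫ n₁) ≫ (EtCoh.bc f).map i = (b ≫ a) ≫ n by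
        rw [Category.assoc, hc, Category.assoc]) x, ← c1_cl]
      exact (congrArg _ (show cl g h e (colimit D) q f w U n x = 0 from h0)).trans (map_zero _)
    obtain ⟨k, m, hm⟩ := (cM_colim (((EtCoh.bc h).obj Q₂).hom ≫ e) q D).2 j _ h1
    obtain ⟨V, r, y, hy, hr⟩ := cInj_of_bcBij f g h e w (hj k) P z' (cM (D.map m) q _ t) Q₂ (b ≫ n₁) v₂
      (by rw [Functor.map_comp_apply, hb, hn₁]) ((cR_cM (D.map m) _ _ t).trans hm)
    refine ⟨V, r ≫ i, y, by rw [Functor.map_comp_apply, hy, hz'], ?_⟩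
    show c0 g (colimit D) q (r ≫ i) x = 0
    rw [← c0_c0 g (colimit D) q i r _ rfl x, ← ht, ← colimit.w D m]
    refine (congrArg (c0 g (colimit D) q r) ?_).trans ((cR_cM (colimit.ι D k) _ _ _).trans
      ((congrArg _ hr).trans (map_zero _)))
    exact (congrArg (fun γ => Sheaf.H.map γ q t) ((EtCoh.pull _).map_comp (D.map m) (colimit.ι D k))).trans
      (Sheaf.H.map_comp_apply _ _ _)
  · intro Q v s
    obtain ⟨Q₁, hQ₁, a, v₁, ha⟩ := H18Et.Cons.exists_affine_nbhd v
    haveI : CompactSpace ↥((𝟭 Scheme).obj ((EtCoh.bc h).obj Q₁).left) := (H18Et.Coh.qcqs_bc h Q₁).1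
    haveI : QuasiSeparatedSpace ↥((𝟭 Scheme).obj ((EtCoh.bc h).obj Q₁).left) := (H18Et.Coh.qcqs_bc h Q₁).2
    obtain ⟨j, t, ht⟩ := (cM_colim (((EtCoh.bc h).obj Q₁).hom ≫ e) q D).1 (c1 h e (colimit D) q a s)
    obtain ⟨U, z, x, Q₂, b, n, v₂, hb, hn, he⟩ := cSurj_of_bcBij f g h e w (hj j) Q₁ v₁ t
    refine ⟨U, z, cM (colimit.ι D j) q _ x, Q₂, b ≫ a, n, v₂, by rw [Functor.map_comp_apply, hb, ha], hn, ?_⟩
    show c1 h e (colimit D) q (b ≫ a) s = cl g h e (colimit D) q f w U n (cM (colimit.ι D j) q _ x)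
    rw [← c1_c1 h e (colimit D) q a b _ rfl s, ← ht]
    refine (cR_cM (colimit.ι D j) _ _ t).trans (Eq.trans ?_ (cR_cM (colimit.ι D j) _ _ x).symm)
    exact congrArg _ he

variable (hA : ∀ ℓ : ℕ, ℓ.Prime → ∀ I : EtCoh.Ab T, EtCoh.KilledBy ℓ I → LInj ℓ I →
  ∀ q : ℕ, 0 < q → IsZero ((EtCoh.Rpush h q).obj ((EtCoh.pull e).obj I)))

include hA in
/-- Base change in all degrees for torsion sheaves. -/
theorem isIso_bcQ_of_acyclic [IsProper g] (sq : IsPullback e h g f) (q : ℕ) (F : EtCoh.Ab T)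
    (hF : EtCoh.IsTorsion F) : IsIso (EtBC.bcQ g f h e sq.w q F) := by
  haveI : IsProper h := MorphismProperty.of_isPullback sq inferInstance
  haveI : IsFiltered (ULift.{u} ℕ) := inferInstance
  have hD : ∀ j, IsIso (EtBC.bcQ g f h e sq.w q ((torSys F).obj j)) := fun j =>
    isIso_bcQ_of_killedBy f g h e hA sq q (tExp j) (Nat.factorial_pos _) _ (killedBy_kernel _ _)
  haveI := isIso_bcQ_colimit f g h e sq.w (torSys F) q hD
  haveI := isIso_desc_torSys F hF
  let d : colimit (torSys F) ⟶ F := colimit.desc (torSys F) (torCocone F)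
  haveI : IsIso d := this
  have hnat := bcQ_natural f g h e sq.w d q
  haveI : IsIso ((EtCoh.pull f).map ((EtCoh.Rpush g q).map d)) := inferInstance
  have h2 : IsIso ((EtCoh.pull f).map ((EtCoh.Rpush g q).map d) ≫ EtBC.bcQ g f h e sq.w q F) := by
    rw [← hnat]; infer_instance
  exact IsIso.of_isIso_comp_left ((EtCoh.pull f).map ((EtCoh.Rpush g q).map d)) _

end Groth.Agent.H1DFun
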