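import Groth.Agent.H10Coh.ExtMap
import Groth.Agent.H10Coh.DerivedShift
import Groth.Agent.H18Ext.MapNatTrans

/-!
# The edge maps of an adjunction on Ext groups in low degrees
-/

set_option autoImplicit false
set_option backward.isDefEq.respectTransparency false
set_option backward.isDefEq.respectTransparency.types false

universe w₁ w₂ v₁ v₂ u₁ u₂

open CategoryTheory CategoryTheory.Limits Abelian Groth.Agent.H10Coh

namespace Groth.Agent.H1DFun

variable {C : Type u₁} [Category.{v₁} C] [Abelian C] [HasExt.{w₁} C]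
variable {D : Type u₂} [Category.{v₂} D] [Abelian D] [HasExt.{w₂} D] [EnoughInjectives D]
variable {L : C ⥤ D} {R : D ⥤ C} (adj : L ⊣ R) [L.Additive] [PreservesFiniteLimits L]
  [PreservesFiniteColimits L] [R.Additive] [PreservesFiniteLimits R]

/-- Apply the left adjoint, then the counit. -/
noncomputable def edge (A : C) (B : D) (n : ℕ) : Ext.{w₁} A (R.obj B) n →+ Ext.{w₂} (L.obj A) B n :=
  AddMonoidHom.mk' (fun x => (x.mapExactFunctor L).comp (Ext.mk₀ (adj.counit.app B)) (add_zero n))
    fun x y => by rw [Ext.mapExactFunctor_add, Ext.add_comp]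

theorem edge_apply (A : C) (B : D) (n : ℕ) (x : Ext.{w₁} A (R.obj B) n) :
    edge adj A B n x = (x.mapExactFunctor L).comp (Ext.mk₀ (adj.counit.app B)) (add_zero n) := rfl

theorem edge_naturality (A : C) {B B' : D} (φ : B ⟶ B') (n : ℕ) (x : Ext.{w₁} A (R.obj B) n) :
    edge adj A B' n (x.comp (Ext.mk₀ (R.map φ)) (add_zero n)) =
      (edge adj A B n x).comp (Ext.mk₀ φ) (add_zero n) := by
  rw [edge_apply, edge_apply, Ext.mapExactFunctor_comp, Ext.mapExactFunctor_mk₀,
    Ext.comp_assoc_of_second_deg_zero, Ext.comp_assoc_of_second_deg_zero, Ext.mk₀_comp_mk₀, Ext.mk₀_comp_mk₀]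
  exact congrArg (fun k => Ext.comp _ (Ext.mk₀ k) (add_zero n)) (adj.counit.naturality φ)

theorem edge_mk₀ (A : C) (B : D) (φ : A ⟶ R.obj B) :
    edge adj A B 0 (Ext.mk₀ φ) = Ext.mk₀ ((adj.homEquiv A B).symm φ) := by
  rw [edge_apply, Ext.mapExactFunctor_mk₀, Ext.mk₀_comp_mk₀]
  exact congrArg Ext.mk₀ (adj.homEquiv_counit A B φ).symm

theorem edge_bijective_zero (A : C) (B : D) : Function.Bijective (edge adj A B 0) := by
  refine (Function.Bijective.of_comp_iff _ (Ext.mk₀_bijective A (R.obj B))).1 ?_
  rw [show ⇑(edge adj A B 0) ∘ Ext.mk₀ = Ext.mk₀ ∘ (adj.homEquiv A B).symm from funext (edge_mk₀ adj A B)]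
  exact (Ext.mk₀_bijective _ _).comp (Equiv.bijective _)

theorem edge_extClass (A : C) {S : ShortComplex D} (hS : S.ShortExact) (hR : (S.map R).ShortExact) (n : ℕ)
    (x : Ext.{w₁} A (R.obj S.X₃) n) :
    edge adj A S.X₁ (n + 1) (Ext.comp x hR.extClass rfl) =
      (edge adj A S.X₃ n x).comp hS.extClass rfl := by
  let φ : (S.map R).map L ⟶ S := ShortComplex.homMk (adj.counit.app _) (adj.counit.app _) (adj.counit.app _)
    (adj.counit.naturality _).symm (adj.counit.naturality _).symm
  have hn := ShortComplex.ShortExact.extClass_naturality (hR.map_of_exact L) hS φ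
  rw [edge_apply, edge_apply, Ext.mapExactFunctor_comp, Ext.mapExactFunctor_extClass,
    Ext.comp_assoc_of_third_deg_zero]
  refine (congrArg (fun k => Ext.comp (x.mapExactFunctor L) k rfl) hn).trans ?_
  rw [← Ext.comp_assoc_of_second_deg_zero]
  rfl

/-- The short exact sequence of the direct image of an injective embedding and its image. -/
noncomputable abbrev imSeq (B : D) : ShortComplex C :=
  ShortComplex.mk (R.map (injSeq B).f) (cokernel.π _) (cokernel.condition _)

/-- The image of the direct image of the injective hull in that of its cokernel. -/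
noncomputable abbrev imι (B : D) : cokernel (R.map (injSeq B).f) ⟶ R.obj (injSeq B).X₃ :=
  cokernel.desc _ (R.map (injSeq B).g) (by rw [← R.map_comp, (injSeq B).zero, R.map_zero])

omit [HasExt.{w₁} C] [HasExt.{w₂} D] in
theorem imSeq_shortExact (B : D) : (imSeq (R := R) B).ShortExact :=
  haveI := (injSeq_shortExact B).mono_f
  { exact := ShortComplex.exact_of_g_is_cokernel _ (cokernelIsCokernel _)
    mono_f := inferInstanceAs (Mono (R.map (injSeq B).f))
    epi_g := inferInstanceAs (Epi (cokernel.π (R.map (injSeq B).f))) }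

omit [HasExt.{w₁} C] [HasExt.{w₂} D] in
theorem mono_imι (B : D) : Mono (imι (R := R) B) := by
  have h := injSeq_shortExact B
  haveI := h.mono_f
  have hex : ((injSeq B).map R).Exact := (((injSeq B).map R).exact_and_mono_f_iff_f_is_kernel.2
    ⟨isLimitForkMapOfIsLimit' R _ h.fIsKernel⟩).1
  exact hex.mono_cokernelDesc

/-- The image sequence maps to the embedding sequence after applying the left adjoint. -/
theorem edge_imClass (A : C) (B : D) (z : A ⟶ cokernel (R.map (injSeq B).f)) :
    edge adj A B 1 ((Ext.mk₀ z).comp (imSeq_shortExact (R := R) B).extClass (zero_add 1)) =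
      (Ext.mk₀ ((adj.homEquiv A _).symm (z ≫ imι B))).comp (injSeq_shortExact B).extClass (zero_add 1) := by
  let φ : (imSeq (R := R) B).map L ⟶ injSeq B := ShortComplex.homMk (adj.counit.app _) (adj.counit.app _)
    (L.map (imι B) ≫ adj.counit.app _) (adj.counit.naturality _).symm (by
      refine (adj.counit.naturality _).symm.trans ?_
      show L.map (R.map (injSeq B).g) ≫ _ = L.map (cokernel.π _) ≫ L.map (imι B) ≫ _
      rw [← Category.assoc, ← L.map_comp, cokernel.π_desc])
  have hn := ShortComplex.ShortExact.extClass_naturality ((imSeq_shortExact (R := R) B).map_of_exact L)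
    (injSeq_shortExact B) φ
  rw [edge_apply, Ext.mapExactFunctor_comp, Ext.mapExactFunctor_extClass, Ext.mapExactFunctor_mk₀,
    Ext.comp_assoc_of_third_deg_zero]
  refine (congrArg (fun k => Ext.comp (Ext.mk₀ (L.map z)) k (zero_add 1)) hn).trans ?_
  rw [Ext.mk₀_comp_mk₀_assoc]
  refine congrArg (fun k => Ext.comp (Ext.mk₀ k) (injSeq_shortExact B).extClass (zero_add 1)) ?_
  rw [adj.homEquiv_counit, L.map_comp, Category.assoc]
  rfl

theorem edge_injective_one [EnoughInjectives C] (A : C) (B : D) : Function.Injective (edge adj A B 1) := by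
  refine (injective_iff_map_eq_zero _).2 fun x hx => ?_
  haveI : Injective (imSeq (R := R) B).X₂ := Injective.injective_of_adjoint adj (injSeq B).X₂
  obtain ⟨z, rfl⟩ : ∃ z : Ext A (cokernel (R.map (injSeq B).f)) 0,
      z.comp (imSeq_shortExact (R := R) B).extClass (zero_add 1) = x :=
    Ext.covariant_sequence_exact₁ A (imSeq_shortExact (R := R) B) x (Ext.eq_zero_of_injective _) (zero_add 1)
  obtain ⟨z, rfl⟩ := (Ext.mk₀_bijective _ _).2 z
  rw [edge_imClass] at hx
  obtain ⟨v, hv⟩ := Ext.covariant_sequence_exact₃ (L.obj A) (injSeq_shortExact B) _ (zero_add 1) hx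
  obtain ⟨v, rfl⟩ := (Ext.mk₀_bijective _ _).2 v
  rw [Ext.mk₀_comp_mk₀] at hv
  have h1 : adj.homEquiv A _ v ≫ cokernel.π (R.map (injSeq B).f) = z := by
    haveI := mono_imι (R := R) B
    refine (cancel_mono (imι B)).1 ?_
    rw [Category.assoc, cokernel.π_desc, ← adj.homEquiv_naturality_right, (Ext.mk₀_bijective _ _).1 hv,
      Equiv.apply_symm_apply]
  rw [← h1, ← Ext.mk₀_comp_mk₀, Ext.comp_assoc_of_second_deg_zero]
  exact (congrArg (fun k => Ext.comp _ k (zero_add 1)) (imSeq_shortExact (R := R) B).comp_extClass).trans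
    (Ext.comp_zero _ _ _ _ _)

omit [HasExt.{w₁} C] [HasExt.{w₂} D] [EnoughInjectives D] in
theorem shortExact_map_of_epi {S : ShortComplex D} (hS : S.ShortExact) (h : Epi (R.map S.g)) :
    (S.map R).ShortExact :=
  haveI := hS.mono_f
  { exact := ((S.map R).exact_and_mono_f_iff_f_is_kernel.2 ⟨isLimitForkMapOfIsLimit' R _ hS.fIsKernel⟩).1
    mono_f := inferInstanceAs (Mono (R.map S.f))
    epi_g := h }

omit [HasExt.{w₁} C] [HasExt.{w₂} D] in
theorem epi_of_isZero_one (B : D) (h : IsZero ((R.rightDerived 1).obj B)) : Epi (R.map (injSeq B).g) := by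
  obtain ⟨e⟩ := nonempty_rightDerived_one R (injSeq_shortExact B)
    (H16Derived.AcyclicLES.isAcyclic_of_injective R (injSeq B).X₂)
  exact Preadditive.epi_of_isZero_cokernel _ (h.of_iso e.symm)

omit [HasExt.{w₁} C] [HasExt.{w₂} D] in
theorem isZero_one_of_epi (B : D) (h : Epi (R.map (injSeq B).g)) : IsZero ((R.rightDerived 1).obj B) := by
  obtain ⟨e⟩ := nonempty_rightDerived_one R (injSeq_shortExact B)
    (H16Derived.AcyclicLES.isAcyclic_of_injective R (injSeq B).X₂)
  exact (isZero_cokernel_of_epi (R.map (injSeq B).g)).of_iso e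

omit [HasExt.{w₁} C] [HasExt.{w₂} D] in
theorem nonempty_shift (B : D) (q : ℕ) :
    Nonempty ((R.rightDerived (q + 2)).obj B ≅ (R.rightDerived (q + 1)).obj (injSeq B).X₃) :=
  nonempty_rightDerived_shift R (injSeq_shortExact B)
    (H16Derived.AcyclicLES.isAcyclic_of_injective R (injSeq B).X₂) q

/-- Vanishing of higher direct images up to `n` gives the comparison in degrees up to `n + 1`. -/
theorem edge_of_vanishing [EnoughInjectives C] (A : C) : ∀ (n : ℕ) (B : D),
    (∀ q, 1 ≤ q → q ≤ n → IsZero ((R.rightDerived q).obj B)) →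
      (∀ q, q ≤ n → Function.Bijective (edge adj A B q)) ∧ Function.Injective (edge adj A B (n + 1)) := by
  intro n
  induction n with
  | zero =>
    exact fun B _ => ⟨fun q hq => by rw [Nat.le_zero.1 hq]; exact edge_bijective_zero adj A B,
      edge_injective_one adj A B⟩
  | succ n ih =>
    intro B hB
    have hS := injSeq_shortExact B
    have hR := shortExact_map_of_epi (R := R) hS (epi_of_isZero_one B (hB 1 le_rfl (by omega)))
    haveI : Injective ((injSeq B).map R).X₂ := Injective.injective_of_adjoint adj (injSeq B).X₂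
    have hC := ih (injSeq B).X₃ fun q h1 h2 => by
      obtain ⟨i, rfl⟩ : ∃ i, q = i + 1 := ⟨q - 1, by omega⟩
      exact (hB (i + 2) (by omega) (by omega)).of_iso (nonempty_shift B i).some.symm
    have hB' := ih B fun q h1 h2 => hB q h1 (by omega)
    refine ⟨fun q hq => ?_, (injective_iff_map_eq_zero _).2 fun x hx => ?_⟩
    · rcases Nat.lt_or_eq_of_le hq with h | rfl
      · exact hB'.1 q (by omega)
      refine ⟨hB'.2, fun y => ?_⟩
      obtain ⟨z, rfl⟩ : ∃ z : Ext (L.obj A) (injSeq B).X₃ n, Ext.comp z hS.extClass rfl = y :=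
        Ext.covariant_sequence_exact₁ (L.obj A) hS y (Ext.eq_zero_of_injective _) rfl
      obtain ⟨w, rfl⟩ := (hC.1 n le_rfl).2 z
      exact ⟨_, edge_extClass adj A hS hR n w⟩
    · obtain ⟨w, rfl⟩ : ∃ w : Ext A (R.obj (injSeq B).X₃) (n + 1), Ext.comp w hR.extClass rfl = x :=
        Ext.covariant_sequence_exact₁ A hR x (Ext.eq_zero_of_injective _) rfl
      have h1 := (edge_extClass adj A hS hR (n + 1) w).symm.trans hx
      obtain ⟨z, hz⟩ := Ext.covariant_sequence_exact₃ (L.obj A) hS _ rfl h1
      rw [Ext.eq_zero_of_injective z, Ext.zero_comp] at hz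
      rw [hC.2 (hz.symm.trans (map_zero _).symm), Ext.zero_comp]

/-- The comparison in degrees up to `n` on a separating family gives vanishing up to `n`. -/
theorem vanishing_of_edge [EnoughInjectives C] {ι : Type*} (gen : ι → C)
    (hgen : ∀ {Q M : C} (i : Q ⟶ M) [Mono i], (∀ (k : ι) (y : gen k ⟶ M), ∃ z, z ≫ i = y) → IsIso i) :
    ∀ (n : ℕ) (B : D), (∀ (k : ι) q, q ≤ n → Function.Bijective (edge adj (gen k) B q)) →
      ∀ q, 1 ≤ q → q ≤ n → IsZero ((R.rightDerived q).obj B) := by
  intro n
  induction n with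
  | zero => intro B _ q h1 h2; omega
  | succ n ih =>
    intro B H
    have hS := injSeq_shortExact B
    have he : Epi (R.map (injSeq B).g) := by
      haveI := mono_imι (R := R) B
      haveI : IsIso (imι (R := R) B) := hgen _ fun k y => by
        haveI : Injective (imSeq (R := R) B).X₂ := Injective.injective_of_adjoint adj (injSeq B).X₂
        obtain ⟨x, hx⟩ := (H k 1 (by omega)).2
          ((Ext.mk₀ ((adj.homEquiv _ _).symm y)).comp hS.extClass (zero_add 1))
        obtain ⟨z, rfl⟩ : ∃ z : Ext (gen k) (cokernel (R.map (injSeq B).f)) 0,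
            z.comp (imSeq_shortExact (R := R) B).extClass (zero_add 1) = x :=
          Ext.covariant_sequence_exact₁ _ (imSeq_shortExact (R := R) B) x (Ext.eq_zero_of_injective _) (zero_add 1)
        obtain ⟨z, rfl⟩ := (Ext.mk₀_bijective _ _).2 z
        rw [edge_imClass, ← sub_eq_zero] at hx
        have h0 : (Ext.mk₀ ((adj.homEquiv _ _).symm y - (adj.homEquiv _ _).symm (z ≫ imι B))).comp
            hS.extClass (zero_add 1) = 0 := by
          rw [sub_eq_add_neg, Ext.mk₀_add, Ext.mk₀_neg, Ext.add_comp, Ext.neg_comp, ← sub_eq_add_neg,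
            ← neg_sub, hx, neg_zero]
        obtain ⟨v, hv⟩ := Ext.covariant_sequence_exact₃ _ hS _ (zero_add 1) h0
        obtain ⟨v, rfl⟩ := (Ext.mk₀_bijective _ _).2 v
        rw [Ext.mk₀_comp_mk₀] at hv
        have hv' : v ≫ (injSeq B).g + (adj.homEquiv _ _).symm (z ≫ imι B) = (adj.homEquiv _ _).symm y := by
          rw [(Ext.mk₀_bijective _ _).1 hv, sub_add_cancel]
        refine ⟨adj.homEquiv _ _ v ≫ cokernel.π _ + z, ?_⟩
        rw [Preadditive.add_comp, Category.assoc, cokernel.π_desc, ← adj.homEquiv_naturality_right]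
        haveI : R.Additive := inferInstance
        apply (adj.homEquiv _ _).symm.injective
        rw [← hv']
        rw [adj.homEquiv_counit, adj.homEquiv_counit, L.map_add, Preadditive.add_comp, ← adj.homEquiv_counit,
          ← adj.homEquiv_counit, Equiv.symm_apply_apply]
      rw [show R.map (injSeq B).g = cokernel.π _ ≫ imι B from (cokernel.π_desc _ _ _).symm]
      infer_instance
    have hR := shortExact_map_of_epi (R := R) hS he
    haveI : Injective ((injSeq B).map R).X₂ := Injective.injective_of_adjoint adj (injSeq B).X₂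
    have hC : ∀ (k : ι) q, q ≤ n → Function.Bijective (edge adj (gen k) (injSeq B).X₃ q) := by
      intro k q hq
      cases q with
      | zero => exact edge_bijective_zero adj _ _
      | succ q =>
        refine ⟨(injective_iff_map_eq_zero _).2 fun w hw => ?_, fun y => ?_⟩
        · have h1 : edge adj (gen k) B (q + 2) (Ext.comp w hR.extClass rfl) = 0 := by
            rw [edge_extClass adj _ hS hR, hw, Ext.zero_comp]
          have h2 := (H k (q + 2) (by omega)).1 (h1.trans (map_zero _).symm)
          obtain ⟨z, hz⟩ := Ext.covariant_sequence_exact₃ _ hR w rfl h2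
          rw [← hz, Ext.eq_zero_of_injective z, Ext.zero_comp]
        · obtain ⟨x, hx⟩ := (H k (q + 2) (by omega)).2 (Ext.comp y hS.extClass rfl)
          obtain ⟨w, rfl⟩ : ∃ w : Ext (gen k) (R.obj (injSeq B).X₃) (q + 1), Ext.comp w hR.extClass rfl = x :=
            Ext.covariant_sequence_exact₁ _ hR x (Ext.eq_zero_of_injective _) rfl
          rw [edge_extClass adj _ hS hR, ← sub_eq_zero, sub_eq_add_neg, ← Ext.neg_comp, ← Ext.add_comp] at hx
          obtain ⟨z, hz⟩ := Ext.covariant_sequence_exact₃ _ hS _ rfl hx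
          rw [Ext.eq_zero_of_injective z, Ext.zero_comp, eq_comm, ← sub_eq_add_neg, sub_eq_zero] at hz
          exact ⟨w, hz⟩
    intro q h1 h2
    obtain ⟨i, rfl⟩ : ∃ i, q = i + 1 := ⟨q - 1, by omega⟩
    cases i with
    | zero => exact isZero_one_of_epi B he
    | succ i => exact (ih _ hC (i + 1) (by omega) (by omega)).of_iso (nonempty_shift B i).some

end Groth.Agent.H1DFun
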