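import Groth.Agent.H1DFun.Cls
import Groth.Agent.H18Et.FreeSheaf
import Mathlib.CategoryTheory.Abelian.GrothendieckCategory.EnoughInjectives

/-!
# Classes of cocycles given by sections
-/

set_option autoImplicit false
set_option backward.isDefEq.respectTransparency false
set_option backward.isDefEq.respectTransparency.types false

universe u

open CategoryTheory CategoryTheory.Limits AlgebraicGeometry Opposite Abelian
open Groth.Agent.H18Et

namespace Groth.Agent.H1DFun

variable {X : Scheme.{u}} {F : EtCoh.Ab X} (R : InjectiveResolution F) (W : X.Etale)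

omit R in
theorem homEquiv_eq {G : EtCoh.Ab X} (φ : (FreeSheaf.free X).obj W ⟶ G) :
    FreeSheaf.homEquiv W G φ = φ.hom.app (op W) (FreeSheaf.homEquiv W _ (𝟙 _)) := by
  rw [← FreeSheaf.homEquiv_comp, Category.id_comp]

omit R in
theorem homEquiv_add {G : EtCoh.Ab X} (φ ψ : (FreeSheaf.free X).obj W ⟶ G) :
    FreeSheaf.homEquiv W G (φ + ψ) = FreeSheaf.homEquiv W G φ + FreeSheaf.homEquiv W G ψ := by
  rw [homEquiv_eq, homEquiv_eq (φ := φ), homEquiv_eq (φ := ψ)]
  rfl

omit R in
theorem homEquiv_zero {G : EtCoh.Ab X} : FreeSheaf.homEquiv W G 0 = 0 := by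
  rw [homEquiv_eq]
  rfl

omit R in
theorem homEquiv_symm_add {G : EtCoh.Ab X} (x y : G.obj.obj (op W)) :
    (FreeSheaf.homEquiv W G).symm (x + y) = (FreeSheaf.homEquiv W G).symm x + (FreeSheaf.homEquiv W G).symm y := by
  rw [Equiv.symm_apply_eq, homEquiv_add, Equiv.apply_symm_apply, Equiv.apply_symm_apply]

variable (q : ℕ) (x : (R.cocomplex.X q).obj.obj (op W)) (hx : (R.cocomplex.d q (q + 1)).hom.app (op W) x = 0)

include hx in
theorem symm_comp_d : (FreeSheaf.homEquiv W _).symm x ≫ R.cocomplex.d q (q + 1) = 0 := by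
  apply (FreeSheaf.homEquiv W _).injective
  rw [FreeSheaf.homEquiv_comp, Equiv.apply_symm_apply, homEquiv_zero]
  exact hx

/-- The class of a section cocycle. -/
noncomputable def secCls : Ext ((FreeSheaf.free X).obj W) F q :=
  cls _ R q ((FreeSheaf.homEquiv W _).symm x) (symm_comp_d R W q x hx)

theorem secCls_def : secCls R W q x hx =
    cls _ R q ((FreeSheaf.homEquiv W _).symm x) (symm_comp_d R W q x hx) := rfl

theorem secCls_congr {y : (R.cocomplex.X q).obj.obj (op W)} (h : x = y)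
    (hy : (R.cocomplex.d q (q + 1)).hom.app (op W) y = 0) : secCls R W q x hx = secCls R W q y hy := by
  subst h; rfl

theorem secCls_add (y : (R.cocomplex.X q).obj.obj (op W))
    (hy : (R.cocomplex.d q (q + 1)).hom.app (op W) y = 0) :
    secCls R W q (x + y) (by rw [map_add, hx, hy, add_zero]) = secCls R W q x hx + secCls R W q y hy := by
  rw [secCls_def, secCls_def, secCls_def, ← cls_add]
  exact cls_congr _ R q (homEquiv_symm_add W x y) _ _

theorem secCls_map {W' : X.Etale} (m : W' ⟶ W)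
    (hx' : (R.cocomplex.d q (q + 1)).hom.app (op W') ((R.cocomplex.X q).obj.map m.op x) = 0) :
    (Ext.mk₀ ((FreeSheaf.free X).map m)).comp (secCls R W q x hx) (zero_add q) =
      secCls R W' q ((R.cocomplex.X q).obj.map m.op x) hx' := by
  rw [secCls_def, secCls_def, mk₀_comp_cls]
  refine cls_congr _ R q ?_ _ _
  rw [Equiv.eq_symm_apply, FreeSheaf.homEquiv_map, Equiv.apply_symm_apply]

omit x hx in
theorem secCls_surjective (y : Ext ((FreeSheaf.free X).obj W) F q) : ∃ x hx, secCls R W q x hx = y := by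
  obtain ⟨φ, hφ, rfl⟩ := cls_surjective _ R q y
  refine ⟨FreeSheaf.homEquiv W _ φ, ?_, ?_⟩
  · rw [← FreeSheaf.homEquiv_comp, hφ, homEquiv_zero]
  · rw [secCls_def]
    exact cls_congr _ R q (Equiv.symm_apply_apply _ _) _ _

omit q x hx in
theorem eq_zero_of_secCls (x : (R.cocomplex.X 0).obj.obj (op W))
    (hx : (R.cocomplex.d 0 1).hom.app (op W) x = 0) (h : secCls R W 0 x hx = 0) : x = 0 := by
  have h1 := eq_zero_of_cls _ R _ (symm_comp_d R W 0 x hx) h
  rw [Equiv.symm_apply_eq, homEquiv_zero] at h1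
  exact h1

omit q x hx in
theorem secCls_eq_zero_iff (i : ℕ) (x : (R.cocomplex.X (i + 1)).obj.obj (op W))
    (hx : (R.cocomplex.d (i + 1) (i + 1 + 1)).hom.app (op W) x = 0) :
    secCls R W (i + 1) x hx = 0 ↔ ∃ b, (R.cocomplex.d i (i + 1)).hom.app (op W) b = x := by
  rw [secCls_def, cls_eq_zero_iff]
  constructor
  · rintro ⟨g, hg⟩
    refine ⟨FreeSheaf.homEquiv W _ g, ?_⟩
    rw [← FreeSheaf.homEquiv_comp, hg, Equiv.apply_symm_apply]
  · rintro ⟨b, hb⟩
    refine ⟨(FreeSheaf.homEquiv W _).symm b, ?_⟩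
    apply (FreeSheaf.homEquiv W _).injective
    rw [FreeSheaf.homEquiv_comp, Equiv.apply_symm_apply, Equiv.apply_symm_apply, hb]

end Groth.Agent.H1DFun
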