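import Groth.Agent.H1DFun.Pb
import Groth.Agent.H1DFun.SecCls

/-!
# Inverse images of classes of cocycles along maps of resolutions
-/

set_option autoImplicit false
set_option backward.isDefEq.respectTransparency false
set_option backward.isDefEq.respectTransparency.types false

universe u

open CategoryTheory CategoryTheory.Limits AlgebraicGeometry Opposite Abelian
open Groth.Agent.H1Lim Groth.Agent.H18Et

namespace Groth.Agent.H1DFun

attribute [local instance] Groth.Agent.H18Et.pull_preservesFiniteLimits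

variable {X Y V : Scheme.{u}}

theorem sv_secUnit (aY : V ⟶ Y) (e : Y ⟶ X) (aX : V ⟶ X) (w : aY ≫ e = aX) (W : X.Etale)
    (π : V ⟶ ((EtCoh.bc e).obj W).left) (hπ : π ≫ ((EtCoh.bc e).obj W).hom = aY)
    (π₀ : V ⟶ W.left) (hπ₀ : π₀ ≫ W.hom = aX) (e₀ : π ≫ pullback.fst W.hom e = π₀)
    (F : EtCoh.Ab X) (s : F.obj.obj (op W)) :
    ((viaIso aY e aX w).app F).hom.hom.app (op (EtCoh.top V))
        (sv aY ((EtCoh.bc e).obj W) π hπ _ (secUnit e F W s)) =
      sv aX W π₀ hπ₀ F s := by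
  rw [sv_apply, sv_apply]
  let l : (EtCoh.bc aY).obj ((EtCoh.bc e).obj W) ⟶ (EtCoh.bc aX).obj W :=
    MorphismProperty.Over.homMk (pullback.lift
      (pullback.fst ((EtCoh.bc e).obj W).hom aY ≫ pullback.fst W.hom e)
      (pullback.snd ((EtCoh.bc e).obj W).hom aY)
      (by rw [Category.assoc, pullback.condition, ← w]
          exact (Category.assoc _ _ _).symm.trans ((congrArg (· ≫ e) pullback.condition).trans
            (Category.assoc _ _ _))))
      (pullback.lift_snd _ _ _) trivial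
  refine (NatTrans.naturality_apply ((viaIso aY e aX w).app F).hom.hom _ _).trans ?_
  rw [viaIso_unit aY e aX w F W l (pullback.lift_fst _ _ _), ← Functor.map_comp_apply, ← op_comp]
  refine congrArg (fun z => ((EtCoh.pull aX).obj F).obj.map z.op (secUnit aX F W s))
    (a₁ := svMor aY ((EtCoh.bc e).obj W) π hπ ≫ l) (bc_hom_ext aX ?_)
  show ((svMor aY ((EtCoh.bc e).obj W) π hπ).left ≫ l.left) ≫ _ = _
  rw [Category.assoc, show l.left ≫ pullback.fst W.hom aX =
    pullback.fst ((EtCoh.bc e).obj W).hom aY ≫ pullback.fst W.hom e from pullback.lift_fst _ _ _]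
  exact (Category.assoc _ _ _).symm.trans ((congrArg (· ≫ pullback.fst W.hom e)
    (svMor_fst aY ((EtCoh.bc e).obj W) π hπ)).trans (e₀.trans (svMor_fst aX W π₀ hπ₀).symm))

theorem pb_secCls_eq_psi (h : V ⟶ X) (W : X.Etale) (π : V ⟶ W.left) (hπ : π ≫ W.hom = h) {F : EtCoh.Ab X}
    (R : InjectiveResolution F) (q : ℕ) (s : (R.cocomplex.X q).obj.obj (op W))
    (hs : (R.cocomplex.d q (q + 1)).hom.app (op W) s = 0) :
    pb h W π hπ F q (secCls R W q s hs) =
      psi _ (EtCoh.pull h) R q 0 q (zero_add q) (Ext.mk₀ (tau h W π hπ ≫ (EtCoh.pull h).map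
        (R.cocomplex.liftCycles ((FreeSheaf.homEquiv W _).symm s) (q + 1) (by simp)
          (symm_comp_d R W q s hs)))) := by
  rw [pb_def, secCls_def, cls_def]
  refine (extMap_psi (EtCoh.pull h) (tau h W π hπ) R q 0 q (zero_add q) _).symm.trans ?_
  exact congrArg _ (H10Coh.extMap_mk₀ _ _ _ _)

/-- Inverse images of classes of cocycles, compared along a map of resolutions. -/
theorem pb_map (aY : V ⟶ Y) (e : Y ⟶ X) (aX : V ⟶ X) (w : aY ≫ e = aX) (W : X.Etale)
    (π : V ⟶ ((EtCoh.bc e).obj W).left) (hπ : π ≫ ((EtCoh.bc e).obj W).hom = aY)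
    (π₀ : V ⟶ W.left) (hπ₀ : π₀ ≫ W.hom = aX) (e₀ : π ≫ pullback.fst W.hom e = π₀)
    {F : EtCoh.Ab X} {G : EtCoh.Ab Y} (I : InjectiveResolution F) (R : InjectiveResolution G)
    (γ : F ⟶ (EtCoh.push e).obj G) (θ : ∀ i, I.cocomplex.X i ⟶ (EtCoh.push e).obj (R.cocomplex.X i))
    (hθ : ∀ i, θ i ≫ (EtCoh.push e).map (R.cocomplex.d i (i + 1)) = I.cocomplex.d i (i + 1) ≫ θ (i + 1))
    (hγ : I.ι.f 0 ≫ θ 0 = γ ≫ (EtCoh.push e).map (R.ι.f 0))
    (q : ℕ) (s : (I.cocomplex.X q).obj.obj (op W)) (hs : (I.cocomplex.d q (q + 1)).hom.app (op W) s = 0)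
    (hs' : (R.cocomplex.d q (q + 1)).hom.app (op ((EtCoh.bc e).obj W)) ((θ q).hom.app (op W) s) = 0) :
    pb aY ((EtCoh.bc e).obj W) π hπ G q (secCls R ((EtCoh.bc e).obj W) q ((θ q).hom.app (op W) s) hs') =
      Sheaf.H.map (((viaIso aY e aX w).app F).inv ≫
          (EtCoh.pull aY).map (((EtCoh.pullPushAdj e).homEquiv _ _).symm γ)) q
        (pb aX W π₀ hπ₀ F q (secCls I W q s hs)) := by
  let ad := EtCoh.pullPushAdj e
  let α : ∀ i, (EtCoh.pull aX).obj (I.cocomplex.X i) ⟶ (EtCoh.pull aY).obj (R.cocomplex.X i) := fun i =>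
    ((viaIso aY e aX w).app _).inv ≫ (EtCoh.pull aY).map ((ad.homEquiv _ _).symm (θ i))
  have hα : ∀ i, α i ≫ (EtCoh.pull aY).map (R.cocomplex.d i (i + 1)) =
      (EtCoh.pull aX).map (I.cocomplex.d i (i + 1)) ≫ α (i + 1) := by
    intro i
    refine (Category.assoc _ _ _).trans ?_
    rw [← Functor.map_comp, ← ad.homEquiv_naturality_right_symm, hθ, ad.homEquiv_naturality_left_symm,
      Functor.map_comp, ← Category.assoc]
    refine Eq.trans ?_ (Category.assoc _ _ _)
    exact congrArg (· ≫ _) ((viaIso aY e aX w).inv.naturality (I.cocomplex.d i (i + 1))).symm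
  have hγ' : (EtCoh.pull aX).map (I.ι.f 0) ≫ α 0 =
      (((viaIso aY e aX w).app F).inv ≫ (EtCoh.pull aY).map ((ad.homEquiv _ _).symm γ)) ≫
        (EtCoh.pull aY).map (R.ι.f 0) := by
    refine Eq.trans ?_ (Category.assoc _ _ _).symm
    rw [← Functor.map_comp, ← ad.homEquiv_naturality_right_symm, ← hγ, ad.homEquiv_naturality_left_symm,
      Functor.map_comp]
    refine ((Category.assoc _ _ _).symm.trans ?_).trans (Category.assoc _ _ _)
    exact congrArg (· ≫ _) ((viaIso aY e aX w).inv.naturality (I.ι.f 0))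
  rw [pb_secCls_eq_psi, pb_secCls_eq_psi, Sheaf.H.map_apply]
  refine Eq.trans ?_ (psi_map _ (EtCoh.pull aX) (EtCoh.pull aY) I R α hα _ hγ' q 0 q (zero_add q) _)
  refine congrArg _ (Eq.trans ?_ (Ext.mk₀_comp_mk₀ _ _).symm)
  refine congrArg Ext.mk₀ ?_
  haveI : Mono ((EtCoh.pull aY).map (R.cocomplex.iCycles q)) := inferInstance
  refine (cancel_mono ((EtCoh.pull aY).map (R.cocomplex.iCycles q))).1 ?_
  rw [Category.assoc, Category.assoc, Category.assoc, cyclesHom_i, ← Category.assoc ((EtCoh.pull aX).map _),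
    ← Functor.map_comp, ← Functor.map_comp, R.cocomplex.liftCycles_i, I.cocomplex.liftCycles_i]
  refine (Ext.mk₀_bijective _ _).injective ((Sheaf.H.equiv₀ _ (EtCore.topIsTerminal V)).injective ?_)
  rw [tau_comp, Equiv.apply_symm_apply]
  have h1 : Ext.mk₀ (tau aX W π₀ hπ₀ ≫ (EtCoh.pull aX).map ((FreeSheaf.homEquiv W _).symm s) ≫ α q) =
      Sheaf.H.map (α q) 0 (Ext.mk₀ (tau aX W π₀ hπ₀ ≫ (EtCoh.pull aX).map ((FreeSheaf.homEquiv W _).symm s))) := by
    rw [← Category.assoc]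
    exact (Ext.mk₀_comp_mk₀ _ _).symm
  rw [h1, ← Sheaf.H.equiv₀_naturality, tau_comp, Equiv.apply_symm_apply]
  have h3 : (θ q).hom.app (op W) s =
      ((ad.homEquiv _ _).symm (θ q)).hom.app (op ((EtCoh.bc e).obj W)) (secUnit e (I.cocomplex.X q) W s) :=
    (congrArg (fun k => k.hom.app (op W) s)
      (((ad.homEquiv _ _).apply_symm_apply (θ q)).symm.trans (ad.homEquiv_unit _ _ _))).trans rfl
  rw [h3, ← sv_naturality, ← sv_secUnit aY e aX w W π hπ π₀ hπ₀ e₀]
  refine congrArg (((EtCoh.pull aY).map ((ad.homEquiv _ _).symm (θ q))).hom.app (op (EtCoh.top V))) ?_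
  exact (congrArg (fun k => k.hom.app (op (EtCoh.top V)) (sv aY ((EtCoh.bc e).obj W) π hπ _
    (secUnit e (I.cocomplex.X q) W s))) ((viaIso aY e aX w).app (I.cocomplex.X q)).hom_inv_id).symm

end Groth.Agent.H1DFun
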