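import Groth.Agent.H1DFun.Pb
import Groth.Agent.H1DFun.PbPull
import Groth.Agent.H1DFun.EdgeExt
import Groth.Agent.H14Acyc.Comp

/-!
# Inverse image on classes over etale schemes, and acyclicity
-/

set_option autoImplicit false
set_option backward.isDefEq.respectTransparency false
set_option backward.isDefEq.respectTransparency.types false

universe u

open CategoryTheory CategoryTheory.Limits AlgebraicGeometry Opposite Abelian
open Groth.Agent.H18Et Groth.Agent.H1Lim

namespace Groth.Agent.H1DFun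

attribute [local instance] Groth.Agent.H18Et.pull_preservesFiniteLimits

/-- Two pullbacks of a class, through a natural isomorphism of exact functors. -/
theorem extMap_twice {A B C : Type*} [Category A] [Abelian A] [HasExt.{u + 1} A] [EnoughInjectives A]
    [Category B] [Abelian B] [HasExt.{u + 1} B] [Category C] [Abelian C] [HasExt.{u + 1} C]
    (G : A ⥤ B) [G.Additive] [PreservesFiniteLimits G] [PreservesFiniteColimits G]
    (H : B ⥤ C) [H.Additive] [PreservesFiniteLimits H] [PreservesFiniteColimits H]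
    (K : A ⥤ C) [K.Additive] [PreservesFiniteLimits K] [PreservesFiniteColimits K] (e : G ⋙ H ≅ K)
    {X : A} {X' : C} (t : X' ⟶ K.obj X) (Y : A) (q : ℕ) (x : Ext X Y q) :
    (H10Coh.extMap H (t ≫ (e.app X).inv) _ q (x.mapExactFunctor G)).comp (Ext.mk₀ (e.app Y).hom) (add_zero q) =
      H10Coh.extMap K t Y q x := by
  rw [H10Coh.extMap_apply, H10Coh.extMap_apply, Ext.comp_assoc_of_third_deg_zero, Iso.app_hom, Iso.app_inv,
    H18Ext.mapExactFunctor_natTrans G H K e.hom X q Y x, Ext.mk₀_comp_mk₀_assoc, Category.assoc, e.inv_hom_id_app,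
    Category.comp_id]

variable {V P : Scheme.{u}} (p : P ⟶ V) (U : V.Etale)

theorem bc_leg : ((EtCoh.bc p).obj U).hom ≫ p = pullback.fst U.hom p ≫ U.hom := pullback.condition.symm

/-- The point of the inverse image of a free sheaf. -/
noncomputable def tauBC :
    (constantSheaf ((EtCoh.bc p).obj U).left.smallEtaleTopology AddCommGrpCat.{u + 1}).obj
        (AddCommGrpCat.of (ULift ℤ)) ⟶
      (EtCoh.pull ((EtCoh.bc p).obj U).hom).obj ((EtCoh.pull p).obj ((FreeSheaf.free V).obj U)) :=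
  tau (pullback.fst U.hom p ≫ U.hom) U (pullback.fst U.hom p) rfl ≫
    ((viaIso ((EtCoh.bc p).obj U).hom p _ (bc_leg p U)).app _).inv

theorem equiv₀_mk₀_inv_comp {W : Scheme.{u}} {A B M : EtCoh.Ab W}
    (t : (constantSheaf W.smallEtaleTopology AddCommGrpCat.{u + 1}).obj (AddCommGrpCat.of (ULift ℤ)) ⟶ A)
    (v : B ≅ A) (g : B ⟶ M) :
    Sheaf.H.equiv₀ M (EtCore.topIsTerminal W) (Ext.mk₀ ((t ≫ v.inv) ≫ g)) =
      g.hom.app (op (EtCoh.top W)) (v.inv.hom.app (op (EtCoh.top W))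
        (Sheaf.H.equiv₀ A (EtCore.topIsTerminal W) (Ext.mk₀ t))) := by
  rw [show Ext.mk₀ ((t ≫ v.inv) ≫ g) = Sheaf.H.map g 0 (Sheaf.H.map v.inv 0 (Ext.mk₀ t)) by
      rw [Sheaf.H.map_apply, Sheaf.H.map_apply, Ext.mk₀_comp_mk₀, Ext.mk₀_comp_mk₀],
    ← Sheaf.H.equiv₀_naturality, ← Sheaf.H.equiv₀_naturality]

theorem iso_inv_app_apply {W : Scheme.{u}} {A B : EtCoh.Ab W} (v : B ≅ A) (U : W.Etaleᵒᵖ) {b : B.obj.obj U}
    {a : A.obj.obj U} (h : v.hom.hom.app U b = a) : v.inv.hom.app U a = b := by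
  subst h
  exact congrArg (fun k => k.hom.app U b) v.hom_inv_id

theorem inv_sv {X Y W : Scheme.{u}} (aY : W ⟶ Y) (e : Y ⟶ X) (aX : W ⟶ X) (w : aY ≫ e = aX) (Z : X.Etale)
    (π : W ⟶ ((EtCoh.bc e).obj Z).left) (hπ : π ≫ ((EtCoh.bc e).obj Z).hom = aY)
    (π₀ : W ⟶ Z.left) (hπ₀ : π₀ ≫ Z.hom = aX) (e₀ : π ≫ pullback.fst Z.hom e = π₀)
    (F : EtCoh.Ab X) (s : F.obj.obj (op Z)) :
    ((viaIso aY e aX w).app F).inv.hom.app (op (EtCoh.top W)) (sv aX Z π₀ hπ₀ F s) =
      sv aY ((EtCoh.bc e).obj Z) π hπ _ (secUnit e F Z s) :=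
  iso_inv_app_apply _ _ (sv_secUnit aY e aX w Z π hπ π₀ hπ₀ e₀ F s)

theorem app_secUnit_generator (M : EtCoh.Ab P) (φ : (EtCoh.pull p).obj ((FreeSheaf.free V).obj U) ⟶ M) :
    φ.hom.app (op ((EtCoh.bc p).obj U)) (secUnit p _ U (FreeSheaf.homEquiv U _ (𝟙 _))) =
      FreeSheaf.homEquiv U ((EtCoh.push p).obj M) ((EtCoh.pullPushAdj p).homEquiv _ _ φ) := by
  rw [← Category.id_comp ((EtCoh.pullPushAdj p).homEquiv _ _ φ), FreeSheaf.homEquiv_comp, Adjunction.homEquiv_unit]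
  rfl

theorem equiv₀_tau_inv_map {X Y W : Scheme.{u}} (aY : W ⟶ Y) (e : Y ⟶ X) (aX : W ⟶ X) (w : aY ≫ e = aX)
    (Z : X.Etale) (π : W ⟶ ((EtCoh.bc e).obj Z).left) (hπ : π ≫ ((EtCoh.bc e).obj Z).hom = aY)
    (π₀ : W ⟶ Z.left) (hπ₀ : π₀ ≫ Z.hom = aX) (e₀ : π ≫ pullback.fst Z.hom e = π₀)
    (M : EtCoh.Ab Y) (φ : (EtCoh.pull e).obj ((FreeSheaf.free X).obj Z) ⟶ M) :
    Sheaf.H.equiv₀ _ (EtCore.topIsTerminal W)
        (Ext.mk₀ ((tau aX Z π₀ hπ₀ ≫ ((viaIso aY e aX w).app _).inv) ≫ (EtCoh.pull aY).map φ)) =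
      sv aY ((EtCoh.bc e).obj Z) π hπ M
        (FreeSheaf.homEquiv Z ((EtCoh.push e).obj M) ((EtCoh.pullPushAdj e).homEquiv _ _ φ)) := by
  refine (equiv₀_mk₀_inv_comp (tau aX Z π₀ hπ₀) ((viaIso aY e aX w).app ((FreeSheaf.free X).obj Z))
    ((EtCoh.pull aY).map φ)).trans ?_
  rw [mk₀_tau, inv_sv aY e aX w Z π hπ π₀ hπ₀ e₀]
  exact (sv_naturality _ _ _ _ φ _).trans (congrArg _ (app_secUnit_generator e Z M φ))

theorem equiv₀_tauBC (M : EtCoh.Ab P) (φ : (EtCoh.pull p).obj ((FreeSheaf.free V).obj U) ⟶ M) :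
    Sheaf.H.equiv₀ _ (EtCore.topIsTerminal _)
        (Ext.mk₀ (tauBC p U ≫ (EtCoh.pull ((EtCoh.bc p).obj U).hom).map φ)) =
      sv ((EtCoh.bc p).obj U).hom ((EtCoh.bc p).obj U) (𝟙 _) (Category.id_comp _) M
        (FreeSheaf.homEquiv U ((EtCoh.push p).obj M) ((EtCoh.pullPushAdj p).homEquiv _ _ φ)) :=
  equiv₀_tau_inv_map ((EtCoh.bc p).obj U).hom p (pullback.fst U.hom p ≫ U.hom) (bc_leg p U) U (𝟙 _)
    (Category.id_comp _) (pullback.fst U.hom p) rfl (Category.id_comp _) M φ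

theorem extMap_tauBC_bijective (M : EtCoh.Ab P) (q : ℕ) :
    Function.Bijective (H10Coh.extMap (EtCoh.pull ((EtCoh.bc p).obj U).hom) (tauBC p U) M q) := by
  refine H10Coh.extMap_bijective _ (tauBC p U) (fun G => ?_) (fun J _ m => ?_) q M
  · refine (Function.Bijective.of_comp_iff' (f := fun z => Sheaf.H.equiv₀ _ (EtCore.topIsTerminal _)
      (Ext.mk₀ z)) ?_ _).1 ?_
    · exact (Sheaf.H.equiv₀ _ (EtCore.topIsTerminal _)).bijective.comp (Ext.mk₀_bijective _ _)
    · refine (congrArg Function.Bijective (funext fun φ => equiv₀_tauBC p U G φ)).mpr ?_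
      exact (sv_bijective ((EtCoh.bc p).obj U) G).comp
        ((FreeSheaf.homEquiv U ((EtCoh.push p).obj G)).bijective.comp (Equiv.bijective _))
  · haveI := EtaleRestrict.injective_pull ((EtCoh.bc p).obj U).hom J
    exact subsingleton_of_forall_eq 0 fun x => Ext.eq_zero_of_injective x

theorem map_extMap_tauBC (F : EtCoh.Ab V) (q : ℕ) (x : Ext ((FreeSheaf.free V).obj U) F q) :
    Sheaf.H.map ((viaIso ((EtCoh.bc p).obj U).hom p _ (bc_leg p U)).app F).hom q
        (H10Coh.extMap (EtCoh.pull ((EtCoh.bc p).obj U).hom) (tauBC p U) _ q (x.mapExactFunctor (EtCoh.pull p))) =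
      pb (pullback.fst U.hom p ≫ U.hom) U (pullback.fst U.hom p) rfl F q x := by
  exact extMap_twice (EtCoh.pull p) (EtCoh.pull ((EtCoh.bc p).obj U).hom) (EtCoh.pull _)
    (viaIso ((EtCoh.bc p).obj U).hom p _ (bc_leg p U)) _ F q x

theorem mapExact_free (F : EtCoh.Ab V) (q : ℕ) :
    (Function.Injective (EtCore.Hpull (pullback.fst U.hom p) ((EtCoh.pull U.hom).obj F) q) →
      Function.Injective fun x : Ext ((FreeSheaf.free V).obj U) F q => x.mapExactFunctor (EtCoh.pull p)) ∧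
    (Function.Bijective (EtCore.Hpull (pullback.fst U.hom p) ((EtCoh.pull U.hom).obj F) q) →
      Function.Bijective fun x : Ext ((FreeSheaf.free V).obj U) F q => x.mapExactFunctor (EtCoh.pull p)) := by
  let i := (viaIso ((EtCoh.bc p).obj U).hom p _ (bc_leg p U)).app F
  have b1 : Function.Bijective (Sheaf.H.map i.hom q) :=
    ⟨H_map_injective i q, fun y => ⟨_, H_map_inv_hom i q y⟩⟩
  let A : Ext ((EtCoh.pull p).obj ((FreeSheaf.free V).obj U)) ((EtCoh.pull p).obj F) q →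
      Sheaf.H ((EtCoh.pull (pullback.fst U.hom p ≫ U.hom)).obj F) q :=
    fun y => Sheaf.H.map i.hom q (H10Coh.extMap (EtCoh.pull ((EtCoh.bc p).obj U).hom) (tauBC p U) _ q y)
  have hA : Function.Bijective A := b1.comp (extMap_tauBC_bijective p U _ q)
  let a := (viaIso (pullback.fst U.hom p) U.hom _ rfl).app F
  have b2 : Function.Bijective (Sheaf.H.map a.hom q) :=
    ⟨H_map_injective a q, fun y => ⟨_, H_map_inv_hom a q y⟩⟩
  have hcomp : (A ∘ fun x : Ext ((FreeSheaf.free V).obj U) F q => x.mapExactFunctor (EtCoh.pull p)) =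
      Sheaf.H.map a.hom q ∘ EtCore.Hpull (pullback.fst U.hom p) ((EtCoh.pull U.hom).obj F) q ∘
        pb U.hom U (𝟙 _) (Category.id_comp _) F q := by
    funext x
    refine (map_extMap_tauBC p U F q x).trans ?_
    refine (pb_via (pullback.fst U.hom p) U.hom _ rfl U (𝟙 _) (Category.id_comp _) _ rfl
      (Category.comp_id _) F q x).symm.trans ?_
    rw [HpullVia_def]
    rfl
  refine ⟨fun h => Function.Injective.of_comp (f := A) ?_, fun h => ?_⟩
  · rw [hcomp]
    exact b2.1.comp (h.comp (pb_self_bijective U F q).1)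
  · refine (Function.Bijective.of_comp_iff' hA _).1 ?_
    rw [hcomp]
    exact b2.comp (h.comp (pb_self_bijective U F q))

theorem edge_unit {C D : Type*} [Category C] [Abelian C] [HasExt.{u + 1} C] [Category D] [Abelian D]
    [HasExt.{u + 1} D] [EnoughInjectives D] {L : C ⥤ D} {R : D ⥤ C} (adj : L ⊣ R) [L.Additive]
    [PreservesFiniteLimits L] [PreservesFiniteColimits L] [R.Additive] [PreservesFiniteLimits R]
    (A F : C) (q : ℕ) (x : Ext A F q) :
    edge adj A (L.obj F) q (x.comp (Ext.mk₀ (adj.unit.app F)) (add_zero q)) = x.mapExactFunctor L := by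
  rw [edge_apply, Ext.mapExactFunctor_comp, Ext.mapExactFunctor_mk₀, Ext.comp_assoc_of_second_deg_zero,
    Ext.mk₀_comp_mk₀, adj.left_triangle_components]
  exact Ext.comp_mk₀_id _

theorem postcomp_iso_bijective {C : Type*} [Category C] [Abelian C] [HasExt.{u + 1} C] (A : C) {B B' : C}
    (i : B ⟶ B') [IsIso i] (q : ℕ) :
    Function.Bijective fun x : Ext A B q => x.comp (Ext.mk₀ i) (add_zero q) :=
  ⟨Function.LeftInverse.injective (g := fun y => y.comp (Ext.mk₀ (inv i)) (add_zero q)) fun x => by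
      simp only [Ext.comp_assoc_of_second_deg_zero, Ext.mk₀_comp_mk₀, IsIso.hom_inv_id, Ext.comp_mk₀_id],
    Function.RightInverse.surjective (g := fun y => y.comp (Ext.mk₀ (inv i)) (add_zero q)) fun x => by
      simp only [Ext.comp_assoc_of_second_deg_zero, Ext.mk₀_comp_mk₀, IsIso.inv_hom_id, Ext.comp_mk₀_id]⟩

theorem isIso_of_sections {G G' : EtCoh.Ab V} (i : G ⟶ G')
    (h : ∀ U : V.Etale, Function.Bijective fun φ : (FreeSheaf.free V).obj U ⟶ G => φ ≫ i) : IsIso i := by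
  haveI : ∀ U, IsIso (i.hom.app U) := fun U => by
    rw [ConcreteCategory.isIso_iff_bijective]
    refine (Function.Bijective.of_comp_iff _ (FreeSheaf.homEquiv U.unop G).bijective).1 ?_
    rw [show ⇑(i.hom.app U) ∘ ⇑(FreeSheaf.homEquiv U.unop G) =
      ⇑(FreeSheaf.homEquiv U.unop G') ∘ fun φ => φ ≫ i from funext fun φ => (FreeSheaf.homEquiv_comp φ i).symm]
    exact (FreeSheaf.homEquiv U.unop G').bijective.comp (h U.unop)
  haveI : IsIso ((sheafToPresheaf V.smallEtaleTopology AddCommGrpCat.{u + 1}).map i) :=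
    NatIso.isIso_of_isIso_app i.hom
  exact isIso_of_reflects_iso i (sheafToPresheaf _ _)

theorem free_separating {Q M : EtCoh.Ab V} (i : Q ⟶ M) [Mono i]
    (h : ∀ (U : V.Etale) (y : (FreeSheaf.free V).obj U ⟶ M), ∃ z, z ≫ i = y) : IsIso i :=
  isIso_of_sections i fun U => ⟨fun _ _ e => (cancel_mono i).1 e, h U⟩

/-- The edge criterion for acyclicity. -/
theorem compN_of_unit_vanishing {L : Set ℕ} {n : ℕ}
    (H : ∀ F : EtCoh.Ab V, EtAcyc.IsLTorsion L F → IsIso ((EtCoh.pullPushAdj p).unit.app F) ∧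
      ∀ q : ℕ, 1 ≤ q → q ≤ n → IsZero ((EtCoh.Rpush p q).obj ((EtCoh.pull p).obj F))) :
    EtAcyc.CompN p L n := by
  intro F hF _
  obtain ⟨hu, hR⟩ := H F hF
  have he := edge_of_vanishing (EtCoh.pullPushAdj p) (EtCoh.const V ℤ) n ((EtCoh.pull p).obj F) hR
  have key : ∀ q, (⇑(EtCore.Hpull p F q) : EtCoh.H V F q → EtCoh.H P ((EtCoh.pull p).obj F) q) =
      (fun z => (Ext.mk₀ (EtCore.pullConst p ℤ).inv).comp z (zero_add q)) ∘
        edge (EtCoh.pullPushAdj p) (EtCoh.const V ℤ) _ q ∘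
          fun x => x.comp (Ext.mk₀ ((EtCoh.pullPushAdj p).unit.app F)) (add_zero q) := fun q =>
    funext fun x => congrArg (fun z => (Ext.mk₀ (EtCore.pullConst p ℤ).inv).comp z (zero_add q))
      (edge_unit (EtCoh.pullPushAdj p) _ F q x).symm
  have b3 : ∀ q, Function.Bijective fun z : Ext ((EtCoh.pull p).obj (EtCoh.const V ℤ)) ((EtCoh.pull p).obj F) q =>
      (Ext.mk₀ (EtCore.pullConst p ℤ).inv).comp z (zero_add q) := fun q =>
    ⟨Function.LeftInverse.injective (g := fun w => (Ext.mk₀ (EtCore.pullConst p ℤ).hom).comp w (zero_add q))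
      (fun z => by simp only [Ext.mk₀_comp_mk₀_assoc, Iso.hom_inv_id, Ext.mk₀_id_comp]),
     Function.RightInverse.surjective (g := fun w => (Ext.mk₀ (EtCore.pullConst p ℤ).hom).comp w (zero_add q))
      (fun z => by simp only [Ext.mk₀_comp_mk₀_assoc, Iso.inv_hom_id, Ext.mk₀_id_comp])⟩
  refine ⟨fun q hq => ?_, ?_⟩
  · rw [key]
    exact (b3 q).comp ((he.1 q hq).comp (postcomp_iso_bijective _ _ q))
  · rw [key]
    exact (b3 _).1.comp (he.2.comp (postcomp_iso_bijective _ _ _).1)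

/-- Acyclicity over all etale schemes gives the unit isomorphism and vanishing. -/
theorem unit_vanishing_of_compN {L : Set ℕ} {n : ℕ}
    (H : ∀ U : V.Etale, EtAcyc.CompN (pullback.fst U.hom p) L n) (F : EtCoh.Ab V) (hF : EtAcyc.IsLTorsion L F) :
    IsIso ((EtCoh.pullPushAdj p).unit.app F) ∧
      ∀ q : ℕ, 1 ≤ q → q ≤ n → IsZero ((EtCoh.Rpush p q).obj ((EtCoh.pull p).obj F)) := by
  have hb : ∀ (U : V.Etale) (q : ℕ), q ≤ n →
      Function.Bijective fun x : Ext ((FreeSheaf.free V).obj U) F q => x.mapExactFunctor (EtCoh.pull p) :=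
    fun U q hq => (mapExact_free p U F q).2 ((H U _ (H14Acyc.isLTorsion_pull L U.hom F hF)).1 q hq)
  haveI hu : IsIso ((EtCoh.pullPushAdj p).unit.app F) := isIso_of_sections _ fun U => by
    refine (Function.Bijective.of_comp_iff' ((Ext.mk₀_bijective _ _).comp
      ((EtCoh.pullPushAdj p).homEquiv _ _).symm.bijective) _).1 ?_
    refine (congrArg Function.Bijective (funext fun φ => ?_)).mp
      ((hb U 0 (Nat.zero_le n)).comp (Ext.mk₀_bijective _ _))
    show (Ext.mk₀ φ).mapExactFunctor (EtCoh.pull p) = Ext.mk₀ (((EtCoh.pullPushAdj p).homEquiv _ _).symm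
      (φ ≫ (EtCoh.pullPushAdj p).unit.app F))
    rw [Ext.mapExactFunctor_mk₀, Adjunction.homEquiv_counit, Functor.map_comp, Category.assoc]
    exact congrArg Ext.mk₀ ((congrArg (_ ≫ ·) ((EtCoh.pullPushAdj p).left_triangle_components F)).trans
      (Category.comp_id _)).symm
  refine ⟨hu, vanishing_of_edge (EtCoh.pullPushAdj p) (FreeSheaf.free V).obj
    (fun i _ h => free_separating i h) n _ fun U q hq => ?_⟩
  refine (Function.Bijective.of_comp_iff _ (postcomp_iso_bijective _ ((EtCoh.pullPushAdj p).unit.app F) q)).1 ?_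
  exact (congrArg Function.Bijective (funext fun x => (edge_unit (EtCoh.pullPushAdj p) _ F q x).symm)).mp (hb U q hq)

end Groth.Agent.H1DFun
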