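import Groth.Agent.H10Coh.ExtMap

/-!
# Ext groups and adjoint exact functors
-/

set_option autoImplicit false
set_option backward.isDefEq.respectTransparency false
set_option backward.isDefEq.respectTransparency.types false

universe w₁ w₂ v₁ v₂ u₁ u₂

open CategoryTheory CategoryTheory.Limits Abelian Groth.Agent.H10Coh

namespace Groth.Agent.H1DFun

variable {C : Type u₁} [Category.{v₁} C] [Abelian C] [HasExt.{w₁} C]
variable {D : Type u₂} [Category.{v₂} D] [Abelian D] [HasExt.{w₂} D] [EnoughInjectives D]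
variable {L : C ⥤ D} {R : D ⥤ C} (adj : L ⊣ R) [L.Additive] [PreservesFiniteLimits L]
  [PreservesFiniteColimits L] [R.Additive] [PreservesFiniteLimits R] [PreservesFiniteColimits R]

/-- Apply the left adjoint, then the counit. -/
noncomputable def adjExt (A : C) (B : D) (n : ℕ) : Ext.{w₁} A (R.obj B) n →+ Ext.{w₂} (L.obj A) B n :=
  AddMonoidHom.mk' (fun x => (x.mapExactFunctor L).comp (Ext.mk₀ (adj.counit.app B)) (add_zero n))
    fun x y => by rw [Ext.mapExactFunctor_add, Ext.add_comp]

theorem adjExt_apply (A : C) (B : D) (n : ℕ) (x : Ext.{w₁} A (R.obj B) n) :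
    adjExt adj A B n x = (x.mapExactFunctor L).comp (Ext.mk₀ (adj.counit.app B)) (add_zero n) := rfl

theorem adjExt_naturality (A : C) {B B' : D} (φ : B ⟶ B') (n : ℕ) (x : Ext.{w₁} A (R.obj B) n) :
    adjExt adj A B' n (x.comp (Ext.mk₀ (R.map φ)) (add_zero n)) =
      (adjExt adj A B n x).comp (Ext.mk₀ φ) (add_zero n) := by
  rw [adjExt_apply, adjExt_apply, Ext.mapExactFunctor_comp, Ext.mapExactFunctor_mk₀,
    Ext.comp_assoc_of_second_deg_zero, Ext.comp_assoc_of_second_deg_zero, Ext.mk₀_comp_mk₀, Ext.mk₀_comp_mk₀]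
  exact congrArg (fun k => Ext.comp _ (Ext.mk₀ k) (add_zero n)) (adj.counit.naturality φ)

theorem adjExt_extClass (A : C) {S : ShortComplex D} (hS : S.ShortExact) (n : ℕ)
    (x : Ext.{w₁} A (R.obj S.X₃) n) :
    adjExt adj A S.X₁ (n + 1) (Ext.comp x (hS.map_of_exact R).extClass rfl) =
      (adjExt adj A S.X₃ n x).comp hS.extClass rfl := by
  let φ : (S.map R).map L ⟶ S := ShortComplex.homMk (adj.counit.app _) (adj.counit.app _) (adj.counit.app _)
    (adj.counit.naturality _).symm (adj.counit.naturality _).symm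
  have hn := ShortComplex.ShortExact.extClass_naturality ((hS.map_of_exact R).map_of_exact L) hS φ
  rw [adjExt_apply, adjExt_apply, Ext.mapExactFunctor_comp, Ext.mapExactFunctor_extClass,
    Ext.comp_assoc_of_third_deg_zero]
  refine (congrArg (fun k => Ext.comp (x.mapExactFunctor L) k rfl) hn).trans ?_
  rw [← Ext.comp_assoc_of_second_deg_zero]
  rfl

include adj in
theorem injective_right_adjoint (J : D) [Injective J] : Injective (R.obj J) :=
  Injective.injective_of_adjoint adj J

theorem adjExt_bijective (A : C) : ∀ (n : ℕ) (B : D), Function.Bijective (adjExt adj A B n) := by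
  intro n
  induction n with
  | zero =>
    intro B
    refine ⟨fun x y h => ?_, fun y => ?_⟩
    · obtain ⟨φ, rfl⟩ := (Ext.mk₀_bijective _ _).2 x
      obtain ⟨ψ, rfl⟩ := (Ext.mk₀_bijective _ _).2 y
      rw [adjExt_apply, adjExt_apply, Ext.mapExactFunctor_mk₀, Ext.mapExactFunctor_mk₀, Ext.mk₀_comp_mk₀,
        Ext.mk₀_comp_mk₀] at h
      exact congrArg Ext.mk₀ ((adj.homEquiv A B).symm.injective
        ((adj.homEquiv_counit A B φ).trans (((Ext.mk₀_bijective _ _).1 h).trans (adj.homEquiv_counit A B ψ).symm)))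
    · obtain ⟨ψ, rfl⟩ := (Ext.mk₀_bijective _ _).2 y
      refine ⟨Ext.mk₀ (adj.homEquiv _ _ ψ), ?_⟩
      rw [adjExt_apply, Ext.mapExactFunctor_mk₀, Ext.mk₀_comp_mk₀]
      exact congrArg Ext.mk₀ ((adj.homEquiv_counit A B _).symm.trans (Equiv.symm_apply_apply _ ψ))
  | succ n ih =>
    intro B
    have hS := injSeq_shortExact B
    haveI : Injective ((injSeq B).map R).X₂ := injective_right_adjoint adj (injSeq B).X₂
    refine ⟨(injective_iff_map_eq_zero _).2 fun x hx => ?_, fun y => ?_⟩
    · obtain ⟨w, rfl⟩ : ∃ w : Ext A (R.obj (injSeq B).X₃) n, Ext.comp w (hS.map_of_exact R).extClass rfl = x :=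
        Ext.covariant_sequence_exact₁ A (hS.map_of_exact R) x (Ext.eq_zero_of_injective _) rfl
      have h1 := (adjExt_extClass adj A hS n w).symm.trans hx
      obtain ⟨z, hz⟩ := Ext.covariant_sequence_exact₃ (L.obj A) hS _ rfl h1
      obtain ⟨v, rfl⟩ := (ih _).2 z
      rw [← adjExt_naturality] at hz
      rw [← (ih _).1 hz, Ext.comp_assoc_of_second_deg_zero]
      exact (congrArg (fun k => Ext.comp v k rfl) (hS.map_of_exact R).comp_extClass).trans (Ext.comp_zero _ _ _ _ _)
    · obtain ⟨z, rfl⟩ : ∃ z : Ext (L.obj A) (injSeq B).X₃ n, Ext.comp z hS.extClass rfl = y :=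
        Ext.covariant_sequence_exact₁ (L.obj A) hS y (Ext.eq_zero_of_injective _) rfl
      obtain ⟨w, rfl⟩ := (ih _).2 z
      exact ⟨_, adjExt_extClass adj A hS n w⟩

end Groth.Agent.H1DFun
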