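import Groth.Agent.H1DFun.ClsGrp
import Groth.Agent.H1DFun.AdjExt
import Groth.Agent.H18Et.PushIntegral
import Groth.Agent.S14389

/-!
# Classes with coefficients in a direct image along an integral morphism
-/

set_option autoImplicit false
set_option backward.isDefEq.respectTransparency false
set_option backward.isDefEq.respectTransparency.types false

universe u

open CategoryTheory CategoryTheory.Limits AlgebraicGeometry Opposite Abelian
open Groth.Agent.H18Et Groth.Agent.H1Lim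

namespace Groth.Agent.H1DFun

attribute [local instance] Groth.Agent.H18Et.pull_preservesFiniteLimits

variable {T T' : Scheme.{u}} (π : T' ⟶ T) (H : EtCoh.Ab T') (q : ℕ)

/-- Change to coefficients upstairs. -/
noncomputable def muC {V' : Scheme.{u}} (b' : V' ⟶ T') (c : V' ⟶ T) (hc : b' ≫ π = c) :
    (CL ((EtCoh.push π).obj H) q c : Type (u + 1)) →+ CL H q b' :=
  Sheaf.H.map (((viaIso b' π c hc).app _).inv ≫ (EtCoh.pull b').map ((EtCoh.pullPushAdj π).counit.app H)) q

/-- Classes of the direct image give classes upstairs. -/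
noncomputable def phiC {V V' : Scheme.{u}} (b : V ⟶ T) (b' : V' ⟶ T') (pr : V' ⟶ V) (c : V' ⟶ T)
    (h₁ : pr ≫ b = c) (h₂ : b' ≫ π = c) : (CL ((EtCoh.push π).obj H) q b : Type (u + 1)) →+ CL H q b' :=
  (muC π H q b' c h₂).comp (cR ((EtCoh.push π).obj H) q pr h₁)

theorem cR_muC {V V' : Scheme.{u}} (b : V ⟶ T') (b' : V' ⟶ T') (m : V' ⟶ V) (wm : m ≫ b = b') (c : V ⟶ T)
    (c' : V' ⟶ T) (hc : b ≫ π = c) (hc' : b' ≫ π = c') (x : CL ((EtCoh.push π).obj H) q c) :
    cR H q m wm (muC π H q b c hc x) =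
      muC π H q b' c' hc' (cR ((EtCoh.push π).obj H) q m (by rw [← hc, ← Category.assoc, wm, hc']) x) := by
  let G := (EtCoh.push π).obj H
  let ε : (EtCoh.pull π).obj G ⟶ H := (EtCoh.pullPushAdj π).counit.app H
  let y : CL ((EtCoh.pull π).obj G) q b := Sheaf.H.map ((viaIso b π c hc).app G).inv q x
  have e1 : muC π H q b c hc x = cM ε q b y := Sheaf.H.map_comp_apply _ _ _
  rw [e1, cR_cM]
  refine Eq.trans ?_ (Sheaf.H.map_comp_apply _ _ _).symm
  refine congrArg (cM ε q b') ?_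
  apply H_map_injective ((viaIso b' π c' hc').app G) q
  refine (HpullVia_sigma π m b b' wm c c' hc hc' (by rw [← hc, ← Category.assoc, wm, hc']) G q y).trans ?_
  refine Eq.trans (congrArg _ (H_map_inv_hom ((viaIso b π c hc).app G) q x)) ?_
  exact (H_map_inv_hom ((viaIso b' π c' hc').app G) q _).symm

theorem phiC_natural {V V' W W' : Scheme.{u}} (b : V ⟶ T) (b' : V' ⟶ T') (pr : V' ⟶ V) (c : V' ⟶ T)
    (h₁ : pr ≫ b = c) (h₂ : b' ≫ π = c) (a : W ⟶ T) (a' : W' ⟶ T') (pr₂ : W' ⟶ W) (d : W' ⟶ T)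
    (k₁ : pr₂ ≫ a = d) (k₂ : a' ≫ π = d) (m : W ⟶ V) (wm : m ≫ b = a) (m' : W' ⟶ V') (wm' : m' ≫ b' = a')
    (hm : m' ≫ pr = pr₂ ≫ m) (x : CL ((EtCoh.push π).obj H) q b) :
    cR H q m' wm' (phiC π H q b b' pr c h₁ h₂ x) =
      phiC π H q a a' pr₂ d k₁ k₂ (cR ((EtCoh.push π).obj H) q m wm x) := by
  refine (cR_muC π H q b' a' m' wm' c d h₂ k₂ _).trans (congrArg (muC π H q a' d k₂) ?_)
  refine (cR_cR _ h₁ m' (by rw [← h₂, ← Category.assoc, wm', k₂]) (pr₂ ≫ m) hm x).trans ?_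
  exact (cR_cR _ wm pr₂ k₁ (pr₂ ≫ m) rfl x).symm

end Groth.Agent.H1DFun

namespace Groth.Agent.H1DFun

attribute [local instance] Groth.Agent.H18Et.pull_preservesFiniteLimits

/-- Pull back, then apply the counit: bijective for integral morphisms. -/
theorem adjExt_integral_bijective {V V' : Scheme.{u}} (pr : V' ⟶ V) [IsIntegralHom pr] (A : EtCoh.Ab V)
    (H' : EtCoh.Ab V') (q : ℕ) :
    haveI : PreservesFiniteColimits (EtCoh.push pr) := push_preservesFiniteColimits_of_isIntegralHom pr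
    Function.Bijective (adjExt (EtCoh.pullPushAdj pr) A H' q) := by
  haveI := push_preservesFiniteColimits_of_isIntegralHom pr
  exact adjExt_bijective (EtCoh.pullPushAdj pr) A q H'

theorem hpull_map_bijective {V V' : Scheme.{u}} (pr : V' ⟶ V) [IsIntegralHom pr] {G : EtCoh.Ab V}
    {H' : EtCoh.Ab V'} (β : G ⟶ (EtCoh.push pr).obj H') [IsIso β] (q : ℕ) :
    Function.Bijective fun x : Sheaf.H G q =>
      Sheaf.H.map ((EtCoh.pull pr).map β ≫ (EtCoh.pullPushAdj pr).counit.app H') q (hpull pr G q x) := by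
  haveI := push_preservesFiniteColimits_of_isIntegralHom pr
  have b1 : Function.Bijective (Sheaf.H.map β q) := ⟨H_map_injective (asIso β) q,
    fun y => ⟨_, H_map_inv_hom (asIso β) q y⟩⟩
  have b2 := adjExt_integral_bijective pr (EtCoh.const V ℤ) H' q
  have b3 : Function.Bijective fun z : Ext ((EtCoh.pull pr).obj (EtCoh.const V ℤ)) H' q =>
      (Ext.mk₀ (EtCore.pullConst pr ℤ).inv).comp z (zero_add q) :=
    ⟨Function.LeftInverse.injective (g := fun w => (Ext.mk₀ (EtCore.pullConst pr ℤ).hom).comp w (zero_add q))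
      (fun z => by simp only [Ext.mk₀_comp_mk₀_assoc, Iso.hom_inv_id, Ext.mk₀_id_comp]),
     Function.RightInverse.surjective (g := fun w => (Ext.mk₀ (EtCore.pullConst pr ℤ).hom).comp w (zero_add q))
      (fun z => by simp only [Ext.mk₀_comp_mk₀_assoc, Iso.inv_hom_id, Ext.mk₀_id_comp])⟩
  refine (congrArg Function.Bijective (funext fun x => ?_)).mp (b3.comp (b2.comp b1))
  refine Eq.trans ?_ (Sheaf.H.map_comp_apply _ _ _).symm
  rw [← Hpull_map]
  exact (Ext.comp_assoc_of_third_deg_zero _ _ _ (zero_add q)).symm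

theorem cancel_two {C : Type*} [Category C] {A B D K : C} (p : A ≅ B) (c : D ≅ A) {Q : B ⟶ K} {R : D ⟶ K}
    (h : c.hom ≫ p.hom ≫ Q = R) : p.inv ≫ c.inv ≫ R = Q := by
  rw [← h, Iso.inv_hom_id_assoc, Iso.inv_hom_id_assoc]

variable {T T' : Scheme.{u}} (π : T' ⟶ T) (H : EtCoh.Ab T') {V V' : Scheme.{u}} (b : V ⟶ T) (b' : V' ⟶ T')
  (pr : V' ⟶ V)

theorem theta_eq (w : b' ≫ π = pr ≫ b) :
    ((EtCore.pullComp pr b).app ((EtCoh.push π).obj H)).inv ≫
      ((EtCore.pullCongr w).app ((EtCoh.push π).obj H)).inv ≫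
      (EtCore.pullComp b' π).hom.app ((EtCoh.push π).obj H) ≫
      (EtCoh.pull b').map ((EtCoh.pullPushAdj π).counit.app H) =
    (EtCoh.pull pr).map (EtCoh.baseChange0 π b pr b' w H) ≫
      (EtCoh.pullPushAdj pr).counit.app ((EtCoh.pull b').obj H) :=
  cancel_two ((EtCore.pullComp pr b).app ((EtCoh.push π).obj H))
    ((EtCore.pullCongr w).app ((EtCoh.push π).obj H)) (by
      rw [Iso.app_hom, Iso.app_hom]
      exact S14389.coherence π b pr b' w H)

variable (q : ℕ)

theorem symm_trans_app_hom {C : Type*} [Category C] {D : Type*} [Category D] {F G K : C ⥤ D} (α : G ≅ F)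
    (β : G ≅ K) (X : C) : ((α.symm ≪≫ β).app X).hom = (α.app X).inv ≫ (β.app X).hom := rfl

theorem symm_trans_app_inv {C : Type*} [Category C] {D : Type*} [Category D] {F G K : C ⥤ D} (α : G ≅ F)
    (β : G ≅ K) (X : C) : ((α.symm ≪≫ β).app X).inv = (β.app X).inv ≫ α.hom.app X := rfl

theorem pullCongr_rfl_app_hom {A B : Scheme.{u}} (f : A ⟶ B) (G : EtCoh.Ab B) :
    ((EtCore.pullCongr (rfl : f = f)).app G).hom = 𝟙 ((EtCoh.pull f).obj G) := by
  rw [EtCore.pullCongr, eqToIso_refl]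
  rfl

theorem via_map_eq (w : b' ≫ π = pr ≫ b) :
    ((viaIso pr b (pr ≫ b) rfl).app ((EtCoh.push π).obj H)).hom ≫
      ((viaIso b' π (pr ≫ b) w).app ((EtCoh.push π).obj H)).inv ≫
      (EtCoh.pull b').map ((EtCoh.pullPushAdj π).counit.app H) =
    (EtCoh.pull pr).map (EtCoh.baseChange0 π b pr b' w H) ≫
      (EtCoh.pullPushAdj pr).counit.app ((EtCoh.pull b').obj H) := by
  refine Eq.trans ?_ (theta_eq π H b b' pr w)
  rw [viaIso, viaIso, symm_trans_app_hom, symm_trans_app_inv, pullCongr_rfl_app_hom, Category.comp_id,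
    Category.assoc]

theorem phiC_eq (c : V' ⟶ T) (h₁ : pr ≫ b = c) (h₂ : b' ≫ π = c) (x : CL ((EtCoh.push π).obj H) q b) :
    phiC π H q b b' pr c h₁ h₂ x =
      Sheaf.H.map (((viaIso pr b c h₁).app ((EtCoh.push π).obj H)).hom ≫
        ((viaIso b' π c h₂).app ((EtCoh.push π).obj H)).inv ≫
        (EtCoh.pull b').map ((EtCoh.pullPushAdj π).counit.app H)) q (hpull pr _ q x) :=
  (Sheaf.H.map_comp_apply _ _ _).symm

theorem phiC_bijective [IsIntegralHom π] (c : V' ⟶ T) (h₁ : pr ≫ b = c) (h₂ : b' ≫ π = c)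
    (sq : IsPullback b' pr π b) : Function.Bijective (phiC π H q b b' pr c h₁ h₂) := by
  subst h₁
  haveI : IsIntegralHom pr := MorphismProperty.of_isPullback (P := @IsIntegralHom) sq ‹_›
  haveI := isIso_baseChange0_of_isIntegralHom π b pr b' sq H
  refine (congrArg Function.Bijective (funext fun x => ?_)).mp
    (hpull_map_bijective pr (EtCoh.baseChange0 π b pr b' sq.w H) q)
  refine Eq.trans ?_ (phiC_eq π H b b' pr q _ rfl h₂ x).symm
  exact congrArg (fun k => Sheaf.H.map k q (hpull pr _ q x)) (via_map_eq π H b b' pr sq.w).symm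

end Groth.Agent.H1DFun
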