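import Groth.Agent.H1DFun.PushClass
import Groth.Agent.H18Et.PushClosed

/-!
# Classes vanishing on two closed pieces
-/

set_option autoImplicit false
set_option backward.isDefEq.respectTransparency false
set_option backward.isDefEq.respectTransparency.types false

universe u

open CategoryTheory CategoryTheory.Limits AlgebraicGeometry Opposite Abelian
open Groth.Agent.H18Et Groth.Agent.H1Lim

namespace Groth.Agent.H1DFun

attribute [local instance] Groth.Agent.H18Et.pull_preservesFiniteLimits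

variable {Z W : Scheme.{u}} (i : W ⟶ Z) [IsClosedImmersion i]

theorem map_unit_eq_zero (F : EtCoh.Ab Z) (q : ℕ) (x : Sheaf.H F q) (hx : hpull i F q x = 0) :
    Sheaf.H.map ((EtCoh.pullPushAdj i).unit.app F) q x = 0 := by
  refine (hpull_map_bijective i (𝟙 ((EtCoh.push i).obj ((EtCoh.pull i).obj F))) q).1 ?_
  show Sheaf.H.map _ q (hpull i _ q _) = Sheaf.H.map _ q (hpull i _ q 0)
  refine congrArg (Sheaf.H.map _ q) ((Hpull_map i ((EtCoh.pullPushAdj i).unit.app F) q x).trans ?_)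
  exact ((congrArg _ hx).trans (map_zero _)).trans (map_zero _).symm

theorem subsingleton_H_push (G : EtCoh.Ab W) (q : ℕ) (h : Subsingleton (Sheaf.H G q)) :
    Subsingleton (Sheaf.H ((EtCoh.push i).obj G) q) :=
  ⟨fun a b => (hpull_map_bijective i (𝟙 ((EtCoh.push i).obj G)) q).1 (h.elim _ _)⟩

variable {Ω : Type u} [Field Ω] [IsSepClosed Ω]

theorem stalk_unit_bijective (F : EtCoh.Ab Z) (ζ : Spec (CommRingCat.of Ω) ⟶ W) :
    Function.Bijective ((EtCoh.stalk (ζ ≫ i)).map ((EtCoh.pullPushAdj i).unit.app F)) :=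
  bijective_stalk_unit (liftsEtaleUniv_of_isClosedImmersion i) F ζ

omit [IsClosedImmersion i] in
theorem stalk_kernel {A B : EtCoh.Ab Z} (f : A ⟶ B) (ξ : Spec (CommRingCat.of Ω) ⟶ Z) :
    Function.Injective ((EtCoh.stalk ξ).map (kernel.ι f)) ∧
      ∀ y, (EtCoh.stalk ξ).map f y = 0 → ∃ x, (EtCoh.stalk ξ).map (kernel.ι f) x = y := by
  let S : ShortComplex (EtCoh.Ab Z) := ShortComplex.mk (kernel.ι f) f (kernel.condition f)
  have h : (S.map (EtCoh.stalk ξ)).Exact :=
    ShortComplex.Exact.map (ShortComplex.exact_of_f_is_kernel S (kernelIsKernel f)) _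
  exact ⟨(AddCommGrpCat.mono_iff_injective _).1 (inferInstanceAs (Mono ((EtCoh.stalk ξ).map (kernel.ι f)))),
    fun y hy => (ShortComplex.ab_exact_iff (S.map (EtCoh.stalk ξ))).1 h y hy⟩

omit [IsClosedImmersion i] in
theorem subsingleton_stalk_kernel {A B : EtCoh.Ab Z} (f : A ⟶ B) (ξ : Spec (CommRingCat.of Ω) ⟶ Z)
    (h : Function.Injective ((EtCoh.stalk ξ).map f)) : Subsingleton ((EtCoh.stalk ξ).obj (kernel f)) :=
  subsingleton_of_forall_eq 0 fun x => (stalk_kernel f ξ).1 (by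
    refine h ?_
    rw [map_zero, map_zero, ← ConcreteCategory.comp_apply, ← Functor.map_comp, kernel.condition]
    rw [Functor.map_zero]
    rfl)

omit [IsClosedImmersion i] in
theorem stalk_kernel_bijective {A B : EtCoh.Ab Z} (f : A ⟶ B) (ξ : Spec (CommRingCat.of Ω) ⟶ Z)
    (h : Subsingleton ((EtCoh.stalk ξ).obj B)) : Function.Bijective ((EtCoh.stalk ξ).map (kernel.ι f)) :=
  ⟨(stalk_kernel f ξ).1, fun y => (stalk_kernel f ξ).2 y (h.elim _ _)⟩

end Groth.Agent.H1DFun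

namespace Groth.Agent.H1DFun

attribute [local instance] Groth.Agent.H18Et.pull_preservesFiniteLimits

/-- A class vanishing on two closed pieces vanishes when the classes of one degree less on the
intersection vanish. -/
theorem eq_zero_of_closed_pair {Z Z₁ Z₂ W : Scheme.{u}} (i₁ : Z₁ ⟶ Z) (i₂ : Z₂ ⟶ Z) (k : W ⟶ Z)
    [IsClosedImmersion i₁] [IsClosedImmersion i₂] [IsClosedImmersion k] (a : W ⟶ Z₁) (ha : a ≫ i₁ = k)
    (b : W ⟶ Z₂) (hb : b ≫ i₂ = k)
    (hcov : ∀ z : Z, z ∈ Set.range i₁.base ∨ z ∈ Set.range i₂.base)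
    (hint : Set.range i₁.base ∩ Set.range i₂.base ⊆ Set.range k.base) (F : EtCoh.Ab Z) (q : ℕ)
    (ξ : Sheaf.H F (q + 1)) (h₁ : hpull i₁ F (q + 1) ξ = 0) (h₂ : hpull i₂ F (q + 1) ξ = 0)
    (h : Subsingleton (Sheaf.H ((EtCoh.pull k).obj F) q)) : ξ = 0 := by
  let u₁ := (EtCoh.pullPushAdj i₁).unit.app F
  let u₂ := (EtCoh.pullPushAdj i₂).unit.app F
  let G₂ := (EtCoh.push i₂).obj ((EtCoh.pull i₂).obj F)
  let w := (EtCoh.pullPushAdj k).unit.app G₂
  have hstalk : ∀ (Ω : Type u) [Field Ω] [IsSepClosed Ω] (ζ : Spec (CommRingCat.of Ω) ⟶ W),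
      Subsingleton ((EtCoh.stalk (ζ ≫ k)).obj (kernel u₁)) := fun Ω _ _ ζ => by
    refine subsingleton_stalk_kernel u₁ _ ?_
    rw [← ha, ← Category.assoc]
    exact (stalk_unit_bijective i₁ F (ζ ≫ a)).1
  have hK : IsZero ((EtCoh.pull k).obj (kernel u₁)) := by
    rw [H18Et.isZero_iff_stalk]
    intro Ω _ _ ζ
    haveI := hstalk Ω ζ
    exact (AddCommGrpCat.isZero_of_subsingleton _).of_iso ((stalkPullIso k ζ).app (kernel u₁))
  have h0 : (kernel.ι u₁ ≫ u₂) ≫ w = 0 := by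
    have e1 := (EtCoh.pullPushAdj k).unit.naturality (kernel.ι u₁ ≫ u₂)
    refine e1.trans ?_
    show _ ≫ (EtCoh.push k).map ((EtCoh.pull k).map (kernel.ι u₁ ≫ u₂)) = 0
    rw [hK.eq_of_src ((EtCoh.pull k).map (kernel.ι u₁ ≫ u₂)) 0, Functor.map_zero, comp_zero]
  let ψ : kernel u₁ ⟶ kernel w := kernel.lift w (kernel.ι u₁ ≫ u₂) h0
  have hψ : ∀ (Ω : Type u) [Field Ω] [IsSepClosed Ω] (η : Spec (CommRingCat.of Ω) ⟶ Z) (x : (EtCoh.stalk η).obj (kernel u₁)),
      (EtCoh.stalk η).map (kernel.ι w) ((EtCoh.stalk η).map ψ x) =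
        (EtCoh.stalk η).map u₂ ((EtCoh.stalk η).map (kernel.ι u₁) x) := fun Ω _ _ η x => by
    rw [← ConcreteCategory.comp_apply, ← Functor.map_comp, kernel.lift_ι, Functor.map_comp, ConcreteCategory.comp_apply]
    rfl
  haveI : IsIso ψ := by
    refine isIso_of_stalk _ fun z => ?_
    by_cases hk : z ∈ Set.range k.base
    · obtain ⟨y, rfl⟩ := hk
      refine ⟨_, _, SeparableClosure.isSepClosed _, geomPt y ≫ k, geomPt_comp_base k y, ?_⟩
      have hA := hstalk _ (geomPt y)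
      have hB : Subsingleton ((EtCoh.stalk (geomPt y ≫ k)).obj (kernel w)) :=
        subsingleton_stalk_kernel w _ (stalk_unit_bijective k G₂ (geomPt y)).1
      exact ⟨fun p p' _ => hA.elim p p', fun p => ⟨0, hB.elim _ _⟩⟩
    by_cases h₁' : z ∈ Set.range i₁.base
    · obtain ⟨y, rfl⟩ := h₁'
      refine ⟨_, _, SeparableClosure.isSepClosed _, geomPt y ≫ i₁, geomPt_comp_base i₁ y, ?_⟩
      have hn : i₁.base y ∉ Set.range i₂.base := fun h' => hk (hint ⟨⟨y, rfl⟩, h'⟩)
      have hA := subsingleton_stalk_kernel u₁ _ (stalk_unit_bijective i₁ F (geomPt y)).1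
      have hG : Subsingleton ((EtCoh.stalk (geomPt y ≫ i₁)).obj G₂) :=
        subsingleton_stalk_push i₂ i₂.isClosedEmbedding.isClosed_range _ _ (by rwa [geomPt_comp_base])
      have hB : Subsingleton ((EtCoh.stalk (geomPt y ≫ i₁)).obj (kernel w)) :=
        subsingleton_stalk_kernel w _ fun p p' _ => hG.elim p p'
      exact ⟨fun p p' _ => hA.elim p p', fun p => ⟨0, hB.elim _ _⟩⟩
    · obtain ⟨y, rfl⟩ := (hcov z).resolve_left h₁'
      refine ⟨_, _, SeparableClosure.isSepClosed _, geomPt y ≫ i₂, geomPt_comp_base i₂ y, ?_⟩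
      have hA := stalk_kernel_bijective u₁ (geomPt y ≫ i₂)
        (subsingleton_stalk_push i₁ i₁.isClosedEmbedding.isClosed_range _ _ (by rwa [geomPt_comp_base]))
      have hB := stalk_kernel_bijective w (geomPt y ≫ i₂)
        (subsingleton_stalk_push k k.isClosedEmbedding.isClosed_range _ _ (by rwa [geomPt_comp_base]))
      refine (Function.Bijective.of_comp_iff' hB _).1 ?_
      rw [show ⇑((EtCoh.stalk (geomPt y ≫ i₂)).map (kernel.ι w)) ∘ ⇑((EtCoh.stalk (geomPt y ≫ i₂)).map ψ) =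
        ⇑((EtCoh.stalk (geomPt y ≫ i₂)).map u₂) ∘ ⇑((EtCoh.stalk (geomPt y ≫ i₂)).map (kernel.ι u₁)) from
        funext (hψ _ _)]
      exact (stalk_unit_bijective i₂ F (geomPt y)).comp hA
  -- the two short exact sequences
  have hepi : ∀ {V : Scheme.{u}} (j : V ⟶ Z) [IsClosedImmersion j] (G : EtCoh.Ab Z),
      Epi ((EtCoh.pullPushAdj j).unit.app G) := fun {V} j _ G => by
    refine epi_of_stalk _ fun z => ?_
    by_cases hz : z ∈ Set.range j.base
    · obtain ⟨y, rfl⟩ := hz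
      exact ⟨_, _, SeparableClosure.isSepClosed _, geomPt y ≫ j, geomPt_comp_base j y,
        (stalk_unit_bijective j G (geomPt y)).2⟩
    · refine ⟨_, _, SeparableClosure.isSepClosed _, geomPt z, geomPt_base z, ?_⟩
      have := subsingleton_stalk_push j j.isClosedEmbedding.isClosed_range ((EtCoh.pull j).obj G) (geomPt z)
        (by rwa [geomPt_base])
      exact fun p => ⟨0, this.elim _ _⟩
  let S : ShortComplex (EtCoh.Ab Z) := ShortComplex.mk (kernel.ι u₁) u₁ (kernel.condition u₁)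
  let T : ShortComplex (EtCoh.Ab Z) := ShortComplex.mk (kernel.ι w) w (kernel.condition w)
  have hS : S.ShortExact :=
    ShortComplex.ShortExact.mk' (ShortComplex.exact_of_f_is_kernel _ (kernelIsKernel u₁)) inferInstance (hepi i₁ F)
  have hT : T.ShortExact :=
    ShortComplex.ShortExact.mk' (ShortComplex.exact_of_f_is_kernel _ (kernelIsKernel w)) inferInstance (hepi k G₂)
  have e₁ : ξ.comp (Ext.mk₀ S.g) (add_zero (q + 1)) = 0 := map_unit_eq_zero i₁ F _ ξ h₁
  obtain ⟨κ, hκ⟩ := Ext.covariant_sequence_exact₂ _ hS ξ e₁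
  haveI hW : Subsingleton (Sheaf.H ((EtCoh.push k).obj ((EtCoh.pull k).obj G₂)) q) := by
    haveI : IsIso ((EtCoh.pull k).map u₂) := by
      refine isIso_of_stalk _ fun y => ⟨_, _, SeparableClosure.isSepClosed _, geomPt y, geomPt_base y, ?_⟩
      haveI : IsIso ((EtCoh.stalk (geomPt y ≫ k)).map u₂) := by
        rw [ConcreteCategory.isIso_iff_bijective, ← hb, ← Category.assoc]
        exact stalk_unit_bijective i₂ F (geomPt y ≫ b)
      have h' : IsIso ((EtCoh.pull k ⋙ EtCoh.stalk (geomPt y)).map u₂) :=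
        (NatIso.isIso_map_iff (stalkPullIso k (geomPt y)) u₂).2 ‹_›
      exact (ConcreteCategory.isIso_iff_bijective _).1 h'
    refine subsingleton_H_push k _ q ?_
    exact ⟨fun p p' => H_map_injective (asIso ((EtCoh.pull k).map u₂)).symm q (h.elim _ _)⟩
  have e₂ : (κ.comp (Ext.mk₀ ψ) (add_zero (q + 1))).comp (Ext.mk₀ T.f) (add_zero (q + 1)) = 0 := by
    rw [Ext.comp_assoc_of_second_deg_zero, Ext.mk₀_comp_mk₀, show ψ ≫ T.f = S.f ≫ u₂ from kernel.lift_ι _ _ _,
      ← Ext.mk₀_comp_mk₀, ← Ext.comp_assoc_of_second_deg_zero, hκ]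
    exact map_unit_eq_zero i₂ F _ ξ h₂
  obtain ⟨c, hc⟩ := Ext.covariant_sequence_exact₁ _ hT _ e₂ (n₀ := q) rfl
  have hW' : c = 0 := hW.elim _ _
  rw [hW', Ext.zero_comp] at hc
  have hκ0 : κ = 0 := by
    have h3 := congrArg (fun z => Ext.comp z (Ext.mk₀ (inv ψ)) (add_zero (q + 1))) hc
    simp only [Ext.zero_comp, Ext.comp_assoc_of_second_deg_zero, Ext.mk₀_comp_mk₀, IsIso.hom_inv_id,
      Ext.comp_mk₀_id] at h3
    exact h3.symm
  rw [← hκ, hκ0, Ext.zero_comp]

end Groth.Agent.H1DFun
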