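import Groth.Agent.H1DFun.BCNat

/-!
# Class groups as bundled groups
-/

set_option autoImplicit false
set_option backward.isDefEq.respectTransparency false
set_option backward.isDefEq.respectTransparency.types false

universe u

open CategoryTheory CategoryTheory.Limits AlgebraicGeometry Opposite Abelian
open Groth.Agent.H18Et Groth.Agent.H1Lim

namespace Groth.Agent.H1DFun

attribute [local instance] Groth.Agent.H18Et.pull_preservesFiniteLimits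

variable {T : Scheme.{u}}

/-- Classes as a bundled group. -/
noncomputable def CL (F : EtCoh.Ab T) (q : ℕ) {V : Scheme.{u}} (a : V ⟶ T) : AddCommGrpCat.{u + 1} :=
  AddCommGrpCat.of (Sheaf.H ((EtCoh.pull a).obj F) q)

/-- Restriction. -/
noncomputable def cR (F : EtCoh.Ab T) (q : ℕ) {V V' : Scheme.{u}} {a : V ⟶ T} {a' : V' ⟶ T} (f : V' ⟶ V)
    (w : f ≫ a = a') : (CL F q a : Type (u + 1)) →+ CL F q a' :=
  rT F q f w

/-- Change of coefficients. -/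
noncomputable def cM {F G : EtCoh.Ab T} (γ : F ⟶ G) (q : ℕ) {V : Scheme.{u}} (a : V ⟶ T) :
    (CL F q a : Type (u + 1)) →+ CL G q a :=
  Sheaf.H.map ((EtCoh.pull a).map γ) q

section

variable {Sh : ShortComplex (EtCoh.Ab T)} (hSh : Sh.ShortExact) {V : Scheme.{u}} (a : V ⟶ T) {q : ℕ}

/-- The connecting map. -/
noncomputable def cD : (CL Sh.X₃ q a : Type (u + 1)) →+ CL Sh.X₁ (q + 1) a :=
  ((hSh.map_of_exact (EtCoh.pull a)).extClass).postcomp _ rfl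

theorem cR_cD {V' : Scheme.{u}} {a' : V' ⟶ T} (f : V' ⟶ V) (w : f ≫ a = a') (x : CL Sh.X₃ q a) :
    cR Sh.X₁ (q + 1) f w (cD hSh a x) = cD hSh a' (cR Sh.X₃ q f w x) :=
  natPull_extClass f (EtCoh.pull a) (EtCoh.pull a') (viaIso f a a' w).hom hSh q x

theorem exists_cD (y : CL Sh.X₁ (q + 1) a) (hy : cM Sh.f (q + 1) a y = 0) : ∃ x, cD hSh a x = y :=
  Ext.covariant_sequence_exact₁ _ (hSh.map_of_exact (EtCoh.pull a)) y hy rfl

theorem exists_of_cD_eq_zero (x : CL Sh.X₃ q a) (hx : cD hSh a x = 0) : ∃ y, cM Sh.g q a y = x :=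
  Ext.covariant_sequence_exact₃ _ (hSh.map_of_exact (EtCoh.pull a)) x rfl hx

theorem cD_cM (y : CL Sh.X₂ q a) : cD hSh a (cM Sh.g q a y) = 0 :=
  (Ext.comp_assoc_of_second_deg_zero _ _ _ _).trans
    ((congrArg (fun z => Ext.comp y z rfl) (hSh.map_of_exact (EtCoh.pull a)).comp_extClass).trans
      (Ext.comp_zero _ _ _ _ _))

include hSh in
theorem exists_of_cM_eq_zero (y : CL Sh.X₂ q a) (hy : cM Sh.g q a y = 0) : ∃ x, cM Sh.f q a x = y :=
  Ext.covariant_sequence_exact₂ _ (hSh.map_of_exact (EtCoh.pull a)) y hy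

end

variable {F G H : EtCoh.Ab T} (γ : F ⟶ G) (δ : G ⟶ H) {q : ℕ} {V V' V'' : Scheme.{u}} {a : V ⟶ T} {a' : V' ⟶ T}
  {a'' : V'' ⟶ T} (f : V' ⟶ V) (w : f ≫ a = a')

theorem cR_cR (f' : V'' ⟶ V') (w' : f' ≫ a' = a'') (fc : V'' ⟶ V) (hc : f' ≫ f = fc) (x : CL F q a) :
    cR F q f' w' (cR F q f w x) = cR F q fc (by rw [← hc, Category.assoc, w, w']) x :=
  rT_comp F q f w f' w' fc hc x

theorem cR_congr {f₁ : V' ⟶ V} (hf : f = f₁) (x : CL F q a) :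
    cR F q f w x = cR F q f₁ (hf ▸ w) x := by
  subst hf; rfl

theorem cR_cM (x : CL F q a) : cR G q f w (cM γ q a x) = cM γ q a' (cR F q f w x) :=
  rT_map γ q f w x

theorem cM_cM (hz : γ ≫ δ = 0) (x : CL F q a) : cM δ q a (cM γ q a x) = 0 := by
  refine (Sheaf.H.map_comp_apply _ _ _).symm.trans ?_
  rw [← Functor.map_comp, hz, Functor.map_zero, Sheaf.H.map_apply, Ext.mk₀_zero, Ext.comp_zero]

variable {X S Y : Scheme.{u}} (g : T ⟶ S) (h : Y ⟶ X) (e : Y ⟶ T)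

/-- Classes over an etale scheme of the base. -/
noncomputable abbrev C0 (F : EtCoh.Ab T) (q : ℕ) (U : S.Etale) : AddCommGrpCat.{u + 1} :=
  CL F q ((EtCoh.bc g).obj U).hom

/-- Classes over an etale scheme upstairs. -/
noncomputable abbrev C1 (F : EtCoh.Ab T) (q : ℕ) (Q : X.Etale) : AddCommGrpCat.{u + 1} :=
  CL F q (((EtCoh.bc h).obj Q).hom ≫ e)

variable (F : EtCoh.Ab T) (q : ℕ)

noncomputable def c0 {U U' : S.Etale} (m : U' ⟶ U) : (C0 g F q U : Type (u + 1)) →+ C0 g F q U' :=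
  cR F q ((EtCoh.bc g).map m).left (MorphismProperty.Over.w ((EtCoh.bc g).map m))

noncomputable def c1 {Q Q' : X.Etale} (m : Q' ⟶ Q) : (C1 h e F q Q : Type (u + 1)) →+ C1 h e F q Q' :=
  cR F q ((EtCoh.bc h).map m).left (bc_map_comp_hom h e m)

theorem c0_c0 {A B C : S.Etale} (u₁ : B ⟶ A) (u₂ : C ⟶ B) (u : C ⟶ A) (hu : u₂ ≫ u₁ = u) (x : C0 g F q A) :
    c0 g F q u₂ (c0 g F q u₁ x) = c0 g F q u x :=
  cR_cR _ _ _ _ _ (by rw [← hu, Functor.map_comp]; rfl) x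

theorem c1_c1 {A B C : X.Etale} (u₁ : B ⟶ A) (u₂ : C ⟶ B) (u : C ⟶ A) (hu : u₂ ≫ u₁ = u) (x : C1 h e F q A) :
    c1 h e F q u₂ (c1 h e F q u₁ x) = c1 h e F q u x :=
  cR_cR _ _ _ _ _ (by rw [← hu, Functor.map_comp]; rfl) x

variable (φ : X ⟶ S) (w : e ≫ g = h ≫ φ)

noncomputable def cl (U : S.Etale) {Q : X.Etale} (n : Q ⟶ (EtCoh.bc φ).obj U) :
    (C0 g F q U : Type (u + 1)) →+ C1 h e F q Q :=
  cR F q (lamTo φ g h e w U n) (lamTo_hom φ g h e w U n)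

theorem cl_congr {U : S.Etale} {Q : X.Etale} {n n' : Q ⟶ (EtCoh.bc φ).obj U} (hn : n = n') (x : C0 g F q U) :
    cl g h e F q φ w U n x = cl g h e F q φ w U n' x := by
  subst hn; rfl

theorem c1_cl {U : S.Etale} {Q Q' : X.Etale} (n : Q ⟶ (EtCoh.bc φ).obj U) (m : Q' ⟶ Q) (x : C0 g F q U) :
    c1 h e F q m (cl g h e F q φ w U n x) = cl g h e F q φ w U (m ≫ n) x :=
  r1_rlam φ g h e w F q n m x

theorem cl_c0 {U U' : S.Etale} {Q : X.Etale} (n : Q ⟶ (EtCoh.bc φ).obj U') (m : U' ⟶ U) (x : C0 g F q U) :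
    cl g h e F q φ w U' n (c0 g F q m x) = cl g h e F q φ w U (n ≫ (EtCoh.bc φ).map m) x :=
  rlam_r0 φ g h e w F q n m x

end Groth.Agent.H1DFun
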