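import Groth.Agent.H1DFun.SHConn
import Groth.Agent.H22Alg.VarGeom
import Groth.Agent.H9Hens.BranchNormal

/-!
# Base change over a separably closed field
-/

set_option autoImplicit false
set_option backward.isDefEq.respectTransparency false
set_option backward.isDefEq.respectTransparency.types false

universe u

open CategoryTheory CategoryTheory.Limits AlgebraicGeometry Opposite

namespace Groth.Agent.H1DFun

/-- The strict henselization of a separably closed field is the field. -/
theorem bijective_algebraMap_strictHens_field {K RS : Type u} [Field K] [IsSepClosed K] [CommRing RS] [IsLocalRing RS]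
    [Algebra K RS] [IsLocalHom (algebraMap K RS)] [hR : Hensel.IsStrictHenselization K RS] :
    Function.Bijective (algebraMap K RS) := by
  let eK : IsLocalRing.ResidueField K ≃+* K :=
    (RingEquiv.ofBijective (IsLocalRing.residue K) ⟨RingHom.injective _, IsLocalRing.residue_surjective⟩).symm
  haveI : IsSepClosed (IsLocalRing.ResidueField K) := H9Hens.isSepClosed_of_ringEquiv eK.symm
  haveI := hR.henselian
  haveI : Algebra.IsSeparable (IsLocalRing.ResidueField K) (IsLocalRing.ResidueField RS) := hR.isSepClosure.2
  have hb : Function.Bijective (algebraMap (IsLocalRing.ResidueField K) (IsLocalRing.ResidueField RS)) :=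
    ⟨RingHom.injective _, IsSepClosed.algebraMap_surjective _ _⟩
  let e := RingEquiv.ofBijective _ hb
  obtain ⟨g, ⟨hg, hgτ⟩, -⟩ := hR.universal K (RingHom.id K) e.symm.toRingHom (by
    refine RingHom.ext fun r => ?_
    rw [IsLocalRing.ResidueField.map_id]
    exact e.symm_apply_apply r)
  refine ⟨RingHom.injective _, fun y => ⟨g y, ?_⟩⟩
  obtain ⟨i, -, hu⟩ := hR.universal RS (algebraMap K RS) (RingHom.id _) (RingHom.id_comp _)
  have h1 : ((algebraMap K RS).comp g) = i := hu _ ⟨by rw [RingHom.comp_assoc, hg, RingHom.comp_id], fun x => by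
    show IsLocalRing.residue RS (algebraMap K RS (g x)) = IsLocalRing.residue RS x
    obtain ⟨r, hr⟩ := hb.2 (IsLocalRing.residue RS x)
    obtain ⟨r, rfl⟩ := IsLocalRing.residue_surjective r
    have hx : g x = r :=
      (IsLocalRing.residue K).injective ((hgτ x).trans ((congrArg e.symm hr.symm).trans (e.symm_apply_apply (IsLocalRing.residue K r))))
    rw [hx]; exact hr⟩
  have h2 : RingHom.id RS = i := hu _ ⟨RingHom.id_comp _, fun x => rfl⟩
  exact RingHom.congr_fun (h1.trans h2.symm) y

/-- The stalks of the spectrum of a field are the field. -/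
theorem exists_ringEquiv_stalk_field (k : Type u) [Field k] (y : Spec (CommRingCat.of k)) :
    Nonempty (k ≃+* (Spec (CommRingCat.of k)).presheaf.stalk y) := by
  letI : Algebra k ((Spec (CommRingCat.of k)).presheaf.stalk y) := StructureSheaf.stalkAlgebra k y
  haveI : IsLocalization.AtPrime ((Spec (CommRingCat.of k)).presheaf.stalk y) y.asIdeal :=
    inferInstanceAs (IsLocalization.AtPrime ((Spec.structureSheaf k).presheaf.stalk y) y.asIdeal)
  exact ⟨(IsLocalization.atUnits k y.asIdeal.primeCompl (S := (Spec (CommRingCat.of k)).presheaf.stalk y)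
    fun x hx => isUnit_iff_ne_zero.2 fun h => hx (h ▸ Submodule.zero_mem _)).toRingEquiv⟩

/-- The spectrum of a local ring is connected. -/
theorem connectedSpace_spec_local (R : Type u) [CommRing R] [IsLocalRing R] :
    ConnectedSpace (Spec (CommRingCat.of R)) := by
  refine connectedSpace_iff_clopen.2 ⟨⟨IsLocalRing.closedPoint R⟩, fun (s : Set (PrimeSpectrum R)) hs => ?_⟩
  by_cases h : IsLocalRing.closedPoint R ∈ s
  · exact Or.inr (Set.eq_univ_of_forall fun y => (IsLocalRing.specializes_closedPoint y).mem_open hs.2 h)
  · exact Or.inl (Set.eq_empty_of_forall_notMem fun y hy =>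
      (IsLocalRing.specializes_closedPoint y).mem_open hs.compl.2 h hy)

/-- Base change along any map to the spectrum of a separably closed field, in degree zero. -/
theorem isIso_baseChange0_sepClosed {k : Type u} [Field k] [IsSepClosed k]
    {X Y T : Scheme.{u}} (f : X ⟶ Spec (CommRingCat.of k)) (g : T ⟶ Spec (CommRingCat.of k))
    [QuasiCompact g] [QuasiSeparated g] (h : Y ⟶ X) (e : Y ⟶ T) (c : IsPullback e h g f) (F : EtCoh.Ab T) :
    IsIso (EtCoh.baseChange0 g f h e c.w F) := by
  refine isIso_baseChange0_of_shConn f ?_ g h e c F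
  intro x RS _ _ alg _ _ RX _ _ _ _ _ ψ _ _
  obtain ⟨eA⟩ := exists_ringEquiv_stalk_field k (f.base x)
  letI := (eA.symm.toMulEquiv.isField (Field.toIsField k)).toField
  haveI : IsSepClosed ↥((Spec (CommRingCat.of k)).presheaf.stalk (f.base x)) := H9Hens.isSepClosed_of_ringEquiv eA
  let e' : k →+* RS := (algebraMap ((Spec (CommRingCat.of k)).presheaf.stalk (f.base x)) RS).comp eA.toRingHom
  have he' : Function.Bijective e' := bijective_algebraMap_strictHens_field.comp eA.bijective
  let E := RingEquiv.ofBijective e' he'
  let ψ' : k →+* RX := ψ.comp e'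
  refine ⟨?_, fun Ω _ _ η => ?_⟩
  · letI := ψ'.toAlgebra
    have h1 : ψ'.Flat := RingHom.flat_algebraMap_iff.2 (inferInstance : Module.Flat k RX)
    have h2 : ψ = ψ'.comp E.symm.toRingHom := RingHom.ext fun y => congrArg ψ (E.apply_symm_apply y).symm
    rw [h2]
    exact RingHom.Flat.comp (RingHom.Flat.of_bijective E.symm.bijective) h1
  · haveI := connectedSpace_spec_local RX
    haveI : GeometricallyConnected (Spec.map (CommRingCat.ofHom ψ')) :=
      H22Alg.VarGeom.geometricallyConnected_of_isSepClosed _
    haveI : IsIso (CommRingCat.ofHom e') := (ConcreteCategory.isIso_iff_bijective _).2 he'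
    haveI : IsIso (Spec.map (CommRingCat.ofHom e')) := inferInstance
    have hψ' : Spec.map (CommRingCat.ofHom ψ') =
        Spec.map (CommRingCat.ofHom ψ) ≫ Spec.map (CommRingCat.ofHom e') := by
      rw [← Spec.map_comp, ← CommRingCat.ofHom_comp]
    refine GeometricallyConnected.geometrically_connectedSpace (f := Spec.map (CommRingCat.ofHom ψ'))
      (η ≫ Spec.map (CommRingCat.ofHom e')) (pullback.fst _ η) (pullback.snd _ η) ?_
    rw [hψ']
    exact (IsPullback.of_hasPullback (Spec.map (CommRingCat.ofHom ψ)) η).of_iso (Iso.refl _) (Iso.refl _)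
      (Iso.refl _) (asIso (Spec.map (CommRingCat.ofHom e'))) (by simp) (by simp) (by simp) (by simp)

end Groth.Agent.H1DFun
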