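import Groth.Prelude.Def_EtBC2

/-!
# The base change morphism in each degree on cocycles
-/

set_option autoImplicit false
set_option backward.isDefEq.respectTransparency false
set_option backward.isDefEq.respectTransparency.types false

universe u

open CategoryTheory CategoryTheory.Limits AlgebraicGeometry HomologicalComplex Opposite

namespace Groth.Agent.H1DFun

variable {X S Y T : Scheme.{u}} (f : X ⟶ S) (g : T ⟶ S) (h : Y ⟶ X) (e : Y ⟶ T) (w : e ≫ g = h ≫ f)
  [PreservesFiniteLimits (EtCoh.pull e)] (F : EtCoh.Ab T) (q : ℕ)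

/-- The comparison of the two composites of direct images. -/
noncomputable def sqIso : EtCoh.push e ⋙ EtCoh.push g ≅ EtCoh.push h ⋙ EtCoh.push f :=
  EtCoh.pushComp g e ≪≫ EtCoh.pushCongr w ≪≫ (EtCoh.pushComp f h).symm

theorem exists_bcCycles :
    ∃ (θ : (injectiveResolution F).cocomplex ⟶ ((EtCoh.push e).mapHomologicalComplex _).obj
        (injectiveResolution ((EtCoh.pull e).obj F)).cocomplex)
      (Z : (((EtCoh.push g).mapHomologicalComplex (ComplexShape.up ℕ)).obj
          (injectiveResolution F).cocomplex).cycles q ⟶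
        (EtCoh.push f).obj ((((EtCoh.push h).mapHomologicalComplex (ComplexShape.up ℕ)).obj
          (injectiveResolution ((EtCoh.pull e).obj F)).cocomplex).cycles q)),
      (injectiveResolution F).ι.f 0 ≫ θ.f 0 = (EtCoh.pullPushAdj e).unit.app F ≫
          (EtCoh.push e).map ((injectiveResolution ((EtCoh.pull e).obj F)).ι.f 0) ∧
      Z ≫ (EtCoh.push f).map (iCycles _ q) =
        iCycles _ q ≫ (EtCoh.push g).map (θ.f q) ≫
          (sqIso f g h e w).hom.app ((injectiveResolution ((EtCoh.pull e).obj F)).cocomplex.X q) ∧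
      homologyπ _ q ≫ ((injectiveResolution F).isoRightDerivedObj (EtCoh.push g) q).inv ≫
          EtBC.bcQAdj g f h e w q F =
        Z ≫ (EtCoh.push f).map (homologyπ _ q ≫
          ((injectiveResolution ((EtCoh.pull e).obj F)).isoRightDerivedObj (EtCoh.push h) q).inv) := by
  let G := (EtCoh.pull e).obj F
  let I := injectiveResolution F
  let J := injectiveResolution ((EtCoh.push e).obj G)
  let R := injectiveResolution G
  let η := (EtCoh.pullPushAdj e).unit.app F
  let a : I.cocomplex ⟶ J.cocomplex := InjectiveResolution.desc η J I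
  let b : J.cocomplex ⟶ ((EtCoh.push e).mapHomologicalComplex _).obj R.cocomplex :=
    RDer.descToInjectives (𝟙 _) J.cocomplex J.ι _ (RDer.mapAug (EtCoh.push e) R.ι)
  let s := (NatTrans.mapHomologicalComplex (sqIso f g h e w).hom (ComplexShape.up ℕ)).app R.cocomplex
  let P := (EtCoh.push g).mapHomologicalComplex (ComplexShape.up ℕ)
  refine ⟨a ≫ b, cyclesMap (P.map (a ≫ b)) q ≫ cyclesMap s q ≫
    RDer.cyclesComparison (EtCoh.push f) (((EtCoh.push h).mapHomologicalComplex _).obj R.cocomplex) q, ?_, ?_, ?_⟩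
  · refine (Category.assoc _ _ _).symm.trans ((congrArg (· ≫ b.f 0)
      (InjectiveResolution.desc_commutes_zero η J I)).trans ((Category.assoc _ _ _).trans ?_))
    refine congrArg (η ≫ ·) ((RDer.ι_descToInjectives_f_zero _ _ _ _ _).trans ((Category.id_comp _).trans ?_))
    show (RDer.mapAug (EtCoh.push e) R.ι).f 0 = _
    rw [RDer.mapAug, comp_f, HomologicalComplex.singleMapHomologicalComplex_inv_app_self]
    simp
    rfl
  · rw [Category.assoc, Category.assoc, RDer.cyclesComparison_i]
    refine (congrArg (cyclesMap (P.map (a ≫ b)) q ≫ ·) (cyclesMap_i s q)).trans ?_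
    exact (cyclesMap_i_assoc (P.map (a ≫ b)) q _)
  · have e1 : (I.isoRightDerivedObj (EtCoh.push g) q).inv ≫ ((EtCoh.push g).rightDerived q).map η =
        (homologyFunctor _ _ q).map (P.map a) ≫ (J.isoRightDerivedObj (EtCoh.push g) q).inv := by
      rw [Iso.inv_comp_eq, ← Category.assoc, Iso.eq_comp_inv]
      exact InjectiveResolution.isoRightDerivedObj_hom_naturality η I J a
        (InjectiveResolution.desc_commutes_zero η J I) _ q
    have e2 : (R.isoRightDerivedObj (EtCoh.push e ⋙ EtCoh.push g) q).inv ≫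
        (EtBC.RpushSquareIso g f h e w q).hom.app G =
        (homologyFunctor _ _ q).map s ≫ (R.isoRightDerivedObj (EtCoh.push h ⋙ EtCoh.push f) q).inv := by
      rw [Iso.inv_comp_eq]
      exact InjectiveResolution.rightDerived_app_eq (sqIso f g h e w).hom R q
    dsimp only [EtBC.bcQAdj, RDer.edgeIn, RDer.edgeOut, EtCoh.Rpush]
    simp only [Category.assoc]
    refine (congrArg (homologyπ _ q ≫ ·) ((Category.assoc _ _ _).symm.trans ((congrArg (· ≫ _) e1).trans
      (Category.assoc _ _ _)))).trans ?_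
    refine (congrArg (fun z => homologyπ _ q ≫ (homologyFunctor _ _ q).map (P.map a) ≫ z)
      ((Iso.inv_hom_id_assoc _ _).trans (congrArg (_ ≫ ·) ((Category.assoc _ _ _).symm.trans
        ((congrArg (· ≫ _) e2).trans ((Category.assoc _ _ _).trans
          (congrArg (_ ≫ ·) (Iso.inv_hom_id_assoc _ _)))))))).trans ?_
    rw [Functor.map_comp (P) a b, cyclesMap_comp]
    simp only [Category.assoc, homologyFunctor_map]
    rw [homologyπ_naturality_assoc]
    refine congrArg (cyclesMap (P.map a) q ≫ ·) ?_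
    refine (homologyπ_naturality_assoc (P.map b) q _).trans (congrArg (cyclesMap (P.map b) q ≫ ·) ?_)
    refine (homologyπ_naturality_assoc s q _).trans (congrArg (cyclesMap s q ≫ ·) ?_)
    refine (RDer.homologyπ_homologyComparison_assoc (EtCoh.push f)
      (((EtCoh.push h).mapHomologicalComplex _).obj R.cocomplex) q _).trans ?_
    exact congrArg (_ ≫ ·) ((EtCoh.push f).map_comp _ _).symm

end Groth.Agent.H1DFun

namespace Groth.Agent.H1DFun

variable {X S Y T : Scheme.{u}}

/-- The comparison of the composites on sections is a restriction. -/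
theorem exists_sqIso_app (f : X ⟶ S) (g : T ⟶ S) (h : Y ⟶ X) (e : Y ⟶ T) (w : e ≫ g = h ≫ f) (U : S.Etale) :
    ∃ l : (EtCoh.bc h).obj ((EtCoh.bc f).obj U) ⟶ (EtCoh.bc e).obj ((EtCoh.bc g).obj U),
      l.left ≫ pullback.fst ((EtCoh.bc g).obj U).hom e ≫ pullback.fst U.hom g =
        pullback.fst ((EtCoh.bc f).obj U).hom h ≫ pullback.fst U.hom f ∧
      ∀ (G : EtCoh.Ab Y) (x : G.obj.obj (op ((EtCoh.bc e).obj ((EtCoh.bc g).obj U)))),
        ((sqIso f g h e w).hom.app G).hom.app (op U) x = G.obj.map l.op x := by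
  let c₁ : (EtCoh.bc h).obj ((EtCoh.bc f).obj U) ⟶ (EtCoh.bc (h ≫ f)).obj U :=
    (MorphismProperty.Over.pullbackComp (P := EtCoh.etaleMP) (Q := ⊤) h f).inv.app U
  let c₂ : (EtCoh.bc (h ≫ f)).obj U ⟶ (EtCoh.bc (e ≫ g)).obj U :=
    (MorphismProperty.Over.pullbackCongr (P := EtCoh.etaleMP) (Q := ⊤) w).inv.app U
  let c₃ : (EtCoh.bc (e ≫ g)).obj U ⟶ (EtCoh.bc e).obj ((EtCoh.bc g).obj U) :=
    (MorphismProperty.Over.pullbackComp (P := EtCoh.etaleMP) (Q := ⊤) e g).hom.app U
  have h3 : c₃.left ≫ pullback.fst ((EtCoh.bc g).obj U).hom e ≫ pullback.fst U.hom g =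
      pullback.fst U.hom (e ≫ g) :=
    MorphismProperty.Over.pullbackComp_left_fst_fst (P := EtCoh.etaleMP) (Q := ⊤) e g U
  have h2 : c₂.left ≫ pullback.fst U.hom (e ≫ g) = pullback.fst U.hom (h ≫ f) :=
    (congrArg (c₂.left ≫ ·) (MorphismProperty.Over.pullbackCongr_hom_app_left_fst
      (P := EtCoh.etaleMP) (Q := ⊤) w U).symm).trans ((Category.assoc _ _ _).symm.trans
      ((congrArg (· ≫ pullback.fst U.hom (h ≫ f)) (congrArg (fun k => k.left)
        ((MorphismProperty.Over.pullbackCongr (P := EtCoh.etaleMP) (Q := ⊤) w).inv_hom_id_app U))).trans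
        (Category.id_comp _)))
  have h1 : c₁.left ≫ pullback.fst U.hom (h ≫ f) =
      pullback.fst ((EtCoh.bc f).obj U).hom h ≫ pullback.fst U.hom f :=
    (congrArg (c₁.left ≫ ·) (MorphismProperty.Over.pullbackComp_left_fst_fst
      (P := EtCoh.etaleMP) (Q := ⊤) h f U).symm).trans ((Category.assoc _ _ _).symm.trans
      ((congrArg (· ≫ (pullback.fst ((EtCoh.bc f).obj U).hom h ≫ pullback.fst U.hom f))
        (congrArg (fun k => k.left) ((MorphismProperty.Over.pullbackComp
          (P := EtCoh.etaleMP) (Q := ⊤) h f).inv_hom_id_app U))).trans (Category.id_comp _)))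
  refine ⟨(c₁ ≫ c₂) ≫ c₃, ?_, fun G x => ?_⟩
  · refine (Category.assoc _ _ _).trans ?_
    refine (congrArg ((c₁ ≫ c₂).left ≫ ·) h3).trans ?_
    exact (Category.assoc _ _ _).trans ((congrArg (c₁.left ≫ ·) h2).trans h1)
  · show G.obj.map c₁.op (G.obj.map c₂.op (G.obj.map c₃.op x)) = _
    rw [← Functor.map_comp_apply, ← Functor.map_comp_apply, ← op_comp, ← op_comp, Category.assoc]

end Groth.Agent.H1DFun
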