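import Groth.Agent.H1DFun.StalkMap
import Groth.Agent.H1DFun.PbPull
import Groth.Agent.H1DFun.BCCycles
import Groth.Agent.H18Et.Germ
import Groth.Agent.H18Et.BaseChange

/-!
# The base change morphism in each degree on the cohomology of strict localisations
-/

set_option autoImplicit false
set_option backward.isDefEq.respectTransparency false
set_option backward.isDefEq.respectTransparency.types false

universe u

open CategoryTheory CategoryTheory.Limits AlgebraicGeometry Opposite Abelian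
open Groth.Agent.H1Lim Groth.Agent.H18Et Groth.Agent.H12AlgSp.EtStrictHens

namespace Groth.Agent.H1DFun

attribute [local instance] Groth.Agent.H18Et.pull_preservesFiniteLimits

variable {Ω : Type u} [Field Ω] [IsSepClosed Ω]

section Gen

variable {S : Scheme.{u}} {ξ : Spec (CommRingCat.of Ω) ⟶ S} (d : Datum ξ) {T : Scheme.{u}} (g : T ⟶ S)
  {PT : Scheme.{u}} (aT : PT ⟶ T) (bT : PT ⟶ d.P) (hP : IsPullback aT bT g d.p)
  {F : EtCoh.Ab T} (R : InjectiveResolution F) (q : ℕ)

theorem projP_bc_map (U : S.Etale) (k : Idx ξ) (n : nbhd ξ k ⟶ U) :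
    (pj d g aT bT hP k ≫ ((EtCoh.bc g).map n).left) ≫ ((EtCoh.bc g).obj U).hom = aT :=
  (Category.assoc _ _ _).trans ((congrArg (_ ≫ ·) (MorphismProperty.Over.w ((EtCoh.bc g).map n))).trans
    (projP_hom d g aT bT hP _ _))

/-- The comparison on the H18Et.germ of a cocycle at any neighbourhood. -/
theorem phi_germ_gen (U : S.Etale) (z : (Scheme.pointSmallEtale ξ).fiber.obj U) (k : Idx ξ)
    (n : nbhd ξ k ⟶ U) (hn : (Scheme.pointSmallEtale ξ).fiber.map n (nbhdPt ξ k) = z)
    (c : ((pushCx g R).cycles q).obj.obj (op U)) :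
    phi d g aT bT hP R q ((EtCoh.stalk ξ).map ((pushCx g R).homologyπ q)
        (H18Et.germ ξ ((pushCx g R).cycles q) U z c)) =
      pb aT ((EtCoh.bc g).obj U) (pj d g aT bT hP k ≫ ((EtCoh.bc g).map n).left)
        (projP_bc_map d g aT bT hP U k n) F q
        (secCls R ((EtCoh.bc g).obj U) q (cycSect g R q U c) (cycSect_d g R q U c)) := by
  have e : H18Et.germ ξ ((pushCx g R).cycles q) U z c =
      germC g R q k (((pushCx g R).cycles q).obj.map n.op c) :=
    ((congrArg (fun z' => H18Et.germ ξ ((pushCx g R).cycles q) U z' c) hn).symm.trans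
      ((Scheme.pointSmallEtale ξ).toPresheafFiber_w_apply n (nbhdPt ξ k) ((pushCx g R).cycles q).obj c).symm)
  rw [e, phi_germ, valC_def]
  refine Eq.trans ?_ (pb_precomp aT ((EtCoh.bc g).map n) (pj d g aT bT hP k) (projP_hom d g aT bT hP _ _)
    _ _ rfl F q _)
  refine congrArg _ ((secCls_congr R _ q _ _ (cycSect_map g R q n c) ?_).trans (secCls_map R _ q _ _ _ _).symm)
  rw [← cycSect_map]
  exact cycSect_d g R q _ _

end Gen

variable {X S Y T : Scheme.{u}} (f : X ⟶ S) (g : T ⟶ S) (h : Y ⟶ X) (e : Y ⟶ T) (w : e ≫ g = h ≫ f)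
  {η : Spec (CommRingCat.of Ω) ⟶ X} (d : Datum (η ≫ f)) (d' : Datum η)

/-- The sections of the two data over an etale scheme of the base agree. -/
theorem datum_sec_compat (φ : d'.P ⟶ d.P) (hφp : φ ≫ d.p = d'.p ≫ f) (hφc : d'.c ≫ φ = d.c)
    (U : S.Etale) (z : (Scheme.pointSmallEtale (η ≫ f)).fiber.obj U) [IsAffine U.left] (k : Idx η)
    (n : nbhd η k ⟶ (EtCoh.bc f).obj U)
    (hn : (Scheme.pointSmallEtale η).fiber.map n (nbhdPt η k) = (fiberCompIso f η).inv.app U z) :
    d'.sec (nbhd η k) (nbhdPt η k) ≫ n.left ≫ pullback.fst U.hom f = φ ≫ d.sec U z := by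
  let l : d'.P ⟶ ((EtCoh.bc f).obj U).left := pullback.lift (φ ≫ d.sec U z) d'.p
    (by rw [Category.assoc, d.sec_hom, hφp])
  haveI : Etale ((EtCoh.bc f).obj U).hom := ((EtCoh.bc f).obj U).prop
  have key : d'.sec (nbhd η k) (nbhdPt η k) ≫ n.left = l := by
    refine d'.hom_ext ((EtCoh.bc f).obj U).hom _ _ ?_ ?_
    · exact ((Category.assoc _ _ _).trans ((congrArg (_ ≫ ·) (MorphismProperty.Over.w n)).trans
        (d'.sec_hom _ _))).trans (pullback.lift_snd _ _ _).symm
    · let z' := (fiberCompIso f η).inv.app U z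
      have hz : (show Spec (CommRingCat.of Ω) ⟶ ((EtCoh.bc f).obj U).left from z'.left) =
          d'.c ≫ d'.sec (nbhd η k) (nbhdPt η k) ≫ n.left := by
        rw [← Category.assoc, d'.c_sec]
        exact congrArg (fun y => y.left) hn.symm
      rw [← hz]
      refine pullback.hom_ext ?_ ?_
      · rw [Category.assoc]
        refine (fiberCompIso_inv_left f η U z).trans ?_
        rw [show l ≫ pullback.fst U.hom f = φ ≫ d.sec U z from pullback.lift_fst _ _ _, ← Category.assoc,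
          hφc, d.c_sec]
      · rw [Category.assoc, show l ≫ pullback.snd U.hom f = d'.p from pullback.lift_snd _ _ _, d'.c_p]
        exact Over.w z'
  rw [← Category.assoc, key]
  exact pullback.lift_fst _ _ _

variable (F : EtCoh.Ab T) (q : ℕ) [QuasiCompact g] [QuasiSeparated g]
  {PS : Scheme.{u}} (aS : PS ⟶ T) (bS : PS ⟶ d.P) (hS : IsPullback aS bS g d.p)
  {PX : Scheme.{u}} (aY : PX ⟶ Y) (bX : PX ⟶ d'.P) (hX : IsPullback aY bX h d'.p)

/-- The comparison for a direct image in degree `q`. -/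
noncomputable def stalkRpush {S' T' : Scheme.{u}} {ξ : Spec (CommRingCat.of Ω) ⟶ S'} (d₀ : Datum ξ)
    (g₀ : T' ⟶ S') {P₀ : Scheme.{u}} (a : P₀ ⟶ T') (b : P₀ ⟶ d₀.P) (hP : IsPullback a b g₀ d₀.p)
    (F₀ : EtCoh.Ab T') : (EtCoh.stalk ξ).obj ((EtCoh.Rpush g₀ q).obj F₀) ⟶
      AddCommGrpCat.of (Sheaf.H ((EtCoh.pull a).obj F₀) q) :=
  (EtCoh.stalk ξ).map ((injectiveResolution F₀).isoRightDerivedObj (EtCoh.push g₀) q).hom ≫
    phi d₀ g₀ a b hP (injectiveResolution F₀) q

theorem stalkRpush_bijective {S' T' : Scheme.{u}} {ξ : Spec (CommRingCat.of Ω) ⟶ S'} (d₀ : Datum ξ)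
    (g₀ : T' ⟶ S') [QuasiCompact g₀] [QuasiSeparated g₀] {P₀ : Scheme.{u}} (a : P₀ ⟶ T') (b : P₀ ⟶ d₀.P)
    (hP : IsPullback a b g₀ d₀.p) (F₀ : EtCoh.Ab T') :
    Function.Bijective (stalkRpush q d₀ g₀ a b hP F₀) := by
  rw [stalkRpush]
  exact (phi_bijective d₀ g₀ a b hP (injectiveResolution F₀) q).comp
    (ConcreteCategory.bijective_of_isIso _)

theorem stalkRpush_germ {S' T' : Scheme.{u}} {ξ : Spec (CommRingCat.of Ω) ⟶ S'} (d₀ : Datum ξ)
    (g₀ : T' ⟶ S') {P₀ : Scheme.{u}} (a : P₀ ⟶ T') (b : P₀ ⟶ d₀.P)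
    (hP : IsPullback a b g₀ d₀.p) (F₀ : EtCoh.Ab T') (U : S'.Etale)
    (z : (Scheme.pointSmallEtale ξ).fiber.obj U)
    (c : ((pushCx g₀ (injectiveResolution F₀)).cycles q).obj.obj (op U)) :
    stalkRpush q d₀ g₀ a b hP F₀ (H18Et.germ ξ ((EtCoh.Rpush g₀ q).obj F₀) U z
      (((pushCx g₀ (injectiveResolution F₀)).homologyπ q ≫
        ((injectiveResolution F₀).isoRightDerivedObj (EtCoh.push g₀) q).inv).hom.app (op U) c)) =
      phi d₀ g₀ a b hP (injectiveResolution F₀) q ((EtCoh.stalk ξ).map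
        ((pushCx g₀ (injectiveResolution F₀)).homologyπ q) (H18Et.germ ξ ((pushCx g₀ (injectiveResolution F₀)).cycles q) U z c)) := by
  let p := (pushCx g₀ (injectiveResolution F₀)).homologyπ q
  let i := (injectiveResolution F₀).isoRightDerivedObj (EtCoh.push g₀) q
  refine congrArg (phi d₀ g₀ a b hP (injectiveResolution F₀) q) ?_
  refine (congrArg ((EtCoh.stalk ξ).map i.hom) (germ_naturality ξ (p ≫ i.inv) U z c).symm).trans ?_
  refine (ConcreteCategory.congr_hom ((EtCoh.stalk ξ).map_comp (p ≫ i.inv) i.hom).symm _).trans ?_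
  rw [Category.assoc, Iso.inv_hom_id, Category.comp_id]
  rfl

/-- The base change morphism on stalks is the inverse image on the cohomology of strict localisations. -/
theorem stalkRpush_bcQ (φ : d'.P ⟶ d.P) (hφp : φ ≫ d.p = d'.p ≫ f)
    (hφc : d'.c ≫ φ = d.c) (m : PX ⟶ PS) (wm : m ≫ aS = aY ≫ e) (hm : m ≫ bS = bX ≫ φ)
    (y : (EtCoh.stalk (η ≫ f)).obj ((EtCoh.Rpush g q).obj F)) :
    stalkRpush q d' h aY bX hX ((EtCoh.pull e).obj F)
        ((EtCoh.stalk η).map (EtBC.bcQ g f h e w q F) ((stalkPullIso f η).inv.app _ y)) =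
      Sheaf.H.map ((viaIso aY e (aY ≫ e) rfl).app F).inv q
        (EtCore.HpullVia m aS (aY ≫ e) wm F q (stalkRpush q d g aS bS hS F y)) := by
  let I := injectiveResolution F
  let R := injectiveResolution ((EtCoh.pull e).obj F)
  let ig := (injectiveResolution F).isoRightDerivedObj (EtCoh.push g) q
  obtain ⟨j, c, hc⟩ := exists_germ_rep g I q ((EtCoh.stalk (η ≫ f)).map ig.hom y)
  let U := nbhd (η ≫ f) j
  let z := nbhdPt (η ≫ f) j
  have hy : y = H18Et.germ (η ≫ f) ((EtCoh.Rpush g q).obj F) U z (((pushCx g I).homologyπ q ≫ ig.inv).hom.app (op U) c) := by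
    refine Eq.trans ?_ (germ_naturality (η ≫ f) ((pushCx g I).homologyπ q ≫ ig.inv) U z c)
    refine Eq.trans ?_ (ConcreteCategory.congr_hom
      ((EtCoh.stalk (η ≫ f)).map_comp ((pushCx g I).homologyπ q) ig.inv).symm _)
    refine Eq.trans ?_ (congrArg ((EtCoh.stalk (η ≫ f)).map ig.inv) hc.symm)
    refine Eq.trans ?_ (ConcreteCategory.congr_hom ((EtCoh.stalk (η ≫ f)).map_comp ig.hom ig.inv) y)
    rw [Iso.hom_inv_id, CategoryTheory.Functor.map_id]
    rfl
  obtain ⟨θ, Z, hθ0, hZi, hZ⟩ := exists_bcCycles f g h e w F q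
  obtain ⟨l, hl, hsq⟩ := exists_sqIso_app f g h e w U
  let z' := (fiberCompIso f η).inv.app U z
  obtain ⟨k, n, hn⟩ := exists_idx ((EtCoh.bc f).obj U) z'
  let c' : ((pushCx h R).cycles q).obj.obj (op ((EtCoh.bc f).obj U)) := Z.hom.app (op U) c
  have h1 : (EtBC.bcQ g f h e w q F).hom.app (op ((EtCoh.bc f).obj U))
      (((EtCoh.pullPushAdj f).unit.app _).hom.app (op U)
        (((pushCx g I).homologyπ q ≫ ig.inv).hom.app (op U) c)) =
      ((pushCx h R).homologyπ q ≫
        (R.isoRightDerivedObj (EtCoh.push h) q).inv).hom.app (op ((EtCoh.bc f).obj U)) c' := by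
    have e' := ((EtCoh.pullPushAdj f).homEquiv _ _).apply_symm_apply (EtBC.bcQAdj g f h e w q F)
    rw [Adjunction.homEquiv_unit] at e'
    refine (ConcreteCategory.congr_hom (congrArg (fun k => k.hom.app (op U)) e') _).trans ?_
    exact ConcreteCategory.congr_hom (congrArg (fun k => k.hom.app (op U)) hZ) c
  have h2 : cycSect h R q ((EtCoh.bc f).obj U) c' =
      (R.cocomplex.X q).obj.map l.op ((θ.f q).hom.app (op ((EtCoh.bc g).obj U)) (cycSect g I q U c)) := by
    refine Eq.trans ?_ (hsq _ _)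
    exact ConcreteCategory.congr_hom (congrArg (fun k => k.hom.app (op U)) hZi) c
  let s := cycSect g I q U c
  have hs' : (R.cocomplex.d q (q + 1)).hom.app (op ((EtCoh.bc e).obj ((EtCoh.bc g).obj U)))
      ((θ.f q).hom.app (op ((EtCoh.bc g).obj U)) s) = 0 := by
    refine (ConcreteCategory.congr_hom (congrArg (fun k => k.hom.app (op ((EtCoh.bc g).obj U)))
      (θ.comm q (q + 1))) s).trans ?_
    show (θ.f (q + 1)).hom.app (op ((EtCoh.bc g).obj U))
      ((I.cocomplex.d q (q + 1)).hom.app (op ((EtCoh.bc g).obj U)) s) = 0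
    rw [cycSect_d g I q U c, map_zero]
  rw [hy, stalkPullIso_inv_germ, stalkRpush_germ]
  refine Eq.trans ?_ (congrArg (fun x => Sheaf.H.map ((viaIso aY e (aY ≫ e) rfl).app F).inv q
    (EtCore.HpullVia m aS (aY ≫ e) wm F q x)) (phi_germ d g aS bS hS I q j c).symm)
  refine (congrArg (stalkRpush q d' h aY bX hX ((EtCoh.pull e).obj F))
    ((germ_naturality η (EtBC.bcQ g f h e w q F) ((EtCoh.bc f).obj U) z' _).trans
      (congrArg (H18Et.germ η ((EtCoh.Rpush h q).obj ((EtCoh.pull e).obj F)) ((EtCoh.bc f).obj U) z') h1))).trans ?_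
  rw [stalkRpush_germ, phi_germ_gen d' h aY bX hX R q _ z' k n hn]
  let π := pj d' h aY bX hX k ≫ ((EtCoh.bc h).map n).left
  have hπ : (π ≫ l.left) ≫ ((EtCoh.bc e).obj ((EtCoh.bc g).obj U)).hom = aY :=
    (Category.assoc _ _ _).trans ((congrArg (π ≫ ·) (MorphismProperty.Over.w l)).trans
      (projP_bc_map d' h aY bX hX _ k n))
  refine (congrArg (pb aY _ π (projP_bc_map d' h aY bX hX _ k n) _ q) ((secCls_congr R _ q _ _ h2
    (h2 ▸ cycSect_d h R q _ c')).trans (secCls_map R _ q _ hs' l _).symm)).trans ?_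
  refine (pb_precomp aY l π (projP_bc_map d' h aY bX hX _ k n) (π ≫ l.left) hπ rfl _ q _).trans ?_
  have hπ₀ : (m ≫ pj d g aS bS hS j) ≫ ((EtCoh.bc g).obj U).hom = aY ≫ e :=
    (Category.assoc _ _ _).trans ((congrArg (m ≫ ·) (projP_hom d g aS bS hS _ _)).trans wm)
  refine (pb_map aY e (aY ≫ e) rfl ((EtCoh.bc g).obj U) (π ≫ l.left) hπ (m ≫ pj d g aS bS hS j) hπ₀ ?_
    I R ((EtCoh.pullPushAdj e).unit.app F) θ.f (fun i => θ.comm i (i + 1)) hθ0 q s (cycSect_d g I q U c) hs').trans ?_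
  · refine pullback.hom_ext ?_ ?_
    · rw [Category.assoc, Category.assoc, Category.assoc]
      refine (congrArg (π ≫ ·) hl).trans ?_
      refine Eq.trans ?_ ((Category.assoc _ _ _).trans (congrArg (m ≫ ·) (projP_fst d g aS bS hS _ _))).symm
      refine (Category.assoc _ _ _).trans ?_
      refine (congrArg (pj d' h aY bX hX k ≫ ·) ((Category.assoc _ _ _).symm.trans
        ((congrArg (· ≫ pullback.fst U.hom f) (show ((EtCoh.bc h).map n).left ≫
          pullback.fst ((EtCoh.bc f).obj U).hom h = pullback.fst (nbhd η k).hom h ≫ n.left from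
          pullback.lift_fst _ _ _)).trans (Category.assoc _ _ _)))).trans ?_
      refine (Category.assoc _ _ _).symm.trans ?_
      refine (congrArg (· ≫ n.left ≫ pullback.fst U.hom f) (projP_fst d' h aY bX hX _ _)).trans ?_
      refine (Category.assoc _ _ _).trans ?_
      refine (congrArg (bX ≫ ·) (datum_sec_compat f d d' φ hφp hφc U z k n hn)).trans ?_
      rw [← Category.assoc, ← hm, Category.assoc]
    · refine Eq.trans ?_ hπ₀.symm
      refine (Category.assoc _ _ _).trans ((congrArg ((π ≫ l.left) ≫ ·) pullback.condition).trans ?_)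
      exact (Category.assoc _ _ _).symm.trans (congrArg (· ≫ e) hπ)
  · have hu : ((EtCoh.pullPushAdj e).homEquiv F ((EtCoh.pull e).obj F)).symm ((EtCoh.pullPushAdj e).unit.app F) = 𝟙 _ := by
      rw [Equiv.symm_apply_eq]
      exact ((EtCoh.pullPushAdj e).homEquiv_id F).symm
    rw [hu, CategoryTheory.Functor.map_id, valC_def]
    refine (congrArg (fun k => Sheaf.H.map k q _) (Category.comp_id _)).trans ?_
    refine congrArg (Sheaf.H.map _ q) ?_
    exact (pb_via m aS (aY ≫ e) wm ((EtCoh.bc g).obj U) (pj d g aS bS hS j) (projP_hom d g aS bS hS _ _)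
      (m ≫ pj d g aS bS hS j) hπ₀ rfl F q _).symm

end Groth.Agent.H1DFun

namespace Groth.Agent.H1DFun

attribute [local instance] Groth.Agent.H18Et.pull_preservesFiniteLimits

variable {Ω : Type u} [Field Ω] [IsSepClosed Ω] {X S Y T : Scheme.{u}} (f : X ⟶ S) (g : T ⟶ S) (h : Y ⟶ X)
  (e : Y ⟶ T) (w : e ≫ g = h ≫ f) {η : Spec (CommRingCat.of Ω) ⟶ X}

theorem sheafH_map_bijective {X' : Scheme.{u}} {A B : EtCoh.Ab X'} (i : A ≅ B) (n : ℕ) :
    Function.Bijective (Sheaf.H.map i.hom n) :=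
  Function.bijective_iff_has_inverse.2 ⟨Sheaf.H.map i.inv n, fun x => H_map_inv_hom i.symm n x,
    fun x => H_map_inv_hom i n x⟩

/-- The base change morphism is bijective at a geometric point iff the inverse image on strict
localisations is. -/
theorem stalk_bcQ_bijective_iff [QuasiCompact g] [QuasiSeparated g] [QuasiCompact h] [QuasiSeparated h]
    (F : EtCoh.Ab T) (q : ℕ) (d : Datum (η ≫ f)) (d' : Datum η)
    {PS : Scheme.{u}} (aS : PS ⟶ T) (bS : PS ⟶ d.P) (hS : IsPullback aS bS g d.p)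
    {PX : Scheme.{u}} (aY : PX ⟶ Y) (bX : PX ⟶ d'.P) (hX : IsPullback aY bX h d'.p)
    (φ : d'.P ⟶ d.P) (hφp : φ ≫ d.p = d'.p ≫ f)
    (hφc : d'.c ≫ φ = d.c) (m : PX ⟶ PS) (wm : m ≫ aS = aY ≫ e) (hm : m ≫ bS = bX ≫ φ) :
    Function.Bijective ((EtCoh.stalk η).map (EtBC.bcQ g f h e w q F)) ↔
      Function.Bijective (EtCore.HpullVia m aS (aY ≫ e) wm F q) := by
  have b1 := stalkRpush_bijective q d g aS bS hS F
  have b2 := stalkRpush_bijective q d' h aY bX hX ((EtCoh.pull e).obj F)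
  have b3 : Function.Bijective ((stalkPullIso f η).inv.app ((EtCoh.Rpush g q).obj F)) :=
    ConcreteCategory.bijective_of_isIso _
  have b4 : Function.Bijective (Sheaf.H.map ((viaIso aY e (aY ≫ e) rfl).app F).inv q) :=
    sheafH_map_bijective ((viaIso aY e (aY ≫ e) rfl).app F).symm q
  rw [← Function.Bijective.of_comp_iff _ b3, ← Function.Bijective.of_comp_iff' b2,
    ← Function.Bijective.of_comp_iff' b4 (EtCore.HpullVia m aS (aY ≫ e) wm F q),
    ← Function.Bijective.of_comp_iff _ b1]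
  exact Iff.of_eq (congrArg Function.Bijective (funext fun y =>
    stalkRpush_bcQ f g h e w d d' F q aS bS hS aY bX hX φ hφp hφc m wm hm y))

end Groth.Agent.H1DFun
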