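import Groth.Agent.H1DFun.BCBij
import Groth.Agent.H18Et.RestrictionClass

/-!
# Classes and base change in terms of coefficient morphisms
-/

set_option autoImplicit false
set_option backward.isDefEq.respectTransparency false
set_option backward.isDefEq.respectTransparency.types false

universe w v u

open CategoryTheory CategoryTheory.Limits AlgebraicGeometry Opposite Abelian
open Groth.Agent.H18Et Groth.Agent.H1Lim

namespace Groth.Agent.H1DFun

section Cls

variable {C : Type u} [Category.{v} C] [Abelian C] [HasInjectiveResolutions C] [HasExt.{w} C] (A : C)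
  {X X₂ : C} (R : InjectiveResolution X) (R₂ : InjectiveResolution X₂) (α : R.cocomplex ⟶ R₂.cocomplex)
  (γ : X ⟶ X₂) (hγ : R.ι.f 0 ≫ α.f 0 = γ ≫ R₂.ι.f 0)

include hγ in
/-- Classes of cocycles are natural in the coefficients. -/
theorem cls_comp_mk₀ (n : ℕ) (x : A ⟶ R.cocomplex.X n) (hx : x ≫ R.cocomplex.d n (n + 1) = 0) :
    (cls A R n x hx).comp (Ext.mk₀ γ) (add_zero n) =
      cls A R₂ n (x ≫ α.f n) (by rw [Category.assoc, α.comm, ← Category.assoc, hx, zero_comp]) := by
  refine (psi_map A (𝟭 C) (𝟭 C) R R₂ (fun i => α.f i) (fun i => α.comm i (i + 1)) γ hγ n 0 n (zero_add n) _).symm.trans ?_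
  rw [cls_def]
  refine congrArg _ ?_
  rw [Ext.mk₀_comp_mk₀]
  refine congrArg Ext.mk₀ ?_
  have h2 : cyclesHom (𝟭 C) (𝟭 C) R R₂ (fun i => α.f i) (fun i => α.comm i (i + 1)) n ≫ R₂.cocomplex.iCycles n =
      R.cocomplex.iCycles n ≫ α.f n := cyclesHom_i (𝟭 C) (𝟭 C) R R₂ _ _ n
  refine (cancel_mono (R₂.cocomplex.iCycles n)).1 ?_
  refine Eq.trans ?_ (R₂.cocomplex.liftCycles_i _ (n + 1) _ _).symm
  refine (Category.assoc _ _ _).trans ((congrArg (_ ≫ ·) h2).trans ?_)
  rw [← Category.assoc, R.cocomplex.liftCycles_i]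

end Cls

attribute [local instance] Groth.Agent.H18Et.pull_preservesFiniteLimits

theorem hom_ext_of_stalk {X : Scheme.{u}} {F G : EtCoh.Ab X} (φ ψ : F ⟶ G)
    (h : ∀ (Ω : Type u) [Field Ω] [IsSepClosed Ω] (ξ : Spec (CommRingCat.of Ω) ⟶ X) (y : (EtCoh.stalk ξ).obj F),
      (EtCoh.stalk ξ).map φ y = (EtCoh.stalk ξ).map ψ y) : φ = ψ := by
  refine Sheaf.hom_ext (NatTrans.ext (funext fun U => ?_))
  ext s
  refine H18Et.sect_ext (U := U.unop) _ _ fun Ω _ _ ξ z => ?_
  exact ((H18Et.germ_naturality ξ φ U.unop z s).symm.trans (h Ω ξ _)).trans (H18Et.germ_naturality ξ ψ U.unop z s)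

variable {X S Y T : Scheme.{u}}

theorem secCls_comp {F G : EtCoh.Ab X} (R : InjectiveResolution F) (R₂ : InjectiveResolution G)
    (α : R.cocomplex ⟶ R₂.cocomplex) (γ : F ⟶ G) (hγ : R.ι.f 0 ≫ α.f 0 = γ ≫ R₂.ι.f 0) (W : X.Etale) (q : ℕ)
    (x : (R.cocomplex.X q).obj.obj (op W)) (hx : (R.cocomplex.d q (q + 1)).hom.app (op W) x = 0)
    (hy : (R₂.cocomplex.d q (q + 1)).hom.app (op W) ((α.f q).hom.app (op W) x) = 0) :
    (secCls R W q x hx).comp (Ext.mk₀ γ) (add_zero q) = secCls R₂ W q ((α.f q).hom.app (op W) x) hy := by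
  rw [secCls_def, secCls_def, cls_comp_mk₀ _ R R₂ α γ hγ]
  refine cls_congr _ R₂ q ?_ _ _
  rw [Equiv.eq_symm_apply, FreeSheaf.homEquiv_comp, Equiv.apply_symm_apply]

section One

variable (g : T ⟶ S) {F G : EtCoh.Ab T} (γ : F ⟶ G) (q : ℕ)

/-- The coefficient map on classes. -/
noncomputable abbrev m0 (U : S.Etale) : H0 g F q U →+ H0 g G q U :=
  Sheaf.H.map ((EtCoh.pull ((EtCoh.bc g).obj U).hom).map γ) q

theorem toSect_natural (U : S.Etale) (x : H0 g F q U) :
    ((EtCoh.Rpush g q).map γ).hom.app (op U) (toSect g F q U x) = toSect g G q U (m0 g γ q U x) := by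
  let I := injectiveResolution F
  let J := injectiveResolution G
  let α : I.cocomplex ⟶ J.cocomplex := InjectiveResolution.desc γ J I
  have hα : I.ι.f 0 ≫ α.f 0 = γ ≫ J.ι.f 0 := InjectiveResolution.desc_commutes_zero γ J I
  let P := (EtCoh.push g).mapHomologicalComplex (ComplexShape.up ℕ)
  have hnat : rpi g F q ≫ (EtCoh.Rpush g q).map γ = HomologicalComplex.cyclesMap (P.map α) q ≫ rpi g G q := by
    have e1 : (I.isoRightDerivedObj (EtCoh.push g) q).inv ≫ ((EtCoh.push g).rightDerived q).map γ =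
        (HomologicalComplex.homologyFunctor _ _ q).map (P.map α) ≫ (J.isoRightDerivedObj (EtCoh.push g) q).inv := by
      rw [Iso.inv_comp_eq, ← Category.assoc, Iso.eq_comp_inv]
      exact InjectiveResolution.isoRightDerivedObj_hom_naturality γ I J α hα _ q
    refine ((Category.assoc _ _ _).trans (congrArg (_ ≫ ·) e1)).trans ?_
    rw [HomologicalComplex.homologyFunctor_map, HomologicalComplex.homologyπ_naturality_assoc]
  obtain ⟨c, rfl⟩ := clsVal_surjective g F q U x
  rw [toSect_clsVal]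
  refine (ConcreteCategory.congr_hom (congrArg (fun k => k.hom.app (op U)) hnat) c).trans ?_
  refine ((toSect_clsVal g G q U ((HomologicalComplex.cyclesMap (P.map α) q).hom.app (op U) c)).symm).trans
    (congrArg (toSect g G q U) ?_)
  rw [clsVal_def, clsVal_def]
  refine Eq.trans ?_ (pb_naturality _ _ _ _ γ q _)
  have hs : cycSect g J q U ((HomologicalComplex.cyclesMap (P.map α) q).hom.app (op U) c) =
      (α.f q).hom.app (op ((EtCoh.bc g).obj U)) (cycSect g I q U c) :=
    ConcreteCategory.congr_hom (congrArg (fun k => k.hom.app (op U))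
      (HomologicalComplex.cyclesMap_i (P.map α) q)) c
  refine congrArg _ ((secCls_congr _ _ q _ _ hs ?_).trans (secCls_comp I J α γ hα _ q _ _ _).symm)
  rw [← hs]
  exact cycSect_d g _ q U _

theorem rT_map {V V' : Scheme.{u}} {a : V ⟶ T} {a' : V' ⟶ T} (f : V' ⟶ V) (w : f ≫ a = a')
    (x : Sheaf.H ((EtCoh.pull a).obj F) q) :
    rT G q f w (Sheaf.H.map ((EtCoh.pull a).map γ) q x) = Sheaf.H.map ((EtCoh.pull a').map γ) q (rT F q f w x) := by
  show EtCore.HpullVia f a a' w G q _ = Sheaf.H.map _ q (EtCore.HpullVia f a a' w F q x)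
  rw [HpullVia_def, HpullVia_def, Hpull_map]
  refine (Sheaf.H.map_comp_apply _ _ _).symm.trans (Eq.trans ?_ (Sheaf.H.map_comp_apply _ _ _))
  exact congrArg (fun m => Sheaf.H.map m q _) ((viaIso f a a' w).hom.naturality γ)

end One

section BC

variable (f : X ⟶ S) (g : T ⟶ S) (h : Y ⟶ X) (e : Y ⟶ T) (w : e ≫ g = h ≫ f) {F G : EtCoh.Ab T}
  (γ : F ⟶ G) (q : ℕ)

/-- The coefficient map on classes on the upper left corner. -/
noncomputable abbrev m1 (Q : X.Etale) : H1 h e F q Q →+ H1 h e G q Q :=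
  Sheaf.H.map ((EtCoh.pull (((EtCoh.bc h).obj Q).hom ≫ e)).map γ) q

theorem toSect'_natural (Q : X.Etale) (x : H1 h e F q Q) :
    ((EtCoh.Rpush h q).map ((EtCoh.pull e).map γ)).hom.app (op Q) (toSect' h e F q Q x) =
      toSect' h e G q Q (m1 h e γ q Q x) := by
  rw [toSect'_def, toSect'_def, toSect_natural]
  refine congrArg (toSect h _ q Q) ?_
  refine (Sheaf.H.map_comp_apply _ _ _).symm.trans (Eq.trans ?_ (Sheaf.H.map_comp_apply _ _ _))
  exact congrArg (fun m => Sheaf.H.map m q x)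
    (((viaIso ((EtCoh.bc h).obj Q).hom e (((EtCoh.bc h).obj Q).hom ≫ e) rfl).inv.naturality γ).symm)

theorem bcQ_natural :
    EtBC.bcQ g f h e w q F ≫ (EtCoh.Rpush h q).map ((EtCoh.pull e).map γ) =
      (EtCoh.pull f).map ((EtCoh.Rpush g q).map γ) ≫ EtBC.bcQ g f h e w q G := by
  apply ((EtCoh.pullPushAdj f).homEquiv _ _).injective
  refine hom_ext_of_stalk _ _ fun Ω _ _ ξ y => ?_
  obtain ⟨U, z, x, rfl⟩ := exists_toSect_germ g F q ξ y
  rw [H18Et.germ_naturality, H18Et.germ_naturality]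
  refine congrArg _ ?_
  rw [Adjunction.homEquiv_unit, Adjunction.homEquiv_unit]
  show ((EtCoh.Rpush h q).map ((EtCoh.pull e).map γ)).hom.app (op ((EtCoh.bc f).obj U))
      ((EtBC.bcQ g f h e w q F).hom.app (op ((EtCoh.bc f).obj U))
        (((EtCoh.pullPushAdj f).unit.app _).hom.app (op U) (toSect g F q U x))) =
    (EtBC.bcQ g f h e w q G).hom.app (op ((EtCoh.bc f).obj U))
      (((EtCoh.pull f).map ((EtCoh.Rpush g q).map γ)).hom.app (op ((EtCoh.bc f).obj U))
        (((EtCoh.pullPushAdj f).unit.app _).hom.app (op U) (toSect g F q U x)))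
  have hu := ConcreteCategory.congr_hom (congrArg (fun k => k.hom.app (op U))
    ((EtCoh.pullPushAdj f).unit.naturality ((EtCoh.Rpush g q).map γ))) (toSect g F q U x)
  rw [bcQ_toSect, toSect'_natural]
  refine Eq.trans ?_ (congrArg ((EtBC.bcQ g f h e w q G).hom.app (op ((EtCoh.bc f).obj U))) hu)
  show _ = (EtBC.bcQ g f h e w q G).hom.app (op ((EtCoh.bc f).obj U))
      (((EtCoh.pullPushAdj f).unit.app _).hom.app (op U) (((EtCoh.Rpush g q).map γ).hom.app (op U) (toSect g F q U x)))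
  rw [toSect_natural, bcQ_toSect]
  exact congrArg _ (rT_map γ q _ (lam_hom f g h e w U) x).symm

end BC

end Groth.Agent.H1DFun
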