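import Mathlib.CategoryTheory.Abelian.RightDerived

/-!
# Right derived functors are additive
-/

set_option autoImplicit false
set_option backward.isDefEq.respectTransparency false

universe v u v₁ u₁

open CategoryTheory CategoryTheory.Limits

namespace Groth.Agent.H1DFun

variable {C : Type u} [Category.{v} C] [Abelian C] [HasInjectiveResolutions C]
  {D : Type u₁} [Category.{v₁} D] [Abelian D]

theorem rightDerived_map_add (F : C ⥤ D) [F.Additive] (n : ℕ) {X Y : C} (f g : X ⟶ Y) :
    (F.rightDerived n).map (f + g) = (F.rightDerived n).map f + (F.rightDerived n).map g := by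
  let P := injectiveResolution X
  let Q := injectiveResolution Y
  let φ := InjectiveResolution.desc f Q P
  let ψ := InjectiveResolution.desc g Q P
  have hφ : P.ι.f 0 ≫ φ.f 0 = f ≫ Q.ι.f 0 := InjectiveResolution.desc_commutes_zero f Q P
  have hψ : P.ι.f 0 ≫ ψ.f 0 = g ≫ Q.ι.f 0 := InjectiveResolution.desc_commutes_zero g Q P
  have hφψ : P.ι.f 0 ≫ (φ + ψ).f 0 = (f + g) ≫ Q.ι.f 0 := by
    rw [HomologicalComplex.add_f_apply, Preadditive.comp_add, Preadditive.add_comp, hφ, hψ]
  rw [← cancel_mono (Q.isoRightDerivedObj F n).hom, Preadditive.add_comp,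
    InjectiveResolution.isoRightDerivedObj_hom_naturality f P Q φ hφ F n,
    InjectiveResolution.isoRightDerivedObj_hom_naturality g P Q ψ hψ F n,
    InjectiveResolution.isoRightDerivedObj_hom_naturality (f + g) P Q (φ + ψ) hφψ F n, ← Preadditive.comp_add]
  refine congrArg ((P.isoRightDerivedObj F n).hom ≫ ·) ?_
  simp only [Functor.comp_map, Functor.map_add]

theorem rightDerived_additive (F : C ⥤ D) [F.Additive] (n : ℕ) : (F.rightDerived n).Additive :=
  ⟨fun {_ _ f g} => rightDerived_map_add F n f g⟩

end Groth.Agent.H1DFun
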