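import Groth.Agent.H1DFun.PBCTorsion
import Groth.Agent.H1DFun.EfaceClosed

/-!
# Torsion sheaves embed in torsion sheaves without higher cohomology
-/

set_option autoImplicit false
set_option backward.isDefEq.respectTransparency false
set_option backward.isDefEq.respectTransparency.types false

universe u

open CategoryTheory CategoryTheory.Limits AlgebraicGeometry Opposite Abelian
open Groth.Agent.H18Et Groth.Agent.H1Lim
open scoped Groth.Agent.H18Et.CohColim

namespace Groth.Agent.H1DFun

attribute [local instance] Groth.Agent.H18Et.pull_preservesFiniteLimits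

variable {X : Scheme.{u}}

/-- Torsion parts of injective sheaves killed by an integer have no higher cohomology. -/
theorem subsingleton_H_kernel_nsmul (J : EtCoh.Ab X) [Injective J] (n : ℕ) (hn : n ≠ 0) (q : ℕ) :
    Subsingleton (Sheaf.H (kernel (n • 𝟙 J)) (q + 1)) := by
  haveI := epi_nsmul_injective J n hn
  let m : J ⟶ J := n • 𝟙 J
  have hS : (ShortComplex.mk (kernel.ι m) m (kernel.condition m)).ShortExact :=
    { exact := ShortComplex.exact_of_f_is_kernel _ (kernelIsKernel m), epi_g := inferInstanceAs (Epi (n • 𝟙 J)) }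
  refine subsingleton_of_forall_eq 0 fun y => ?_
  obtain ⟨z, rfl⟩ := Ext.covariant_sequence_exact₁ _ hS y (Ext.eq_zero_of_injective _) rfl
  obtain ⟨z', rfl⟩ : ∃ z', Sheaf.H.map m q z' = z := by
    rcases q with _ | q
    · let hT := EtCore.topIsTerminal X
      obtain ⟨t, ht⟩ := exists_sect_zsmul J n (by exact_mod_cast hn) (EtCoh.top X) (Sheaf.H.equiv₀ J hT z)
      refine ⟨(Sheaf.H.equiv₀ J hT).symm t, (Sheaf.H.equiv₀ J hT).injective ?_⟩
      refine (Sheaf.H.equiv₀_naturality hT m _).symm.trans ?_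
      rw [AddEquiv.apply_symm_apply, ← ht, natCast_zsmul]
    · exact ⟨0, ((map_zero _).trans (Ext.eq_zero_of_injective z).symm)⟩
  show Ext.comp (Sheaf.H.map m q z') hS.extClass rfl = 0
  rw [Sheaf.H.map_apply, Ext.comp_assoc_of_second_deg_zero]
  erw [hS.comp_extClass, Ext.comp_zero]

/-- The map of exhausting systems. -/
noncomputable def torSysMap {F G : EtCoh.Ab X} (φ : F ⟶ G) : torSys F ⟶ torSys G where
  app k := kernel.map (tExp k • 𝟙 F) (tExp k • 𝟙 G) φ φ (by
    rw [Preadditive.nsmul_comp, Preadditive.comp_nsmul, Category.id_comp, Category.comp_id])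
  naturality i j f := by
    refine (cancel_mono (kernel.ι (tExp j • 𝟙 G))).1 ?_
    simp only [torSys, kernel.map, Category.assoc, kernel.lift_ι, kernel.lift_ι_assoc]

theorem isTorsion_colimit_torSys (F : EtCoh.Ab X) : EtCoh.IsTorsion (colimit (torSys F)) := by
  rw [H18Et.Coh.isTorsion_iff_stalk]
  intro Ω _ _ ξ p
  haveI := ((Scheme.pointSmallEtale ξ).skyscraperSheafAdjunction
    (A := AddCommGrpCat.{u + 1})).leftAdjoint_preservesColimits
  obtain ⟨l, q, hq⟩ := Concrete.isColimit_exists_rep _
    (isColimitOfPreserves (EtCoh.stalk ξ) (colimit.isColimit (torSys F))) p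
  replace hq : (EtCoh.stalk ξ).map (colimit.ι (torSys F) l) q = p := hq
  rw [← hq]
  exact AddMonoidHom.isOfFinAddOrder _ ((H18Et.Coh.isTorsion_iff_stalk _).1
    (isTorsion_of_nsmul_id (Nat.factorial_pos _) ((killedBy_iff_nsmul_id _ _).1 (killedBy_kernel (tExp l) F))) Ω ξ q)

/-- A torsion sheaf on a qcqs scheme embeds in a torsion sheaf without higher cohomology. -/
theorem exists_mono_torsion_acyclic [CompactSpace X] [QuasiSeparatedSpace X] (F : EtCoh.Ab X)
    (hF : EtCoh.IsTorsion F) :
    ∃ (G : EtCoh.Ab X) (ι : F ⟶ G), Mono ι ∧ EtCoh.IsTorsion G ∧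
      ∀ q, 0 < q → Subsingleton (Sheaf.H G q) := by
  let J := Injective.under F
  haveI := isIso_desc_torSys F hF
  let d : colimit (torSys F) ⟶ F := colimit.desc (torSys F) (torCocone F)
  haveI : IsIso d := this
  let a : colimit (torSys F) ⟶ colimit (torSys J) := colimMap (torSysMap (Injective.ι F))
  have ha : a ≫ colimit.desc (torSys J) (torCocone J) = d ≫ Injective.ι F := colimit.hom_ext fun j => by
    simp only [a, d, ι_colimMap_assoc, colimit.ι_desc, colimit.ι_desc_assoc]
    exact kernel.lift_ι _ _ _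
  haveI : Mono (a ≫ colimit.desc (torSys J) (torCocone J)) := by rw [ha]; infer_instance
  haveI : Mono a := mono_of_mono a (colimit.desc (torSys J) (torCocone J))
  refine ⟨colimit (torSys J), inv d ≫ a, inferInstance, isTorsion_colimit_torSys J, fun q hq => ?_⟩
  obtain ⟨q, rfl⟩ := Nat.exists_eq_succ_of_ne_zero hq.ne'
  refine subsingleton_of_forall_eq 0 fun x => ?_
  obtain ⟨j, y, hy⟩ := (CohColim.hSurj_hInj (q + 1) (torSys J)).1 x
  haveI : Subsingleton (Sheaf.H ((torSys J).obj j) (q + 1)) :=
    subsingleton_H_kernel_nsmul J _ (Nat.factorial_pos _).ne' q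
  rw [← hy, Subsingleton.elim y 0, map_zero]

/-- Cohomology classes of torsion sheaves are killed by injective maps of torsion sheaves. -/
theorem exists_mono_kill_self [CompactSpace X] [QuasiSeparatedSpace X] (F : EtCoh.Ab X) (hF : EtCoh.IsTorsion F)
    (q : ℕ) (hq : 0 < q) (x : Sheaf.H F q) :
    ∃ (F' : EtCoh.Ab X) (_ : EtCoh.IsTorsion F') (φ : F ⟶ F') (_ : Mono φ), Sheaf.H.map φ q x = 0 := by
  obtain ⟨G, ι, hι, hG, hz⟩ := exists_mono_torsion_acyclic F hF
  exact ⟨G, hG, ι, hι, (hz q hq).elim _ _⟩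

end Groth.Agent.H1DFun
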