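import Groth.Agent.H18Et.ConstHom
import Groth.Agent.H18Et.LC.Wrap

/-!
# Sheaves constant on an étale object pull back to constant sheaves
-/

set_option autoImplicit false
set_option backward.isDefEq.respectTransparency false
set_option backward.isDefEq.respectTransparency.types false

universe u

open CategoryTheory CategoryTheory.Limits AlgebraicGeometry Opposite
open Groth.Agent.H18Et
open scoped Groth.Agent.H18Et

namespace Groth.Agent.H1DFun

variable {X : Scheme.{u}}

/-- A sheaf which is constant on `U` pulls back to a constant sheaf on `U`. -/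
theorem nonempty_pull_iso_const_of_isConstOn {F : EtCoh.Ab X} (U : X.Etale) {M : AddCommGrpCat.{u + 1}}
    {c : M ⟶ F.obj.obj (op U)} (h : LC.IsConstOn F U c) :
    Nonempty ((EtCoh.pull U.hom).obj F ≅
      (constantSheaf U.left.smallEtaleTopology AddCommGrpCat.{u + 1}).obj M) := by
  let δ : EtCoh.top U.left ⟶ (EtCoh.bc U.hom).obj U :=
    MorphismProperty.Over.homMk (pullback.lift (𝟙 _) (𝟙 _) rfl) (pullback.lift_snd _ _ _) trivial
  let φ : M ⟶ ((EtCoh.pull U.hom).obj F).obj.obj (op (EtCoh.top U.left)) :=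
    c ≫ ((EtCoh.pullPushAdj U.hom).unit.app F).hom.app (op U) ≫ ((EtCoh.pull U.hom).obj F).obj.map δ.op
  have hφ : ConstSheaf.IsConstant ((EtCoh.pull U.hom).obj F) fun m => φ m := by
    intro Ω _ _ ξ V x
    let x₀ := (Scheme.pointSmallEtale ξ).fiber.map ((EtCore.topIsTerminal U.left).from V) x
    let z := (fiberCompIso U.hom ξ).hom.app U ((Scheme.pointSmallEtale ξ).fiber.map δ x₀)
    have h2 := (ConcreteCategory.bijective_of_isIso ((stalkPullIso U.hom ξ).inv.app F)).comp
      (h.bijective (ξ ≫ U.hom) z)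
    refine (congrArg Function.Bijective (funext fun m => ?_)).mp h2
    simp only [Function.comp_apply]
    rw [ConstSheaf.germ_rest, stalkPullIso_inv_germ U.hom ξ F U z (c m)]
    refine Eq.trans ?_ (ConstSheaf.germ_map ξ ((EtCoh.pull U.hom).obj F) δ x₀ _).symm
    exact congrArg (fun w => germ ξ ((EtCoh.pull U.hom).obj F) _ w
      (((EtCoh.pullPushAdj U.hom).unit.app F).hom.app (op U) (c m)))
      (ConcreteCategory.congr_hom ((fiberCompIso U.hom ξ).hom_inv_id_app U) _)
  haveI := ConstSheaf.isIso_homConst _ φ hφ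
  exact ⟨(asIso (ConstSheaf.homConst _ φ)).symm⟩

end Groth.Agent.H1DFun
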