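import Groth.Agent.H18Et.FibreSections
import Groth.Agent.H18Et.IntegralSection

/-!
# Splitting base changes along integral morphisms into clopen pieces
-/

set_option autoImplicit false
set_option backward.isDefEq.respectTransparency false
set_option backward.isDefEq.respectTransparency.types false

universe u

open CategoryTheory CategoryTheory.Limits AlgebraicGeometry Opposite
open Groth.Agent.H18Et

namespace Groth.Agent.H1DFun

variable {X Y : Scheme.{u}} {f : X ⟶ Y} [IsIntegralHom f] {Ω : Type u} [Field Ω] [IsSepClosed Ω] [IsAlgClosed Ω]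
  {η : Spec (CommRingCat.of Ω) ⟶ Y}

/-- A split of an etale scheme into two opens. -/
structure IsSplit {Z : Scheme.{u}} (W W' : Z.Opens) : Prop where
  disj : ∀ p, p ∈ W → p ∉ W'
  cover : ∀ p, p ∈ W ∨ p ∈ W'

theorem IsSplit.closed {Z : Scheme.{u}} {W W' : Z.Opens} (h : IsSplit W W') : IsClosedImmersion W.ι := by
  refine IsClosedImmersion.of_isPreimmersion _ ?_
  rw [Scheme.Opens.range_ι]
  have e : (W : Set Z) = (W' : Set Z)ᶜ := Set.ext fun p => ⟨h.disj p, (h.cover p).resolve_right⟩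
  rw [e]
  exact W'.2.isClosed_compl

theorem IsSplit.symm {Z : Scheme.{u}} {W W' : Z.Opens} (h : IsSplit W W') : IsSplit W' W :=
  ⟨fun p hp hp' => h.disj p hp' hp, fun p => (h.cover p).symm⟩

/-- Two etale schemes covering the fibre give a clopen split after shrinking the neighbourhood. -/
theorem exists_split (V : Y.Etale) (v : (Scheme.pointSmallEtale η).fiber.obj V) {A B : X.Etale}
    (a : A ⟶ (EtCoh.bc f).obj V) (b : B ⟶ (EtCoh.bc f).obj V)
    (hcov : ∀ q, (ιFib (f := f) V v).base q ∈ Set.range a.left.base ∪ Set.range b.left.base) :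
    ∃ (V' : Y.Etale) (g : V' ⟶ V) (v' : (Scheme.pointSmallEtale η).fiber.obj V')
      (W W' : ((EtCoh.bc f).obj V').left.Opens) (kA : openObj ((EtCoh.bc f).obj V') W ⟶ A)
      (kB : openObj ((EtCoh.bc f).obj V') W' ⟶ B),
      (Scheme.pointSmallEtale η).fiber.map g v' = v ∧ IsSplit W W' ∧
        kA ≫ a = openHom _ W ≫ (EtCoh.bc f).map g ∧ kB ≫ b = openHom _ W' ≫ (EtCoh.bc f).map g := by
  haveI := etale_left a
  haveI := etale_left b
  let O : ((EtCoh.bc f).obj V).left.Opens :=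
    ⟨Set.range a.left.base ∪ Set.range b.left.base,
      a.left.isOpenMap.isOpen_range.union b.left.isOpenMap.isOpen_range⟩
  obtain ⟨V₁, g₁, v₁, hv₁, hall⟩ := exists_nbhd_whole (f := f) V v O hcov
  let G : ((EtCoh.bc f).obj V₁).left ⟶ ((EtCoh.bc f).obj V).left := ((EtCoh.bc f).map g₁).left
  let i₁ : ULift.{u} Bool := ⟨true⟩
  let i₀ : ULift.{u} Bool := ⟨false⟩
  let F' : ULift.{u} Bool → Scheme.{u} := fun i =>
    match i with
    | ⟨true⟩ => pullback a.left G
    | ⟨false⟩ => pullback b.left G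
  let d : ∀ i, F' i ⟶ ((EtCoh.bc f).obj V₁).left := fun i =>
    match i with
    | ⟨true⟩ => pullback.snd a.left G
    | ⟨false⟩ => pullback.snd b.left G
  haveI hd : ∀ i, Etale (d i) := fun i =>
    match i with
    | ⟨true⟩ => MorphismProperty.pullback_snd (P := @Etale) a.left G ‹_›
    | ⟨false⟩ => MorphismProperty.pullback_snd (P := @Etale) b.left G ‹_›
  haveI : Etale (Limits.Sigma.desc d) := by
    have : IsZariskiLocalAtSource (EtCoh.etaleMP.{u}) := inferInstance
    exact IsZariskiLocalAtSource.sigmaDesc (P := EtCoh.etaleMP.{u}) hd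
  let π : ((EtCoh.bc f).obj V₁).left ⟶ V₁.left := pullback.fst V₁.hom f
  haveI : IsIntegralHom π := inferInstanceAs (IsIntegralHom (pullback.fst V₁.hom f))
  obtain ⟨V₂, q, hq, ⟨w, hw⟩, s, hs⟩ := exists_etale_section π (Limits.Sigma.desc d) (ptOf v₁) fun x _ => by
    rcases hall x with ⟨p, hp⟩ | ⟨p, hp⟩
    · obtain ⟨r, -, hr⟩ := Scheme.Pullback.exists_preimage_pullback (f := a.left) (g := G) p x hp
      exact ⟨(Limits.Sigma.ι F' i₁).base r, (Scheme.Hom.comp_apply _ _ _).symm.trans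
        ((congrArg (fun k => k.base r) (Sigma.ι_desc d i₁)).trans hr)⟩
    · obtain ⟨r, -, hr⟩ := Scheme.Pullback.exists_preimage_pullback (f := b.left) (g := G) p x hp
      exact ⟨(Limits.Sigma.ι F' i₀).base r, (Scheme.Hom.comp_apply _ _ _).symm.trans
        ((congrArg (fun k => k.base r) (Sigma.ι_desc d i₀)).trans hr)⟩
  haveI : Etale V₁.hom := V₁.prop
  let V' : Y.Etale := MorphismProperty.Over.mk ⊤ (q ≫ V₁.hom) (inferInstanceAs (Etale (q ≫ V₁.hom)))
  let h : V' ⟶ V₁ := MorphismProperty.Over.homMk q rfl trivial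
  obtain ⟨v', hv'⟩ := exists_fiber_lift h v₁ w hw
  have sq := (EtCoh.isPullback_bc_map f h).flip
  let t : ((EtCoh.bc f).obj V').left ⟶ ∐ F' := sq.isoPullback.hom ≫ s
  have ht : t ≫ Limits.Sigma.desc d = ((EtCoh.bc f).map h).left :=
    (Category.assoc _ _ _).trans ((congrArg (sq.isoPullback.hom ≫ ·) hs).trans sq.isoPullback_hom_snd)
  let W : ULift.{u} Bool → ((EtCoh.bc f).obj V').left.Opens := fun i => t ⁻¹ᵁ (Limits.Sigma.ι F' i).opensRange
  let r : ∀ i, (W i).toScheme ⟶ F' i := fun i => IsOpenImmersion.lift (Limits.Sigma.ι F' i) ((W i).ι ≫ t) (by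
    rintro _ ⟨p, rfl⟩
    exact p.2)
  have hr : ∀ i, r i ≫ d i = (W i).ι ≫ ((EtCoh.bc f).map h).left := fun i => by
    rw [← ht, ← Category.assoc, ← IsOpenImmersion.lift_fac (Limits.Sigma.ι F' i) ((W i).ι ≫ t) (by
      rintro _ ⟨p, rfl⟩
      exact p.2), Category.assoc, Sigma.ι_desc]
  have e₁ : (r i₁ ≫ pullback.fst a.left G) ≫ a.left = (W i₁).ι ≫ ((EtCoh.bc f).map (h ≫ g₁)).left := by
    rw [Category.assoc, pullback.condition, ← Category.assoc]
    refine (congrArg (· ≫ G) (hr i₁)).trans ?_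
    rw [Category.assoc, Functor.map_comp]
    rfl
  have e₀ : (r i₀ ≫ pullback.fst b.left G) ≫ b.left = (W i₀).ι ≫ ((EtCoh.bc f).map (h ≫ g₁)).left := by
    rw [Category.assoc, pullback.condition, ← Category.assoc]
    refine (congrArg (· ≫ G) (hr i₀)).trans ?_
    rw [Category.assoc, Functor.map_comp]
    rfl
  have w₁ : (r i₁ ≫ pullback.fst a.left G) ≫ A.hom = (W i₁).ι ≫ ((EtCoh.bc f).obj V').hom := by
    refine (congrArg ((r i₁ ≫ pullback.fst a.left G) ≫ ·) (MorphismProperty.Over.w a).symm).trans ?_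
    refine (Category.assoc _ _ _).symm.trans ((congrArg (· ≫ _) e₁).trans ?_)
    exact (Category.assoc _ _ _).trans (congrArg (_ ≫ ·) (MorphismProperty.Over.w _))
  have w₀ : (r i₀ ≫ pullback.fst b.left G) ≫ B.hom = (W i₀).ι ≫ ((EtCoh.bc f).obj V').hom := by
    refine (congrArg ((r i₀ ≫ pullback.fst b.left G) ≫ ·) (MorphismProperty.Over.w b).symm).trans ?_
    refine (Category.assoc _ _ _).symm.trans ((congrArg (· ≫ _) e₀).trans ?_)
    exact (Category.assoc _ _ _).trans (congrArg (_ ≫ ·) (MorphismProperty.Over.w _))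
  refine ⟨V', h ≫ g₁, v', W i₁, W i₀,
    MorphismProperty.Over.homMk (r i₁ ≫ pullback.fst a.left G) w₁ trivial,
    MorphismProperty.Over.homMk (r i₀ ≫ pullback.fst b.left G) w₀ trivial,
    by rw [Functor.map_comp_apply, hv', hv₁], ⟨fun p hp hp' => ?_, fun p => ?_⟩,
    (Scheme.Etale.forget _).map_injective (Over.OverMorphism.ext e₁),
    (Scheme.Etale.forget _).map_injective (Over.OverMorphism.ext e₀)⟩
  · exact Set.disjoint_left.1 (TopologicalSpace.Opens.coe_disjoint.2
      (disjoint_opensRange_sigmaι F' i₁ i₀ (by simp [i₁, i₀])))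
        (show t.base p ∈ ((Limits.Sigma.ι F' i₁).opensRange : Set _) from hp) hp'
  · obtain ⟨⟨i⟩, c, hc⟩ := (sigmaOpenCover F').exists_eq (t.base p)
    cases i
    · exact Or.inr ⟨c, hc⟩
    · exact Or.inl ⟨c, hc⟩

/-- A clopen neighbourhood of a point of the fibre inside a given open. -/
theorem exists_split_in (ξ : Pts f η) (V₃ : Y.Etale) (v₃ : (Scheme.pointSmallEtale η).fiber.obj V₃)
    (O : ((EtCoh.bc f).obj V₃).left.Opens) (hp : ptOf (bcPt ξ V₃ v₃) ∈ O) :
    ∃ (V : Y.Etale) (g : V ⟶ V₃) (v : (Scheme.pointSmallEtale η).fiber.obj V)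
      (W W' : ((EtCoh.bc f).obj V).left.Opens) (y : (Scheme.pointSmallEtale ξ.1).fiber.obj (openObj _ W)),
      (Scheme.pointSmallEtale η).fiber.map g v = v₃ ∧ IsSplit W W' ∧ W ≤ ((EtCoh.bc f).map g).left ⁻¹ᵁ O ∧
        (Scheme.pointSmallEtale ξ.1).fiber.map (openHom _ W) y = bcPt ξ V v := by
  let T := (EtCoh.bc f).obj V₃
  let p := ptOf (bcPt ξ V₃ v₃)
  let O' : T.left.Opens := ⟨(closure {p})ᶜ, isClosed_closure.isOpen_compl⟩
  let π : T.left ⟶ V₃.left := pullback.fst V₃.hom f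
  haveI : IsIntegralHom π := inferInstanceAs (IsIntegralHom (pullback.fst V₃.hom f))
  let l₃ : Spec (CommRingCat.of Ω) ⟶ V₃.left := v₃.left
  have hfib : ∀ q, π.base ((ιFib (f := f) V₃ v₃).base q) = l₃.base default := fun q =>
    (Scheme.Hom.comp_apply _ _ _).symm.trans ((congrArg (fun k => k.base q) (ιFib_fst V₃ v₃)).trans
      ((Scheme.Hom.comp_apply _ _ _).trans (congrArg l₃.base
        (Subsingleton.elim (α := (Spec (CommRingCat.of Ω))) _ _))))
  obtain ⟨V, g, v, W, W', kA, kB, hv, hs, ea, eb⟩ :=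
    exists_split V₃ v₃ (openHom T O) (openHom T O') fun q => by
      by_cases hq : (ιFib V₃ v₃).base q ∈ closure {p}
      · refine Or.inl ⟨⟨p, hp⟩, ?_⟩
        have h2 : p ⤳ (ιFib V₃ v₃).base q := specializes_iff_mem_closure.2 hq
        exact ((eq_of_specializes_of_isIntegralHom π (((hfib q).trans
          ((hfib (qOf ξ)).symm.trans (congrArg π.base (ptOf_bcPt ξ V₃ v₃).symm)))) h2)).symm
      · exact Or.inr ⟨⟨_, hq⟩, rfl⟩
  have hW : ptOf (bcPt ξ V v) ∈ W := by
    refine (hs.cover _).resolve_right fun hn => ?_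
    obtain ⟨y, hy⟩ := exists_openPt W' (bcPt ξ V v) hn
    have h1 : (Scheme.pointSmallEtale ξ.1).fiber.map (openHom T O')
        ((Scheme.pointSmallEtale ξ.1).fiber.map kB y) = bcPt ξ V₃ v₃ := by
      rw [← Functor.map_comp_apply, eb, Functor.map_comp_apply, hy, bcPt_map ξ g hv]
    exact openPt_mem O' _ h1 (subset_closure rfl)
  obtain ⟨y, hy⟩ := exists_openPt W (bcPt ξ V v) hW
  refine ⟨V, g, v, W, W', y, hv, hs, fun x hx => ?_, hy⟩
  have h1 : O.ι.base (kA.left.base (⟨x, hx⟩ : (openObj ((EtCoh.bc f).obj V) W).left)) ∈ O :=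
    (kA.left.base (⟨x, hx⟩ : (openObj ((EtCoh.bc f).obj V) W).left)).2
  have e : O.ι.base (kA.left.base (⟨x, hx⟩ : (openObj ((EtCoh.bc f).obj V) W).left)) =
      ((EtCoh.bc f).map g).left.base x :=
    (Scheme.Hom.comp_apply _ _ _).symm.trans ((congrArg (fun k => k.base
      (⟨x, hx⟩ : (openObj ((EtCoh.bc f).obj V) W).left)) (congrArg (fun k : openObj ((EtCoh.bc f).obj V) W ⟶ T => k.left) ea)).trans
        (Scheme.Hom.comp_apply _ _ _))
  exact (congrArg (· ∈ O) e).mp h1

end Groth.Agent.H1DFun
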