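import Groth.Agent.H1DFun.BCDelta
import Groth.Agent.H1DFun.FibreSplit

/-!
# Maps for a base change of the base along an integral morphism
-/

set_option autoImplicit false
set_option backward.isDefEq.respectTransparency false
set_option backward.isDefEq.respectTransparency.types false

universe u

open CategoryTheory CategoryTheory.Limits AlgebraicGeometry Opposite
open Groth.Agent.H18Et

namespace Groth.Agent.H1DFun

section Dn

variable {A A' T' : Scheme.{u}} (a : A' ⟶ A) (b : T' ⟶ A') {U : A.Etale} {P : A'.Etale} (m : P ⟶ (EtCoh.bc a).obj U)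

/-- The base change of a map to a base change. -/
noncomputable def dn : ((EtCoh.bc b).obj P).left ⟶ ((EtCoh.bc (b ≫ a)).obj U).left :=
  pullback.lift (pullback.fst P.hom b ≫ m.left ≫ pullback.fst U.hom a) (pullback.snd P.hom b) (by
    simp only [Category.assoc]
    refine (congrArg (pullback.fst P.hom b ≫ m.left ≫ ·) pullback.condition).trans ?_
    refine (congrArg (pullback.fst P.hom b ≫ ·) (Category.assoc _ _ _).symm).trans ?_
    refine (congrArg (fun k => pullback.fst P.hom b ≫ k ≫ a) (MorphismProperty.Over.w m)).trans ?_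
    exact (Category.assoc _ _ _).symm.trans ((congrArg (· ≫ a) pullback.condition).trans (Category.assoc _ _ _)))

theorem dn_fst : dn a b m ≫ pullback.fst U.hom (b ≫ a) = pullback.fst P.hom b ≫ m.left ≫ pullback.fst U.hom a :=
  pullback.lift_fst _ _ _

theorem dn_hom : dn a b m ≫ ((EtCoh.bc (b ≫ a)).obj U).hom = ((EtCoh.bc b).obj P).hom :=
  pullback.lift_snd _ _ _

/-- The projection to the intermediate base change. -/
noncomputable def mid (U : A.Etale) : ((EtCoh.bc (b ≫ a)).obj U).left ⟶ ((EtCoh.bc a).obj U).left :=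
  pullback.lift (pullback.fst U.hom (b ≫ a)) (pullback.snd U.hom (b ≫ a) ≫ b)
    (pullback.condition.trans (Category.assoc _ _ _).symm)

theorem isPullback_dn : IsPullback (pullback.fst P.hom b) (dn a b m) m.left (mid a b U) := by
  have t : IsPullback (mid a b U) (pullback.snd U.hom (b ≫ a)) (pullback.snd U.hom a) b := by
    refine IsPullback.of_right (h₁₂ := pullback.fst U.hom a) (v₁₃ := U.hom) (h₂₂ := a) ?_
      (pullback.lift_snd _ _ _) (IsPullback.of_hasPullback U.hom a)
    rw [show mid a b U ≫ pullback.fst U.hom a = pullback.fst U.hom (b ≫ a) from pullback.lift_fst _ _ _]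
    exact IsPullback.of_hasPullback U.hom (b ≫ a)
  refine IsPullback.of_bot (v₂₁ := pullback.snd U.hom (b ≫ a)) (v₂₂ := pullback.snd U.hom a) (h₃₁ := b) ?_ ?_ t
  · rw [show dn a b m ≫ pullback.snd U.hom (b ≫ a) = pullback.snd P.hom b from pullback.lift_snd _ _ _,
      show m.left ≫ pullback.snd U.hom a = P.hom from MorphismProperty.Over.w m]
    exact IsPullback.of_hasPullback P.hom b
  · refine pullback.hom_ext ?_ ?_
    · simp only [mid, Category.assoc, pullback.lift_fst]
      exact (pullback.lift_fst _ _ _).symm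
    · simp only [mid, Category.assoc, pullback.lift_snd]
      rw [show m.left ≫ pullback.snd U.hom a = P.hom from MorphismProperty.Over.w m, ← Category.assoc,
        show dn a b m ≫ pullback.snd U.hom (b ≫ a) = pullback.snd P.hom b from pullback.lift_snd _ _ _]
      exact pullback.condition

theorem dn_closed [IsClosedImmersion m.left] : IsClosedImmersion (dn a b m) :=
  MorphismProperty.of_isPullback (P := @IsClosedImmersion) (isPullback_dn a b m) ‹_›

theorem range_dn : Set.range (dn a b m).base = (mid a b U).base ⁻¹' Set.range m.left.base := by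
  ext p
  constructor
  · rintro ⟨r, rfl⟩
    refine ⟨(pullback.fst P.hom b).base r, (Scheme.Hom.comp_apply _ _ _).symm.trans
      ((congrArg (fun k => k.base r) (isPullback_dn a b m).w).trans (Scheme.Hom.comp_apply _ _ _))⟩
  · rintro ⟨c, hc⟩
    obtain ⟨r, -, hr⟩ := Scheme.Pullback.exists_preimage_pullback (f := m.left) (g := mid a b U) c p hc
    refine ⟨(isPullback_dn a b m).isoPullback.inv.base r, ?_⟩
    exact (Scheme.Hom.comp_apply _ _ _).symm.trans
      ((congrArg (fun k => k.base r) (isPullback_dn a b m).isoPullback_inv_snd).trans hr)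

theorem dn_comp {P' : A'.Etale} (k : P' ⟶ P) :
    ((EtCoh.bc b).map k).left ≫ dn a b m = dn a b (k ≫ m) := by
  refine pullback.hom_ext ?_ ?_
  · refine (Category.assoc _ _ _).trans ((congrArg (_ ≫ ·) (dn_fst a b m)).trans ?_)
    refine (Category.assoc _ _ _).symm.trans ((congrArg (· ≫ _) (EtCoh.isPullback_bc_map b k).w).trans ?_)
    refine (Category.assoc _ _ _).trans ?_
    exact (congrArg (_ ≫ ·) (Category.assoc _ _ _).symm).trans (dn_fst a b (k ≫ m)).symm
  · refine (Category.assoc _ _ _).trans ((congrArg (_ ≫ ·) (dn_hom a b m)).trans ?_)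
    exact (MorphismProperty.Over.w ((EtCoh.bc b).map k)).trans (dn_hom a b (k ≫ m)).symm

theorem dn_map {U' : A.Etale} (k : U ⟶ U') :
    dn a b m ≫ ((EtCoh.bc (b ≫ a)).map k).left = dn a b (m ≫ (EtCoh.bc a).map k) := by
  refine pullback.hom_ext ?_ ?_
  · refine (Category.assoc _ _ _).trans ((congrArg (_ ≫ ·) (EtCoh.isPullback_bc_map (b ≫ a) k).w).trans ?_)
    refine (Category.assoc _ _ _).symm.trans ((congrArg (· ≫ k.left) (dn_fst a b m)).trans ?_)
    refine Eq.trans ?_ (dn_fst a b (m ≫ (EtCoh.bc a).map k)).symm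
    refine (Category.assoc _ _ _).trans (congrArg (_ ≫ ·) ((Category.assoc _ _ _).trans ?_))
    exact (congrArg (m.left ≫ ·) (EtCoh.isPullback_bc_map a k).w).symm.trans (Category.assoc _ _ _).symm
  · refine (Category.assoc _ _ _).trans ((congrArg (_ ≫ ·) (MorphismProperty.Over.w ((EtCoh.bc (b ≫ a)).map k))).trans ?_)
    exact (dn_hom a b m).trans (dn_hom a b (m ≫ (EtCoh.bc a).map k)).symm

variable {W W' : ((EtCoh.bc a).obj U).left.Opens}

theorem dn_split (hs : IsSplit W W') :
    (∀ p p', (dn a b (openHom _ W)).base p ≠ (dn a b (openHom _ W')).base p') ∧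
      ∀ p, (∃ r, (dn a b (openHom _ W)).base r = p) ∨ ∃ r, (dn a b (openHom _ W')).base r = p := by
  have h1 := range_dn a b (openHom _ W)
  have h2 := range_dn a b (openHom _ W')
  have e1 : Set.range (openHom _ W).left.base = (W : Set _) := W.range_ι
  have e2 : Set.range (openHom _ W').left.base = (W' : Set _) := W'.range_ι
  rw [e1] at h1
  rw [e2] at h2
  refine ⟨fun p p' he => ?_, fun p => ?_⟩
  · have m1 : (dn a b (openHom _ W)).base p ∈ (mid a b U).base ⁻¹' (W : Set _) := h1 ▸ Set.mem_range_self p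
    have m2 : (dn a b (openHom _ W')).base p' ∈ (mid a b U).base ⁻¹' (W' : Set _) := h2 ▸ Set.mem_range_self p'
    rw [← he] at m2
    exact hs.disj _ m1 m2
  · rcases hs.cover ((mid a b U).base p) with h | h
    · exact Or.inl ((Set.ext_iff.1 h1 p).2 h)
    · exact Or.inr ((Set.ext_iff.1 h2 p).2 h)

end Dn

section Square

variable {X' S' S'' X'' : Scheme.{u}} {f' : X' ⟶ S'} {π : S'' ⟶ S'} {f'' : X'' ⟶ S''} {π' : X'' ⟶ X'}
  (sq : IsPullback π' f'' f' π)

/-- The comparison of the two iterated base changes. -/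
noncomputable def tauFwd (V : S'.Etale) :
    (EtCoh.bc f'').obj ((EtCoh.bc π).obj V) ⟶ (EtCoh.bc π').obj ((EtCoh.bc f').obj V) :=
  MorphismProperty.Over.homMk
    (pullback.lift
      (pullback.lift (pullback.fst ((EtCoh.bc π).obj V).hom f'' ≫ pullback.fst V.hom π)
        (pullback.snd ((EtCoh.bc π).obj V).hom f'' ≫ π') (by
          refine (Category.assoc _ _ _).trans ((congrArg (_ ≫ ·) pullback.condition).trans ?_)
          refine (Category.assoc _ _ _).symm.trans ((congrArg (· ≫ π) pullback.condition).trans ?_)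
          exact (Category.assoc _ _ _).trans ((congrArg (_ ≫ ·) sq.w.symm).trans (Category.assoc _ _ _).symm)))
      (pullback.snd ((EtCoh.bc π).obj V).hom f'') (pullback.lift_snd _ _ _))
    (pullback.lift_snd _ _ _) trivial

/-- Its inverse. -/
noncomputable def tauInv (V : S'.Etale) :
    (EtCoh.bc π').obj ((EtCoh.bc f').obj V) ⟶ (EtCoh.bc f'').obj ((EtCoh.bc π).obj V) :=
  MorphismProperty.Over.homMk
    (pullback.lift
      (pullback.lift (pullback.fst ((EtCoh.bc f').obj V).hom π' ≫ pullback.fst V.hom f')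
        (pullback.snd ((EtCoh.bc f').obj V).hom π' ≫ f'') (by
          refine (Category.assoc _ _ _).trans ((congrArg (_ ≫ ·) pullback.condition).trans ?_)
          refine (Category.assoc _ _ _).symm.trans ((congrArg (· ≫ f') pullback.condition).trans ?_)
          exact (Category.assoc _ _ _).trans ((congrArg (_ ≫ ·) sq.w).trans (Category.assoc _ _ _).symm)))
      (pullback.snd ((EtCoh.bc f').obj V).hom π') (pullback.lift_snd _ _ _))
    (pullback.lift_snd _ _ _) trivial

theorem tau_left_fst (V : S'.Etale) :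
    (tauFwd sq V).left ≫ pullback.fst ((EtCoh.bc f').obj V).hom π' ≫ pullback.fst V.hom f' =
      pullback.fst ((EtCoh.bc π).obj V).hom f'' ≫ pullback.fst V.hom π :=
  (Category.assoc _ _ _).symm.trans ((congrArg (· ≫ _) (pullback.lift_fst _ _ _)).trans (pullback.lift_fst _ _ _))

theorem tauInv_left_fst (V : S'.Etale) :
    (tauInv sq V).left ≫ pullback.fst ((EtCoh.bc π).obj V).hom f'' ≫ pullback.fst V.hom π =
      pullback.fst ((EtCoh.bc f').obj V).hom π' ≫ pullback.fst V.hom f' :=
  (Category.assoc _ _ _).symm.trans ((congrArg (· ≫ _) (pullback.lift_fst _ _ _)).trans (pullback.lift_fst _ _ _))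

/-- Maps into the double base change are determined by the first projection. -/
theorem to_xs_ext {P : X''.Etale} {V : S'.Etale} {a b : P ⟶ (EtCoh.bc f'').obj ((EtCoh.bc π).obj V)}
    (h : a.left ≫ pullback.fst ((EtCoh.bc π).obj V).hom f'' ≫ pullback.fst V.hom π =
      b.left ≫ pullback.fst ((EtCoh.bc π).obj V).hom f'' ≫ pullback.fst V.hom π) : a = b := by
  refine (Scheme.Etale.forget _).map_injective (Over.OverMorphism.ext ?_)
  have h2 : a.left ≫ pullback.snd ((EtCoh.bc π).obj V).hom f'' = b.left ≫ pullback.snd ((EtCoh.bc π).obj V).hom f'' :=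
    (MorphismProperty.Over.w a).trans (MorphismProperty.Over.w b).symm
  refine pullback.hom_ext (pullback.hom_ext ((Category.assoc _ _ _).trans (h.trans (Category.assoc _ _ _).symm)) ?_) h2
  refine (Category.assoc _ _ _).trans (Eq.trans ?_ (Category.assoc _ _ _).symm)
  show a.left ≫ pullback.fst ((EtCoh.bc π).obj V).hom f'' ≫ ((EtCoh.bc π).obj V).hom =
    b.left ≫ pullback.fst ((EtCoh.bc π).obj V).hom f'' ≫ ((EtCoh.bc π).obj V).hom
  rw [pullback.condition, ← Category.assoc, ← Category.assoc]
  exact congrArg (· ≫ f'') h2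

/-- Maps into the other double base change are determined by the first projection. -/
theorem to_sx_ext {P : X''.Etale} {V : S'.Etale} {a b : P ⟶ (EtCoh.bc π').obj ((EtCoh.bc f').obj V)}
    (h : a.left ≫ pullback.fst ((EtCoh.bc f').obj V).hom π' ≫ pullback.fst V.hom f' =
      b.left ≫ pullback.fst ((EtCoh.bc f').obj V).hom π' ≫ pullback.fst V.hom f') : a = b := by
  refine (Scheme.Etale.forget _).map_injective (Over.OverMorphism.ext ?_)
  have h2 : a.left ≫ pullback.snd ((EtCoh.bc f').obj V).hom π' = b.left ≫ pullback.snd ((EtCoh.bc f').obj V).hom π' :=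
    (MorphismProperty.Over.w a).trans (MorphismProperty.Over.w b).symm
  refine pullback.hom_ext (pullback.hom_ext ((Category.assoc _ _ _).trans (h.trans (Category.assoc _ _ _).symm)) ?_) h2
  refine (Category.assoc _ _ _).trans (Eq.trans ?_ (Category.assoc _ _ _).symm)
  show a.left ≫ pullback.fst ((EtCoh.bc f').obj V).hom π' ≫ ((EtCoh.bc f').obj V).hom =
    b.left ≫ pullback.fst ((EtCoh.bc f').obj V).hom π' ≫ ((EtCoh.bc f').obj V).hom
  rw [pullback.condition, ← Category.assoc, ← Category.assoc]
  exact congrArg (· ≫ π') h2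

theorem tau_tauInv (V : S'.Etale) : tauInv sq V ≫ tauFwd sq V = 𝟙 _ := by
  refine to_sx_ext ?_
  refine (Category.assoc _ _ _).trans ((congrArg (_ ≫ ·) (tau_left_fst sq V)).trans ?_)
  exact (tauInv_left_fst sq V).trans (Category.id_comp _).symm

theorem tauInv_tau (V : S'.Etale) : tauFwd sq V ≫ tauInv sq V = 𝟙 _ := by
  refine to_xs_ext ?_
  refine (Category.assoc _ _ _).trans ((congrArg (_ ≫ ·) (tauInv_left_fst sq V)).trans ?_)
  exact (tau_left_fst sq V).trans (Category.id_comp _).symm

variable {Ω : Type u} [Field Ω] {η'' : Spec (CommRingCat.of Ω) ⟶ X''}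

/-- The point of the base fibre. -/
noncomputable abbrev xiS (η'' : Spec (CommRingCat.of Ω) ⟶ X'') : Pts π ((η'' ≫ π') ≫ f') :=
  ⟨η'' ≫ f'', (Category.assoc _ _ _).trans ((congrArg (η'' ≫ ·) sq.w.symm).trans (Category.assoc _ _ _).symm)⟩

/-- The fibre upstairs maps to the fibre below. -/
noncomputable def thetaFwd (η : Spec (CommRingCat.of Ω) ⟶ X') : pullback π' η ⟶ pullback π (η ≫ f') :=
  pullback.lift (pullback.fst π' η ≫ f'') (pullback.snd π' η) (by
    refine (Category.assoc _ _ _).trans ((congrArg (_ ≫ ·) sq.w.symm).trans ?_)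
    exact (Category.assoc _ _ _).symm.trans ((congrArg (· ≫ f') pullback.condition).trans (Category.assoc _ _ _)))

/-- Its inverse. -/
noncomputable def thetaInv (η : Spec (CommRingCat.of Ω) ⟶ X') : pullback π (η ≫ f') ⟶ pullback π' η :=
  pullback.lift (sq.lift (pullback.snd π (η ≫ f') ≫ η) (pullback.fst π (η ≫ f'))
    ((Category.assoc _ _ _).trans pullback.condition.symm)) (pullback.snd π (η ≫ f')) (sq.lift_fst _ _ _)

theorem theta_thetaInv (η : Spec (CommRingCat.of Ω) ⟶ X') : thetaFwd sq η ≫ thetaInv sq η = 𝟙 _ := by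
  refine pullback.hom_ext (sq.hom_ext ?_ ?_) ?_
  · simp only [Category.assoc, Category.id_comp, thetaInv, pullback.lift_fst, sq.lift_fst]
    refine (Category.assoc _ _ _).symm.trans ((congrArg (· ≫ η) (pullback.lift_snd _ _ _)).trans ?_)
    exact pullback.condition.symm
  · simp only [Category.assoc, Category.id_comp, thetaInv, pullback.lift_fst, sq.lift_snd]
    exact pullback.lift_fst _ _ _
  · simp only [Category.assoc, Category.id_comp, thetaInv, pullback.lift_snd]
    exact pullback.lift_snd _ _ _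

theorem thetaInv_secPt (η'' : Spec (CommRingCat.of Ω) ⟶ X'') :
    secPt (xiS sq η'') ≫ thetaInv sq (η'' ≫ π') = secPt (f := π') (η := η'' ≫ π') ⟨η'', rfl⟩ := by
  refine pullback.hom_ext (sq.hom_ext ?_ ?_) ?_
  · simp only [Category.assoc, thetaInv, pullback.lift_fst, sq.lift_fst]
    refine (Category.assoc _ _ _).symm.trans ?_
    rw [pullback.lift_snd, Category.id_comp]
  · simp only [Category.assoc, thetaInv, pullback.lift_fst, sq.lift_snd]
  · simp only [Category.assoc, thetaInv, pullback.lift_snd]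

variable [IsSepClosed Ω]

theorem iotaFib_tauInv (η : Spec (CommRingCat.of Ω) ⟶ X') (V : S'.Etale)
    (v : (Scheme.pointSmallEtale (η ≫ f')).fiber.obj V) :
    (ιFib (f := π') ((EtCoh.bc f').obj V) ((fiberCompIso f' η).inv.app V v) ≫ (tauInv sq V).left) ≫
        pullback.fst ((EtCoh.bc π).obj V).hom f'' =
      thetaFwd sq η ≫ ιFib V v := by
  refine pullback.hom_ext ?_ ?_
  · simp only [Category.assoc, tauInv_left_fst]
    refine (Category.assoc _ _ _).symm.trans ((congrArg (· ≫ _) (ιFib_fst _ _)).trans ?_)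
    refine ((Category.assoc _ _ _).trans (congrArg (_ ≫ ·) (fiberCompIso_inv_left f' η V v))).trans ?_
    refine Eq.trans ?_ (congrArg (thetaFwd sq η ≫ ·) (ιFib_fst V v).symm)
    exact ((Category.assoc _ _ _).symm.trans (congrArg (· ≫ _) (pullback.lift_snd _ _ _))).symm
  · have e : (tauInv sq V).left ≫ pullback.fst ((EtCoh.bc π).obj V).hom f'' ≫ pullback.snd V.hom π =
        pullback.snd ((EtCoh.bc f').obj V).hom π' ≫ f'' :=
      (Category.assoc _ _ _).symm.trans ((congrArg (· ≫ _) (pullback.lift_fst _ _ _)).trans (pullback.lift_snd _ _ _))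
    simp only [Category.assoc, e]
    refine (Category.assoc _ _ _).symm.trans ((congrArg (· ≫ f'') (ιFib_snd _ _)).trans ?_)
    exact ((congrArg (thetaFwd sq η ≫ ·) (ιFib_snd V v)).trans (pullback.lift_fst _ _ _)).symm

theorem tauInv_pt (η'' : Spec (CommRingCat.of Ω) ⟶ X'') (V : S'.Etale)
    (v : (Scheme.pointSmallEtale ((η'' ≫ π') ≫ f')).fiber.obj V) :
    (Scheme.pointSmallEtale η'').fiber.map (tauInv sq V)
        (bcPt (f := π') (η := η'' ≫ π') ⟨η'', rfl⟩ ((EtCoh.bc f').obj V) ((fiberCompIso f' (η'' ≫ π')).inv.app V v)) =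
      (fiberCompIso f'' η'').inv.app ((EtCoh.bc π).obj V) (bcPt (xiS sq η'') V v) := by
  refine bcPt_ext f'' ?_
  show ((secPt (f := π') (η := η'' ≫ π') ⟨η'', rfl⟩ ≫ ιFib ((EtCoh.bc f').obj V) _) ≫ (tauInv sq V).left) ≫ _ = _
  rw [Category.assoc, Category.assoc, ← Category.assoc (ιFib _ _), iotaFib_tauInv, ← thetaInv_secPt sq η'']
  show _ = secPt (xiS sq η'') ≫ ιFib V v
  rw [Category.assoc, ← Category.assoc (thetaInv _ _)]
  refine congrArg (secPt (xiS sq η'') ≫ ·) ?_
  have e : thetaInv sq (η'' ≫ π') ≫ thetaFwd sq (η'' ≫ π') = 𝟙 _ := by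
    refine pullback.hom_ext ?_ ?_
    · simp only [Category.assoc, Category.id_comp, thetaFwd, thetaInv, pullback.lift_fst, pullback.lift_fst_assoc,
        sq.lift_snd]
    · simp only [Category.assoc, Category.id_comp, thetaFwd, thetaInv, pullback.lift_snd]
  rw [e, Category.id_comp]

end Square

end Groth.Agent.H1DFun
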