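import Groth.Agent.H1DFun.Clopen
import Groth.Agent.H1DFun.BaseMaps

/-!
# Base change after an integral base extension
-/

set_option autoImplicit false
set_option backward.isDefEq.respectTransparency false
set_option backward.isDefEq.respectTransparency.types false

universe u

open CategoryTheory CategoryTheory.Limits AlgebraicGeometry Opposite
open Groth.Agent.H18Et

namespace Groth.Agent.H1DFun

attribute [local instance] Groth.Agent.H18Et.pull_preservesFiniteLimits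

variable {X' S' S'' X'' T Y : Scheme.{u}} {f' : X' ⟶ S'} {π : S'' ⟶ S'} {f'' : X'' ⟶ S''} {π' : X'' ⟶ X'}
  (g' : T ⟶ S'') (h' : Y ⟶ X'') (e : Y ⟶ T) (F : EtCoh.Ab T) (q : ℕ)

theorem dn_hom_e {Q : X'.Etale} {P : X''.Etale} (m : P ⟶ (EtCoh.bc π').obj Q) :
    dn π' h' m ≫ ((EtCoh.bc (h' ≫ π')).obj Q).hom ≫ e = ((EtCoh.bc h').obj P).hom ≫ e :=
  (Category.assoc _ _ _).symm.trans (congrArg (· ≫ e) (dn_hom π' h' m))

/-- Restriction of classes to the base extension. -/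
noncomputable def d0 {U : S'.Etale} {P : S''.Etale} (m : P ⟶ (EtCoh.bc π).obj U) :
    (C0 (g' ≫ π) F q U : Type (u + 1)) →+ C0 g' F q P :=
  cR F q (dn π g' m) (dn_hom π g' m)

/-- Restriction of classes upstairs to the base extension. -/
noncomputable def d1 {Q : X'.Etale} {P : X''.Etale} (m : P ⟶ (EtCoh.bc π').obj Q) :
    (C1 (h' ≫ π') e F q Q : Type (u + 1)) →+ C1 h' e F q P :=
  cR F q (dn π' h' m) (dn_hom_e h' e m)

theorem c0_d0 {U : S'.Etale} {P P' : S''.Etale} (m : P ⟶ (EtCoh.bc π).obj U) (k : P' ⟶ P)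
    (x : C0 (g' ≫ π) F q U) : c0 g' F q k (d0 g' F q m x) = d0 g' F q (k ≫ m) x :=
  cR_cR _ _ _ _ _ (dn_comp π g' m k) x

theorem d0_c0 {U U' : S'.Etale} {P : S''.Etale} (m : P ⟶ (EtCoh.bc π).obj U') (k : U' ⟶ U)
    (x : C0 (g' ≫ π) F q U) :
    d0 g' F q m (c0 (g' ≫ π) F q k x) = d0 g' F q (m ≫ (EtCoh.bc π).map k) x :=
  cR_cR _ _ _ _ _ (dn_map π g' m k) x

theorem c1_d1 {Q : X'.Etale} {P P' : X''.Etale} (m : P ⟶ (EtCoh.bc π').obj Q) (k : P' ⟶ P)
    (x : C1 (h' ≫ π') e F q Q) : c1 h' e F q k (d1 h' e F q m x) = d1 h' e F q (k ≫ m) x :=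
  cR_cR _ _ _ _ _ (dn_comp π' h' m k) x

theorem d1_c1 {Q Q' : X'.Etale} {P : X''.Etale} (m : P ⟶ (EtCoh.bc π').obj Q') (k : Q' ⟶ Q)
    (x : C1 (h' ≫ π') e F q Q) :
    d1 h' e F q m (c1 (h' ≫ π') e F q k x) = d1 h' e F q (m ≫ (EtCoh.bc π').map k) x :=
  cR_cR _ _ _ _ _ (dn_map π' h' m k) x

theorem d0_congr {U : S'.Etale} {P : S''.Etale} {m m' : P ⟶ (EtCoh.bc π).obj U} (hm : m = m')
    (x : C0 (g' ≫ π) F q U) : d0 g' F q m x = d0 g' F q m' x := by
  subst hm; rfl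

theorem d1_congr {Q : X'.Etale} {P : X''.Etale} {m m' : P ⟶ (EtCoh.bc π').obj Q} (hm : m = m')
    (x : C1 (h' ≫ π') e F q Q) : d1 h' e F q m x = d1 h' e F q m' x := by
  subst hm; rfl

variable (w : e ≫ g' = h' ≫ f'') (wc : e ≫ g' ≫ π = (h' ≫ π') ≫ f')

theorem lamTo_dn {V : S'.Etale} {P : S''.Etale} (m : P ⟶ (EtCoh.bc π).obj V) {Q' : X''.Etale}
    (n'' : Q' ⟶ (EtCoh.bc f'').obj P) {Q : X'.Etale} (n : Q ⟶ (EtCoh.bc f').obj V)
    (mQ : Q' ⟶ (EtCoh.bc π').obj Q)
    (hC : n''.left ≫ pullback.fst P.hom f'' ≫ m.left ≫ pullback.fst V.hom π =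
      mQ.left ≫ pullback.fst Q.hom π' ≫ n.left ≫ pullback.fst V.hom f') :
    dn π' h' mQ ≫ lamTo f' (g' ≫ π) (h' ≫ π') e wc V n = lamTo f'' g' h' e w P n'' ≫ dn π g' m := by
  refine pullback.hom_ext ?_ ?_
  · refine (Category.assoc _ _ _).trans ((congrArg (_ ≫ ·) (lamTo_fst f' (g' ≫ π) (h' ≫ π') e wc V n)).trans ?_)
    refine (Category.assoc _ _ _).symm.trans ((congrArg (· ≫ _) (dn_fst π' h' mQ)).trans ?_)
    refine ((Category.assoc _ _ _).trans (congrArg (_ ≫ ·) (Category.assoc _ _ _))).trans ?_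
    refine (congrArg (pullback.fst Q'.hom h' ≫ ·) hC.symm).trans ?_
    refine Eq.trans ?_ (Category.assoc _ _ _).symm
    refine Eq.trans ?_ (congrArg (_ ≫ ·) (dn_fst π g' m).symm)
    refine Eq.trans ?_ (Category.assoc _ _ _)
    refine Eq.trans ?_ (congrArg (· ≫ _) (lamTo_fst f'' g' h' e w P n'').symm)
    simp only [Category.assoc]
  · refine (Category.assoc _ _ _).trans ((congrArg (_ ≫ ·) (lamTo_hom f' (g' ≫ π) (h' ≫ π') e wc V n)).trans ?_)
    refine (dn_hom_e h' e mQ).trans ?_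
    exact ((Category.assoc _ _ _).trans ((congrArg (_ ≫ ·) (dn_hom π g' m)).trans
      (lamTo_hom f'' g' h' e w P n''))).symm

/-- Base change on classes commutes with restriction to the base extension. -/
theorem d1_cl {V : S'.Etale} {P : S''.Etale} (m : P ⟶ (EtCoh.bc π).obj V) {Q' : X''.Etale}
    (n'' : Q' ⟶ (EtCoh.bc f'').obj P) {Q : X'.Etale} (n : Q ⟶ (EtCoh.bc f').obj V)
    (mQ : Q' ⟶ (EtCoh.bc π').obj Q)
    (hC : n''.left ≫ pullback.fst P.hom f'' ≫ m.left ≫ pullback.fst V.hom π =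
      mQ.left ≫ pullback.fst Q.hom π' ≫ n.left ≫ pullback.fst V.hom f') (x : C0 (g' ≫ π) F q V) :
    d1 h' e F q mQ (cl (g' ≫ π) (h' ≫ π') e F q f' wc V n x) =
      cl g' h' e F q f'' w P n'' (d0 g' F q m x) :=
  (cR_cR _ _ _ _ (dn π' h' mQ ≫ lamTo f' (g' ≫ π) (h' ≫ π') e wc V n) rfl x).trans
    ((cR_congr _ _ (lamTo_dn g' h' e w wc m n'' n mQ hC) x).trans
      (cR_cR (dn π g' m) (dn_hom π g' m) (lamTo f'' g' h' e w P n'') (lamTo_hom f'' g' h' e w P n'') _ rfl x).symm)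

theorem exists_d0_extend {V : S'.Etale} {W W' : ((EtCoh.bc π).obj V).left.Opens} (hs : IsSplit W W')
    (y : C0 g' F q (openObj _ W)) :
    ∃ x : C0 (g' ≫ π) F q V, d0 g' F q (openHom _ W) x = y ∧ d0 g' F q (openHom _ W') x = 0 := by
  haveI : IsClosedImmersion (openHom ((EtCoh.bc π).obj V) W).left := hs.closed
  haveI : IsClosedImmersion (openHom ((EtCoh.bc π).obj V) W').left := hs.symm.closed
  haveI := dn_closed π g' (openHom ((EtCoh.bc π).obj V) W)
  haveI := dn_closed π g' (openHom ((EtCoh.bc π).obj V) W')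
  exact exists_extend_zero _ _ (dn_split π g' hs).1 (dn_split π g' hs).2 F q
    (dn_hom π g' _) (dn_hom π g' _) y

theorem exists_d1_extend {Q : X'.Etale} {W W' : ((EtCoh.bc π').obj Q).left.Opens} (hs : IsSplit W W')
    (y : C1 h' e F q (openObj _ W)) :
    ∃ x : C1 (h' ≫ π') e F q Q, d1 h' e F q (openHom _ W) x = y ∧ d1 h' e F q (openHom _ W') x = 0 := by
  haveI : IsClosedImmersion (openHom ((EtCoh.bc π').obj Q) W).left := hs.closed
  haveI : IsClosedImmersion (openHom ((EtCoh.bc π').obj Q) W').left := hs.symm.closed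
  haveI := dn_closed π' h' (openHom ((EtCoh.bc π').obj Q) W)
  haveI := dn_closed π' h' (openHom ((EtCoh.bc π').obj Q) W')
  exact exists_extend_zero _ _ (dn_split π' h' hs).1 (dn_split π' h' hs).2 F q
    (dn_hom_e h' e _) (dn_hom_e h' e _) y

theorem d1_split_eq_zero {Q : X'.Etale} {W W' : ((EtCoh.bc π').obj Q).left.Opens} (hs : IsSplit W W')
    (x : C1 (h' ≫ π') e F q Q) (h₁ : d1 h' e F q (openHom _ W) x = 0) (h₂ : d1 h' e F q (openHom _ W') x = 0) :
    x = 0 := by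
  haveI : IsClosedImmersion (openHom ((EtCoh.bc π').obj Q) W).left := hs.closed
  haveI : IsClosedImmersion (openHom ((EtCoh.bc π').obj Q) W').left := hs.symm.closed
  haveI := dn_closed π' h' (openHom ((EtCoh.bc π').obj Q) W)
  haveI := dn_closed π' h' (openHom ((EtCoh.bc π').obj Q) W')
  exact cR_pair_eq_zero _ _ (dn_split π' h' hs).1 (dn_split π' h' hs).2 F q
    (dn_hom_e h' e _) (dn_hom_e h' e _) x h₁ h₂

variable [IsIntegralHom π] (sq : IsPullback π' f'' f' π) {Ω : Type u} [Field Ω] [IsSepClosed Ω] [IsAlgClosed Ω]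
  (η'' : Spec (CommRingCat.of Ω) ⟶ X'')

include sq in
theorem cSurj_base (H : CSurj f' (g' ≫ π) (h' ≫ π') e wc (η'' ≫ π') F q) :
    CSurj f'' g' h' e w η'' F q := by
  haveI : IsIntegralHom π' := MorphismProperty.of_isPullback (P := @IsIntegralHom) sq.flip ‹_›
  intro Q₀ v₀ s
  let ξ : Pts π' (η'' ≫ π') := ⟨η'', rfl⟩
  obtain ⟨Q₁, u₁, O₁, k₁, hO₁, hk₁⟩ := exists_bc_lift ξ Q₀ v₀
  obtain ⟨Q, g, v, W, W', y, hg, hs, hW, hy⟩ := exists_split_in ξ Q₁ u₁ O₁ hO₁
  let k : openObj ((EtCoh.bc π').obj Q) W ⟶ Q₀ := openLift ((EtCoh.bc π').map g) O₁ W hW ≫ k₁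
  have hk : (Scheme.pointSmallEtale η'').fiber.map k y = v₀ := by
    rw [Functor.map_comp_apply]
    refine hk₁ _ ?_
    rw [← Functor.map_comp_apply, openLift_openHom, Functor.map_comp_apply, hy, bcPt_map ξ g hg]
  obtain ⟨s₀, hs₀, -⟩ := exists_d1_extend h' e F q hs (c1 h' e F q k s)
  obtain ⟨U, z, x, Q', m, n, v', hm, hn, he⟩ := H Q v s₀
  obtain ⟨O, a, b, v₁, ha, hb, hab⟩ := exists_cospan ((EtCoh.bc π').map m) (openHom _ W)
    (bcPt ξ Q' v') y ((bcPt_map ξ m hm).trans hy.symm)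
  let n'' : O ⟶ (EtCoh.bc f'').obj ((EtCoh.bc π).obj U) := a ≫ (EtCoh.bc π').map n ≫ tauInv sq U
  refine ⟨(EtCoh.bc π).obj U, bcPt (xiS sq η'') U z, d0 g' F q (𝟙 _) x, O, b ≫ k, n'', v₁, ?_, ?_, ?_⟩
  · rw [Functor.map_comp_apply, hb, hk]
  · rw [Functor.map_comp_apply, Functor.map_comp_apply, ha, bcPt_map ξ n hn]
    exact tauInv_pt sq η'' U z
  · refine (c1_c1 h' e F q k b _ rfl s).symm.trans ?_
    refine ((congrArg (c1 h' e F q b) hs₀.symm).trans (c1_d1 h' e F q _ b s₀)).trans ?_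
    refine (d1_congr h' e F q hab.symm s₀).trans ?_
    refine ((d1_c1 h' e F q a m s₀).symm.trans (congrArg (d1 h' e F q a) he)).trans ?_
    refine d1_cl g' h' e F q w wc (𝟙 _) n'' n a ?_ x
    show (a.left ≫ ((EtCoh.bc π').map n).left ≫ (tauInv sq U).left) ≫ _ ≫ 𝟙 _ ≫ _ = _
    rw [Category.id_comp, Category.assoc, Category.assoc, tauInv_left_fst]
    refine congrArg (a.left ≫ ·) ?_
    refine (Category.assoc _ _ _).symm.trans ((congrArg (· ≫ _) (EtCoh.isPullback_bc_map π' n).w).trans ?_)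
    exact Category.assoc _ _ _

include sq in
theorem cInj_base (H : CInj f' (g' ≫ π) (h' ≫ π') e wc (η'' ≫ π') F q) :
    CInj f'' g' h' e w η'' F q := by
  haveI : IsIntegralHom π' := MorphismProperty.of_isPullback (P := @IsIntegralHom) sq.flip ‹_›
  intro U'' z'' x'' Q₀ n₀ v₀ hn₀ hx
  let η := η'' ≫ π'
  let ξX : Pts π' η := ⟨η'', rfl⟩
  let ξS : Pts π (η ≫ f') := xiS sq η''
  obtain ⟨V₁, v₁, O₁, k₁, hO₁, hk₁⟩ := exists_bc_lift ξS U'' z''
  let A₁ := (EtCoh.bc f'').obj (openObj ((EtCoh.bc π).obj V₁) O₁)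
  let l₁ : A₁ ⟶ (EtCoh.bc f'').obj U'' := (EtCoh.bc f'').map k₁
  let i₁ : A₁ ⟶ (EtCoh.bc f'').obj ((EtCoh.bc π).obj V₁) := (EtCoh.bc f'').map (openHom _ O₁)
  haveI : IsOpenImmersion i₁.left :=
    MorphismProperty.of_isPullback (P := @IsOpenImmersion) (EtCoh.isPullback_bc_map f'' (openHom _ O₁)).flip
      (inferInstanceAs (IsOpenImmersion O₁.ι))
  haveI := etale_left n₀
  haveI : Etale (pullback.fst l₁.left n₀.left) := MorphismProperty.pullback_fst (P := @Etale) _ _ ‹_›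
  let R : ((EtCoh.bc f'').obj ((EtCoh.bc π).obj V₁)).left.Opens :=
    ⟨Set.range (pullback.fst l₁.left n₀.left ≫ i₁.left).base,
      (pullback.fst l₁.left n₀.left ≫ i₁.left).isOpenMap.isOpen_range⟩
  let ψ : pullback π (η ≫ f') ⟶ ((EtCoh.bc f'').obj ((EtCoh.bc π).obj V₁)).left :=
    thetaInv sq η ≫ ιFib ((EtCoh.bc f').obj V₁) ((fiberCompIso f' η).inv.app V₁ v₁) ≫ (tauInv sq V₁).left
  obtain ⟨y₁, hy₁⟩ := exists_openPt O₁ (bcPt ξS V₁ v₁) hO₁
  have hl₁ : (Scheme.pointSmallEtale η'').fiber.map l₁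
      ((fiberCompIso f'' η'').inv.app _ y₁) = (Scheme.pointSmallEtale η'').fiber.map n₀ v₀ :=
    (bcMap_pt f'' k₁ z'' y₁ (hk₁ y₁ hy₁)).trans hn₀.symm
  have hR : qOf ξS ∈ ψ ⁻¹ᵁ R := by
    have e1 : secPt ξS ≫ ψ = (show Spec (CommRingCat.of Ω) ⟶ A₁.left from
        ((fiberCompIso f'' η'').inv.app _ y₁).left) ≫ i₁.left := by
      refine Eq.trans ?_ (congrArg (fun t : (Scheme.pointSmallEtale η'').fiber.obj _ => t.left)
        (bcMap_pt f'' (openHom _ O₁) _ y₁ hy₁).symm)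
      refine (Category.assoc _ _ _).symm.trans ((congrArg (· ≫ _) (thetaInv_secPt sq η'')).trans ?_)
      refine Eq.trans ?_ (congrArg (fun t : (Scheme.pointSmallEtale η'').fiber.obj _ => t.left) (tauInv_pt sq η'' V₁ v₁))
      exact (Category.assoc _ _ _).symm
    let lp : Spec (CommRingCat.of Ω) ⟶ A₁.left := ((fiberCompIso f'' η'').inv.app _ y₁).left
    let lv : Spec (CommRingCat.of Ω) ⟶ Q₀.left := v₀.left
    let r : Spec (CommRingCat.of Ω) ⟶ pullback l₁.left n₀.left :=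
      pullback.lift lp lv (congrArg (fun t => t.left) hl₁)
    have e2 : secPt ξS ≫ ψ = r ≫ pullback.fst l₁.left n₀.left ≫ i₁.left :=
      e1.trans ((congrArg (· ≫ i₁.left) (pullback.lift_fst lp lv _).symm).trans (Category.assoc _ _ _))
    show ψ.base ((secPt ξS).base default) ∈ Set.range _
    exact ⟨r.base default, (Scheme.Hom.comp_apply _ _ _).symm.trans
      ((congrArg (fun k => k.base default) e2.symm).trans (Scheme.Hom.comp_apply _ _ _))⟩
  obtain ⟨V₂, v₂, O₂, hO₂, hle⟩ := exists_nbhd_open (ψ ⁻¹ᵁ R) ξS hR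
  obtain ⟨⟨V₃, v₃⟩, ⟨g₁, hg₁⟩, ⟨g₂, hg₂⟩, -⟩ := IsCofilteredOrEmpty.cone_objs
    (C := (Scheme.pointSmallEtale (η ≫ f')).fiber.Elements) ⟨V₁, v₁⟩ ⟨V₂, v₂⟩
  dsimp at g₁ g₂ hg₁ hg₂
  obtain ⟨V, g, v, W, W', y, hv, hs, hW, hy⟩ := exists_split_in ξS V₃ v₃
    (((EtCoh.bc π).map g₁).left ⁻¹ᵁ O₁ ⊓ ((EtCoh.bc π).map g₂).left ⁻¹ᵁ O₂) ⟨by
      exact (congrArg (· ∈ O₁) ((ptOf_map _ _).symm.trans (congrArg ptOf (bcPt_map ξS g₁ hg₁)))).mpr hO₁, by
      exact (congrArg (· ∈ O₂) ((ptOf_map _ _).symm.trans ((congrArg ptOf (bcPt_map ξS g₂ hg₂)).trans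
        (ptOf_bcPt ξS V₂ v₂)))).mpr hO₂⟩
  let G₁ := (EtCoh.bc π).map (g ≫ g₁)
  have hW₁ : W ≤ G₁.left ⁻¹ᵁ O₁ := fun p hp => by
    have h1 : ((EtCoh.bc π).map g₁).left.base (((EtCoh.bc π).map g).left.base p) ∈ O₁ := (hW hp).1
    refine (congrArg (· ∈ O₁) ?_).mp h1
    exact (Scheme.Hom.comp_apply _ _ _).symm.trans (congrArg (fun k : _ ⟶ (EtCoh.bc π).obj V₁ => k.left.base p)
      ((EtCoh.bc π).map_comp g g₁).symm)
  let lW : openObj ((EtCoh.bc π).obj V) W ⟶ openObj ((EtCoh.bc π).obj V₁) O₁ := openLift G₁ O₁ W hW₁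
  let kW := lW ≫ k₁
  obtain ⟨x, hx₁, hx₂⟩ := exists_d0_extend g' F q hs (c0 g' F q kW x'')
  -- the classes upstairs
  let Qn := (EtCoh.bc f').obj V
  let vX := (fiberCompIso f' η).inv.app V v
  let MW : (EtCoh.bc f'').obj (openObj _ W) ⟶ A₁ := (EtCoh.bc f'').map lW
  let lk : (EtCoh.bc f'').obj (openObj _ W) ⟶ (EtCoh.bc f'').obj U'' := (EtCoh.bc f'').map kW
  haveI : Etale (pullback.fst lk.left n₀.left) := MorphismProperty.pullback_fst (P := @Etale) _ _ ‹_›
  haveI : Etale ((EtCoh.bc f'').obj (openObj ((EtCoh.bc π).obj V) W)).hom :=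
    ((EtCoh.bc f'').obj (openObj ((EtCoh.bc π).obj V) W)).prop
  let A : X''.Etale := MorphismProperty.Over.mk ⊤
    (pullback.fst lk.left n₀.left ≫ ((EtCoh.bc f'').obj (openObj ((EtCoh.bc π).obj V) W)).hom)
    (inferInstanceAs (Etale (pullback.fst lk.left n₀.left ≫ _)))
  let pA : A ⟶ (EtCoh.bc f'').obj (openObj _ W) :=
    MorphismProperty.Over.homMk (pullback.fst lk.left n₀.left) rfl trivial
  let cA : A ⟶ Q₀ := MorphismProperty.Over.homMk (pullback.snd lk.left n₀.left) (by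
    refine (congrArg (pullback.snd lk.left n₀.left ≫ ·) (MorphismProperty.Over.w n₀).symm).trans ?_
    refine (Category.assoc _ _ _).symm.trans ((congrArg (· ≫ _) pullback.condition.symm).trans ?_)
    exact (Category.assoc _ _ _).trans (congrArg (_ ≫ ·) (MorphismProperty.Over.w lk))) trivial
  let B := (EtCoh.bc f'').obj (openObj ((EtCoh.bc π).obj V) W')
  let a : A ⟶ (EtCoh.bc π').obj Qn := pA ≫ (EtCoh.bc f'').map (openHom _ W) ≫ tauFwd sq V
  let b : B ⟶ (EtCoh.bc π').obj Qn := (EtCoh.bc f'').map (openHom _ W') ≫ tauFwd sq V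
  have hcov : ∀ p, (ιFib (f := π') Qn vX).base p ∈ Set.range a.left.base ∪ Set.range b.left.base := fun p => by
    let p₀ := (tauInv sq V).left.base ((ιFib (f := π') Qn vX).base p)
    have hp₀ : (tauFwd sq V).left.base p₀ = (ιFib (f := π') Qn vX).base p :=
      (Scheme.Hom.comp_apply _ _ _).symm.trans (congrArg (fun k : _ ⟶ (EtCoh.bc π').obj Qn =>
        k.left.base ((ιFib (f := π') Qn vX).base p)) (tau_tauInv sq V))
    have hσ : (pullback.fst ((EtCoh.bc π).obj V).hom f'').base p₀ = (ιFib V v).base ((thetaFwd sq η).base p) := by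
      refine (Scheme.Hom.comp_apply _ _ _).symm.trans ?_
      refine (Scheme.Hom.comp_apply _ _ _).symm.trans ?_
      refine Eq.trans ?_ (Scheme.Hom.comp_apply _ _ _)
      exact congrArg (fun k => k.base p) ((Category.assoc _ _ _).symm.trans (iotaFib_tauInv sq η V v))
    rcases hs.cover ((ιFib V v).base ((thetaFwd sq η).base p)) with h | h
    · left
      obtain ⟨p₁, hp₁, -⟩ := Scheme.Pullback.exists_preimage_pullback (f := (openHom ((EtCoh.bc π).obj V) W).left)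
        (g := pullback.fst ((EtCoh.bc π).obj V).hom f'') ⟨_, h⟩ p₀ hσ.symm
      obtain ⟨p₂, hp₂⟩ : ∃ p₂, ((EtCoh.bc f'').map (openHom ((EtCoh.bc π).obj V) W)).left.base p₂ = p₀ := by
        obtain ⟨r, -, hr⟩ := Scheme.Pullback.exists_preimage_pullback (f := (openHom ((EtCoh.bc π).obj V) W).left)
          (g := pullback.fst ((EtCoh.bc π).obj V).hom f'') ⟨_, h⟩ p₀ hσ.symm
        refine ⟨(EtCoh.isPullback_bc_map f'' (openHom ((EtCoh.bc π).obj V) W)).flip.isoPullback.inv.base r, ?_⟩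
        exact (Scheme.Hom.comp_apply _ _ _).symm.trans ((congrArg (fun k => k.base r)
          (EtCoh.isPullback_bc_map f'' (openHom ((EtCoh.bc π).obj V) W)).flip.isoPullback_inv_snd).trans hr)
      have hE : (thetaFwd sq η).base p ∈ ψ ⁻¹ᵁ R := by
        refine hle ?_
        show (ιFib V₂ v₂).base ((thetaFwd sq η).base p) ∈ O₂
        have h2 : ((EtCoh.bc π).map g₂).left.base (((EtCoh.bc π).map g).left.base
          ((ιFib V v).base ((thetaFwd sq η).base p))) ∈ O₂ := (hW h).2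
        refine (congrArg (· ∈ O₂) ?_).mp h2
        refine (congrArg ((EtCoh.bc π).map g₂).left.base ((Scheme.Hom.comp_apply _ _ _).symm.trans
          (congrArg (fun k => k.base ((thetaFwd sq η).base p)) (ιFib_naturality g hv)))).trans ?_
        exact (Scheme.Hom.comp_apply _ _ _).symm.trans
          (congrArg (fun k => k.base ((thetaFwd sq η).base p)) (ιFib_naturality g₂ hg₂))
      obtain ⟨r, hr⟩ : ∃ r, (pullback.fst l₁.left n₀.left ≫ i₁.left).base r =
          ψ.base ((thetaFwd sq η).base p) := hE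
      have hψ : ψ.base ((thetaFwd sq η).base p) = i₁.left.base (MW.left.base p₂) := by
        have hnat : tauInv sq V ≫ (EtCoh.bc f'').map G₁ =
            (EtCoh.bc π').map ((EtCoh.bc f').map (g ≫ g₁)) ≫ tauInv sq V₁ := by
          refine to_xs_ext ?_
          show ((tauInv sq V).left ≫ ((EtCoh.bc f'').map G₁).left) ≫ _ ≫ _ =
            (((EtCoh.bc π').map ((EtCoh.bc f').map (g ≫ g₁))).left ≫ (tauInv sq V₁).left) ≫ _ ≫ _
          rw [Category.assoc, Category.assoc, tauInv_left_fst, ← Category.assoc ((EtCoh.bc f'').map G₁).left,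
            (EtCoh.isPullback_bc_map f'' G₁).w, Category.assoc, (EtCoh.isPullback_bc_map π (g ≫ g₁)).w,
            ← Category.assoc (pullback.fst _ f''), ← Category.assoc (tauInv sq V).left, tauInv_left_fst,
            ← Category.assoc ((EtCoh.bc π').map _).left, (EtCoh.isPullback_bc_map π' ((EtCoh.bc f').map (g ≫ g₁))).w,
            Category.assoc, Category.assoc, (EtCoh.isPullback_bc_map f' (g ≫ g₁)).w]
        have hc : lW ≫ openHom _ O₁ = openHom _ W ≫ G₁ := openLift_openHom _ _ _ _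
        have e3 : thetaFwd sq η ≫ ψ = ιFib (f := π') Qn vX ≫ (tauInv sq V).left ≫ ((EtCoh.bc f'').map G₁).left := by
          refine (Category.assoc _ _ _).symm.trans ((congrArg (· ≫ _) (theta_thetaInv sq η)).trans ?_)
          refine (Category.id_comp _).trans ?_
          have hnv : (Scheme.pointSmallEtale η).fiber.map ((EtCoh.bc f').map (g ≫ g₁)) vX =
              (fiberCompIso f' η).inv.app V₁ v₁ :=
            bcMap_pt f' (g ≫ g₁) v₁ v (by rw [Functor.map_comp_apply, hv, hg₁])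
          rw [← ιFib_naturality (f := π') _ hnv, Category.assoc]
          exact congrArg (ιFib (f := π') Qn vX ≫ ·) (congrArg (fun k : _ ⟶ (EtCoh.bc f'').obj ((EtCoh.bc π).obj V₁) => k.left) hnat).symm
        refine (Scheme.Hom.comp_apply _ _ _).symm.trans ((congrArg (fun k => k.base p) e3).trans ?_)
        refine (Scheme.Hom.comp_apply _ _ _).trans ((Scheme.Hom.comp_apply _ _ _).trans ?_)
        refine (congrArg ((EtCoh.bc f'').map G₁).left.base hp₂.symm).trans ?_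
        refine (Scheme.Hom.comp_apply _ _ _).symm.trans (Eq.trans ?_ (Scheme.Hom.comp_apply _ _ _))
        exact congrArg (fun k : _ ⟶ (EtCoh.bc f'').obj ((EtCoh.bc π).obj V₁) => k.left.base p₂)
          (((EtCoh.bc f'').map_comp _ _).symm.trans ((congrArg _ hc.symm).trans ((EtCoh.bc f'').map_comp _ _)))
      have hr' : (pullback.fst l₁.left n₀.left).base r = MW.left.base p₂ :=
        i₁.left.isOpenEmbedding.injective ((Scheme.Hom.comp_apply _ _ _).symm.trans (hr.trans hψ))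
      have hlk : lk.left.base p₂ = n₀.left.base ((pullback.snd l₁.left n₀.left).base r) := by
        refine (congrArg (fun k : _ ⟶ (EtCoh.bc f'').obj U'' => k.left.base p₂) ((EtCoh.bc f'').map_comp lW k₁)).trans ?_
        refine (Scheme.Hom.comp_apply _ _ _).trans ((congrArg l₁.left.base hr'.symm).trans ?_)
        exact (Scheme.Hom.comp_apply _ _ _).symm.trans ((congrArg (fun k : pullback l₁.left n₀.left ⟶ _ => k.base r)
          pullback.condition).trans (Scheme.Hom.comp_apply _ _ _))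
      obtain ⟨r₂, hr₂, -⟩ := Scheme.Pullback.exists_preimage_pullback (f := lk.left) (g := n₀.left) p₂ _ hlk
      refine ⟨r₂, ?_⟩
      show (pullback.fst lk.left n₀.left ≫ ((EtCoh.bc f'').map (openHom _ W)).left ≫ (tauFwd sq V).left).base r₂ = _
      refine (Scheme.Hom.comp_apply _ _ _).trans ((Scheme.Hom.comp_apply _ _ _).trans ?_)
      exact (congrArg (tauFwd sq V).left.base ((congrArg _ hr₂).trans hp₂)).trans hp₀
    · right
      obtain ⟨r, -, hr⟩ := Scheme.Pullback.exists_preimage_pullback (f := (openHom ((EtCoh.bc π).obj V) W').left)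
        (g := pullback.fst ((EtCoh.bc π).obj V).hom f'') ⟨_, h⟩ p₀ hσ.symm
      refine ⟨(EtCoh.isPullback_bc_map f'' (openHom ((EtCoh.bc π).obj V) W')).flip.isoPullback.inv.base r, ?_⟩
      refine (Scheme.Hom.comp_apply _ _ _).trans ((congrArg (tauFwd sq V).left.base ?_).trans hp₀)
      exact (Scheme.Hom.comp_apply _ _ _).symm.trans ((congrArg (fun k => k.base r)
        (EtCoh.isPullback_bc_map f'' (openHom ((EtCoh.bc π).obj V) W')).flip.isoPullback_inv_snd).trans hr)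
  obtain ⟨Q', gQ, vQ, WA, WB, kA, kB, hvQ, hsQ, ea, eb⟩ := exists_split Qn vX a b hcov
  have hC : ∀ {P : X''.Etale} (O : ((EtCoh.bc π).obj V).left.Opens) (d : P ⟶ (EtCoh.bc f'').obj (openObj _ O))
      (o : P ⟶ (EtCoh.bc π').obj Q'),
      d ≫ (EtCoh.bc f'').map (openHom _ O) ≫ tauFwd sq V = o ≫ (EtCoh.bc π').map gQ →
      d.left ≫ pullback.fst (openObj _ O).hom f'' ≫ (openHom _ O).left ≫ pullback.fst V.hom π =
        o.left ≫ pullback.fst Q'.hom π' ≫ gQ.left ≫ pullback.fst V.hom f' := by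
    intro P O d o hdo
    have h1 : (d.left ≫ ((EtCoh.bc f'').map (openHom _ O)).left ≫ (tauFwd sq V).left) ≫
        pullback.fst ((EtCoh.bc f').obj V).hom π' ≫ pullback.fst V.hom f' =
      (o.left ≫ ((EtCoh.bc π').map gQ).left) ≫ pullback.fst ((EtCoh.bc f').obj V).hom π' ≫ pullback.fst V.hom f' :=
      congrArg (fun k : P ⟶ (EtCoh.bc π').obj Qn => k.left ≫ _) hdo
    rw [Category.assoc, Category.assoc, Category.assoc, tau_left_fst,
      ← Category.assoc ((EtCoh.bc f'').map (openHom _ O)).left, (EtCoh.isPullback_bc_map f'' (openHom _ O)).w,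
      ← Category.assoc ((EtCoh.bc π').map gQ).left, (EtCoh.isPullback_bc_map π' gQ).w, Category.assoc,
      Category.assoc] at h1
    exact h1
  have hz : cl (g' ≫ π) (h' ≫ π') e F q f' wc V gQ x = 0 := by
    refine d1_split_eq_zero h' e F q hsQ _ ?_ ?_
    · refine (d1_cl g' h' e F q w wc (openHom _ W) (kA ≫ pA) gQ (openHom _ WA)
        (hC W (kA ≫ pA) (openHom _ WA) ((Category.assoc _ _ _).trans ea)) x).trans ?_
      refine (congrArg (cl g' h' e F q f'' w _ (kA ≫ pA)) hx₁).trans ?_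
      refine (cl_c0 g' h' e F q f'' w (kA ≫ pA) kW x'').trans ?_
      have hsq : (kA ≫ pA) ≫ (EtCoh.bc f'').map kW = (kA ≫ cA) ≫ n₀ := by
        rw [Category.assoc, Category.assoc]
        exact congrArg (kA ≫ ·) ((Scheme.Etale.forget _).map_injective (Over.OverMorphism.ext pullback.condition))
      rw [cl_congr g' h' e F q f'' w hsq, ← c1_cl, hx, map_zero]
    · refine (d1_cl g' h' e F q w wc (openHom _ W') kB gQ (openHom _ WB) (hC W' kB (openHom _ WB) eb) x).trans ?_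
      rw [hx₂, map_zero]
  obtain ⟨V', m, y', hm, h0⟩ := H V v x Q' gQ vQ hvQ hz
  let W₂ : ((EtCoh.bc π).obj V').left.Opens := ((EtCoh.bc π).map m).left ⁻¹ᵁ W
  let lm : openObj ((EtCoh.bc π).obj V') W₂ ⟶ openObj ((EtCoh.bc π).obj V) W :=
    openLift ((EtCoh.bc π).map m) W W₂ le_rfl
  have hy2 : ptOf (bcPt ξS V' y') ∈ W₂ := by
    have h1 : ptOf (bcPt ξS V v) ∈ W := openPt_mem W y hy
    exact (congrArg (· ∈ W) ((ptOf_map _ _).symm.trans (congrArg ptOf (bcPt_map ξS m hm)))).mpr h1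
  obtain ⟨y₂, hy₂⟩ := exists_openPt W₂ (bcPt ξS V' y') hy2
  refine ⟨openObj _ W₂, lm ≫ kW, y₂, ?_, ?_⟩
  · have e1 : (Scheme.pointSmallEtale ξS.1).fiber.map lm y₂ = y := by
      refine openPt_unique W _ y ?_
      rw [hy, ← Functor.map_comp_apply, openLift_openHom, Functor.map_comp_apply, hy₂, bcPt_map ξS m hm]
    show (Scheme.pointSmallEtale ξS.1).fiber.map (lm ≫ lW ≫ k₁) y₂ = z''
    rw [Functor.map_comp_apply, Functor.map_comp_apply, e1]
    refine hk₁ _ ?_
    rw [← Functor.map_comp_apply, openLift_openHom, Functor.map_comp_apply, hy,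
      bcPt_map ξS (g ≫ g₁) (by rw [Functor.map_comp_apply, hv, hg₁])]
  · refine (c0_c0 g' F q kW lm _ rfl x'').symm.trans ?_
    refine ((congrArg (c0 g' F q lm) hx₁.symm).trans (c0_d0 g' F q _ lm x)).trans ?_
    refine (d0_congr g' F q (openLift_openHom _ _ _ _) x).trans ?_
    rw [← d0_c0, h0, map_zero]

end Groth.Agent.H1DFun
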