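import Groth.Agent.H1DFun.StalkCls

/-!
# Bijectivity of the base change morphism in each degree in terms of classes
-/

set_option autoImplicit false
set_option backward.isDefEq.respectTransparency false
set_option backward.isDefEq.respectTransparency.types false

universe u

open CategoryTheory CategoryTheory.Limits AlgebraicGeometry Opposite Abelian
open Groth.Agent.H1Lim Groth.Agent.H18Et

namespace Groth.Agent.H1DFun

attribute [local instance] Groth.Agent.H18Et.pull_preservesFiniteLimits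

section T

variable {T : Scheme.{u}} (F : EtCoh.Ab T) (q : ℕ)

/-- Restriction of classes with coefficients from a base. -/
noncomputable abbrev rT {V V' : Scheme.{u}} {a : V ⟶ T} {a' : V' ⟶ T} (f : V' ⟶ V) (w : f ≫ a = a') :
    Sheaf.H ((EtCoh.pull a).obj F) q →+ Sheaf.H ((EtCoh.pull a').obj F) q :=
  EtCore.HpullVia f a a' w F q

theorem rT_comp {V V' V'' : Scheme.{u}} {a : V ⟶ T} {a' : V' ⟶ T} {a'' : V'' ⟶ T} (f : V' ⟶ V)
    (w : f ≫ a = a') (f' : V'' ⟶ V') (w' : f' ≫ a' = a'') (fc : V'' ⟶ V) (hc : f' ≫ f = fc)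
    (x : Sheaf.H ((EtCoh.pull a).obj F) q) :
    rT F q f' w' (rT F q f w x) =
      rT F q fc (show fc ≫ a = a'' by rw [← hc, Category.assoc, w, w']) x :=
  HpullVia_comp f' f fc a a' a'' hc w w' _ F q x

theorem rT_congr {V V' : Scheme.{u}} {a : V ⟶ T} {a' : V' ⟶ T} {f f₁ : V' ⟶ V} (e : f = f₁)
    (w : f ≫ a = a') (x : Sheaf.H ((EtCoh.pull a).obj F) q) :
    rT F q f w x = rT F q f₁ (show f₁ ≫ a = a' from e ▸ w) x :=
  HpullVia_congr e a a' w _ F q x

end T

variable {X S Y T : Scheme.{u}}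

section Sect

variable (h : Y ⟶ X) (e : Y ⟶ T) (F : EtCoh.Ab T) (q : ℕ)

theorem bc_map_comp_hom {Q Q' : X.Etale} (m : Q' ⟶ Q) :
    ((EtCoh.bc h).map m).left ≫ ((EtCoh.bc h).obj Q).hom ≫ e = ((EtCoh.bc h).obj Q').hom ≫ e :=
  (Category.assoc _ _ _).symm.trans (congrArg (· ≫ e) (MorphismProperty.Over.w ((EtCoh.bc h).map m)))

/-- Restriction of classes on the upper left corner. -/
noncomputable abbrev r1 {Q Q' : X.Etale} (m : Q' ⟶ Q) : H1 h e F q Q →+ H1 h e F q Q' :=
  rT F q ((EtCoh.bc h).map m).left (bc_map_comp_hom h e m)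

theorem sigma_inv_hom {V : Scheme.{u}} (b : V ⟶ Y) (a : V ⟶ T) (ha : b ≫ e = a)
    (x : Sheaf.H ((EtCoh.pull a).obj F) q) :
    Sheaf.H.map ((viaIso b e a ha).app F).hom q (Sheaf.H.map ((viaIso b e a ha).app F).inv q x) = x :=
  H_map_inv_hom ((viaIso b e a ha).app F) q x

theorem toSect'_map {Q Q' : X.Etale} (m : Q' ⟶ Q) (x : H1 h e F q Q) :
    ((EtCoh.Rpush h q).obj ((EtCoh.pull e).obj F)).obj.map m.op (toSect' h e F q Q x) =
      toSect' h e F q Q' (r1 h e F q m x) := by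
  rw [toSect'_def, toSect'_def, toSect_map]
  refine congrArg (toSect h _ q Q') ?_
  apply H_map_injective ((viaIso ((EtCoh.bc h).obj Q').hom e (((EtCoh.bc h).obj Q').hom ≫ e) rfl).app F) q
  refine (HpullVia_sigma e ((EtCoh.bc h).map m).left ((EtCoh.bc h).obj Q).hom ((EtCoh.bc h).obj Q').hom
    (MorphismProperty.Over.w ((EtCoh.bc h).map m)) (((EtCoh.bc h).obj Q).hom ≫ e)
    (((EtCoh.bc h).obj Q').hom ≫ e) rfl rfl (bc_map_comp_hom h e m) F q _).trans ?_
  exact (congrArg _ (sigma_inv_hom e F q _ _ rfl x)).trans (sigma_inv_hom e F q _ _ rfl _).symm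

variable {Ω : Type u} [Field Ω] [IsSepClosed Ω] (η : Spec (CommRingCat.of Ω) ⟶ X)

/-- The germ of the section of a class. -/
noncomputable def germ1 (Q : X.Etale) (v : (Scheme.pointSmallEtale η).fiber.obj Q) :
    H1 h e F q Q →+ (EtCoh.stalk η).obj ((EtCoh.Rpush h q).obj ((EtCoh.pull e).obj F)) :=
  (H18Et.germ η ((EtCoh.Rpush h q).obj ((EtCoh.pull e).obj F)) Q v).hom.comp (toSect' h e F q Q)

theorem germ1_map {Q Q' : X.Etale} (m : Q' ⟶ Q) (v' : (Scheme.pointSmallEtale η).fiber.obj Q')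
    (v : (Scheme.pointSmallEtale η).fiber.obj Q) (hv : (Scheme.pointSmallEtale η).fiber.map m v' = v)
    (x : H1 h e F q Q) : germ1 h e F q η Q' v' (r1 h e F q m x) = germ1 h e F q η Q v x := by
  show H18Et.germ η ((EtCoh.Rpush h q).obj ((EtCoh.pull e).obj F)) Q' v' (toSect' h e F q Q' (r1 h e F q m x)) =
    H18Et.germ η ((EtCoh.Rpush h q).obj ((EtCoh.pull e).obj F)) Q v (toSect' h e F q Q x)
  rw [← toSect'_map, ← hv]
  exact (Scheme.pointSmallEtale η).toPresheafFiber_w_apply m v'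
    ((EtCoh.Rpush h q).obj ((EtCoh.pull e).obj F)).obj _

theorem exists_germ1 (y : (EtCoh.stalk η).obj ((EtCoh.Rpush h q).obj ((EtCoh.pull e).obj F))) :
    ∃ Q v x, germ1 h e F q η Q v x = y := by
  obtain ⟨Q, v, x, rfl⟩ := exists_toSect_germ h ((EtCoh.pull e).obj F) q η y
  refine ⟨Q, v, Sheaf.H.map ((viaIso ((EtCoh.bc h).obj Q).hom e (((EtCoh.bc h).obj Q).hom ≫ e) rfl).app F).hom q x, ?_⟩
  show H18Et.germ η ((EtCoh.Rpush h q).obj ((EtCoh.pull e).obj F)) Q v (toSect' h e F q Q _) = _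
  rw [toSect'_def]
  exact congrArg (fun t => H18Et.germ η ((EtCoh.Rpush h q).obj ((EtCoh.pull e).obj F)) Q v
    (toSect h _ q Q t)) (H_map_inv_hom ((viaIso ((EtCoh.bc h).obj Q).hom e
      (((EtCoh.bc h).obj Q).hom ≫ e) rfl).app F).symm q x)

theorem exists_r1_eq_zero (Q : X.Etale) (v : (Scheme.pointSmallEtale η).fiber.obj Q) (x : H1 h e F q Q)
    (hx : germ1 h e F q η Q v x = 0) :
    ∃ (Q' : X.Etale) (m : Q' ⟶ Q) (v' : (Scheme.pointSmallEtale η).fiber.obj Q'),
      (Scheme.pointSmallEtale η).fiber.map m v' = v ∧ r1 h e F q m x = 0 := by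
  obtain ⟨Q', m, v', hv, h0⟩ := exists_r0_eq_zero h ((EtCoh.pull e).obj F) q η Q v _ hx
  refine ⟨Q', m, v', hv, ?_⟩
  have h1 := HpullVia_sigma e ((EtCoh.bc h).map m).left ((EtCoh.bc h).obj Q).hom ((EtCoh.bc h).obj Q').hom
    (MorphismProperty.Over.w ((EtCoh.bc h).map m)) (((EtCoh.bc h).obj Q).hom ≫ e)
    (((EtCoh.bc h).obj Q').hom ≫ e) rfl rfl (bc_map_comp_hom h e m) F q
    (Sheaf.H.map ((viaIso ((EtCoh.bc h).obj Q).hom e (((EtCoh.bc h).obj Q).hom ≫ e) rfl).app F).inv q x)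
  refine ((congrArg _ (sigma_inv_hom e F q _ _ rfl x)).symm.trans h1.symm).trans ?_
  exact (congrArg _ h0).trans (map_zero _)

end Sect

variable (f : X ⟶ S) (g : T ⟶ S) (h : Y ⟶ X) (e : Y ⟶ T) (w : e ≫ g = h ≫ f) (F : EtCoh.Ab T) (q : ℕ)

/-- The morphism used to compare classes. -/
noncomputable abbrev lamTo (U : S.Etale) {Q : X.Etale} (n : Q ⟶ (EtCoh.bc f).obj U) :
    ((EtCoh.bc h).obj Q).left ⟶ ((EtCoh.bc g).obj U).left :=
  ((EtCoh.bc h).map n).left ≫ lam f g h e w U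

theorem lamTo_hom (U : S.Etale) {Q : X.Etale} (n : Q ⟶ (EtCoh.bc f).obj U) :
    lamTo f g h e w U n ≫ ((EtCoh.bc g).obj U).hom = ((EtCoh.bc h).obj Q).hom ≫ e :=
  (Category.assoc _ _ _).trans ((congrArg (_ ≫ ·) (lam_hom f g h e w U)).trans (bc_map_comp_hom h e n))

theorem lamTo_fst (U : S.Etale) {Q : X.Etale} (n : Q ⟶ (EtCoh.bc f).obj U) :
    lamTo f g h e w U n ≫ pullback.fst U.hom g =
      pullback.fst Q.hom h ≫ n.left ≫ pullback.fst U.hom f := by
  refine (Category.assoc _ _ _).trans ((congrArg (_ ≫ ·) (lam_fst f g h e w U)).trans ?_)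
  exact (Category.assoc _ _ _).symm.trans ((congrArg (· ≫ pullback.fst U.hom f)
    (pullback.lift_fst _ _ _)).trans (Category.assoc _ _ _))

/-- Pull a class to a neighbourhood upstairs. -/
noncomputable abbrev rlam (U : S.Etale) {Q : X.Etale} (n : Q ⟶ (EtCoh.bc f).obj U) :
    H0 g F q U →+ H1 h e F q Q :=
  rT F q (lamTo f g h e w U n) (lamTo_hom f g h e w U n)

theorem r1_rlam {U : S.Etale} {Q Q' : X.Etale} (n : Q ⟶ (EtCoh.bc f).obj U) (m : Q' ⟶ Q) (x : H0 g F q U) :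
    r1 h e F q m (rlam f g h e w F q U n x) = rlam f g h e w F q U (m ≫ n) x :=
  rT_comp F q _ _ _ _ _ (by
    show ((EtCoh.bc h).map m).left ≫ ((EtCoh.bc h).map n).left ≫ _ = _
    rw [← Category.assoc]
    refine congrArg (· ≫ lam f g h e w U) ?_
    rw [Functor.map_comp]
    rfl) x

theorem rlam_r0 {U U' : S.Etale} {Q : X.Etale} (n : Q ⟶ (EtCoh.bc f).obj U') (m : U' ⟶ U) (x : H0 g F q U) :
    rlam f g h e w F q U' n (r0 g F q m x) = rlam f g h e w F q U (n ≫ (EtCoh.bc f).map m) x := by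
  refine rT_comp F q _ _ _ _ _ ?_ x
  refine pullback.hom_ext ?_ ?_
  · rw [Category.assoc, show ((EtCoh.bc g).map m).left ≫ pullback.fst U.hom g =
      pullback.fst U'.hom g ≫ m.left from pullback.lift_fst _ _ _]
    refine ((Category.assoc _ _ _).symm.trans (congrArg (· ≫ m.left) (lamTo_fst f g h e w U' n))).trans ?_
    refine Eq.trans ?_ (lamTo_fst f g h e w U _).symm
    rw [Category.assoc, Category.assoc]
    refine congrArg (_ ≫ ·) ?_
    refine Eq.trans ?_ (Category.assoc _ _ _).symm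
    exact congrArg (n.left ≫ ·) (pullback.lift_fst _ _ _).symm
  · refine Eq.trans ?_ (lamTo_hom f g h e w U _).symm
    exact (Category.assoc _ _ _).trans ((congrArg (_ ≫ ·) (MorphismProperty.Over.w ((EtCoh.bc g).map m))).trans
      (lamTo_hom f g h e w U' n))

variable {Ω : Type u} [Field Ω] [IsSepClosed Ω] (η : Spec (CommRingCat.of Ω) ⟶ X)

/-- Bijectivity at a geometric point, in terms of classes. -/
structure BCBij : Prop where
  inj : ∀ (U : S.Etale) (z : (Scheme.pointSmallEtale (η ≫ f)).fiber.obj U) (x : H0 g F q U) (Q : X.Etale)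
    (n : Q ⟶ (EtCoh.bc f).obj U) (v : (Scheme.pointSmallEtale η).fiber.obj Q),
    (Scheme.pointSmallEtale η).fiber.map n v = (fiberCompIso f η).inv.app U z →
    rlam f g h e w F q U n x = 0 →
    ∃ (V : S.Etale) (m : V ⟶ U) (y : (Scheme.pointSmallEtale (η ≫ f)).fiber.obj V),
      (Scheme.pointSmallEtale (η ≫ f)).fiber.map m y = z ∧ r0 g F q m x = 0
  surj : ∀ (Q : X.Etale) (v : (Scheme.pointSmallEtale η).fiber.obj Q) (y : H1 h e F q Q),
    ∃ (U : S.Etale) (z : (Scheme.pointSmallEtale (η ≫ f)).fiber.obj U) (x : H0 g F q U) (Q' : X.Etale)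
      (m : Q' ⟶ Q) (n : Q' ⟶ (EtCoh.bc f).obj U) (v' : (Scheme.pointSmallEtale η).fiber.obj Q'),
      (Scheme.pointSmallEtale η).fiber.map m v' = v ∧
      (Scheme.pointSmallEtale η).fiber.map n v' = (fiberCompIso f η).inv.app U z ∧
      r1 h e F q m y = rlam f g h e w F q U n x

theorem stalk_bcQ_germ (U : S.Etale) (z : (Scheme.pointSmallEtale (η ≫ f)).fiber.obj U) (x : H0 g F q U)
    {Q : X.Etale} (n : Q ⟶ (EtCoh.bc f).obj U) (v : (Scheme.pointSmallEtale η).fiber.obj Q)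
    (hn : (Scheme.pointSmallEtale η).fiber.map n v = (fiberCompIso f η).inv.app U z) :
    (EtCoh.stalk η).map (EtBC.bcQ g f h e w q F) ((stalkPullIso f η).inv.app _
        (H18Et.germ (η ≫ f) ((EtCoh.Rpush g q).obj F) U z (toSect g F q U x))) =
      germ1 h e F q η Q v (rlam f g h e w F q U n x) := by
  rw [H18Et.stalkPullIso_inv_germ]
  refine ((H18Et.germ_naturality η (EtBC.bcQ g f h e w q F) ((EtCoh.bc f).obj U) _ _).trans
    (congrArg (H18Et.germ η ((EtCoh.Rpush h q).obj ((EtCoh.pull e).obj F)) ((EtCoh.bc f).obj U) _)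
      (bcQ_toSect f g h e w F q U x))).trans ?_
  show germ1 h e F q η ((EtCoh.bc f).obj U) ((fiberCompIso f η).inv.app U z) _ = _
  refine Eq.trans ?_ (congrArg (germ1 h e F q η Q v) (rT_comp F q _ (lam_hom f g h e w U) _
    (bc_map_comp_hom h e n) _ rfl x))
  exact (germ1_map h e F q η n v _ hn _).symm

theorem bcBij_iff_bijective :
    BCBij f g h e w F q η ↔ Function.Bijective ((EtCoh.stalk η).map (EtBC.bcQ g f h e w q F)) := by
  have b3 : Function.Bijective ((stalkPullIso f η).inv.app ((EtCoh.Rpush g q).obj F)) :=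
    ConcreteCategory.bijective_of_isIso _
  constructor
  · intro H
    refine ⟨(injective_iff_map_eq_zero _).2 fun y' hy => ?_, fun y => ?_⟩
    · obtain ⟨y, rfl⟩ := b3.2 y'
      obtain ⟨U, z, x, rfl⟩ := exists_toSect_germ g F q (η ≫ f) y
      rw [stalk_bcQ_germ f g h e w F q η U z x (𝟙 _) _ (Functor.map_id_apply _ _ _)] at hy
      obtain ⟨Q', n, v, hv, h0⟩ := exists_r1_eq_zero h e F q η _ _ _ hy
      rw [r1_rlam] at h0
      obtain ⟨V, m, w', hw', hm⟩ := H.inj U z x Q' (n ≫ 𝟙 _) v (by rw [Category.comp_id]; exact hv) h0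
      refine (congrArg _ ?_).trans (map_zero _)
      rw [← hw']
      refine ((Scheme.pointSmallEtale (η ≫ f)).toPresheafFiber_w_apply m w'
        ((EtCoh.Rpush g q).obj F).obj _).symm.trans ?_
      rw [toSect_map, hm, map_zero, map_zero]
    · obtain ⟨Q, v, y, rfl⟩ := exists_germ1 h e F q η y
      obtain ⟨U, z, x, Q', m, n, v', hm, hn, he⟩ := H.surj Q v y
      refine ⟨(stalkPullIso f η).inv.app _ (H18Et.germ (η ≫ f) ((EtCoh.Rpush g q).obj F) U z (toSect g F q U x)), ?_⟩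
      rw [stalk_bcQ_germ f g h e w F q η U z x n v' hn, ← he]
      exact germ1_map h e F q η m v' v hm y
  · intro H
    refine ⟨fun U z x Q n v hn h0 => ?_, fun Q v y => ?_⟩
    · have h1 := stalk_bcQ_germ f g h e w F q η U z x n v hn
      rw [h0, map_zero] at h1
      exact exists_r0_eq_zero g F q (η ≫ f) U z x (b3.1 ((H.1 (h1.trans (map_zero _).symm)).trans
        (map_zero _).symm))
    · obtain ⟨y', hy'⟩ := H.2 (germ1 h e F q η Q v y)
      obtain ⟨y'', rfl⟩ := b3.2 y'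
      obtain ⟨U, z, x, rfl⟩ := exists_toSect_germ g F q (η ≫ f) y''
      let o : (Scheme.pointSmallEtale η).fiber.Elements := Functor.elementsMk _ Q v
      let o' : (Scheme.pointSmallEtale η).fiber.Elements :=
        Functor.elementsMk _ ((EtCoh.bc f).obj U) ((fiberCompIso f η).inv.app U z)
      obtain ⟨p, a, b, -⟩ := IsCofilteredOrEmpty.cone_objs o o'
      rw [stalk_bcQ_germ f g h e w F q η U z x b.1 p.2 b.2, ← germ1_map h e F q η a.1 p.2 v a.2 y] at hy'
      obtain ⟨Q', m, v', hv', h0⟩ := exists_r1_eq_zero h e F q η p.1 p.2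
        (r1 h e F q a.1 y - rlam f g h e w F q U b.1 x) (by rw [map_sub, sub_eq_zero]; exact hy'.symm)
      rw [map_sub, sub_eq_zero, r1_rlam] at h0
      refine ⟨U, z, x, Q', m ≫ a.1, m ≫ b.1, v', ?_, ?_, Eq.trans ?_ h0⟩
      · rw [Functor.map_comp_apply, hv']; exact a.2
      · rw [Functor.map_comp_apply, hv']; exact b.2
      · refine (rT_comp F q _ _ _ _ _ ?_ y).symm
        rw [Functor.map_comp]
        rfl

theorem isIso_bcQ_iff :
    IsIso (EtBC.bcQ g f h e w q F) ↔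
      ∀ (Ω : Type u) [Field Ω] [IsSepClosed Ω] (η : Spec (CommRingCat.of Ω) ⟶ X), BCBij f g h e w F q η := by
  rw [H18Et.isIso_iff_stalk]
  refine forall_congr' fun Ω => forall_congr' fun _ => forall_congr' fun _ => forall_congr' fun η => ?_
  rw [ConcreteCategory.isIso_iff_bijective, bcBij_iff_bijective]

end Groth.Agent.H1DFun
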