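import Groth.Agent.H1DFun.BCBij

/-!
# Pasting of base change morphisms in each degree
-/

set_option autoImplicit false
set_option backward.isDefEq.respectTransparency false
set_option backward.isDefEq.respectTransparency.types false

universe u

open CategoryTheory CategoryTheory.Limits AlgebraicGeometry Opposite Abelian
open Groth.Agent.H1Lim Groth.Agent.H18Et

namespace Groth.Agent.H1DFun

attribute [local instance] Groth.Agent.H18Et.pull_preservesFiniteLimits

variable {Ω : Type u} [Field Ω] [IsSepClosed Ω]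

/-- Transport of a point along an equality of geometric points. -/
noncomputable def castPt {S : Scheme.{u}} {ξ ξ' : Spec (CommRingCat.of Ω) ⟶ S} (h : ξ = ξ') {U : S.Etale}
    (z : (Scheme.pointSmallEtale ξ).fiber.obj U) : (Scheme.pointSmallEtale ξ').fiber.obj U :=
  Over.homMk (z.left : Spec (CommRingCat.of Ω) ⟶ U.left) ((Over.w z).trans h)

theorem castPt_map {S : Scheme.{u}} {ξ ξ' : Spec (CommRingCat.of Ω) ⟶ S} (h : ξ = ξ') {U V : S.Etale}
    (m : V ⟶ U) (z : (Scheme.pointSmallEtale ξ).fiber.obj V) :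
    (Scheme.pointSmallEtale ξ').fiber.map m (castPt h z) = castPt h ((Scheme.pointSmallEtale ξ).fiber.map m z) :=
  Over.OverMorphism.ext rfl

theorem castPt_castPt {S : Scheme.{u}} {ξ ξ' : Spec (CommRingCat.of Ω) ⟶ S} (h : ξ = ξ') {U : S.Etale}
    (z : (Scheme.pointSmallEtale ξ).fiber.obj U) : castPt h.symm (castPt h z) = z :=
  Over.OverMorphism.ext rfl

theorem bcPt_ext {A B : Scheme.{u}} (f : A ⟶ B) {η : Spec (CommRingCat.of Ω) ⟶ A} {U : B.Etale}
    {v : (Scheme.pointSmallEtale η).fiber.obj ((EtCoh.bc f).obj U)}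
    {z : (Scheme.pointSmallEtale (η ≫ f)).fiber.obj U}
    (h : (show Spec (CommRingCat.of Ω) ⟶ ((EtCoh.bc f).obj U).left from v.left) ≫ pullback.fst U.hom f = z.left) :
    v = (fiberCompIso f η).inv.app U z := by
  refine Over.OverMorphism.ext (pullback.hom_ext (h.trans (fiberCompIso_inv_left f η U z).symm) ?_)
  exact (Over.w v).trans (Over.w ((fiberCompIso f η).inv.app U z)).symm

/-- The lift to a base change of an etale scheme. -/
noncomputable def bcLift {A B : Scheme.{u}} (f : A ⟶ B) {U : B.Etale} {Q : A.Etale} (a : Q.left ⟶ U.left)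
    (ha : a ≫ U.hom = Q.hom ≫ f) : Q ⟶ (EtCoh.bc f).obj U :=
  MorphismProperty.Over.homMk (pullback.lift a Q.hom ha) (pullback.lift_snd _ _ _) trivial

theorem bcLift_fst {A B : Scheme.{u}} (f : A ⟶ B) {U : B.Etale} {Q : A.Etale} (a : Q.left ⟶ U.left)
    (ha : a ≫ U.hom = Q.hom ≫ f) : (bcLift f a ha).left ≫ pullback.fst U.hom f = a := pullback.lift_fst _ _ _

theorem bcLift_pt {A B : Scheme.{u}} (f : A ⟶ B) {η : Spec (CommRingCat.of Ω) ⟶ A} {U : B.Etale} {Q : A.Etale}
    (a : Q.left ⟶ U.left) (ha : a ≫ U.hom = Q.hom ≫ f) (v : (Scheme.pointSmallEtale η).fiber.obj Q)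
    (z : (Scheme.pointSmallEtale (η ≫ f)).fiber.obj U)
    (h : (show Spec (CommRingCat.of Ω) ⟶ Q.left from v.left) ≫ a = z.left) :
    (Scheme.pointSmallEtale η).fiber.map (bcLift f a ha) v = (fiberCompIso f η).inv.app U z :=
  bcPt_ext f ((Category.assoc _ _ _).trans ((congrArg (_ ≫ ·) (bcLift_fst f a ha)).trans h))

theorem pt_fst_of_map {A B : Scheme.{u}} (f : A ⟶ B) {η : Spec (CommRingCat.of Ω) ⟶ A} {U : B.Etale} {Q : A.Etale}
    {n : Q ⟶ (EtCoh.bc f).obj U} {v : (Scheme.pointSmallEtale η).fiber.obj Q}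
    {z : (Scheme.pointSmallEtale (η ≫ f)).fiber.obj U}
    (h : (Scheme.pointSmallEtale η).fiber.map n v = (fiberCompIso f η).inv.app U z) :
    (show Spec (CommRingCat.of Ω) ⟶ Q.left from v.left) ≫ n.left ≫ pullback.fst U.hom f = z.left := by
  rw [← Category.assoc]
  exact (congrArg (fun t : (Scheme.pointSmallEtale η).fiber.obj ((EtCoh.bc f).obj U) =>
    (show Spec (CommRingCat.of Ω) ⟶ ((EtCoh.bc f).obj U).left from t.left) ≫ pullback.fst U.hom f) h).trans
    (fiberCompIso_inv_left f η U z)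

theorem bcMap_pt {A B : Scheme.{u}} (f : A ⟶ B) {η : Spec (CommRingCat.of Ω) ⟶ A} {U U' : B.Etale} (m : U' ⟶ U)
    (z : (Scheme.pointSmallEtale (η ≫ f)).fiber.obj U) (z' : (Scheme.pointSmallEtale (η ≫ f)).fiber.obj U')
    (h : (Scheme.pointSmallEtale (η ≫ f)).fiber.map m z' = z) :
    (Scheme.pointSmallEtale η).fiber.map ((EtCoh.bc f).map m) ((fiberCompIso f η).inv.app U' z') =
      (fiberCompIso f η).inv.app U z := by
  refine bcPt_ext f ((Category.assoc _ _ _).trans ((congrArg (_ ≫ ·) (pullback.lift_fst _ _ _)).trans ?_))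
  refine (Category.assoc _ _ _).symm.trans ((congrArg (· ≫ m.left) (fiberCompIso_inv_left f η U' z')).trans ?_)
  exact congrArg (fun t => t.left) h

theorem bc_hom_congr {A : Scheme.{u}} {η : Spec (CommRingCat.of Ω) ⟶ A} {a b : (Scheme.pointSmallEtale η).fiber.Elements}
    {f g : a ⟶ b} (h : f = g) : f.1 = g.1 := by subst h; rfl

/-- A cone over a cospan of neighbourhoods. -/
theorem exists_cospan {A : Scheme.{u}} {η : Spec (CommRingCat.of Ω) ⟶ A} {P Q R : A.Etale} (n : P ⟶ R) (n' : Q ⟶ R)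
    (p : (Scheme.pointSmallEtale η).fiber.obj P) (p' : (Scheme.pointSmallEtale η).fiber.obj Q)
    (h : (Scheme.pointSmallEtale η).fiber.map n p = (Scheme.pointSmallEtale η).fiber.map n' p') :
    ∃ (O : A.Etale) (a : O ⟶ P) (b : O ⟶ Q) (v : (Scheme.pointSmallEtale η).fiber.obj O),
      (Scheme.pointSmallEtale η).fiber.map a v = p ∧ (Scheme.pointSmallEtale η).fiber.map b v = p' ∧
        a ≫ n = b ≫ n' := by
  let o₁ : (Scheme.pointSmallEtale η).fiber.Elements := Functor.elementsMk _ P p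
  let o₂ : (Scheme.pointSmallEtale η).fiber.Elements := Functor.elementsMk _ Q p'
  let o₃ : (Scheme.pointSmallEtale η).fiber.Elements :=
    Functor.elementsMk _ R ((Scheme.pointSmallEtale η).fiber.map n' p')
  obtain ⟨o, a, b, hab⟩ :=
    IsCofiltered.cospan (CategoryOfElements.homMk o₁ o₃ n h) (CategoryOfElements.homMk o₂ o₃ n' rfl)
  exact ⟨o.1, a.1, b.1, o.2, a.2, b.2, congrArg Subtype.val hab⟩

/-- Morphisms into the base change of an etale scheme are determined by two projections. -/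
theorem to_bc_ext {B T V : Scheme.{u}} (g : T ⟶ B) {U : B.Etale} {a b : V ⟶ ((EtCoh.bc g).obj U).left}
    (h₁ : a ≫ pullback.fst U.hom g = b ≫ pullback.fst U.hom g)
    (h₂ : a ≫ ((EtCoh.bc g).obj U).hom = b ≫ ((EtCoh.bc g).obj U).hom) : a = b :=
  pullback.hom_ext h₁ h₂

variable {X S Y T W Z : Scheme.{u}} (f : X ⟶ S) (g : T ⟶ S) (h : Y ⟶ X) (e : Y ⟶ T) (w : e ≫ g = h ≫ f)
  (i : W ⟶ X) (j : Z ⟶ W) (k : Z ⟶ Y) (w' : k ≫ h = j ≫ i) (w'' : (k ≫ e) ≫ g = j ≫ i ≫ f)
  (F : EtCoh.Ab T) (q : ℕ)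

/-- Change of coefficients on classes. -/
noncomputable abbrev sig {A : Scheme.{u}} (b : A ⟶ Y) (a : A ⟶ T) (ha : b ≫ e = a) :
    Sheaf.H ((EtCoh.pull b).obj ((EtCoh.pull e).obj F)) q →+ Sheaf.H ((EtCoh.pull a).obj F) q :=
  Sheaf.H.map ((viaIso b e a ha).app F).hom q

theorem sig_rT {A A' : Scheme.{u}} {b : A ⟶ Y} {b' : A' ⟶ Y} (a : A ⟶ T) (a' : A' ⟶ T) (ha : b ≫ e = a)
    (ha' : b' ≫ e = a') (m : A' ⟶ A) (hm : m ≫ b = b')
    (x : Sheaf.H ((EtCoh.pull b).obj ((EtCoh.pull e).obj F)) q) :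
    sig e F q b' a' ha' (rT ((EtCoh.pull e).obj F) q m hm x) =
      rT F q m (by rw [← ha, ← Category.assoc, hm, ha']) (sig e F q b a ha x) :=
  HpullVia_sigma e m b b' hm a a' ha ha' _ F q x

include w' in
/-- Pasting of bijectivity at a geometric point. -/
theorem BCBij.paste (η : Spec (CommRingCat.of Ω) ⟶ W) (H₁ : BCBij f g h e w F q (η ≫ i))
    (H₂ : BCBij i h j k w' ((EtCoh.pull e).obj F) q η) :
    BCBij (i ≫ f) g j (k ≫ e) w'' F q η := by
  constructor
  · intro U z x Q n v hn h0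
    let z₂ := castPt (Category.assoc η i f).symm z
    let a : Q.left ⟶ U.left := n.left ≫ pullback.fst U.hom (i ≫ f)
    have ha : a ≫ U.hom = (Q.hom ≫ i) ≫ f := by
      rw [Category.assoc, pullback.condition]
      exact (Category.assoc _ _ _).symm.trans ((congrArg (· ≫ i ≫ f) (MorphismProperty.Over.w n)).trans
        (Category.assoc _ _ _).symm)
    let b : Q.left ⟶ ((EtCoh.bc f).obj U).left := pullback.lift a (Q.hom ≫ i) ha
    let n₂ : Q ⟶ (EtCoh.bc i).obj ((EtCoh.bc f).obj U) := bcLift i b (pullback.lift_snd _ _ _)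
    let wz := (fiberCompIso f (η ≫ i)).inv.app U z₂
    have hn₂ : (Scheme.pointSmallEtale η).fiber.map n₂ v = (fiberCompIso i η).inv.app _ wz := by
      refine bcLift_pt i b _ v wz ?_
      refine pullback.hom_ext ?_ ?_
      · rw [Category.assoc, show b ≫ pullback.fst U.hom f = a from pullback.lift_fst _ _ _]
        exact (pt_fst_of_map (i ≫ f) hn).trans (fiberCompIso_inv_left f (η ≫ i) U z₂).symm
      · rw [Category.assoc, show b ≫ pullback.snd U.hom f = Q.hom ≫ i from pullback.lift_snd _ _ _,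
          ← Category.assoc]
        exact (congrArg (· ≫ i) (Over.w v)).trans (Over.w wz).symm
    let y := rT F q (lam f g h e w U) (lam_hom f g h e w U) x
    let y₀ : H0 h ((EtCoh.pull e).obj F) q ((EtCoh.bc f).obj U) :=
      Sheaf.H.map ((viaIso ((EtCoh.bc h).obj ((EtCoh.bc f).obj U)).hom e _ rfl).app F).inv q y
    have hy : rlam i h j k w' ((EtCoh.pull e).obj F) q ((EtCoh.bc f).obj U) n₂ y₀ = 0 := by
      apply H_map_injective ((viaIso (((EtCoh.bc j).obj Q).hom ≫ k) e (((EtCoh.bc j).obj Q).hom ≫ k ≫ e)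
        (Category.assoc _ _ _)).app F) q
      refine (sig_rT e F q _ _ rfl (Category.assoc _ _ _) _ (lamTo_hom i h j k w' _ n₂) y₀).trans ?_
      rw [map_zero]
      refine ((congrArg _ (sigma_inv_hom e F q _ _ rfl y)).trans ?_).trans h0
      refine rT_comp F q _ _ _ _ _ (to_bc_ext g ?_ ?_) x
      · rw [Category.assoc, lam_fst, lamTo_fst, ← Category.assoc, lamTo_fst]
        simp only [Category.assoc]
        refine congrArg (_ ≫ ·) ?_
        rw [← Category.assoc n₂.left, bcLift_fst]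
        exact pullback.lift_fst _ _ _
      · rw [Category.assoc, lam_hom, lamTo_hom, ← Category.assoc, lamTo_hom, Category.assoc]
    obtain ⟨W', m, y', hm, h1⟩ := H₂.inj ((EtCoh.bc f).obj U) wz y₀ Q n₂ v hn₂ hy
    have h2 : rlam f g h e w F q U m x = 0 := by
      have h3 := congrArg (sig e F q ((EtCoh.bc h).obj W').hom (((EtCoh.bc h).obj W').hom ≫ e) rfl) h1
      rw [map_zero] at h3
      refine Eq.trans ?_ h3
      refine Eq.trans ?_ (sig_rT e F q _ _ rfl rfl _ (MorphismProperty.Over.w ((EtCoh.bc h).map m)) y₀).symm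
      refine Eq.trans ?_ (congrArg _ (sigma_inv_hom e F q _ _ rfl y)).symm
      exact (rT_comp F q (lam f g h e w U) (lam_hom f g h e w U) _ (bc_map_comp_hom h e m) _ rfl x).symm
    obtain ⟨V, m', y'', hm', h4⟩ := H₁.inj U z₂ x W' m y' hm h2
    exact ⟨V, m', castPt (Category.assoc η i f) y'', by rw [castPt_map, hm']; exact castPt_castPt _ z, h4⟩
  · intro Q v y
    let y₀ : H1 j k ((EtCoh.pull e).obj F) q Q :=
      Sheaf.H.map ((viaIso (((EtCoh.bc j).obj Q).hom ≫ k) e (((EtCoh.bc j).obj Q).hom ≫ k ≫ e)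
        (Category.assoc _ _ _)).app F).inv q y
    obtain ⟨P, pz, p₀, Q₁, m₁, n₁, v₁, hm₁, hn₁, he₁⟩ := H₂.surj Q v y₀
    let p : H1 h e F q P := sig e F q ((EtCoh.bc h).obj P).hom _ rfl p₀
    obtain ⟨U, z₂, x, P', mP, nP, vP, hmP, hnP, heP⟩ := H₁.surj P pz p
    obtain ⟨O, a, b, vO, haO, hbO, hab'⟩ := exists_cospan (η := η) n₁ ((EtCoh.bc i).map mP) v₁
      ((fiberCompIso i η).inv.app P' vP) (hn₁.trans (bcMap_pt i mP pz vP hmP).symm)
    let c : O.left ⟶ U.left := b.left ≫ pullback.fst P'.hom i ≫ nP.left ≫ pullback.fst U.hom f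
    have hc : c ≫ U.hom = O.hom ≫ i ≫ f := by
      simp only [c, Category.assoc]
      rw [pullback.condition]
      refine (congrArg (fun t => b.left ≫ pullback.fst P'.hom i ≫ t) ((Category.assoc _ _ _).symm.trans
        (congrArg (· ≫ f) (MorphismProperty.Over.w nP)))).trans ?_
      rw [← Category.assoc (pullback.fst P'.hom i), pullback.condition, Category.assoc, ← Category.assoc b.left]
      exact congrArg (· ≫ i ≫ f) (MorphismProperty.Over.w b)
    refine ⟨U, castPt (Category.assoc η i f) z₂, x, O, a ≫ m₁, bcLift (i ≫ f) c hc, vO, ?_, ?_, ?_⟩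
    · rw [Functor.map_comp_apply, haO]; exact hm₁
    · refine bcLift_pt (i ≫ f) c hc vO _ ?_
      have hb := pt_fst_of_map i (U := P') (n := b) (z := vP) hbO
      show _ = (show Spec (CommRingCat.of Ω) ⟶ U.left from z₂.left)
      rw [← pt_fst_of_map f hnP, ← hb]
      simp only [c, Category.assoc]
    · have e1 := congrArg (r1 j k ((EtCoh.pull e).obj F) q a) he₁
      rw [r1_rlam] at e1
      have e2 := congrArg (sig e F q (((EtCoh.bc j).obj O).hom ≫ k)
        (((EtCoh.bc j).obj O).hom ≫ k ≫ e) (Category.assoc _ _ _)) e1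
      have e3 : r1 j (k ≫ e) F q (a ≫ m₁) y =
          rT F q (lamTo i h j k w' P (a ≫ n₁)) (show _ ≫ ((EtCoh.bc h).obj P).hom ≫ e = _ by
            rw [← Category.assoc, lamTo_hom, Category.assoc]) p := by
        refine Eq.trans ?_ (e2.trans (sig_rT e F q _ _ rfl (Category.assoc _ _ _) _
          (lamTo_hom i h j k w' _ _) p₀))
        refine Eq.trans ?_ (sig_rT e F q _ _ (Category.assoc _ _ _) (Category.assoc _ _ _) _
          (bc_map_comp_hom j k a) _).symm
        refine Eq.trans ?_ (congrArg _ (sig_rT e F q _ _ (Category.assoc _ _ _) (Category.assoc _ _ _) _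
          (bc_map_comp_hom j k m₁) y₀)).symm
        refine Eq.trans ?_ (congrArg (fun t => rT F q _ _ (rT F q _ _ t))
          (sigma_inv_hom e F q _ _ (Category.assoc _ _ _) y)).symm
        refine (rT_comp F q _ _ _ _ _ ?_ y).symm
        rw [Functor.map_comp]
        rfl
      refine e3.trans ?_
      let L := lamTo i h j k w' P' b
      have hL : lamTo i h j k w' P (a ≫ n₁) = L ≫ ((EtCoh.bc h).map mP).left := by
        rw [hab']
        refine to_bc_ext h ?_ ?_
        · rw [lamTo_fst, Category.assoc, show ((EtCoh.bc h).map mP).left ≫ pullback.fst P.hom h =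
            pullback.fst P'.hom h ≫ mP.left from pullback.lift_fst _ _ _]
          refine Eq.trans ?_ (Category.assoc _ _ _)
          refine Eq.trans ?_ (congrArg (· ≫ mP.left) (lamTo_fst i h j k w' P' b)).symm
          simp only [Category.assoc]
          refine congrArg (_ ≫ ·) ?_
          refine (Category.assoc _ _ _).trans ?_
          exact congrArg (b.left ≫ ·) (pullback.lift_fst _ _ _)
        · refine (lamTo_hom i h j k w' P _).trans ?_
          refine Eq.trans ?_ (Category.assoc _ _ _).symm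
          exact ((congrArg (L ≫ ·) (MorphismProperty.Over.w ((EtCoh.bc h).map mP))).trans
            (lamTo_hom i h j k w' P' b)).symm
      have hL' : L ≫ ((EtCoh.bc h).obj P').hom ≫ e = ((EtCoh.bc j).obj O).hom ≫ k ≫ e := by
        rw [← Category.assoc, lamTo_hom, Category.assoc]
      refine (rT_comp F q _ (bc_map_comp_hom h e mP) L hL' _ hL.symm p).symm.trans ?_
      refine (congrArg (rT F q L hL') heP).trans ?_
      refine rT_comp F q _ _ _ _ _ (to_bc_ext g ?_ ?_) x
      · rw [Category.assoc, lamTo_fst, lamTo_fst, bcLift_fst, ← Category.assoc, lamTo_fst]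
        simp only [c, Category.assoc]
      · rw [Category.assoc, lamTo_hom, lamTo_hom, hL']

end Groth.Agent.H1DFun
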