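import Groth.Agent.H1DFun.ClsGrp
import Groth.Agent.H1DFun.BCPaste

/-!
# Connecting maps and base change on classes
-/

set_option autoImplicit false
set_option backward.isDefEq.respectTransparency false
set_option backward.isDefEq.respectTransparency.types false

universe u

open CategoryTheory CategoryTheory.Limits AlgebraicGeometry Opposite Abelian
open Groth.Agent.H18Et Groth.Agent.H1Lim

namespace Groth.Agent.H1DFun

attribute [local instance] Groth.Agent.H18Et.pull_preservesFiniteLimits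

variable {X S Y T : Scheme.{u}} (f : X ⟶ S) (g : T ⟶ S) (h : Y ⟶ X) (e : Y ⟶ T) (w : e ≫ g = h ≫ f)
  {Ω : Type u} [Field Ω] [IsSepClosed Ω] {η : Spec (CommRingCat.of Ω) ⟶ X}

theorem exists_lift_nbhd {U V : S.Etale} {z : (Scheme.pointSmallEtale (η ≫ f)).fiber.obj U} (m : V ⟶ U)
    (y : (Scheme.pointSmallEtale (η ≫ f)).fiber.obj V) (hm : (Scheme.pointSmallEtale (η ≫ f)).fiber.map m y = z)
    {Q : X.Etale} (n : Q ⟶ (EtCoh.bc f).obj U) (v : (Scheme.pointSmallEtale η).fiber.obj Q)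
    (hn : (Scheme.pointSmallEtale η).fiber.map n v = (fiberCompIso f η).inv.app U z) :
    ∃ (Q' : X.Etale) (a : Q' ⟶ Q) (n' : Q' ⟶ (EtCoh.bc f).obj V) (v' : (Scheme.pointSmallEtale η).fiber.obj Q'),
      (Scheme.pointSmallEtale η).fiber.map a v' = v ∧
      (Scheme.pointSmallEtale η).fiber.map n' v' = (fiberCompIso f η).inv.app V y ∧
      n' ≫ (EtCoh.bc f).map m = a ≫ n := by
  obtain ⟨O, a, b, v', ha, hb, hab⟩ := exists_cospan n ((EtCoh.bc f).map m) v _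
    (hn.trans (bcMap_pt f m z y hm).symm)
  exact ⟨O, a, b, v', ha, hb, hab.symm⟩

theorem exists_eq_nbhd {A : Scheme.{u}} {η : Spec (CommRingCat.of Ω) ⟶ A} {P R : A.Etale} (a b : P ⟶ R)
    (p : (Scheme.pointSmallEtale η).fiber.obj P)
    (h : (Scheme.pointSmallEtale η).fiber.map a p = (Scheme.pointSmallEtale η).fiber.map b p) :
    ∃ (O : A.Etale) (k : O ⟶ P) (v : (Scheme.pointSmallEtale η).fiber.obj O),
      (Scheme.pointSmallEtale η).fiber.map k v = p ∧ k ≫ a = k ≫ b := by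
  let o : (Scheme.pointSmallEtale η).fiber.Elements := Functor.elementsMk _ P p
  let o' : (Scheme.pointSmallEtale η).fiber.Elements :=
    Functor.elementsMk _ R ((Scheme.pointSmallEtale η).fiber.map b p)
  obtain ⟨o₁, k, hk⟩ := IsCofilteredOrEmpty.cone_maps (CategoryOfElements.homMk o o' a h)
    (CategoryOfElements.homMk o o' b rfl)
  exact ⟨o₁.1, k.1, o₁.2, k.2, congrArg Subtype.val hk⟩

/-- A neighbourhood below a class. -/
abbrev Below (F : EtCoh.Ab T) (q : ℕ) (U : S.Etale) (z : (Scheme.pointSmallEtale (η ≫ f)).fiber.obj U)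
    (x : C0 g F q U) : Prop :=
  ∃ (V : S.Etale) (m : V ⟶ U) (y : (Scheme.pointSmallEtale (η ≫ f)).fiber.obj V),
    (Scheme.pointSmallEtale (η ≫ f)).fiber.map m y = z ∧ c0 g F q m x = 0

/-- A class upstairs coming from below. -/
abbrev FromBelow (η : Spec (CommRingCat.of Ω) ⟶ X) (F : EtCoh.Ab T) (q : ℕ) {Q : X.Etale}
    (v : (Scheme.pointSmallEtale η).fiber.obj Q) (s : C1 h e F q Q) : Prop :=
  ∃ (U : S.Etale) (z : (Scheme.pointSmallEtale (η ≫ f)).fiber.obj U) (x : C0 g F q U) (Q' : X.Etale)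
    (m : Q' ⟶ Q) (n : Q' ⟶ (EtCoh.bc f).obj U) (v' : (Scheme.pointSmallEtale η).fiber.obj Q'),
    (Scheme.pointSmallEtale η).fiber.map m v' = v ∧
    (Scheme.pointSmallEtale η).fiber.map n v' = (fiberCompIso f η).inv.app U z ∧
    c1 h e F q m s = cl g h e F q f w U n x

/-- Injectivity on classes at a point. -/
def CInj (η : Spec (CommRingCat.of Ω) ⟶ X) (F : EtCoh.Ab T) (q : ℕ) : Prop :=
  ∀ (U : S.Etale) (z : (Scheme.pointSmallEtale (η ≫ f)).fiber.obj U) (x : C0 g F q U) (Q : X.Etale)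
    (n : Q ⟶ (EtCoh.bc f).obj U) (v : (Scheme.pointSmallEtale η).fiber.obj Q),
    (Scheme.pointSmallEtale η).fiber.map n v = (fiberCompIso f η).inv.app U z →
    cl g h e F q f w U n x = 0 → Below f g F q U z x

/-- Surjectivity on classes at a point. -/
def CSurj (η : Spec (CommRingCat.of Ω) ⟶ X) (F : EtCoh.Ab T) (q : ℕ) : Prop :=
  ∀ (Q : X.Etale) (v : (Scheme.pointSmallEtale η).fiber.obj Q) (s : C1 h e F q Q), FromBelow f g h e w η F q v s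

theorem cInj_of_bcBij {F : EtCoh.Ab T} {q : ℕ} (H : BCBij f g h e w F q η) : CInj f g h e w η F q :=
  H.inj

theorem cSurj_of_bcBij {F : EtCoh.Ab T} {q : ℕ} (H : BCBij f g h e w F q η) : CSurj f g h e w η F q :=
  H.surj

theorem below_of_isZero {F : EtCoh.Ab T} {q : ℕ} (h₀ : IsZero ((EtCoh.Rpush g q).obj F)) (U : S.Etale)
    (z : (Scheme.pointSmallEtale (η ≫ f)).fiber.obj U) (x : C0 g F q U) : Below f g F q U z x := by
  have hs := (H18Et.isZero_iff_stalk ((EtCoh.Rpush g q).obj F)).1 h₀ Ω (η ≫ f)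
  exact exists_r0_eq_zero g F q (η ≫ f) U z x (@Subsingleton.elim _ (AddCommGrpCat.subsingleton_of_isZero hs) _ _)

variable {Sh : ShortComplex (EtCoh.Ab T)} (hSh : Sh.ShortExact) {q : ℕ}

include hSh in
/-- Injectivity in the next degree. -/
theorem cInj_succ
    (hB : ∀ (U : S.Etale) (z : (Scheme.pointSmallEtale (η ≫ f)).fiber.obj U) (x : C0 g Sh.X₂ (q + 1) U),
      Below f g Sh.X₂ (q + 1) U z x)
    (hG : CSurj f g h e w η Sh.X₂ q) (hQ : CInj f g h e w η Sh.X₃ q) :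
    CInj f g h e w η Sh.X₁ (q + 1) := by
  intro U z x Q n v hn hx
  obtain ⟨V, m, y, hm, h0⟩ := hB U z (cM Sh.f (q + 1) _ x)
  obtain ⟨t, ht⟩ := exists_cD hSh _ (c0 g Sh.X₁ (q + 1) m x) ((cR_cM Sh.f _ _ x).symm.trans h0)
  obtain ⟨Q₁, a, n₁, v₁, ha, hn₁, hc⟩ := exists_lift_nbhd f m y hm n v hn
  have h1 : cD hSh _ (cl g h e Sh.X₃ q f w V n₁ t) = 0 := by
    refine (cR_cD hSh _ (lamTo f g h e w V n₁) (lamTo_hom f g h e w V n₁) t).symm.trans ?_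
    refine (congrArg (cl g h e Sh.X₁ (q + 1) f w V n₁) ht).trans ?_
    rw [cl_c0, cl_congr g h e Sh.X₁ (q + 1) f w hc x, ← c1_cl, hx, map_zero]
  obtain ⟨s, hs⟩ := exists_of_cD_eq_zero hSh _ _ h1
  obtain ⟨U', z', x', Q₂, b, n', v₂, hb, hn', he⟩ := hG Q₁ v₁ s
  obtain ⟨o, p, p', -⟩ := IsCofilteredOrEmpty.cone_objs
    (Functor.elementsMk (Scheme.pointSmallEtale (η ≫ f)).fiber V y)
    (Functor.elementsMk (Scheme.pointSmallEtale (η ≫ f)).fiber U' z')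
  obtain ⟨Q₃, c, n₃, v₃, hcv, hn₃, hcc⟩ := exists_lift_nbhd f p.1 o.2 p.2 (b ≫ n₁) v₂
    (by rw [Functor.map_comp_apply, hb, hn₁])
  obtain ⟨Q₄, d, v₄, hdv, hdd⟩ := exists_eq_nbhd (n₃ ≫ (EtCoh.bc f).map p'.1) (c ≫ n') v₃ (by
    rw [Functor.map_comp_apply, Functor.map_comp_apply, hn₃, hcv, hn']
    exact bcMap_pt f p'.1 z' o.2 p'.2)
  have key : cl g h e Sh.X₃ q f w o.1 (d ≫ n₃)
      (c0 g Sh.X₃ q p.1 t - cM Sh.g q _ (c0 g Sh.X₂ q p'.1 x')) = 0 := by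
    rw [map_sub, sub_eq_zero, cl_c0, cl_congr g h e Sh.X₃ q f w (show (d ≫ n₃) ≫ (EtCoh.bc f).map p.1 =
      (d ≫ c ≫ b) ≫ n₁ by simp only [Category.assoc, hcc]) t, ← c1_cl]
    refine ((congrArg (c1 h e Sh.X₃ q (d ≫ c ≫ b)) hs.symm).trans (cR_cM Sh.g _ _ s)).trans ?_
    refine Eq.trans (congrArg _ ?_) (cR_cM Sh.g _ _ _).symm
    show c1 h e Sh.X₂ q (d ≫ c ≫ b) s = cl g h e Sh.X₂ q f w o.1 (d ≫ n₃) (c0 g Sh.X₂ q p'.1 x')
    rw [cl_c0, cl_congr g h e Sh.X₂ q f w (show (d ≫ n₃) ≫ (EtCoh.bc f).map p'.1 = (d ≫ c) ≫ n' by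
      simp only [Category.assoc, hdd]) x', ← c1_cl, ← he]
    exact (c1_c1 h e Sh.X₂ q b (d ≫ c) _ (Category.assoc _ _ _) s).symm
  obtain ⟨V', m', y', hy', h0'⟩ := hQ o.1 o.2 _ Q₄ (d ≫ n₃) v₄
    (by rw [Functor.map_comp_apply, hdv, hn₃]) key
  refine ⟨V', m' ≫ p.1 ≫ m, y', ?_, ?_⟩
  · rw [Functor.map_comp_apply, Functor.map_comp_apply, hy', p.2, hm]
  · rw [map_sub, sub_eq_zero] at h0'
    rw [← c0_c0 g Sh.X₁ (q + 1) (p.1 ≫ m) m' _ rfl, ← c0_c0 g Sh.X₁ (q + 1) m p.1 _ rfl, ← ht]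
    refine (congrArg (c0 g Sh.X₁ (q + 1) m') (cR_cD hSh _ _ _ t)).trans ((cR_cD hSh _ _ _ _).trans ?_)
    exact (congrArg (cD hSh _) (h0'.trans (cR_cM Sh.g _ _ _))).trans (cD_cM hSh _ _)

include hSh in
/-- Classes coming from below after a coefficient injection come from below. -/
theorem fromBelow_succ (hQ' : CInj f g h e w η Sh.X₃ (q + 1)) (hQ : CSurj f g h e w η Sh.X₃ q)
    (U : S.Etale) (z : (Scheme.pointSmallEtale (η ≫ f)).fiber.obj U) (x : C0 g Sh.X₂ (q + 1) U) (Q : X.Etale)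
    (n : Q ⟶ (EtCoh.bc f).obj U) (v : (Scheme.pointSmallEtale η).fiber.obj Q)
    (hn : (Scheme.pointSmallEtale η).fiber.map n v = (fiberCompIso f η).inv.app U z)
    (s₀ : C1 h e Sh.X₁ (q + 1) Q) (hs₀ : cM Sh.f (q + 1) _ s₀ = cl g h e Sh.X₂ (q + 1) f w U n x) :
    FromBelow f g h e w η Sh.X₁ (q + 1) v s₀ := by
  obtain ⟨V, m, y, hm, h0⟩ := hQ' U z (cM Sh.g (q + 1) _ x) Q n v hn (by
    refine (cR_cM Sh.g _ _ x).trans ?_
    exact (congrArg (cM Sh.g (q + 1) _) hs₀.symm).trans (cM_cM _ _ Sh.zero _))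
  obtain ⟨x₀, hx₀⟩ := exists_of_cM_eq_zero hSh _ (c0 g Sh.X₂ (q + 1) m x) ((cR_cM Sh.g _ _ x).symm.trans h0)
  obtain ⟨Q₁, a, n₁, v₁, ha, hn₁, hc⟩ := exists_lift_nbhd f m y hm n v hn
  obtain ⟨t, ht⟩ := exists_cD hSh _ (c1 h e Sh.X₁ (q + 1) a s₀ - cl g h e Sh.X₁ (q + 1) f w V n₁ x₀) (by
    rw [map_sub, sub_eq_zero]
    refine (cR_cM Sh.f _ _ s₀).symm.trans ?_
    refine (congrArg (c1 h e Sh.X₂ (q + 1) a) hs₀).trans ?_
    rw [c1_cl, cl_congr g h e Sh.X₂ (q + 1) f w hc.symm x, ← cl_c0, ← hx₀]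
    exact cR_cM Sh.f _ _ x₀)
  obtain ⟨U', z', x', Q₂, b, n', v₂, hb, hn', he⟩ := hQ Q₁ v₁ t
  obtain ⟨o, p, p', -⟩ := IsCofilteredOrEmpty.cone_objs
    (Functor.elementsMk (Scheme.pointSmallEtale (η ≫ f)).fiber V y)
    (Functor.elementsMk (Scheme.pointSmallEtale (η ≫ f)).fiber U' z')
  obtain ⟨Q₃, c, n₃, v₃, hcv, hn₃, hcc⟩ := exists_lift_nbhd f p.1 o.2 p.2 (b ≫ n₁) v₂
    (by rw [Functor.map_comp_apply, hb, hn₁])
  obtain ⟨Q₄, d, v₄, hdv, hdd⟩ := exists_eq_nbhd (n₃ ≫ (EtCoh.bc f).map p'.1) (c ≫ n') v₃ (by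
    rw [Functor.map_comp_apply, Functor.map_comp_apply, hn₃, hcv, hn']
    exact bcMap_pt f p'.1 z' o.2 p'.2)
  refine ⟨o.1, o.2, c0 g Sh.X₁ (q + 1) p.1 x₀ + cD hSh _ (c0 g Sh.X₃ q p'.1 x'),
    Q₄, d ≫ c ≫ b ≫ a, d ≫ n₃, v₄,
    by rw [Functor.map_comp_apply, Functor.map_comp_apply, Functor.map_comp_apply, hdv, hcv, hb, ha],
    by rw [Functor.map_comp_apply, hdv, hn₃], ?_⟩
  rw [map_add, ← c1_c1 h e Sh.X₁ (q + 1) a (d ≫ c ≫ b) _ (by simp only [Category.assoc]) s₀,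
    eq_add_of_sub_eq' ht.symm, map_add, c1_cl, cl_c0,
    cl_congr g h e Sh.X₁ (q + 1) f w (show (d ≫ n₃) ≫ (EtCoh.bc f).map p.1 = (d ≫ c ≫ b) ≫ n₁ by
      simp only [Category.assoc, hcc]) x₀]
  refine congrArg₂ (· + ·) rfl ((cR_cD hSh _ _ _ t).trans (Eq.trans ?_ (cR_cD hSh _ _ _ _).symm))
  refine congrArg (cD hSh _) ?_
  show c1 h e Sh.X₃ q (d ≫ c ≫ b) t = cl g h e Sh.X₃ q f w o.1 (d ≫ n₃) (c0 g Sh.X₃ q p'.1 x')
  rw [cl_c0, cl_congr g h e Sh.X₃ q f w (show (d ≫ n₃) ≫ (EtCoh.bc f).map p'.1 = (d ≫ c) ≫ n' by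
    simp only [Category.assoc, hdd]) x', ← c1_cl, ← he]
  exact (c1_c1 h e Sh.X₃ q b (d ≫ c) _ (Category.assoc _ _ _) t).symm

end Groth.Agent.H1DFun
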