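import Groth.Agent.H1DFun.Efface

/-!
# Injectivity of base change in the next degree, and its cokernel
-/

set_option autoImplicit false
set_option backward.isDefEq.respectTransparency false
set_option backward.isDefEq.respectTransparency.types false

universe u

open CategoryTheory CategoryTheory.Limits AlgebraicGeometry Opposite Abelian
open Groth.Agent.H18Et Groth.Agent.H1Lim

namespace Groth.Agent.H1DFun

attribute [local instance] Groth.Agent.H18Et.pull_preservesFiniteLimits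

variable {X S Y T : Scheme.{u}} (f : X ⟶ S) (g : T ⟶ S) (h : Y ⟶ X) (e : Y ⟶ T) (w : e ≫ g = h ≫ f)

section Stalk

variable {Ω : Type u} [Field Ω] [IsSepClosed Ω] (η : Spec (CommRingCat.of Ω) ⟶ X)

theorem exists_germ_below {F : EtCoh.Ab T} {q : ℕ}
    (y : (EtCoh.stalk η).obj ((EtCoh.pull f).obj ((EtCoh.Rpush g q).obj F))) :
    ∃ (U : S.Etale) (z : (Scheme.pointSmallEtale (η ≫ f)).fiber.obj U) (x : H0 g F q U),
      (stalkPullIso f η).inv.app _ (H18Et.germ (η ≫ f) ((EtCoh.Rpush g q).obj F) U z (toSect g F q U x)) = y := by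
  obtain ⟨y', rfl⟩ := (ConcreteCategory.bijective_of_isIso ((stalkPullIso f η).inv.app
    ((EtCoh.Rpush g q).obj F))).2 y
  obtain ⟨U, z, x, rfl⟩ := exists_toSect_germ g F q (η ≫ f) y'
  exact ⟨U, z, x, rfl⟩

theorem stalk_bcQ_injective_of_cInj {F : EtCoh.Ab T} {q : ℕ} (H : CInj f g h e w η F q) :
    Function.Injective ((EtCoh.stalk η).map (EtBC.bcQ g f h e w q F)) := by
  refine (injective_iff_map_eq_zero _).2 fun y' hy => ?_
  obtain ⟨U, z, x, rfl⟩ := exists_germ_below f g η y'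
  rw [stalk_bcQ_germ f g h e w F q η U z x (𝟙 _) _ (Functor.map_id_apply _ _ _)] at hy
  obtain ⟨Q', n, v, hv, h0⟩ := exists_r1_eq_zero h e F q η _ _ _ hy
  rw [r1_rlam] at h0
  obtain ⟨V, m, w', hw', hm⟩ := H U z x Q' (n ≫ 𝟙 _) v (by rw [Category.comp_id]; exact hv) h0
  have h1 : r0 g F q m x = 0 := hm
  refine (congrArg _ ?_).trans (map_zero _)
  rw [← hw']
  refine ((Scheme.pointSmallEtale (η ≫ f)).toPresheafFiber_w_apply m w'
    ((EtCoh.Rpush g q).obj F).obj _).symm.trans ?_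
  rw [toSect_map, h1, map_zero, map_zero]

theorem stalk_bcQ_range_of_fromBelow {F G : EtCoh.Ab T} (ι : F ⟶ G) {q : ℕ}
    (H : ∀ (U : S.Etale) (z : (Scheme.pointSmallEtale (η ≫ f)).fiber.obj U) (x : C0 g G q U) (Q : X.Etale)
      (n : Q ⟶ (EtCoh.bc f).obj U) (v : (Scheme.pointSmallEtale η).fiber.obj Q),
      (Scheme.pointSmallEtale η).fiber.map n v = (fiberCompIso f η).inv.app U z →
      ∀ (s₀ : C1 h e F q Q), cM ι q _ s₀ = cl g h e G q f w U n x → FromBelow f g h e w η F q v s₀)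
    (y : (EtCoh.stalk η).obj ((EtCoh.Rpush h q).obj ((EtCoh.pull e).obj F)))
    (hy : ∃ y', (EtCoh.stalk η).map (EtBC.bcQ g f h e w q G) y' =
      (EtCoh.stalk η).map ((EtCoh.Rpush h q).map ((EtCoh.pull e).map ι)) y) :
    ∃ x, (EtCoh.stalk η).map (EtBC.bcQ g f h e w q F) x = y := by
  obtain ⟨y', hy'⟩ := hy
  obtain ⟨Q, v, s, rfl⟩ := exists_germ1 h e F q η y
  obtain ⟨U, z, x, rfl⟩ := exists_germ_below f g η y'
  let o : (Scheme.pointSmallEtale η).fiber.Elements := Functor.elementsMk _ Q v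
  let o' : (Scheme.pointSmallEtale η).fiber.Elements :=
    Functor.elementsMk _ ((EtCoh.bc f).obj U) ((fiberCompIso f η).inv.app U z)
  obtain ⟨p, a, b, -⟩ := IsCofilteredOrEmpty.cone_objs o o'
  have hnat : (EtCoh.stalk η).map ((EtCoh.Rpush h q).map ((EtCoh.pull e).map ι)) (germ1 h e F q η p.1 p.2
      (r1 h e F q a.1 s)) = germ1 h e G q η p.1 p.2 (m1 h e ι q p.1 (r1 h e F q a.1 s)) :=
    (H18Et.germ_naturality η ((EtCoh.Rpush h q).map ((EtCoh.pull e).map ι)) p.1 p.2 _).trans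
      (congrArg (fun t => H18Et.germ η ((EtCoh.Rpush h q).obj ((EtCoh.pull e).obj G)) p.1 p.2 t)
        (toSect'_natural h e ι q p.1 (r1 h e F q a.1 s)))
  rw [stalk_bcQ_germ f g h e w G q η U z x b.1 p.2 b.2, ← germ1_map h e F q η a.1 p.2 v a.2 s, hnat] at hy'
  obtain ⟨Q₂, k, v₂, hv₂, h0⟩ := exists_r1_eq_zero h e G q η p.1 p.2
    (m1 h e ι q p.1 (r1 h e F q a.1 s) - rlam f g h e w G q U b.1 x) (by rw [map_sub, sub_eq_zero]; exact hy'.symm)
  rw [map_sub, sub_eq_zero] at h0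
  obtain ⟨U₁, z₁, x₁, Q₃, k', n', v₃, hk', hn', he⟩ := H U z x Q₂ (k ≫ b.1) v₂
    (by rw [Functor.map_comp_apply, hv₂]; exact b.2) (c1 h e F q k (c1 h e F q a.1 s))
    (((cR_cM ι _ _ _).symm.trans h0).trans (c1_cl g h e G q f w b.1 k x))
  refine ⟨(stalkPullIso f η).inv.app _ (H18Et.germ (η ≫ f) ((EtCoh.Rpush g q).obj F) U₁ z₁
    (toSect g F q U₁ x₁)), ?_⟩
  refine (stalk_bcQ_germ f g h e w F q η U₁ z₁ x₁ n' v₃ hn').trans ?_
  refine (congrArg (germ1 h e F q η Q₃ v₃) he.symm).trans ?_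
  refine Eq.trans (germ1_map h e F q η k' v₃ v₂ hk' _) ?_
  exact (germ1_map h e F q η k v₂ p.2 hv₂ _).trans (germ1_map h e F q η a.1 p.2 v a.2 s)

end Stalk

variable {q : ℕ} {n : ℕ}

theorem killedBy_cokernel {F G : EtCoh.Ab T} (ι : F ⟶ G) (hG : EtCoh.KilledBy n G) :
    EtCoh.KilledBy n (cokernel ι) := fun U s => by
  refine H18Et.sect_ext _ _ fun Ω _ _ ξ z => ?_
  rw [map_zero, map_nsmul]
  obtain ⟨y, hy⟩ := (AddCommGrpCat.epi_iff_surjective ((EtCoh.stalk ξ).map (cokernel.π ι))).1 inferInstance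
    (H18Et.germ ξ (cokernel ι) U z s)
  rw [← hy, ← map_nsmul]
  obtain ⟨V, v, t, rfl⟩ := H18Et.germ_surjective ξ G y
  rw [← map_nsmul, hG V t, map_zero, map_zero]

/-- Injectivity of base change in the next degree. -/
theorem mono_bcQ_succ
    (hBC : ∀ G : EtCoh.Ab T, EtCoh.KilledBy n G → IsIso (EtBC.bcQ g f h e w q G))
    (F : EtCoh.Ab T) (hF : EtCoh.KilledBy n F) : Mono (EtBC.bcQ g f h e w (q + 1) F) := by
  obtain ⟨G, ι, hι, hG, hz⟩ := exists_efface hF
  have hSh : (ShortComplex.mk ι (cokernel.π ι) (cokernel.condition ι)).ShortExact :=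
    { exact := ShortComplex.exact_of_g_is_cokernel _ (cokernelIsCokernel _) }
  refine (H18Et.mono_iff_stalk _).2 fun Ω _ _ η => ?_
  rw [AddCommGrpCat.mono_iff_injective]
  refine stalk_bcQ_injective_of_cInj f g h e w η (cInj_succ f g h e w hSh
    (fun U z x => below_of_isZero f g (hz S g q) U z x) ?_ ?_)
  · exact cSurj_of_bcBij f g h e w ((isIso_bcQ_iff f g h e w G q).1 (hBC G hG) Ω η)
  · exact cInj_of_bcBij f g h e w ((isIso_bcQ_iff f g h e w _ q).1 (hBC _ (killedBy_cokernel ι hG)) Ω η)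

theorem cInj_of_mono {F : EtCoh.Ab T} [Mono (EtBC.bcQ g f h e w q F)] {Ω : Type u} [Field Ω] [IsSepClosed Ω]
    (η : Spec (CommRingCat.of Ω) ⟶ X) : CInj f g h e w η F q := by
  intro U z x Q m v hn h0
  have hi := (AddCommGrpCat.mono_iff_injective _).1
    ((H18Et.mono_iff_stalk (EtBC.bcQ g f h e w q F)).1 inferInstance Ω η)
  have b3 : Function.Bijective ((stalkPullIso f η).inv.app ((EtCoh.Rpush g q).obj F)) :=
    ConcreteCategory.bijective_of_isIso _
  have h1 := stalk_bcQ_germ f g h e w F q η U z x m v hn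
  rw [show rlam f g h e w F q U m x = 0 from h0, map_zero] at h1
  exact exists_r0_eq_zero g F q (η ≫ f) U z x (b3.1 ((hi (h1.trans (map_zero _).symm)).trans (map_zero _).symm))

/-- Cokernels of base change in the next degree grow along injections. -/
theorem exists_mono_cokernel_bcQ_succ
    (hBC : ∀ G : EtCoh.Ab T, EtCoh.KilledBy n G → IsIso (EtBC.bcQ g f h e w q G))
    (F G : EtCoh.Ab T) (ι : F ⟶ G) [Mono ι] (hG : EtCoh.KilledBy n G) :
    ∃ φ : cokernel (EtBC.bcQ g f h e w (q + 1) F) ⟶ cokernel (EtBC.bcQ g f h e w (q + 1) G), Mono φ ∧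
      cokernel.π (EtBC.bcQ g f h e w (q + 1) F) ≫ φ =
        (EtCoh.Rpush h (q + 1)).map ((EtCoh.pull e).map ι) ≫ cokernel.π (EtBC.bcQ g f h e w (q + 1) G) := by
  refine ⟨cokernel.map _ _ _ _ (bcQ_natural f g h e w ι (q + 1)), ?_, cokernel.π_desc _ _ _⟩
  refine (H18Et.mono_iff_stalk _).2 fun Ω _ _ η => ?_
  rw [AddCommGrpCat.mono_iff_injective, injective_iff_map_eq_zero]
  intro a ha
  obtain ⟨y, rfl⟩ := (AddCommGrpCat.epi_iff_surjective
    ((EtCoh.stalk η).map (cokernel.π (EtBC.bcQ g f h e w (q + 1) F)))).1 inferInstance a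
  rw [← ConcreteCategory.comp_apply, ← Functor.map_comp, cokernel.π_desc, Functor.map_comp,
    ConcreteCategory.comp_apply] at ha
  have hex : ∀ H : EtCoh.Ab T, (ShortComplex.mk ((EtCoh.stalk η).map (EtBC.bcQ g f h e w (q + 1) H))
      ((EtCoh.stalk η).map (cokernel.π (EtBC.bcQ g f h e w (q + 1) H)))
      (by rw [← Functor.map_comp, cokernel.condition, Functor.map_zero])).Exact := fun H =>
    (ShortComplex.exact_of_g_is_cokernel (ShortComplex.mk _ _ (cokernel.condition (EtBC.bcQ g f h e w (q + 1) H)))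
      (cokernelIsCokernel _)).map (EtCoh.stalk η)
  have hSh : (ShortComplex.mk ι (cokernel.π ι) (cokernel.condition ι)).ShortExact :=
    { exact := ShortComplex.exact_of_g_is_cokernel _ (cokernelIsCokernel _) }
  have hQ := killedBy_cokernel ι hG
  haveI := mono_bcQ_succ f g h e w hBC (cokernel ι) hQ
  obtain ⟨x, hx⟩ := stalk_bcQ_range_of_fromBelow f g h e w η ι
    (fun U z x Q m v hn s₀ hs₀ => fromBelow_succ f g h e w hSh (cInj_of_mono f g h e w η)
      (cSurj_of_bcBij f g h e w ((isIso_bcQ_iff f g h e w _ q).1 (hBC _ hQ) Ω η)) U z x Q m v hn s₀ hs₀) y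
    ((ShortComplex.ab_exact_iff _).1 (hex G) _ ha)
  rw [← hx, ← ConcreteCategory.comp_apply, ← Functor.map_comp, cokernel.condition, Functor.map_zero]
  rfl

end Groth.Agent.H1DFun
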