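import Groth.Agent.H1Lim.Descent
import Mathlib.AlgebraicGeometry.AffineTransitionLimit

/-!
# Stages of etale schemes over a limit
-/

set_option autoImplicit false
set_option backward.isDefEq.respectTransparency false
set_option backward.isDefEq.respectTransparency.types false

universe u

open CategoryTheory CategoryTheory.Limits AlgebraicGeometry Opposite

namespace Groth.Agent.H1DFun

/-- A limit of fibre products with a fixed scheme is the fibre product with the limit. -/
theorem isLimit_of_pullbacks {I : Type u} [SmallCategory I] [IsCofiltered I] {D T : I ⥤ Scheme.{u}}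
    (ct : Cone T) (hct : IsLimit ct) (pT : D ⟶ T) (c : Cone D) (r : c.pt ⟶ ct.pt)
    (hr : ∀ k, c.π.app k ≫ pT.app k = r ≫ ct.π.app k) {P B : Scheme.{u}} (π₀ : P ⟶ B) (pP : ∀ k, D.obj k ⟶ P)
    (hpP : ∀ {k l : I} (m : l ⟶ k), D.map m ≫ pP k = pP l) (τ : ∀ k, T.obj k ⟶ B)
    (hk : ∀ k, IsPullback (pP k) (pT.app k) π₀ (τ k)) (p : c.pt ⟶ P) (hp : ∀ k, c.π.app k ≫ pP k = p)
    (τ' : ct.pt ⟶ B) (hτ : ∀ k, ct.π.app k ≫ τ k = τ') (hR : IsPullback p r π₀ τ') :
    Nonempty (IsLimit c) := by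
  obtain ⟨k₀⟩ := (IsCofiltered.nonempty : Nonempty I)
  have ind : ∀ (s : Cone D) (k : I), s.π.app k ≫ pP k = s.π.app k₀ ≫ pP k₀ := fun s k => by
    let l := IsCofiltered.min k k₀
    have h : ∀ (j : I) (m : l ⟶ j), s.π.app j ≫ pP j = s.π.app l ≫ pP l := fun j m => by
      rw [← s.w m, Category.assoc, hpP m]
    exact (h k (IsCofiltered.minToLeft k k₀)).trans (h k₀ (IsCofiltered.minToRight k k₀)).symm
  have hw : ∀ (s : Cone D), (s.π.app k₀ ≫ pP k₀) ≫ π₀ =
      hct.lift ((Cone.postcompose pT).obj s) ≫ τ' := fun s => by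
    rw [Category.assoc, (hk k₀).w, ← hτ k₀, ← Category.assoc, ← Category.assoc, hct.fac]
    rfl
  refine ⟨{ lift := fun s => hR.lift (s.π.app k₀ ≫ pP k₀) (hct.lift ((Cone.postcompose pT).obj s)) (hw s),
            fac := fun s k => ?_, uniq := fun s m hm => ?_ }⟩
  · refine (hk k).hom_ext ?_ ?_
    · rw [Category.assoc, hp k, hR.lift_fst, ind s k]
    · rw [Category.assoc, hr k, hR.lift_snd_assoc, hct.fac]
      rfl
  · refine hR.hom_ext ?_ ?_
    · rw [hR.lift_fst, ← hp k₀, ← Category.assoc, hm]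
    · rw [hR.lift_snd]
      refine hct.hom_ext fun k => ?_
      rw [hct.fac, Category.assoc, ← hr k, ← Category.assoc, hm]
      rfl

variable {ι : Type u} [Preorder ι] {Ss : ιᵒᵖ ⥤ Scheme.{u}} {cS : Cone Ss}

/-- A quasi-compact quasi-separated model at a stage of an etale scheme over the limit. -/
structure Desc (U : cS.pt.Etale) where
  /-- The stage. -/
  i : ι
  /-- The model. -/
  U₁ : (Ss.obj (op i)).Etale
  /-- The projection. -/
  p : U.left ⟶ U₁.left
  isPb : IsPullback p U.hom U₁.hom (cS.π.app (op i))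
  compact : CompactSpace U₁.left
  qsep : QuasiSeparatedSpace U₁.left

theorem map_op_id (Xs : ιᵒᵖ ⥤ Scheme.{u}) (i : ι) (h : i ≤ i) : Xs.map (homOfLE h).op = 𝟙 _ := by
  rw [show (homOfLE h).op = 𝟙 (op i) from Subsingleton.elim _ _, CategoryTheory.Functor.map_id]

theorem map_op_comp (Xs : ιᵒᵖ ⥤ Scheme.{u}) {i k l : ι} (hik : i ≤ k) (hkl : k ≤ l) :
    Xs.map (homOfLE hkl).op ≫ Xs.map (homOfLE hik).op = Xs.map (homOfLE (hik.trans hkl)).op := by
  rw [← Functor.map_comp]; rfl

namespace Desc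

variable {U : cS.pt.Etale} (d : Desc U)

/-- The model at a later stage. -/
noncomputable abbrev obj (k : ι) (h : d.i ≤ k) : (Ss.obj (op k)).Etale :=
  (EtCoh.bc (Ss.map (homOfLE h).op)).obj d.U₁

/-- The projection to the model at a later stage. -/
noncomputable def pr (k : ι) (h : d.i ≤ k) : U.left ⟶ (d.obj k h).left :=
  pullback.lift d.p (U.hom ≫ cS.π.app (op k)) (by rw [Category.assoc, cS.w (homOfLE h).op]; exact d.isPb.w)

theorem pr_fst (k : ι) (h : d.i ≤ k) : d.pr k h ≫ pullback.fst d.U₁.hom (Ss.map (homOfLE h).op) = d.p :=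
  pullback.lift_fst _ _ _

theorem pr_hom (k : ι) (h : d.i ≤ k) : d.pr k h ≫ (d.obj k h).hom = U.hom ≫ cS.π.app (op k) :=
  pullback.lift_snd _ _ _

theorem isPb_pr (k : ι) (h : d.i ≤ k) : IsPullback (d.pr k h) U.hom (d.obj k h).hom (cS.π.app (op k)) := by
  refine IsPullback.of_right ?_ (d.pr_hom k h) (IsPullback.of_hasPullback d.U₁.hom (Ss.map (homOfLE h).op))
  rw [d.pr_fst, cS.w (homOfLE h).op]
  exact d.isPb

/-- The transition between models. -/
noncomputable def tr {k l : ι} (hk : d.i ≤ k) (hkl : k ≤ l) :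
    (d.obj l (hk.trans hkl)).left ⟶ (d.obj k hk).left :=
  pullback.lift (pullback.fst _ _) (pullback.snd _ _ ≫ Ss.map (homOfLE hkl).op) (by
    rw [Category.assoc, map_op_comp]; exact pullback.condition)

theorem tr_fst {k l : ι} (hk : d.i ≤ k) (hkl : k ≤ l) :
    d.tr hk hkl ≫ pullback.fst d.U₁.hom (Ss.map (homOfLE hk).op) =
      pullback.fst d.U₁.hom (Ss.map (homOfLE (hk.trans hkl)).op) := pullback.lift_fst _ _ _

theorem tr_hom {k l : ι} (hk : d.i ≤ k) (hkl : k ≤ l) :
    d.tr hk hkl ≫ (d.obj k hk).hom = (d.obj l (hk.trans hkl)).hom ≫ Ss.map (homOfLE hkl).op :=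
  pullback.lift_snd _ _ _

theorem pr_tr {k l : ι} (hk : d.i ≤ k) (hkl : k ≤ l) : d.pr l (hk.trans hkl) ≫ d.tr hk hkl = d.pr k hk := by
  refine pullback.hom_ext ?_ ?_
  · rw [Category.assoc, d.tr_fst, d.pr_fst, d.pr_fst]
  · show (_ ≫ d.tr hk hkl) ≫ (d.obj k hk).hom = d.pr k hk ≫ (d.obj k hk).hom
    rw [Category.assoc, d.tr_hom, ← Category.assoc, d.pr_hom, d.pr_hom, Category.assoc, cS.w (homOfLE hkl).op]

theorem compactSpace_obj (k : ι) (h : d.i ≤ k) [IsAffineHom (Ss.map (homOfLE h).op)] :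
    CompactSpace (d.obj k h).left :=
  haveI : CompactSpace ((𝟭 Scheme).obj d.U₁.left) := d.compact
  QuasiCompact.compactSpace_of_compactSpace (pullback.fst d.U₁.hom (Ss.map (homOfLE h).op))

theorem quasiSeparatedSpace_obj (k : ι) (h : d.i ≤ k) [IsAffineHom (Ss.map (homOfLE h).op)] :
    QuasiSeparatedSpace (d.obj k h).left :=
  haveI : QuasiSeparatedSpace ((𝟭 Scheme).obj d.U₁.left) := d.qsep
  quasiSeparatedSpace_of_quasiSeparated (pullback.fst d.U₁.hom (Ss.map (homOfLE h).op))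

/-- Move a model to a later stage. -/
noncomputable def move (k : ι) (h : d.i ≤ k) [IsAffineHom (Ss.map (homOfLE h).op)] : Desc U :=
  ⟨k, d.obj k h, d.pr k h, d.isPb_pr k h, d.compactSpace_obj k h, d.quasiSeparatedSpace_obj k h⟩

section Stage

variable (hS : ∀ ⦃a b : ιᵒᵖ⦄ (m : a ⟶ b), IsAffineHom (Ss.map m))
  (Ts : ιᵒᵖ ⥤ Scheme.{u}) (τ : Ts ⟶ Ss)

/-- The base change of the models to another system. -/
noncomputable def sys : Over (op d.i) ⥤ Scheme.{u} where
  obj k := ((EtCoh.bc (τ.app (op k.left.unop))).obj (d.obj k.left.unop k.hom.unop.le)).left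
  map {l k} m := pullback.lift (pullback.fst _ _ ≫ d.tr k.hom.unop.le m.left.unop.le)
    (pullback.snd _ _ ≫ Ts.map (homOfLE m.left.unop.le).op) (by
      rw [Category.assoc, d.tr_hom, ← Category.assoc, pullback.condition, Category.assoc, Category.assoc,
        τ.naturality])
  map_id k := by
    refine pullback.hom_ext ?_ ?_
    · rw [pullback.lift_fst, Category.id_comp]
      refine (congrArg (_ ≫ ·) (?_ : _ = 𝟙 _)).trans (Category.comp_id _)
      refine pullback.hom_ext ?_ ?_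
      · exact (d.tr_fst _ _).trans (Category.id_comp _).symm
      · show d.tr _ _ ≫ (d.obj _ _).hom = 𝟙 _ ≫ (d.obj _ _).hom
        rw [d.tr_hom, map_op_id]
        exact (Category.comp_id _).trans (Category.id_comp _).symm
    · rw [pullback.lift_snd, Category.id_comp, map_op_id, Category.comp_id]
  map_comp {j l k} m m' := by
    refine pullback.hom_ext ?_ ?_
    · rw [pullback.lift_fst, Category.assoc, pullback.lift_fst, ← Category.assoc, pullback.lift_fst, Category.assoc]
      refine congrArg (_ ≫ ·) ?_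
      refine pullback.hom_ext ?_ ?_
      · rw [d.tr_fst, Category.assoc, d.tr_fst, d.tr_fst]
      · show d.tr _ _ ≫ (d.obj _ _).hom = (_ ≫ d.tr _ _) ≫ (d.obj _ _).hom
        rw [Category.assoc, d.tr_hom, d.tr_hom, ← Category.assoc, d.tr_hom, Category.assoc, map_op_comp]
    · rw [pullback.lift_snd, Category.assoc, pullback.lift_snd, ← Category.assoc, pullback.lift_snd,
        Category.assoc, map_op_comp]

theorem sys_map_fst {l k : Over (op d.i)} (m : l ⟶ k) :
    (d.sys Ts τ).map m ≫ pullback.fst (d.obj k.left.unop k.hom.unop.le).hom (τ.app (op k.left.unop)) =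
      pullback.fst (d.obj l.left.unop l.hom.unop.le).hom (τ.app (op l.left.unop)) ≫
        d.tr k.hom.unop.le m.left.unop.le := pullback.lift_fst _ _ _

theorem sys_map_hom {l k : Over (op d.i)} (m : l ⟶ k) :
    (d.sys Ts τ).map m ≫ ((EtCoh.bc (τ.app (op k.left.unop))).obj (d.obj k.left.unop k.hom.unop.le)).hom =
      ((EtCoh.bc (τ.app (op l.left.unop))).obj (d.obj l.left.unop l.hom.unop.le)).hom ≫
        Ts.map (homOfLE m.left.unop.le).op := pullback.lift_snd _ _ _

include hS in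
theorem compactSpace_sys [∀ a, QuasiCompact (τ.app a)] (k : Over (op d.i)) : CompactSpace ((d.sys Ts τ).obj k) :=
  haveI := hS (homOfLE k.hom.unop.le).op
  haveI : CompactSpace ((𝟭 Scheme).obj (d.obj k.left.unop k.hom.unop.le).left) :=
    d.compactSpace_obj k.left.unop k.hom.unop.le
  QuasiCompact.compactSpace_of_compactSpace (pullback.fst (d.obj k.left.unop k.hom.unop.le).hom (τ.app _))

include hS in
theorem quasiSeparatedSpace_sys [∀ a, QuasiSeparated (τ.app a)] (k : Over (op d.i)) :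
    QuasiSeparatedSpace ((d.sys Ts τ).obj k) :=
  haveI := hS (homOfLE k.hom.unop.le).op
  haveI : QuasiSeparatedSpace ((𝟭 Scheme).obj (d.obj k.left.unop k.hom.unop.le).left) :=
    d.quasiSeparatedSpace_obj k.left.unop k.hom.unop.le
  quasiSeparatedSpace_of_quasiSeparated (pullback.fst (d.obj k.left.unop k.hom.unop.le).hom (τ.app _))

/-- The fixed projection of a stage. -/
noncomputable def sysFst (k : Over (op d.i)) : (d.sys Ts τ).obj k ⟶ d.U₁.left :=
  pullback.fst (d.obj k.left.unop k.hom.unop.le).hom (τ.app (op k.left.unop)) ≫ pullback.fst _ _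

theorem sys_map_sysFst {l k : Over (op d.i)} (m : l ⟶ k) :
    (d.sys Ts τ).map m ≫ d.sysFst Ts τ k = d.sysFst Ts τ l := by
  rw [sysFst, ← Category.assoc, sys_map_fst, Category.assoc, d.tr_fst]
  rfl

theorem isPullback_sys (k : Over (op d.i)) :
    IsPullback (d.sysFst Ts τ k) ((EtCoh.bc (τ.app (op k.left.unop))).obj (d.obj k.left.unop k.hom.unop.le)).hom
      d.U₁.hom (τ.app (op k.left.unop) ≫ Ss.map (homOfLE k.hom.unop.le).op) :=
  (IsPullback.of_hasPullback _ _).paste_horiz (IsPullback.of_hasPullback _ _)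

include hS in
theorem isAffineHom_sys_map (hT : ∀ ⦃a b : ιᵒᵖ⦄ (m : a ⟶ b), IsAffineHom (Ts.map m)) {l k : Over (op d.i)}
    (m : l ⟶ k) : IsAffineHom ((d.sys Ts τ).map m) := by
  haveI := hT (homOfLE m.left.unop.le).op
  refine MorphismProperty.of_isPullback (P := @IsAffineHom)
    (IsPullback.of_right (h₁₂ := d.sysFst Ts τ k) (v₁₃ := d.U₁.hom)
      (h₂₂ := τ.app (op k.left.unop) ≫ Ss.map (homOfLE k.hom.unop.le).op) ?_ (d.sys_map_hom Ts τ m)
      (d.isPullback_sys Ts τ k)).flip ‹_›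
  rw [sys_map_sysFst, τ.naturality_assoc, map_op_comp]
  exact d.isPullback_sys Ts τ l

variable (cT : Cone Ts) (g : cT.pt ⟶ cS.pt) (hg : ∀ a, g ≫ cS.π.app a = cT.π.app a ≫ τ.app a)

/-- The projection from the base change to a stage. -/
noncomputable def lim (k : ι) (h : d.i ≤ k) :
    ((EtCoh.bc g).obj U).left ⟶ ((EtCoh.bc (τ.app (op k))).obj (d.obj k h)).left :=
  pullback.lift (pullback.fst U.hom g ≫ d.pr k h) (pullback.snd U.hom g ≫ cT.π.app (op k)) (by
    rw [Category.assoc, d.pr_hom, ← Category.assoc, pullback.condition, Category.assoc, Category.assoc, hg])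

theorem lim_fst (k : ι) (h : d.i ≤ k) :
    d.lim Ts τ cT g hg k h ≫ pullback.fst (d.obj k h).hom (τ.app (op k)) = pullback.fst U.hom g ≫ d.pr k h :=
  pullback.lift_fst _ _ _

theorem lim_hom (k : ι) (h : d.i ≤ k) :
    d.lim Ts τ cT g hg k h ≫ ((EtCoh.bc (τ.app (op k))).obj (d.obj k h)).hom =
      ((EtCoh.bc g).obj U).hom ≫ cT.π.app (op k) := pullback.lift_snd _ _ _

theorem lim_sys {l k : Over (op d.i)} (m : l ⟶ k) :
    d.lim Ts τ cT g hg l.left.unop l.hom.unop.le ≫ (d.sys Ts τ).map m =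
      d.lim Ts τ cT g hg k.left.unop k.hom.unop.le := by
  refine pullback.hom_ext ?_ ?_
  · rw [Category.assoc, sys_map_fst, ← Category.assoc, lim_fst, lim_fst, Category.assoc, d.pr_tr]
  · show (_ ≫ _) ≫ ((EtCoh.bc _).obj _).hom = _ ≫ ((EtCoh.bc _).obj _).hom
    rw [Category.assoc, sys_map_hom, ← Category.assoc, lim_hom, lim_hom, Category.assoc,
      cT.w (homOfLE m.left.unop.le).op]

/-- The cone of stages. -/
noncomputable def cone : Cone (d.sys Ts τ) where
  pt := ((EtCoh.bc g).obj U).left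
  π :=
    { app := fun k => d.lim Ts τ cT g hg k.left.unop k.hom.unop.le
      naturality := fun l k m => (Category.id_comp _).trans (d.lim_sys Ts τ cT g hg m).symm }

theorem isLimit_cone [IsDirected ι (· ≤ ·)] (hcT : IsLimit cT) : Nonempty (IsLimit (d.cone Ts τ cT g hg)) := by
  haveI : IsFiltered ι := by
    haveI : Nonempty ι := ⟨d.i⟩
    infer_instance
  refine isLimit_of_pullbacks (cT.whisker (Over.forget (op d.i)))
    ((Functor.Initial.isLimitWhiskerEquiv (Over.forget (op d.i)) cT).symm hcT)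
    { app := fun k => ((EtCoh.bc (τ.app (op k.left.unop))).obj (d.obj k.left.unop k.hom.unop.le)).hom
      naturality := fun l k m => d.sys_map_hom Ts τ m }
    (d.cone Ts τ cT g hg) ((EtCoh.bc g).obj U).hom
    (fun k => ?_) d.U₁.hom (d.sysFst Ts τ)
    (fun m => d.sys_map_sysFst Ts τ m) (fun k => τ.app (op k.left.unop) ≫ Ss.map (homOfLE k.hom.unop.le).op)
    (d.isPullback_sys Ts τ) (pullback.fst U.hom g ≫ d.p) (fun k => ?_) (g ≫ cS.π.app (op d.i)) (fun k => ?_) ?_
  · exact d.lim_hom Ts τ cT g hg k.left.unop k.hom.unop.le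
  · show d.lim Ts τ cT g hg k.left.unop k.hom.unop.le ≫ _ = _
    rw [sysFst, ← Category.assoc, lim_fst, Category.assoc, d.pr_fst]
  · show cT.π.app (op k.left.unop) ≫ _ ≫ _ = _
    rw [← Category.assoc, ← hg, Category.assoc, cS.w (homOfLE k.hom.unop.le).op]
  · exact (IsPullback.of_hasPullback U.hom g).paste_horiz d.isPb

end Stage

end Desc

/-- Etale schemes over the limit have qcqs models near each point. -/
theorem exists_desc_nbhd [Nonempty ι] [IsDirected ι (· ≤ ·)] (hS : ∀ ⦃a b : ιᵒᵖ⦄ (m : a ⟶ b), IsAffineHom (Ss.map m))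
    (hcS : IsLimit cS) (U : cS.pt.Etale) (x : U.left) :
    ∃ (V : cS.pt.Etale) (m : V ⟶ U) (y : V.left), m.left.base y = x ∧ Nonempty (Desc V) := by
  haveI : IsFiltered ι := inferInstance
  obtain ⟨i₀⟩ := ‹Nonempty ι›
  obtain ⟨A', hA, hxA, -⟩ := TopologicalSpace.Opens.isBasis_iff_nbhd.mp (Ss.obj (op i₀)).isBasis_affineOpens
    (TopologicalSpace.Opens.mem_top ((U.hom ≫ cS.π.app (op i₀)).base x))
  let A : (Ss.obj (op i₀)).Opens := A'
  haveI : IsAffine A.toScheme := hA
  let D : Over (op i₀) ⥤ Scheme.{u} :=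
    { obj := fun k => pullback A.ι (Ss.map k.hom)
      map := fun {l k} m => pullback.map A.ι (Ss.map l.hom) A.ι (Ss.map k.hom) (𝟙 _) (Ss.map m.left) (𝟙 _)
        (by simp) (by rw [Category.comp_id, ← Functor.map_comp, Over.w m])
      map_id := fun k => by apply pullback.hom_ext <;> simp
      map_comp := fun m m' => by apply pullback.hom_ext <;> simp }
  haveI : ∀ k, IsAffine (D.obj k) := fun k =>
    haveI := hS k.hom
    isAffine_of_isAffineHom (pullback.fst A.ι (Ss.map k.hom))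
  haveI : ∀ ⦃l k : Over (op i₀)⦄ (m : l ⟶ k), IsAffineHom (D.map m) := fun l k m => inferInstance
  haveI := fun k : Over (op i₀) => (inferInstance : CompactSpace (D.obj k))
  haveI := fun k : Over (op i₀) => (inferInstance : QuasiSeparatedSpace (D.obj k))
  let c : Cone D :=
    { pt := pullback A.ι (cS.π.app (op i₀))
      π :=
        { app := fun k => pullback.map A.ι (cS.π.app (op i₀)) A.ι (Ss.map k.hom) (𝟙 _) (cS.π.app k.left) (𝟙 _)
            (by simp) (by rw [Category.comp_id, cS.w])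
          naturality := fun l k m => by
            apply pullback.hom_ext <;> simp [D] } }
  obtain ⟨hc⟩ := isLimit_of_pullbacks (cS.whisker (Over.forget (op i₀)))
    ((Functor.Initial.isLimitWhiskerEquiv (Over.forget (op i₀)) cS).symm hcS)
    { app := fun k => pullback.snd A.ι (Ss.map k.hom)
      naturality := fun l k m => pullback.lift_snd _ _ _ }
    c (pullback.snd A.ι (cS.π.app (op i₀))) (fun k => pullback.lift_snd _ _ _) A.ι
    (fun k => pullback.fst A.ι (Ss.map k.hom)) (fun m => (pullback.lift_fst _ _ _).trans (Category.comp_id _))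
    (fun k => Ss.map k.hom) (fun k => IsPullback.of_hasPullback _ _) (pullback.fst A.ι (cS.π.app (op i₀)))
    (fun k => (pullback.lift_fst _ _ _).trans (Category.comp_id _)) (cS.π.app (op i₀)) (fun k => cS.w k.hom)
    (IsPullback.of_hasPullback _ _)
  let AS : cS.pt.Opens := cS.π.app (op i₀) ⁻¹ᵁ A
  obtain ⟨O', hO, hxO, hOle⟩ := TopologicalSpace.Opens.isBasis_iff_nbhd.mp U.left.isBasis_affineOpens
    (show x ∈ U.hom ⁻¹ᵁ AS from hxA)
  let O : U.left.Opens := O'
  haveI : IsAffine O.toScheme := hO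
  haveI : Etale U.hom := U.prop
  let V : cS.pt.Etale := MorphismProperty.Over.mk ⊤ (O.ι ≫ U.hom) (inferInstanceAs (Etale (O.ι ≫ U.hom)))
  let b₁ : O.toScheme ⟶ A.toScheme := IsOpenImmersion.lift A.ι ((O.ι ≫ U.hom) ≫ cS.π.app (op i₀)) (by
    rw [Scheme.Opens.range_ι]
    rintro _ ⟨p, rfl⟩
    exact hOle p.2)
  have hb₁ : b₁ ≫ A.ι = (O.ι ≫ U.hom) ≫ cS.π.app (op i₀) := IsOpenImmersion.lift_fac _ _ _
  let b : O.toScheme ⟶ c.pt := pullback.lift b₁ (O.ι ≫ U.hom) hb₁
  haveI : Etale b := by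
    haveI : IsOpenImmersion (pullback.snd A.ι (cS.π.app (op i₀))) := inferInstance
    haveI : Etale (b ≫ pullback.snd A.ι (cS.π.app (op i₀))) := by
      rw [show b ≫ pullback.snd A.ι (cS.π.app (op i₀)) = O.ι ≫ U.hom from pullback.lift_snd _ _ _]
      infer_instance
    exact Etale.of_comp b (pullback.snd A.ι (cS.π.app (op i₀)))
  let V' : c.pt.Etale := MorphismProperty.Over.mk ⊤ b ‹Etale b›
  haveI : CompactSpace V'.left := inferInstanceAs (CompactSpace O.toScheme)
  haveI : QuasiSeparatedSpace V'.left := inferInstanceAs (QuasiSeparatedSpace O.toScheme)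
  obtain ⟨k, U₀, hU₀c, hU₀q, ⟨e⟩⟩ := H1Lim.exists_descend_obj c hc V'
  haveI : Etale U₀.hom := U₀.prop
  have hU₀' : Etale (U₀.hom ≫ pullback.snd A.ι (Ss.map k.hom)) := inferInstance
  refine ⟨V, MorphismProperty.Over.homMk O.ι rfl trivial, ⟨x, hxO⟩, rfl,
    ⟨⟨k.left.unop, MorphismProperty.Over.mk ⊤ (U₀.hom ≫ pullback.snd A.ι (Ss.map k.hom)) hU₀',
      e.inv.left ≫ pullback.fst U₀.hom (c.π.app k), ?_, hU₀c, hU₀q⟩⟩⟩
  have h1 : IsPullback (pullback.snd A.ι (cS.π.app (op i₀))) (c.π.app k) (cS.π.app k.left)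
      (pullback.snd A.ι (Ss.map k.hom)) := by
    refine IsPullback.of_bot (v₂₁ := pullback.fst A.ι (Ss.map k.hom)) (v₂₂ := Ss.map k.hom) (h₃₁ := A.ι) ?_
      (pullback.lift_snd _ _ _).symm (IsPullback.of_hasPullback A.ι (Ss.map k.hom)).flip
    rw [show c.π.app k ≫ pullback.fst A.ι (Ss.map k.hom) = pullback.fst A.ι (cS.π.app (op i₀)) from
      (pullback.lift_fst _ _ _).trans (Category.comp_id _), cS.w k.hom]
    exact (IsPullback.of_hasPullback A.ι (cS.π.app (op i₀))).flip
  have he : e.inv.left ≫ pullback.snd U₀.hom (c.π.app k) = b := MorphismProperty.Over.w e.inv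
  haveI : IsIso e.inv.left := inferInstanceAs (IsIso ((Scheme.Etale.forget _ ⋙ Over.forget _).map e.inv))
  have h2 : IsPullback (e.inv.left ≫ pullback.fst U₀.hom (c.π.app k)) b U₀.hom (c.π.app k) :=
    IsPullback.of_iso_pullback ⟨by rw [Category.assoc, pullback.condition, ← Category.assoc, he]⟩
      (asIso e.inv.left) rfl he
  have h3 := h2.paste_vert h1.flip
  rwa [show b ≫ pullback.snd A.ι (cS.π.app (op i₀)) = O.ι ≫ U.hom from pullback.lift_snd _ _ _] at h3

end Groth.Agent.H1DFun
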