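import Groth.Agent.H1DFun.LimSys
import Groth.Agent.H1DFun.LimPb
import Groth.Agent.H1DFun.BCDelta

/-!
# Base change classes on limits of squares
-/

set_option autoImplicit false
set_option backward.isDefEq.respectTransparency false
set_option backward.isDefEq.respectTransparency.types false

universe u

open CategoryTheory CategoryTheory.Limits AlgebraicGeometry Opposite
open Groth.Agent.H18Et

namespace Groth.Agent.H1DFun

attribute [local instance] Groth.Agent.H18Et.pull_preservesFiniteLimits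

section Squares

variable {ι : Type u} [Preorder ι] [IsDirected ι (· ≤ ·)] (Ts : ιᵒᵖ ⥤ Scheme.{u}) (cT₀ : Cone Ts)
  (F : ∀ i : ι, EtCoh.Ab (Ts.obj (op i)))
  (φ : ∀ ⦃i j : ι⦄ (hij : i ≤ j), (EtCoh.pull (Ts.map (homOfLE hij).op)).obj (F i) ⟶ F j)
  (G : ι ⥤ EtCoh.Ab cT₀.pt) (ψ : ∀ i : ι, (EtCoh.pull (cT₀.π.app (op i))).obj (F i) ≅ G.obj i) (q : ℕ)

/-- Passing to the limit commutes with restriction. -/
theorem toLim_cR {V V' Vk Vk' : Scheme.{u}} (k : ι) (ak : Vk ⟶ Ts.obj (op k)) (ak' : Vk' ⟶ Ts.obj (op k))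
    (p : V ⟶ Vk) (p' : V' ⟶ Vk') (b : V ⟶ cT₀.pt) (b' : V' ⟶ cT₀.pt) (hp : p ≫ ak = b ≫ cT₀.π.app (op k))
    (hp' : p' ≫ ak' = b' ≫ cT₀.π.app (op k)) (m : V' ⟶ V) (wm : m ≫ b = b') (mk : Vk' ⟶ Vk) (wmk : mk ≫ ak = ak')
    (hsq : m ≫ p = p' ≫ mk) (x : CL (F k) q ak) :
    cR (colimit G) q m wm (toLim Ts cT₀ F G ψ q k ak p b hp x) =
      toLim Ts cT₀ F G ψ q k ak' p' b' hp' (cR (F k) q mk wmk x) := by
  refine (cR_cT _ _ q b b' m wm _ (b' ≫ cT₀.π.app (op k)) rfl rfl _).trans ?_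
  refine congrArg _ ?_
  refine Eq.trans ?_ (cR_cR mk wmk p' hp' (p' ≫ mk) rfl x).symm
  exact (cR_cR p hp m _ (p' ≫ mk) hsq x)

/-- Passing to a later stage commutes with restriction. -/
theorem toStage_cR {k l : ι} (hkl : k ≤ l) {Vk Vl Vk' Vl' : Scheme.{u}} (ak : Vk ⟶ Ts.obj (op k))
    (al : Vl ⟶ Ts.obj (op l)) (p : Vl ⟶ Vk) (hp : p ≫ ak = al ≫ Ts.map (homOfLE hkl).op)
    (ak' : Vk' ⟶ Ts.obj (op k)) (al' : Vl' ⟶ Ts.obj (op l)) (p' : Vl' ⟶ Vk')
    (hp' : p' ≫ ak' = al' ≫ Ts.map (homOfLE hkl).op) (mk : Vk' ⟶ Vk) (wmk : mk ≫ ak = ak')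
    (ml : Vl' ⟶ Vl) (wml : ml ≫ al = al') (hsq : ml ≫ p = p' ≫ mk) (x : CL (F k) q ak) :
    cR (F l) q ml wml (toStage Ts F φ q hkl ak al p hp x) =
      toStage Ts F φ q hkl ak' al' p' hp' (cR (F k) q mk wmk x) := by
  refine (cR_cT _ _ q al al' ml wml _ (al' ≫ Ts.map (homOfLE hkl).op) rfl rfl _).trans ?_
  refine congrArg _ ?_
  refine Eq.trans ?_ (cR_cR mk wmk p' hp' (p' ≫ mk) rfl x).symm
  exact (cR_cR p hp ml _ (p' ≫ mk) hsq x)

end Squares

/-- Maps into an iterated base change agree when their two projections do. -/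
theorem bc_bc_ext {A B C W : Scheme.{u}} (s : B ⟶ A) (g : C ⟶ B) {U : A.Etale}
    {X Y : W ⟶ ((EtCoh.bc g).obj ((EtCoh.bc s).obj U)).left}
    (h1 : X ≫ pullback.fst ((EtCoh.bc s).obj U).hom g ≫ pullback.fst U.hom s =
      Y ≫ pullback.fst ((EtCoh.bc s).obj U).hom g ≫ pullback.fst U.hom s)
    (h2 : X ≫ ((EtCoh.bc g).obj ((EtCoh.bc s).obj U)).hom = Y ≫ ((EtCoh.bc g).obj ((EtCoh.bc s).obj U)).hom) :
    X = Y := by
  refine pullback.hom_ext (pullback.hom_ext ((Category.assoc _ _ _).trans (h1.trans (Category.assoc _ _ _).symm)) ?_) h2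
  refine (Category.assoc _ _ _).trans ((congrArg (X ≫ ·) pullback.condition).trans ?_)
  refine ((Category.assoc _ _ _).symm.trans ((congrArg (· ≫ g) h2).trans (Category.assoc _ _ _))).trans ?_
  exact ((Category.assoc _ _ _).trans (congrArg (Y ≫ ·) pullback.condition)).symm

variable {ι : Type u} [Preorder ι] [Nonempty ι] [IsDirected ι (· ≤ ·)]
  {Xs Ss Ts Ys : ιᵒᵖ ⥤ Scheme.{u}} {fN : Xs ⟶ Ss} {gN : Ts ⟶ Ss} {hN : Ys ⟶ Xs} {eN : Ys ⟶ Ts}
  (wN : ∀ a : ιᵒᵖ, eN.app a ≫ gN.app a = hN.app a ≫ fN.app a)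
  [∀ a : ιᵒᵖ, QuasiCompact (gN.app a)] [∀ a : ιᵒᵖ, QuasiSeparated (gN.app a)]
  [∀ a : ιᵒᵖ, QuasiCompact (hN.app a)] [∀ a : ιᵒᵖ, QuasiSeparated (hN.app a)]
  (aX : ∀ ⦃a b : ιᵒᵖ⦄ (m : a ⟶ b), IsAffineHom (Xs.map m))
  (aS : ∀ ⦃a b : ιᵒᵖ⦄ (m : a ⟶ b), IsAffineHom (Ss.map m))
  (aT : ∀ ⦃a b : ιᵒᵖ⦄ (m : a ⟶ b), IsAffineHom (Ts.map m))
  (aY : ∀ ⦃a b : ιᵒᵖ⦄ (m : a ⟶ b), IsAffineHom (Ys.map m))
  {cX : Cone Xs} (hcX : IsLimit cX) {cS : Cone Ss} (hcS : IsLimit cS)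
  {cT₀ : Cone Ts} (hcT : IsLimit cT₀) {cY : Cone Ys} (hcY : IsLimit cY)
  (f : cX.pt ⟶ cS.pt) (g : cT₀.pt ⟶ cS.pt) (h : cY.pt ⟶ cX.pt) (e : cY.pt ⟶ cT₀.pt) (w : e ≫ g = h ≫ f)
  (hf : ∀ a, f ≫ cS.π.app a = cX.π.app a ≫ fN.app a) (hg : ∀ a, g ≫ cS.π.app a = cT₀.π.app a ≫ gN.app a)
  (hh : ∀ a, h ≫ cX.π.app a = cY.π.app a ≫ hN.app a) (he : ∀ a, e ≫ cT₀.π.app a = cY.π.app a ≫ eN.app a)
  (F : ∀ i : ι, EtCoh.Ab (Ts.obj (op i)))
  (φ : ∀ ⦃i j : ι⦄ (hij : i ≤ j), (EtCoh.pull (Ts.map (homOfLE hij).op)).obj (F i) ⟶ F j)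
  (hφ : ∀ ⦃i j k : ι⦄ (hij : i ≤ j) (hjk : j ≤ k),
    φ (hij.trans hjk) = (EtLim.pullTrans Ts hij hjk).hom.app (F i) ≫
      (EtCoh.pull (Ts.map (homOfLE hjk).op)).map (φ hij) ≫ φ hjk)
  (G : ι ⥤ EtCoh.Ab cT₀.pt) (ψ : ∀ i : ι, (EtCoh.pull (cT₀.π.app (op i))).obj (F i) ≅ G.obj i)
  (hψ : ∀ ⦃i j : ι⦄ (hij : i ≤ j), (ψ i).hom ≫ G.map (homOfLE hij) =
    (EtLim.pullTransCone Ts cT₀ hij).hom.app (F i) ≫ (EtCoh.pull (cT₀.π.app (op j))).map (φ hij) ≫ (ψ j).hom)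
  (q : ℕ) {Ω : Type u} [Field Ω] [IsSepClosed Ω] (η : Spec (CommRingCat.of Ω) ⟶ cX.pt)

include hf in
theorem point_comp (a : ιᵒᵖ) : (η ≫ cX.π.app a) ≫ fN.app a = (η ≫ f) ≫ cS.π.app a := by
  rw [Category.assoc, Category.assoc, hf]

include he in
theorem upper_leg {V Vk : Scheme.{u}} (k : ι) (p : V ⟶ Vk) (ck : Vk ⟶ Ys.obj (op k)) (b : V ⟶ cY.pt)
    (hp : p ≫ ck = b ≫ cY.π.app (op k)) : p ≫ ck ≫ eN.app (op k) = (b ≫ e) ≫ cT₀.π.app (op k) := by
  rw [← Category.assoc, hp, Category.assoc, Category.assoc, he]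

include aX aY hcX hcY hh he hφ hψ in
omit [∀ a : ιᵒᵖ, QuasiCompact (gN.app a)] [∀ a : ιᵒᵖ, QuasiSeparated (gN.app a)] in
theorem upper_surj {Q : cX.pt.Etale} (d : Desc Q) (s : CL (colimit G) q (((EtCoh.bc h).obj Q).hom ≫ e)) :
    ∃ (k : ι) (hk : d.i ≤ k)
      (y : CL (F k) q (((EtCoh.bc (hN.app (op k))).obj (d.obj k hk)).hom ≫ eN.app (op k))),
      toLim Ts cT₀ F G ψ q k _ (d.lim Ys hN cY h hh k hk) (((EtCoh.bc h).obj Q).hom ≫ e)
        (upper_leg e he k _ _ _ (d.lim_hom Ys hN cY h hh k hk)) y = s := by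
  haveI : ∀ ⦃a b : Over (op d.i)⦄ (m : a ⟶ b), IsAffineHom ((d.sys Ys hN).map m) :=
    fun a b m => d.isAffineHom_sys_map aX Ys hN aY m
  haveI : ∀ k, CompactSpace ((d.sys Ys hN).obj k) := d.compactSpace_sys aX Ys hN
  haveI : ∀ k, QuasiSeparatedSpace ((d.sys Ys hN).obj k) := d.quasiSeparatedSpace_sys aX Ys hN
  obtain ⟨hc⟩ := d.isLimit_cone Ys hN cY h hh hcY
  obtain ⟨l, y, hy⟩ := sys_surj Ts cT₀ F φ G ψ hψ q (d.sys Ys hN) (d.cone Ys hN cY h hh) hc
    (fun k => ((EtCoh.bc (hN.app (op k.left.unop))).obj (d.obj k.left.unop k.hom.unop.le)).hom ≫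
      eN.app (op k.left.unop))
    (fun {i k} m => by
      rw [← Category.assoc, d.sys_map_hom Ys hN m, Category.assoc, Category.assoc, eN.naturality])
    (((EtCoh.bc h).obj Q).hom ≫ e)
    (fun k => upper_leg e he k.left.unop _ _ _ (d.lim_hom Ys hN cY h hh k.left.unop k.hom.unop.le)) s
  exact ⟨l.left.unop, l.hom.unop.le, y, hy⟩

include aX aY hcX hcY hh he hφ hψ in
omit [∀ a : ιᵒᵖ, QuasiCompact (gN.app a)] [∀ a : ιᵒᵖ, QuasiSeparated (gN.app a)] in
theorem upper_inj {Q : cX.pt.Etale} (d : Desc Q) (k : ι) (hk : d.i ≤ k)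
    (y : CL (F k) q (((EtCoh.bc (hN.app (op k))).obj (d.obj k hk)).hom ≫ eN.app (op k)))
    (hy : toLim Ts cT₀ F G ψ q k _ (d.lim Ys hN cY h hh k hk) (((EtCoh.bc h).obj Q).hom ≫ e)
        (upper_leg e he k _ _ _ (d.lim_hom Ys hN cY h hh k hk)) y = 0) :
    ∃ (l : ι) (hkl : k ≤ l) (p : ((EtCoh.bc (hN.app (op l))).obj (d.obj l (hk.trans hkl))).left ⟶
        ((EtCoh.bc (hN.app (op k))).obj (d.obj k hk)).left)
      (hp : p ≫ ((EtCoh.bc (hN.app (op k))).obj (d.obj k hk)).hom ≫ eN.app (op k) =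
        (((EtCoh.bc (hN.app (op l))).obj (d.obj l (hk.trans hkl))).hom ≫ eN.app (op l)) ≫
          Ts.map (homOfLE hkl).op),
      p ≫ pullback.fst (d.obj k hk).hom (hN.app (op k)) =
        pullback.fst (d.obj l (hk.trans hkl)).hom (hN.app (op l)) ≫ d.tr hk hkl ∧
      p ≫ ((EtCoh.bc (hN.app (op k))).obj (d.obj k hk)).hom =
        ((EtCoh.bc (hN.app (op l))).obj (d.obj l (hk.trans hkl))).hom ≫ Ys.map (homOfLE hkl).op ∧
      toStage Ts F φ q hkl _ _ p hp y = 0 := by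
  haveI : ∀ ⦃a b : Over (op d.i)⦄ (m : a ⟶ b), IsAffineHom ((d.sys Ys hN).map m) :=
    fun a b m => d.isAffineHom_sys_map aX Ys hN aY m
  haveI : ∀ k, CompactSpace ((d.sys Ys hN).obj k) := d.compactSpace_sys aX Ys hN
  haveI : ∀ k, QuasiSeparatedSpace ((d.sys Ys hN).obj k) := d.quasiSeparatedSpace_sys aX Ys hN
  obtain ⟨hc⟩ := d.isLimit_cone Ys hN cY h hh hcY
  obtain ⟨l, m, hl⟩ := sys_inj Ts cT₀ F φ hφ G ψ hψ q (d.sys Ys hN) (d.cone Ys hN cY h hh) hc
    (fun k => ((EtCoh.bc (hN.app (op k.left.unop))).obj (d.obj k.left.unop k.hom.unop.le)).hom ≫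
      eN.app (op k.left.unop))
    (fun {i k} m => by
      rw [← Category.assoc, d.sys_map_hom Ys hN m, Category.assoc, Category.assoc, eN.naturality])
    (((EtCoh.bc h).obj Q).hom ≫ e)
    (fun k => upper_leg e he k.left.unop _ _ _ (d.lim_hom Ys hN cY h hh k.left.unop k.hom.unop.le))
    (Over.mk (homOfLE hk).op) y hy
  exact ⟨l.left.unop, m.left.unop.le, (d.sys Ys hN).map m, _, d.sys_map_fst Ys hN m, d.sys_map_hom Ys hN m, hl⟩

include aS aT hcS hcT hg hφ hψ in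
omit [∀ a : ιᵒᵖ, QuasiCompact (hN.app a)] [∀ a : ιᵒᵖ, QuasiSeparated (hN.app a)] in
theorem lower_surj {U : cS.pt.Etale} (d : Desc U) (x : CL (colimit G) q ((EtCoh.bc g).obj U).hom) :
    ∃ (k : ι) (hk : d.i ≤ k) (y : CL (F k) q ((EtCoh.bc (gN.app (op k))).obj (d.obj k hk)).hom),
      toLim Ts cT₀ F G ψ q k _ (d.lim Ts gN cT₀ g hg k hk) ((EtCoh.bc g).obj U).hom
        (d.lim_hom Ts gN cT₀ g hg k hk) y = x := by
  haveI : ∀ ⦃a b : Over (op d.i)⦄ (m : a ⟶ b), IsAffineHom ((d.sys Ts gN).map m) :=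
    fun a b m => d.isAffineHom_sys_map aS Ts gN aT m
  haveI : ∀ k, CompactSpace ((d.sys Ts gN).obj k) := d.compactSpace_sys aS Ts gN
  haveI : ∀ k, QuasiSeparatedSpace ((d.sys Ts gN).obj k) := d.quasiSeparatedSpace_sys aS Ts gN
  obtain ⟨hc⟩ := d.isLimit_cone Ts gN cT₀ g hg hcT
  obtain ⟨l, y, hy⟩ := sys_surj Ts cT₀ F φ G ψ hψ q (d.sys Ts gN) (d.cone Ts gN cT₀ g hg) hc
    (fun k => ((EtCoh.bc (gN.app (op k.left.unop))).obj (d.obj k.left.unop k.hom.unop.le)).hom)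
    (fun {i k} m => d.sys_map_hom Ts gN m) ((EtCoh.bc g).obj U).hom
    (fun k => d.lim_hom Ts gN cT₀ g hg k.left.unop k.hom.unop.le) x
  exact ⟨l.left.unop, l.hom.unop.le, y, hy⟩

include wN aX aY hcX hcY hf hg hh he hφ hψ in
omit [∀ a : ιᵒᵖ, QuasiCompact (gN.app a)] [∀ a : ιᵒᵖ, QuasiSeparated (gN.app a)] in
theorem cSurj_lim
    (H : ∀ i : ι, CSurj (fN.app (op i)) (gN.app (op i)) (hN.app (op i)) (eN.app (op i)) (wN (op i))
      (η ≫ cX.π.app (op i)) (F i) q) :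
    CSurj f g h e w η (colimit G) q := by
  intro Q v s
  obtain ⟨Q₀, m₀, y₀, hy₀, ⟨d⟩⟩ := exists_desc_nbhd aX hcX Q (ptOf v)
  obtain ⟨v₀, hv₀⟩ := exists_fiber_lift m₀ v y₀ hy₀
  obtain ⟨k, hk, y, hy⟩ := upper_surj aX aY hcX hcY h e hh he F φ hφ G ψ hψ q d (c1 h e (colimit G) q m₀ s)
  let l₀ : Spec (CommRingCat.of Ω) ⟶ Q₀.left := v₀.left
  have hl₀ : l₀ ≫ Q₀.hom = η := Over.w v₀
  obtain ⟨U', z', x', Q', m', n', v', hm', hn', heq⟩ := H k (d.obj k hk)
    (Over.homMk (l₀ ≫ d.pr k hk) (by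
      refine (Category.assoc _ _ _).trans ((congrArg (l₀ ≫ ·) (d.pr_hom k hk)).trans ?_)
      exact (Category.assoc _ _ _).symm.trans (congrArg (· ≫ cX.π.app (op k)) hl₀))) y
  let U : cS.pt.Etale := (EtCoh.bc (cS.π.app (op k))).obj U'
  let z : (Scheme.pointSmallEtale (η ≫ f)).fiber.obj U :=
    Over.homMk (pullback.lift (show Spec (CommRingCat.of Ω) ⟶ U'.left from z'.left) (η ≫ f)
      ((Over.w z').trans (point_comp f hf η (op k)))) (pullback.lift_snd _ _ _)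
  let e₀ : Q₀ ⟶ (EtCoh.bc (cX.π.app (op k))).obj (d.obj k hk) :=
    bcLift (cX.π.app (op k)) (d.pr k hk) (d.pr_hom k hk)
  obtain ⟨O, a, b, v₁, ha, hb, hab⟩ := exists_cospan ((EtCoh.bc (cX.π.app (op k))).map m') e₀
    ((fiberCompIso (cX.π.app (op k)) η).inv.app Q' v') v₀
    ((bcMap_pt (cX.π.app (op k)) m' _ v' hm').trans
      (bcLift_pt (cX.π.app (op k)) (d.pr k hk) (d.pr_hom k hk) v₀ _ rfl).symm)
  let la : O.left ⟶ Q'.left := a.left ≫ pullback.fst Q'.hom (cX.π.app (op k))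
  have hla : la ≫ Q'.hom = O.hom ≫ cX.π.app (op k) := by
    show (a.left ≫ _) ≫ _ = _
    rw [Category.assoc, pullback.condition, ← Category.assoc]
    exact congrArg (· ≫ cX.π.app (op k)) (MorphismProperty.Over.w a)
  let na : O.left ⟶ U'.left := la ≫ n'.left ≫ pullback.fst U'.hom (fN.app (op k))
  have hna : na ≫ U'.hom = (O.hom ≫ f) ≫ cS.π.app (op k) := by
    refine (Category.assoc la _ _).trans ((congrArg (la ≫ ·) ((Category.assoc n'.left _ _).trans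
      ((congrArg (n'.left ≫ ·) pullback.condition).trans ((Category.assoc _ _ _).symm.trans
        (congrArg (· ≫ fN.app (op k)) (MorphismProperty.Over.w n')))))).trans ?_)
    refine ((Category.assoc la _ _).symm.trans (congrArg (· ≫ fN.app (op k)) hla)).trans ?_
    exact (Category.assoc _ _ _).trans ((congrArg (O.hom ≫ ·) (hf (op k)).symm).trans (Category.assoc _ _ _).symm)
  let ℓ : O.left ⟶ U.left := pullback.lift na (O.hom ≫ f) hna
  let n : O ⟶ (EtCoh.bc f).obj U := bcLift f ℓ (pullback.lift_snd _ _ _)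
  let ρ : ((EtCoh.bc g).obj U).left ⟶ ((EtCoh.bc (gN.app (op k))).obj U').left :=
    pullback.lift (pullback.fst U.hom g ≫ pullback.fst U'.hom (cS.π.app (op k)))
      (pullback.snd U.hom g ≫ cT₀.π.app (op k)) (by
        rw [Category.assoc, pullback.condition (f := U'.hom), ← Category.assoc,
          show pullback.fst U.hom g ≫ pullback.snd U'.hom (cS.π.app (op k)) = pullback.snd U.hom g ≫ g from
            pullback.condition, Category.assoc, Category.assoc, hg])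
  have hρ : ρ ≫ ((EtCoh.bc (gN.app (op k))).obj U').hom = ((EtCoh.bc g).obj U).hom ≫ cT₀.π.app (op k) :=
    pullback.lift_snd _ _ _
  refine ⟨U, z, toLim Ts cT₀ F G ψ q k _ ρ ((EtCoh.bc g).obj U).hom hρ x', O, b ≫ m₀, n, v₁, ?_, ?_, ?_⟩
  · rw [Functor.map_comp_apply, hb, hv₀]
  · refine bcLift_pt f ℓ _ v₁ z ?_
    refine pullback.hom_ext ?_ ?_
    · refine (Category.assoc _ _ _).trans ((congrArg (_ ≫ ·) (pullback.lift_fst _ _ _)).trans ?_)
      refine Eq.trans ?_ (pullback.lift_fst _ _ _).symm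
      refine Eq.trans ?_ (pt_fst_of_map (fN.app (op k)) hn')
      refine (Category.assoc _ _ _).symm.trans (congrArg (· ≫ _) ?_)
      refine (Category.assoc _ _ _).symm.trans ((congrArg (· ≫ pullback.fst Q'.hom _)
        (congrArg (fun t => t.left) ha)).trans ?_)
      exact fiberCompIso_inv_left (cX.π.app (op k)) η Q' v'
    · refine (Category.assoc _ _ _).trans ((congrArg (_ ≫ ·) (pullback.lift_snd _ _ _)).trans ?_)
      refine Eq.trans ?_ (pullback.lift_snd _ _ _).symm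
      exact (Category.assoc _ _ _).symm.trans (congrArg (· ≫ f) (Over.w v₁))
  · let p' : ((EtCoh.bc h).obj O).left ⟶ ((EtCoh.bc (hN.app (op k))).obj Q').left :=
      pullback.lift (pullback.fst O.hom h ≫ la) (pullback.snd O.hom h ≫ cY.π.app (op k)) (by
        rw [Category.assoc, hla, ← Category.assoc, pullback.condition, Category.assoc, Category.assoc, hh])
    have hp' : p' ≫ ((EtCoh.bc (hN.app (op k))).obj Q').hom = ((EtCoh.bc h).obj O).hom ≫ cY.π.app (op k) :=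
      pullback.lift_snd _ _ _
    have hp'T := upper_leg e he k p' _ _ hp'
    refine (c1_c1 h e (colimit G) q m₀ b _ rfl s).symm.trans ((congrArg (c1 h e (colimit G) q b) hy.symm).trans ?_)
    refine (toLim_cR Ts cT₀ F G ψ q k _ (((EtCoh.bc (hN.app (op k))).obj Q').hom ≫ eN.app (op k)) _ p' _ _ _ hp'T
      ((EtCoh.bc h).map b).left (bc_map_comp_hom h e b) ((EtCoh.bc (hN.app (op k))).map m').left
      (bc_map_comp_hom _ _ m') ?_ y).trans ?_
    · refine pullback.hom_ext ?_ ?_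
      · rw [Category.assoc, Category.assoc, d.lim_fst Ys hN cY h hh k hk,
          (EtCoh.isPullback_bc_map (hN.app (op k)) m').w, ← Category.assoc, ← Category.assoc,
          (EtCoh.isPullback_bc_map h b).w, show p' ≫ pullback.fst Q'.hom (hN.app (op k)) = pullback.fst O.hom h ≫ la from
            pullback.lift_fst _ _ _, Category.assoc, Category.assoc]
        refine congrArg (pullback.fst O.hom h ≫ ·) ?_
        have h1 : (a.left ≫ ((EtCoh.bc (cX.π.app (op k))).map m').left) ≫ pullback.fst _ _ =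
            (b.left ≫ e₀.left) ≫ pullback.fst _ _ :=
          congrArg (fun t : O ⟶ (EtCoh.bc (cX.π.app (op k))).obj (d.obj k hk) => t.left ≫ pullback.fst _ _) hab
        rw [Category.assoc, (EtCoh.isPullback_bc_map (cX.π.app (op k)) m').w, Category.assoc,
          bcLift_fst (cX.π.app (op k)) (d.pr k hk) (d.pr_hom k hk)] at h1
        exact h1.symm.trans (Category.assoc _ _ _).symm
      · show (_ ≫ _) ≫ ((EtCoh.bc (hN.app (op k))).obj (d.obj k hk)).hom = (_ ≫ _) ≫ ((EtCoh.bc (hN.app (op k))).obj (d.obj k hk)).hom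
        rw [Category.assoc, Category.assoc, d.lim_hom Ys hN cY h hh k hk, ← Category.assoc]
        refine (congrArg (· ≫ cY.π.app (op k)) (MorphismProperty.Over.w ((EtCoh.bc h).map b))).trans ?_
        exact hp'.symm.trans (congrArg (p' ≫ ·) (MorphismProperty.Over.w ((EtCoh.bc (hN.app (op k))).map m')).symm)
    refine (congrArg (toLim Ts cT₀ F G ψ q k _ p' _ hp'T) heq).trans ?_
    refine (toLim_cR Ts cT₀ F G ψ q k _ _ ρ p' _ _ hρ hp'T (lamTo f g h e w U n) (lamTo_hom f g h e w U n)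
      (lamTo (fN.app (op k)) (gN.app (op k)) (hN.app (op k)) (eN.app (op k)) (wN (op k)) U' n')
      (lamTo_hom _ _ _ _ (wN (op k)) U' n') ?_ x').symm
    refine pullback.hom_ext ?_ ?_
    · refine ((Category.assoc _ _ _).trans ((congrArg (_ ≫ ·) (pullback.lift_fst _ _ _)).trans
        ((Category.assoc _ _ _).symm.trans ((congrArg (· ≫ pullback.fst U'.hom (cS.π.app (op k)))
          (lamTo_fst f g h e w U n)).trans ((Category.assoc _ _ _).trans (congrArg (pullback.fst O.hom h ≫ ·)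
            ((congrArg (· ≫ pullback.fst U'.hom (cS.π.app (op k))) (bcLift_fst f ℓ _)).trans
              (pullback.lift_fst _ _ _)))))))).trans ?_
      refine Eq.symm ((Category.assoc _ _ _).trans ((congrArg (p' ≫ ·)
        (lamTo_fst _ _ _ _ (wN (op k)) U' n')).trans ?_))
      exact (Category.assoc _ _ _).symm.trans ((congrArg (· ≫ n'.left ≫ pullback.fst U'.hom (fN.app (op k)))
        (pullback.lift_fst _ _ _)).trans (Category.assoc _ _ _))
    · refine ((Category.assoc _ _ _).trans ((congrArg (_ ≫ ·) hρ).trans ((Category.assoc _ _ _).symm.trans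
        (congrArg (· ≫ cT₀.π.app (op k)) (lamTo_hom f g h e w U n))))).trans ?_
      exact ((Category.assoc _ _ _).trans ((congrArg (p' ≫ ·) (lamTo_hom _ _ _ _ (wN (op k)) U' n')).trans hp'T)).symm

include wN aX aS aT aY hcX hcS hcT hcY hf hg hh he hφ hψ in
theorem cInj_lim
    (H : ∀ i : ι, CInj (fN.app (op i)) (gN.app (op i)) (hN.app (op i)) (eN.app (op i)) (wN (op i))
      (η ≫ cX.π.app (op i)) (F i) q) :
    CInj f g h e w η (colimit G) q := by
  intro U z x Q n v hn hx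
  obtain ⟨U₀, mU, yU, hyU, ⟨d₀⟩⟩ := exists_desc_nbhd aS hcS U (ptOf z)
  obtain ⟨z₀, hz₀⟩ := exists_fiber_lift mU z yU hyU
  obtain ⟨Q₁, a₁, n₁, v₁, hv₁, hn₁, hsq⟩ := exists_lift_nbhd f mU z₀ hz₀ n v hn
  obtain ⟨Q₂, mQ, yQ, hyQ, ⟨dQ₀⟩⟩ := exists_desc_nbhd aX hcX Q₁ (ptOf v₁)
  obtain ⟨v₂, hv₂⟩ := exists_fiber_lift mQ v₁ yQ hyQ
  obtain ⟨j, hj₀, hjQ⟩ := exists_ge_ge d₀.i dQ₀.i
  haveI := aS (homOfLE hj₀).op
  haveI := aX (homOfLE hjQ).op
  let d : Desc U₀ := d₀.move j hj₀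
  let dQ : Desc Q₂ := dQ₀.move j hjQ
  obtain ⟨l, hl, xl, hxl⟩ := lower_surj aS aT hcS hcT g hg F φ hφ G ψ hψ q d (c0 g (colimit G) q mU x)
  let n₂ : Q₂ ⟶ (EtCoh.bc f).obj U₀ := mQ ≫ n₁
  have hz2 : cl g h e (colimit G) q f w U₀ n₂ (c0 g (colimit G) q mU x) = 0 := by
    rw [cl_c0, cl_congr g h e (colimit G) q f w (show (mQ ≫ n₁) ≫ (EtCoh.bc f).map mU = (mQ ≫ a₁) ≫ n by
      rw [Category.assoc, hsq, ← Category.assoc]), ← c1_cl, hx, map_zero]
  have hn₂ : (Scheme.pointSmallEtale η).fiber.map n₂ v₂ = (fiberCompIso f η).inv.app U₀ z₀ := by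
    rw [Functor.map_comp_apply, hv₂, hn₁]
  let a₂ : Q₂.left ⟶ d.U₁.left := n₂.left ≫ pullback.fst U₀.hom f ≫ d.p
  -- descend the morphism to a stage
  let Dq : Over (op dQ.i) ⥤ Scheme.{u} := dQ.sys Xs (𝟙 Xs)
  haveI : ∀ a : ιᵒᵖ, QuasiCompact ((𝟙 Xs : Xs ⟶ Xs).app a) := fun a =>
    inferInstanceAs (QuasiCompact (𝟙 (Xs.obj a)))
  haveI : ∀ a : ιᵒᵖ, QuasiSeparated ((𝟙 Xs : Xs ⟶ Xs).app a) := fun a =>
    inferInstanceAs (QuasiSeparated (𝟙 (Xs.obj a)))
  haveI : ∀ {a b : Over (op dQ.i)} (m : a ⟶ b), IsAffineHom (Dq.map m) :=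
    fun {a b} m => dQ.isAffineHom_sys_map aX Xs (𝟙 Xs) aX m
  haveI : ∀ k, CompactSpace (Dq.obj k) := dQ.compactSpace_sys aX Xs (𝟙 Xs)
  haveI : ∀ k, QuasiSeparatedSpace (Dq.obj k) := dQ.quasiSeparatedSpace_sys aX Xs (𝟙 Xs)
  have hid : ∀ a : ιᵒᵖ, 𝟙 cX.pt ≫ cX.π.app a = cX.π.app a ≫ (𝟙 Xs : Xs ⟶ Xs).app a := fun a => by
    rw [Category.id_comp]; exact (Category.comp_id _).symm
  obtain ⟨hcq⟩ := dQ.isLimit_cone Xs (𝟙 Xs) cX (𝟙 cX.pt) hid hcX
  haveI : IsFiltered ι := inferInstance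
  let t : Dq ⟶ (Functor.const (Over (op dQ.i))).obj (Ss.obj (op j)) :=
    { app := fun k => ((EtCoh.bc ((𝟙 Xs : Xs ⟶ Xs).app (op k.left.unop))).obj (dQ.obj k.left.unop k.hom.unop.le)).hom ≫
        fN.app (op k.left.unop) ≫ Ss.map (homOfLE (show j ≤ k.left.unop from k.hom.unop.le)).op
      naturality := fun k' k m => by
        refine Eq.trans ?_ (Category.comp_id _).symm
        refine (Category.assoc _ _ _).symm.trans ((congrArg (· ≫ _) (dQ.sys_map_hom Xs (𝟙 Xs) m)).trans ?_)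
        rw [Category.assoc, fN.naturality_assoc, map_op_comp] }
  haveI : Etale d.U₁.hom := d.U₁.prop
  obtain ⟨k₀, gk, hgk, hgk'⟩ := Scheme.exists_π_app_comp_eq_of_locallyOfFinitePresentation Dq t d.U₁.hom
    (dQ.cone Xs (𝟙 Xs) cX (𝟙 cX.pt) hid) hcq (pullback.fst Q₂.hom (𝟙 cX.pt) ≫ a₂) (by
      ext k
      show dQ.lim Xs (𝟙 Xs) cX (𝟙 cX.pt) hid k.left.unop k.hom.unop.le ≫ t.app k =
        (pullback.fst Q₂.hom (𝟙 cX.pt) ≫ a₂) ≫ d.U₁.hom
      show _ ≫ _ ≫ _ ≫ _ = (pullback.fst Q₂.hom (𝟙 cX.pt) ≫ n₂.left ≫ pullback.fst U₀.hom f ≫ d.p) ≫ d.U₁.hom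
      refine (Category.assoc _ _ _).symm.trans ((congrArg (· ≫ _) (dQ.lim_hom Xs (𝟙 Xs) cX (𝟙 cX.pt) hid _ _)).trans ?_)
      rw [Category.assoc, ← Category.assoc (cX.π.app _), ← hf, Category.assoc,
        cS.w (homOfLE (show j ≤ k.left.unop from k.hom.unop.le)).op, Category.assoc, Category.assoc, Category.assoc,
        d.isPb.w, pullback.condition_assoc, ← Category.assoc n₂.left,
        show n₂.left ≫ pullback.snd U₀.hom f = Q₂.hom from MorphismProperty.Over.w n₂,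
        ← Category.assoc (pullback.fst Q₂.hom (𝟙 cX.pt)), pullback.condition, Category.comp_id]
      rfl)
  obtain ⟨L, hkL, hlL⟩ := exists_ge_ge k₀.left.unop l
  have hjk₀ : dQ.i ≤ k₀.left.unop := k₀.hom.unop.le
  have hjL : j ≤ L := hl.trans hlL
  let sec : (dQ.obj k₀.left.unop hjk₀).left ⟶ Dq.obj k₀ :=
    pullback.lift (𝟙 _) (dQ.obj k₀.left.unop hjk₀).hom ((Category.id_comp _).trans (Category.comp_id _).symm)
  -- the models of the morphism
  let μ : ∀ (k : ι) (hk : k₀.left.unop ≤ k), (dQ.obj k (hjk₀.trans hk)).left ⟶ d.U₁.left :=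
    fun k hk => dQ.tr hjk₀ hk ≫ sec ≫ gk
  have hμ : ∀ (k : ι) (hk : k₀.left.unop ≤ k) (hjk : j ≤ k), μ k hk ≫ d.U₁.hom =
      ((dQ.obj k (hjk₀.trans hk)).hom ≫ fN.app (op k)) ≫ Ss.map (homOfLE hjk).op := fun k hk hjk => by
    show (_ ≫ _ ≫ gk) ≫ _ = _
    rw [Category.assoc, Category.assoc, hgk']
    show _ ≫ sec ≫ _ ≫ _ ≫ _ = _
    rw [← Category.assoc sec, show sec ≫ ((EtCoh.bc ((𝟙 Xs : Xs ⟶ Xs).app (op k₀.left.unop))).obj
      (dQ.obj k₀.left.unop hjk₀)).hom = (dQ.obj k₀.left.unop hjk₀).hom from pullback.lift_snd _ _ _,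
      ← Category.assoc, dQ.tr_hom, Category.assoc, fN.naturality_assoc, map_op_comp, Category.assoc]
  let nn : ∀ (k : ι) (hk : k₀.left.unop ≤ k) (hjk : d.i ≤ k),
      dQ.obj k (hjk₀.trans hk) ⟶ (EtCoh.bc (fN.app (op k))).obj (d.obj k hjk) := fun k hk hjk =>
    bcLift (fN.app (op k)) (pullback.lift (μ k hk) ((dQ.obj k (hjk₀.trans hk)).hom ≫ fN.app (op k)) (hμ k hk hjk))
      (pullback.lift_snd _ _ _)
  have hprμ : ∀ (k : ι) (hk : k₀.left.unop ≤ k), dQ.pr k (hjk₀.trans hk) ≫ μ k hk = a₂ := fun k hk => by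
    show _ ≫ _ ≫ sec ≫ gk = _
    rw [← Category.assoc, dQ.pr_tr]
    let σ : Q₂.left ⟶ ((EtCoh.bc (𝟙 cX.pt)).obj Q₂).left :=
      pullback.lift (𝟙 _) Q₂.hom ((Category.id_comp _).trans (Category.comp_id _).symm)
    have e1 : dQ.pr k₀.left.unop hjk₀ ≫ sec = σ ≫ dQ.lim Xs (𝟙 Xs) cX (𝟙 cX.pt) hid k₀.left.unop hjk₀ := by
      refine pullback.hom_ext ?_ ?_
      · rw [Category.assoc, Category.assoc, dQ.lim_fst, pullback.lift_fst]
        refine (Category.comp_id _).trans ?_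
        exact ((Category.assoc _ _ _).symm.trans ((congrArg (· ≫ _) (pullback.lift_fst _ _ _)).trans
          (Category.id_comp _))).symm
      · show (_ ≫ sec) ≫ ((EtCoh.bc ((𝟙 Xs : Xs ⟶ Xs).app (op k₀.left.unop))).obj (dQ.obj _ _)).hom =
          (_ ≫ _) ≫ ((EtCoh.bc ((𝟙 Xs : Xs ⟶ Xs).app (op k₀.left.unop))).obj (dQ.obj _ _)).hom
        rw [Category.assoc, Category.assoc, dQ.lim_hom]
        refine ((congrArg (_ ≫ ·) (pullback.lift_snd _ _ _)).trans (dQ.pr_hom _ _)).trans ?_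
        exact ((Category.assoc _ _ _).symm.trans (congrArg (· ≫ _) (pullback.lift_snd _ _ _))).symm
    rw [← Category.assoc, e1, Category.assoc]
    refine (congrArg (σ ≫ ·) hgk).trans ?_
    exact (Category.assoc _ _ _).symm.trans ((congrArg (· ≫ a₂) (pullback.lift_fst _ _ _)).trans (Category.id_comp _))
  have hnfst : ∀ (k : ι) (hk : k₀.left.unop ≤ k) (hjk : d.i ≤ k),
      (nn k hk hjk).left ≫ pullback.fst (d.obj k hjk).hom (fN.app (op k)) ≫
        pullback.fst d.U₁.hom (Ss.map (homOfLE hjk).op) = μ k hk := fun k hk hjk => by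
    rw [← Category.assoc, bcLift_fst]
    exact pullback.lift_fst _ _ _
  let tl : ((EtCoh.bc (gN.app (op L))).obj (d.obj L hjL)).left ⟶
      ((EtCoh.bc (gN.app (op l))).obj (d.obj l hl)).left :=
    pullback.lift (pullback.fst _ _ ≫ d.tr hl hlL) (pullback.snd _ _ ≫ Ts.map (homOfLE hlL).op) (by
      rw [Category.assoc, d.tr_hom, ← Category.assoc, pullback.condition, Category.assoc, Category.assoc,
        gN.naturality])
  let xL := toStage Ts F φ q hlL _ ((EtCoh.bc (gN.app (op L))).obj (d.obj L hjL)).hom tl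
    (pullback.lift_snd _ _ _) xl
  have hxL : toLim Ts cT₀ F G ψ q L _ (d.lim Ts gN cT₀ g hg L hjL) ((EtCoh.bc g).obj U₀).hom
      (d.lim_hom Ts gN cT₀ g hg L hjL) xL = c0 g (colimit G) q mU x := by
    refine (toLim_toStage Ts cT₀ F φ G ψ q hψ hlL _ _ tl _ (d.lim Ts gN cT₀ g hg L hjL) (d.lim Ts gN cT₀ g hg l hl)
      _ _ (d.lim_hom Ts gN cT₀ g hg l hl) ?_ xl).trans hxl
    refine pullback.hom_ext ?_ ?_
    · rw [Category.assoc, pullback.lift_fst, ← Category.assoc, d.lim_fst, d.lim_fst, Category.assoc, d.pr_tr]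
    · show (_ ≫ tl) ≫ ((EtCoh.bc _).obj _).hom = _ ≫ ((EtCoh.bc _).obj _).hom
      rw [Category.assoc, show tl ≫ ((EtCoh.bc (gN.app (op l))).obj (d.obj l hl)).hom =
        ((EtCoh.bc (gN.app (op L))).obj (d.obj L hjL)).hom ≫ Ts.map (homOfLE hlL).op from pullback.lift_snd _ _ _,
        ← Category.assoc, d.lim_hom, d.lim_hom, Category.assoc, cT₀.w (homOfLE hlL).op]
  let lamL := lamTo (fN.app (op L)) (gN.app (op L)) (hN.app (op L)) (eN.app (op L)) (wN (op L)) (d.obj L hjL)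
    (nn L hkL hjL)
  have hl1 : ∀ (k : ι) (hk : k₀.left.unop ≤ k) (hjk : d.i ≤ k),
      lamTo (fN.app (op k)) (gN.app (op k)) (hN.app (op k)) (eN.app (op k)) (wN (op k)) (d.obj k hjk) (nn k hk hjk) ≫
        pullback.fst (d.obj k hjk).hom (gN.app (op k)) ≫ pullback.fst d.U₁.hom (Ss.map (homOfLE hjk).op) =
      pullback.fst (dQ.obj k (hjk₀.trans hk)).hom (hN.app (op k)) ≫ μ k hk := fun k hk hjk =>
    (Category.assoc _ _ _).symm.trans ((congrArg (· ≫ _) (lamTo_fst _ _ _ _ (wN (op k)) _ _)).trans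
      ((Category.assoc _ _ _).trans (congrArg (_ ≫ ·) ((Category.assoc _ _ _).trans (hnfst k hk hjk)))))
  have hlam : lamTo f g h e w U₀ n₂ ≫ d.lim Ts gN cT₀ g hg L hjL =
      dQ.lim Ys hN cY h hh L (hjk₀.trans hkL) ≫ lamL := by
    refine bc_bc_ext _ _ ?_ ?_
    · refine ((Category.assoc _ _ _).trans ((congrArg (_ ≫ ·) ((Category.assoc _ _ _).symm.trans
        ((congrArg (· ≫ _) (d.lim_fst Ts gN cT₀ g hg L hjL)).trans ((Category.assoc _ _ _).trans
          (congrArg (_ ≫ ·) (d.pr_fst L hjL)))))).trans ((Category.assoc _ _ _).symm.trans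
            ((congrArg (· ≫ d.p) (lamTo_fst f g h e w U₀ n₂)).trans ((Category.assoc _ _ _).trans
              (congrArg (_ ≫ ·) (Category.assoc _ _ _))))))).trans ?_
      exact ((Category.assoc _ _ _).trans ((congrArg (_ ≫ ·) (hl1 L hkL hjL)).trans ((Category.assoc _ _ _).symm.trans
        ((congrArg (· ≫ μ L hkL) (dQ.lim_fst Ys hN cY h hh L (hjk₀.trans hkL))).trans ((Category.assoc _ _ _).trans
          (congrArg (_ ≫ ·) (hprμ L hkL))))))).symm
    · refine ((Category.assoc _ _ _).trans ((congrArg (_ ≫ ·) (d.lim_hom Ts gN cT₀ g hg L hjL)).trans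
        ((Category.assoc _ _ _).symm.trans (congrArg (· ≫ cT₀.π.app (op L)) (lamTo_hom f g h e w U₀ n₂))))).trans ?_
      exact ((Category.assoc _ _ _).trans ((congrArg (_ ≫ ·) (lamTo_hom _ _ _ _ (wN (op L)) _ _)).trans
        (upper_leg e he L _ _ _ (dQ.lim_hom Ys hN cY h hh L (hjk₀.trans hkL))))).symm
  have hyL : toLim Ts cT₀ F G ψ q L _ (dQ.lim Ys hN cY h hh L (hjk₀.trans hkL))
      (((EtCoh.bc h).obj Q₂).hom ≫ e) (upper_leg e he L _ _ _ (dQ.lim_hom Ys hN cY h hh L (hjk₀.trans hkL)))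
      (cl (gN.app (op L)) (hN.app (op L)) (eN.app (op L)) (F L) q (fN.app (op L)) (wN (op L)) (d.obj L hjL)
        (nn L hkL hjL) xL) = 0 := by
    refine (toLim_cR Ts cT₀ F G ψ q L _ _ _ _ _ _ (d.lim_hom Ts gN cT₀ g hg L hjL) _ _
      (lamTo_hom f g h e w U₀ n₂) lamL _ hlam xL).symm.trans ?_
    exact (congrArg _ hxL).trans hz2
  obtain ⟨M, hLM, p, hp, hpfst, hphom, hpz⟩ := upper_inj aX aY hcX hcY h e hh he F φ hφ G ψ hψ q dQ L
    (hjk₀.trans hkL) _ hyL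
  have hjM : j ≤ M := hjL.trans hLM
  let tM : ((EtCoh.bc (gN.app (op M))).obj (d.obj M hjM)).left ⟶
      ((EtCoh.bc (gN.app (op L))).obj (d.obj L hjL)).left :=
    pullback.lift (pullback.fst _ _ ≫ d.tr hjL hLM) (pullback.snd _ _ ≫ Ts.map (homOfLE hLM).op) (by
      rw [Category.assoc, d.tr_hom, ← Category.assoc, pullback.condition, Category.assoc, Category.assoc,
        gN.naturality])
  let xM := toStage Ts F φ q hLM _ ((EtCoh.bc (gN.app (op M))).obj (d.obj M hjM)).hom tM (pullback.lift_snd _ _ _) xL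
  let lamM := lamTo (fN.app (op M)) (gN.app (op M)) (hN.app (op M)) (eN.app (op M)) (wN (op M)) (d.obj M hjM)
    (nn M (hkL.trans hLM) hjM)
  have hlamM : lamM ≫ tM = p ≫ lamL := by
    refine bc_bc_ext _ _ ?_ ?_
    · refine ((Category.assoc _ _ _).trans ((congrArg (_ ≫ ·) ((Category.assoc _ _ _).symm.trans
        ((congrArg (· ≫ _) (pullback.lift_fst _ _ _)).trans ((Category.assoc _ _ _).trans
          (congrArg (_ ≫ ·) (d.tr_fst hjL hLM)))))).trans (hl1 M (hkL.trans hLM) hjM))).trans ?_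
      refine Eq.symm ((Category.assoc _ _ _).trans ((congrArg (p ≫ ·) (hl1 L hkL hjL)).trans
        ((Category.assoc _ _ _).symm.trans ((congrArg (· ≫ μ L hkL) hpfst).trans
          ((Category.assoc _ _ _).trans (congrArg (_ ≫ ·) ?_))))))
      show _ ≫ _ ≫ sec ≫ gk = _ ≫ sec ≫ gk
      refine (Category.assoc _ _ _).symm.trans (congrArg (· ≫ sec ≫ gk) ?_)
      refine pullback.hom_ext ?_ ?_
      · rw [Category.assoc, dQ.tr_fst, dQ.tr_fst, dQ.tr_fst]
      · show (_ ≫ _) ≫ (dQ.obj _ _).hom = _ ≫ (dQ.obj _ _).hom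
        rw [Category.assoc, dQ.tr_hom, dQ.tr_hom, ← Category.assoc, dQ.tr_hom, Category.assoc, map_op_comp]
    · refine ((Category.assoc _ _ _).trans ((congrArg (lamM ≫ ·) (pullback.lift_snd _ _ _)).trans
        ((Category.assoc _ _ _).symm.trans (congrArg (· ≫ Ts.map (homOfLE hLM).op)
          (lamTo_hom _ _ _ _ (wN (op M)) _ _))))).trans ?_
      exact ((Category.assoc _ _ _).trans ((congrArg (p ≫ ·) (lamTo_hom _ _ _ _ (wN (op L)) _ _)).trans hp)).symm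
  have hyM : cl (gN.app (op M)) (hN.app (op M)) (eN.app (op M)) (F M) q (fN.app (op M)) (wN (op M)) (d.obj M hjM)
      (nn M (hkL.trans hLM) hjM) xM = 0 :=
    (toStage_cR Ts F φ q hLM _ _ tM (pullback.lift_snd _ _ _) _ _ p hp lamL (lamTo_hom _ _ _ _ (wN (op L)) _ _)
      lamM (lamTo_hom _ _ _ _ (wN (op M)) _ _) hlamM xL).trans hpz
  have hxM : toLim Ts cT₀ F G ψ q M _ (d.lim Ts gN cT₀ g hg M hjM) ((EtCoh.bc g).obj U₀).hom
      (d.lim_hom Ts gN cT₀ g hg M hjM) xM = c0 g (colimit G) q mU x := by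
    refine (toLim_toStage Ts cT₀ F φ G ψ q hψ hLM _ _ tM _ (d.lim Ts gN cT₀ g hg M hjM) (d.lim Ts gN cT₀ g hg L hjL)
      _ _ (d.lim_hom Ts gN cT₀ g hg L hjL) ?_ xL).trans hxL
    refine pullback.hom_ext ?_ ?_
    · rw [Category.assoc, pullback.lift_fst, ← Category.assoc, d.lim_fst, d.lim_fst, Category.assoc, d.pr_tr]
    · show (_ ≫ tM) ≫ ((EtCoh.bc _).obj _).hom = _ ≫ ((EtCoh.bc _).obj _).hom
      rw [Category.assoc, show tM ≫ ((EtCoh.bc (gN.app (op L))).obj (d.obj L hjL)).hom =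
        ((EtCoh.bc (gN.app (op M))).obj (d.obj M hjM)).hom ≫ Ts.map (homOfLE hLM).op from pullback.lift_snd _ _ _,
        ← Category.assoc, d.lim_hom, d.lim_hom, Category.assoc, cT₀.w (homOfLE hLM).op]
  -- the points at the stage
  let lz : Spec (CommRingCat.of Ω) ⟶ U₀.left := z₀.left
  have hlz : lz ≫ U₀.hom = η ≫ f := Over.w z₀
  let lv : Spec (CommRingCat.of Ω) ⟶ Q₂.left := v₂.left
  have hlv : lv ≫ Q₂.hom = η := Over.w v₂
  let zM : (Scheme.pointSmallEtale ((η ≫ cX.π.app (op M)) ≫ fN.app (op M))).fiber.obj (d.obj M hjM) :=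
    Over.homMk (lz ≫ d.pr M hjM) (by
      refine (Category.assoc _ _ _).trans ((congrArg (lz ≫ ·) (d.pr_hom M hjM)).trans ?_)
      exact ((Category.assoc _ _ _).symm.trans (congrArg (· ≫ cS.π.app (op M)) hlz)).trans
        (point_comp f hf η (op M)).symm)
  let vM : (Scheme.pointSmallEtale (η ≫ cX.π.app (op M))).fiber.obj (dQ.obj M (hjk₀.trans (hkL.trans hLM))) :=
    Over.homMk (lv ≫ dQ.pr M (hjk₀.trans (hkL.trans hLM))) (by
      refine (Category.assoc _ _ _).trans ((congrArg (lv ≫ ·) (dQ.pr_hom M _)).trans ?_)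
      exact (Category.assoc _ _ _).symm.trans (congrArg (· ≫ cX.π.app (op M)) hlv))
  have hnM : (Scheme.pointSmallEtale (η ≫ cX.π.app (op M))).fiber.map (nn M (hkL.trans hLM) hjM) vM =
      (fiberCompIso (fN.app (op M)) (η ≫ cX.π.app (op M))).inv.app (d.obj M hjM) zM := by
    refine bcLift_pt (fN.app (op M)) _ _ vM zM ?_
    refine pullback.hom_ext ?_ ?_
    · refine (Category.assoc _ _ _).trans ((congrArg (_ ≫ ·) (pullback.lift_fst _ _ _)).trans ?_)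
      refine ((Category.assoc _ _ _).trans (congrArg (lv ≫ ·) (hprμ M _))).trans ?_
      refine Eq.trans ?_ (((Category.assoc _ _ _).trans (congrArg (lz ≫ ·) (d.pr_fst M hjM))).symm)
      refine Eq.trans ?_ (congrArg (· ≫ d.p) (pt_fst_of_map f hn₂))
      exact ((Category.assoc _ _ _).trans (congrArg (lv ≫ ·) (Category.assoc _ _ _))).symm
    · refine (Category.assoc _ _ _).trans ((congrArg (_ ≫ ·) (pullback.lift_snd _ _ _)).trans ?_)
      refine ((Category.assoc _ _ _).symm.trans (congrArg (· ≫ fN.app (op M)) (Over.w vM))).trans ?_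
      exact (Over.w zM).symm
  obtain ⟨VM, mM, yM, hmM, h0M⟩ := H M (d.obj M hjM) zM xM _ (nn M (hkL.trans hLM) hjM) vM hnM hyM
  let yV : (Scheme.pointSmallEtale (η ≫ f)).fiber.obj ((EtCoh.bc (cS.π.app (op M))).obj VM) :=
    Over.homMk (pullback.lift (show Spec (CommRingCat.of Ω) ⟶ VM.left from yM.left) (η ≫ f)
      ((Over.w yM).trans (point_comp f hf η (op M)))) (pullback.lift_snd _ _ _)
  let eU : U₀ ⟶ (EtCoh.bc (cS.π.app (op M))).obj (d.obj M hjM) :=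
    bcLift (cS.π.app (op M)) (d.pr M hjM) (d.pr_hom M hjM)
  let zM' : (Scheme.pointSmallEtale ((η ≫ f) ≫ cS.π.app (op M))).fiber.obj (d.obj M hjM) :=
    Over.homMk (lz ≫ d.pr M hjM) ((Over.w zM).trans (point_comp f hf η (op M)))
  obtain ⟨O, a, b, vO, ha, hb, hab⟩ := exists_cospan ((EtCoh.bc (cS.π.app (op M))).map mM) eU yV z₀ (by
    refine (bcPt_ext (cS.π.app (op M)) (z := zM') ?_).trans (bcPt_ext (cS.π.app (op M)) (z := zM') ?_).symm
    · refine (Category.assoc _ _ _).trans ((congrArg (_ ≫ ·)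
        (EtCoh.isPullback_bc_map (cS.π.app (op M)) mM).w).trans ?_)
      refine (Category.assoc _ _ _).symm.trans ((congrArg (· ≫ mM.left) (pullback.lift_fst _ _ _)).trans ?_)
      exact congrArg (fun t => t.left) hmM
    · exact (Category.assoc _ _ _).trans (congrArg (lz ≫ ·) (bcLift_fst _ _ _)))
  refine ⟨O, b ≫ mU, vO, by rw [Functor.map_comp_apply, hb, hz₀], ?_⟩
  refine (c0_c0 g (colimit G) q mU b _ rfl x).symm.trans ((congrArg (c0 g (colimit G) q b) hxM.symm).trans ?_)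
  let p' : ((EtCoh.bc g).obj O).left ⟶ ((EtCoh.bc (gN.app (op M))).obj VM).left :=
    pullback.lift (pullback.fst O.hom g ≫ a.left ≫ pullback.fst VM.hom (cS.π.app (op M)))
      (pullback.snd O.hom g ≫ cT₀.π.app (op M)) (by
        simp only [Category.assoc]
        rw [pullback.condition (f := VM.hom), ← Category.assoc a.left,
          show a.left ≫ pullback.snd VM.hom (cS.π.app (op M)) = O.hom from MorphismProperty.Over.w a,
          ← Category.assoc, pullback.condition, Category.assoc, hg])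
  have hp' : p' ≫ ((EtCoh.bc (gN.app (op M))).obj VM).hom = ((EtCoh.bc g).obj O).hom ≫ cT₀.π.app (op M) :=
    pullback.lift_snd _ _ _
  refine (toLim_cR Ts cT₀ F G ψ q M _ _ _ p' _ _ (d.lim_hom Ts gN cT₀ g hg M hjM) hp'
    ((EtCoh.bc g).map b).left (MorphismProperty.Over.w ((EtCoh.bc g).map b))
    ((EtCoh.bc (gN.app (op M))).map mM).left (MorphismProperty.Over.w ((EtCoh.bc (gN.app (op M))).map mM)) ?_ xM).trans
    ((congrArg _ h0M).trans (map_zero _))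
  refine pullback.hom_ext ?_ ?_
  · rw [Category.assoc, Category.assoc, d.lim_fst, (EtCoh.isPullback_bc_map (gN.app (op M)) mM).w, ← Category.assoc,
      ← Category.assoc, (EtCoh.isPullback_bc_map g b).w,
      show p' ≫ pullback.fst VM.hom (gN.app (op M)) = pullback.fst O.hom g ≫ a.left ≫ pullback.fst VM.hom _ from
        pullback.lift_fst _ _ _]
    simp only [Category.assoc]
    refine congrArg (pullback.fst O.hom g ≫ ·) ?_
    have h1 : (a.left ≫ ((EtCoh.bc (cS.π.app (op M))).map mM).left) ≫ pullback.fst _ _ =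
        (b.left ≫ eU.left) ≫ pullback.fst _ _ :=
      congrArg (fun t : O ⟶ (EtCoh.bc (cS.π.app (op M))).obj (d.obj M hjM) => t.left ≫ pullback.fst _ _) hab
    rw [Category.assoc, (EtCoh.isPullback_bc_map (cS.π.app (op M)) mM).w, Category.assoc,
      bcLift_fst (cS.π.app (op M)) (d.pr M hjM) (d.pr_hom M hjM)] at h1
    exact h1.symm
  · show (_ ≫ _) ≫ ((EtCoh.bc _).obj _).hom = (_ ≫ _) ≫ ((EtCoh.bc _).obj _).hom
    rw [Category.assoc, Category.assoc, d.lim_hom, ← Category.assoc]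
    refine (congrArg (· ≫ cT₀.π.app (op M)) (MorphismProperty.Over.w ((EtCoh.bc g).map b))).trans ?_
    exact hp'.symm.trans (congrArg (p' ≫ ·) (MorphismProperty.Over.w ((EtCoh.bc (gN.app (op M))).map mM)).symm)

end Groth.Agent.H1DFun
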