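import Mathlib.CategoryTheory.Abelian.RightDerived
import Mathlib.Algebra.Homology.ShortComplex.ExactFunctor
import Mathlib.Algebra.Homology.ShortComplex.PreservesHomology

/-!
# Right derived functors followed by an exact functor
-/

set_option autoImplicit false
set_option backward.isDefEq.respectTransparency false

universe v u v₁ u₁ v₂ u₂

open CategoryTheory CategoryTheory.Limits

namespace Groth.Agent.H1DFun

variable {C : Type u} [Category.{v} C] [Abelian C] [HasInjectiveResolutions C]
  {D : Type u₁} [Category.{v₁} D] [Abelian D] {D' : Type u₂} [Category.{v₂} D'] [Abelian D']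

/-- Right derived functors commute with exact functors. -/
theorem nonempty_rightDerived_comp_exact (F : C ⥤ D) [F.Additive] (E : D ⥤ D') [E.Additive]
    [PreservesFiniteLimits E] [PreservesFiniteColimits E] (n : ℕ) :
    Nonempty (F.rightDerived n ⋙ E ≅ (F ⋙ E).rightDerived n) := by
  refine ⟨NatIso.ofComponents (fun X => E.mapIso ((injectiveResolution X).isoRightDerivedObj F n) ≪≫
    ((((F.mapHomologicalComplex _).obj (injectiveResolution X).cocomplex).sc n).mapHomologyIso E).symm ≪≫
    ((injectiveResolution X).isoRightDerivedObj (F ⋙ E) n).symm) fun {X Y} f => ?_⟩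
  let φ := InjectiveResolution.desc f (injectiveResolution Y) (injectiveResolution X)
  have hφ : (injectiveResolution X).ι.f 0 ≫ φ.f 0 = f ≫ (injectiveResolution Y).ι.f 0 :=
    InjectiveResolution.desc_commutes_zero f (injectiveResolution Y) (injectiveResolution X)
  simp only [Iso.trans_hom, Functor.mapIso_hom, Iso.symm_hom, Category.assoc, Functor.comp_map]
  rw [InjectiveResolution.isoRightDerivedObj_inv_naturality f _ _ φ hφ (F ⋙ E) n, ← Functor.map_comp_assoc,
    InjectiveResolution.isoRightDerivedObj_hom_naturality f _ _ φ hφ F n, Functor.map_comp, Category.assoc]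
  refine congrArg (E.map _ ≫ ·) ?_
  rw [← Category.assoc, ← Category.assoc]
  refine congrArg (· ≫ _) ?_
  exact ShortComplex.mapHomologyIso_inv_naturality
    ((HomologicalComplex.shortComplexFunctor D (ComplexShape.up ℕ) n).map
      ((F.mapHomologicalComplex (ComplexShape.up ℕ)).map φ)) E

end Groth.Agent.H1DFun
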