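import Mathlib.CategoryTheory.Abelian.RightDerived
import Mathlib.CategoryTheory.Abelian.Injective.Ext
import Mathlib.Algebra.Category.Grp.Abelian
import Mathlib.Algebra.Homology.DerivedCategory.Ext.ExactSequences
import Mathlib.Algebra.Homology.ShortComplex.Ab

/-!
# Right derived functors of `Hom(A, L -)` for an exact `L`

If `L` is exact and sends injective objects to objects with vanishing higher `Ext(A, -)`, then the
right derived functors of `Ext^0(A, L -)` are the functors `Ext^n(A, L -)`.
-/

set_option autoImplicit false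
set_option backward.isDefEq.respectTransparency false

universe w v u v' u'

open CategoryTheory CategoryTheory.Limits CategoryTheory.Abelian Opposite

namespace Groth.Agent.H1DFun

variable {C : Type u} [Category.{v} C] [Abelian C] [HasInjectiveResolutions C]
  {C' : Type u'} [Category.{v'} C'] [Abelian C'] [HasExt.{w} C']
  (A : C') (L : C ⥤ C') [L.Additive] [PreservesFiniteLimits L] [PreservesFiniteColimits L]

section Res

variable {X : C} (R : InjectiveResolution X)

/-- The short exact sequences of cycles of a resolution. -/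
noncomputable abbrev cycSeq (i : ℕ) : ShortComplex C :=
  ShortComplex.mk (R.cocomplex.iCycles i) (R.cocomplex.toCycles i (i + 1)) (by
    rw [← cancel_mono (R.cocomplex.iCycles (i + 1))]
    simp)

theorem cycSeq_shortExact (i : ℕ) : (cycSeq R i).ShortExact where
  exact := by
    refine ShortComplex.exact_of_f_is_kernel _ ?_
    refine KernelFork.IsLimit.ofι' _ (cycSeq R i).zero fun {W} k hk => ?_
    have hk' : k ≫ R.cocomplex.d i (i + 1) = 0 := by
      rw [← R.cocomplex.toCycles_i i (i + 1), ← Category.assoc]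
      exact (congrArg (· ≫ R.cocomplex.iCycles (i + 1)) hk).trans zero_comp
    exact ⟨R.cocomplex.liftCycles k (i + 1) (by simp) hk', R.cocomplex.liftCycles_i _ _ _ _⟩
  mono_f := inferInstanceAs (Mono (R.cocomplex.iCycles i))
  epi_g := by
    refine Preadditive.epi_of_cancel_zero _ fun g hg => ?_
    have h0 : IsZero (R.cocomplex.homology (i + 1)) :=
      (R.cocomplex.exactAt_iff_isZero_homology (i + 1)).1 (R.cocomplex_exactAt_succ i)
    obtain ⟨l, hl⟩ := CokernelCofork.IsColimit.desc'
      (R.cocomplex.homologyIsCokernel i (i + 1) (by simp)) g hg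
    rw [← hl, h0.eq_of_src l 0]
    exact comp_zero

/-- The object is the zeroth cycles. -/
noncomputable def augIso : R.cocomplex.cycles 0 ≅ X :=
  (R.cocomplex.cyclesIsKernel 0 1 (by simp)).conePointUniqueUpToIso R.isLimitKernelFork

theorem augIso_hom_ι : (augIso R).hom ≫ R.ι.f 0 = R.cocomplex.iCycles 0 :=
  IsLimit.conePointUniqueUpToIso_hom_comp (R.cocomplex.cyclesIsKernel 0 1 (by simp)) R.isLimitKernelFork
    WalkingParallelPair.zero

/-- The dimension shifting map. -/
noncomputable def psi : ∀ (i m n : ℕ), m + i = n →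
    (Ext A (L.obj (R.cocomplex.cycles i)) m →+ Ext A (L.obj X) n)
  | 0, _, _, h => (Ext.mk₀ (L.map (augIso R).hom)).postcomp A h
  | i + 1, m, n, h => (psi i (m + 1) n (by omega)).comp
      (((cycSeq_shortExact R i).map_of_exact L).extClass.postcomp A rfl)

theorem psi_zero {m n : ℕ} (h : m + 0 = n) (x : Ext A (L.obj (R.cocomplex.cycles 0)) m) :
    psi A L R 0 m n h x = x.comp (Ext.mk₀ (L.map (augIso R).hom)) h := rfl

theorem psi_succ {i m n : ℕ} (h : m + (i + 1) = n) (x : Ext A (L.obj (R.cocomplex.cycles (i + 1))) m) :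
    psi A L R (i + 1) m n h x = psi A L R i (m + 1) n (by omega)
      (x.comp ((cycSeq_shortExact R i).map_of_exact L).extClass rfl) := rfl

theorem psi_zero_bijective {m n : ℕ} (h : m + 0 = n) : Function.Bijective (psi A L R 0 m n h) := by
  obtain rfl : m = n := h
  refine Function.bijective_iff_has_inverse.2
    ⟨fun y => y.comp (Ext.mk₀ (L.map (augIso R).inv)) (add_zero m), fun x => ?_, fun y => ?_⟩
  · simp only [psi_zero]
    rw [Ext.comp_assoc_of_second_deg_zero, Ext.mk₀_comp_mk₀, ← L.map_comp, Iso.hom_inv_id, L.map_id,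
      Ext.comp_mk₀_id]
  · simp only [psi_zero]
    rw [Ext.comp_assoc_of_second_deg_zero, Ext.mk₀_comp_mk₀, ← L.map_comp, Iso.inv_hom_id, L.map_id,
      Ext.comp_mk₀_id]

variable (hA : ∀ (I : C) [Injective I] (n : ℕ), Subsingleton (Ext A (L.obj I) (n + 1)))

include hA in
theorem psi_bijective : ∀ (i m n : ℕ) (h : m + 1 + i = n), Function.Bijective (psi A L R i (m + 1) n h) := by
  intro i
  induction i with
  | zero => exact fun m n h => psi_zero_bijective A L R h
  | succ i ih =>
    intro m n h
    have hS := (cycSeq_shortExact R i).map_of_exact L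
    haveI : Subsingleton (Ext A ((cycSeq R i).map L).X₂ (m + 1)) := hA (R.cocomplex.X i) m
    haveI : Subsingleton (Ext A ((cycSeq R i).map L).X₂ (m + 1 + 1)) := hA (R.cocomplex.X i) (m + 1)
    refine (ih (m + 1) n (by omega)).comp ⟨(injective_iff_map_eq_zero _).2 fun x hx => ?_, fun y => ?_⟩
    · obtain ⟨z, rfl⟩ := Ext.covariant_sequence_exact₃ A hS x rfl hx
      rw [Subsingleton.elim z 0, Ext.zero_comp]
    · exact Ext.covariant_sequence_exact₁ A hS y (Subsingleton.elim _ _) rfl

include hA in
theorem psi_surjective (n : ℕ) : Function.Surjective (psi A L R n 0 n (zero_add n)) := by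
  cases n with
  | zero => exact (psi_zero_bijective A L R _).2
  | succ i =>
    have hS := (cycSeq_shortExact R i).map_of_exact L
    haveI : Subsingleton (Ext A ((cycSeq R i).map L).X₂ (0 + 1)) := hA (R.cocomplex.X i) 0
    intro y
    obtain ⟨y', rfl⟩ := (psi_bijective A L R hA i 0 (i + 1) (by omega)).2 y
    obtain ⟨x, hx⟩ := Ext.covariant_sequence_exact₁ A hS y' (Subsingleton.elim _ _) rfl
    exact ⟨x, (psi_succ A L R _ x).trans (congrArg _ hx)⟩

include hA in
theorem psi_succ_eq_zero_iff (i : ℕ) (x : Ext A (L.obj (R.cocomplex.cycles (i + 1))) 0) :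
    psi A L R (i + 1) 0 (i + 1) (zero_add _) x = 0 ↔
      ∃ y : Ext A (L.obj (R.cocomplex.X i)) 0,
        y.comp (Ext.mk₀ (L.map (R.cocomplex.toCycles i (i + 1)))) (add_zero 0) = x := by
  have hS := (cycSeq_shortExact R i).map_of_exact L
  rw [psi_succ]
  constructor
  · intro h
    exact Ext.covariant_sequence_exact₃ A hS x rfl
      ((psi_bijective A L R hA i 0 (i + 1) (by omega)).1 (h.trans (map_zero _).symm))
  · rintro ⟨y, rfl⟩
    rw [Ext.comp_assoc_of_second_deg_zero]
    exact (congrArg _ ((congrArg (fun e => Ext.comp y e _) hS.comp_extClass).trans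
      (Ext.comp_zero _ _ _ _ _))).trans (map_zero _)

end Res

variable {X Y : C} (R : InjectiveResolution X) (R' : InjectiveResolution Y) (f : X ⟶ Y)
  (φ : R.cocomplex ⟶ R'.cocomplex) (hφ : R.ι.f 0 ≫ φ.f 0 = f ≫ R'.ι.f 0)

include hφ in
theorem psi_naturality : ∀ (i m n : ℕ) (h : m + i = n) (x : Ext A (L.obj (R.cocomplex.cycles i)) m),
    psi A L R' i m n h (x.comp (Ext.mk₀ (L.map (HomologicalComplex.cyclesMap φ i))) (add_zero m)) =
      (psi A L R i m n h x).comp (Ext.mk₀ (L.map f)) (add_zero n) := by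
  intro i
  induction i with
  | zero =>
    intro m n h x
    obtain rfl : m = n := h
    rw [psi_zero, psi_zero, Ext.comp_assoc_of_second_deg_zero, Ext.comp_assoc_of_second_deg_zero,
      Ext.mk₀_comp_mk₀, Ext.mk₀_comp_mk₀, ← L.map_comp, ← L.map_comp]
    congr 3
    haveI := R'.ι.f 0
    rw [← cancel_mono (R'.ι.f 0), Category.assoc, Category.assoc, augIso_hom_ι, ← hφ,
      ← Category.assoc (augIso R).hom, augIso_hom_ι, HomologicalComplex.cyclesMap_i]
  | succ i ih =>
    intro m n h x
    rw [psi_succ, psi_succ]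
    refine Eq.trans ?_ (ih (m + 1) n (by omega) _)
    let τ : (cycSeq R i).map L ⟶ (cycSeq R' i).map L := ShortComplex.homMk
      (L.map (HomologicalComplex.cyclesMap φ i)) (L.map (φ.f i))
      (L.map (HomologicalComplex.cyclesMap φ (i + 1)))
      (by simp only [ShortComplex.map_f, ← L.map_comp, HomologicalComplex.cyclesMap_i])
      (by
        simp only [ShortComplex.map_g, ← L.map_comp]
        congr 1
        rw [← cancel_mono (R'.cocomplex.iCycles (i + 1))]
        simp)
    refine congrArg _ ?_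
    rw [Ext.comp_assoc_of_second_deg_zero]
    refine Eq.trans ?_ (Ext.comp_assoc_of_third_deg_zero _ _ _ _).symm
    exact congrArg (fun e => Ext.comp x e rfl)
      (ShortComplex.ShortExact.extClass_naturality ((cycSeq_shortExact R i).map_of_exact L)
        ((cycSeq_shortExact R' i).map_of_exact L) τ).symm

/-- `Ext^0(A, L -)`. -/
noncomputable abbrev homFun : C ⥤ AddCommGrpCat.{w} := L ⋙ extFunctorObj A 0

instance : (homFun A L).Additive := inferInstanceAs ((L ⋙ extFunctorObj A 0).Additive)

/-- The complex computing the derived functors. -/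
noncomputable abbrev cx : CochainComplex AddCommGrpCat.{w} ℕ :=
  ((homFun A L).mapHomologicalComplex (ComplexShape.up ℕ)).obj R.cocomplex

theorem exists_lift (n : ℕ) (z : (cx A L R).cycles n) :
    ∃! a : Ext A (L.obj (R.cocomplex.cycles n)) 0,
      a.comp (Ext.mk₀ (L.map (R.cocomplex.iCycles n))) (add_zero 0) = ((cx A L R).iCycles n) z := by
  have hS := (cycSeq_shortExact R n).map_of_exact L
  have hz : Ext.comp (((cx A L R).iCycles n) z : Ext A (L.obj (R.cocomplex.X n)) 0)
      (Ext.mk₀ (L.map (R.cocomplex.d n (n + 1)))) (add_zero 0) = 0 :=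
    ConcreteCategory.congr_hom ((cx A L R).iCycles_d n (n + 1)) z
  have hz' : Ext.comp (((cx A L R).iCycles n) z : Ext A (L.obj (R.cocomplex.X n)) 0)
      (Ext.mk₀ (L.map (R.cocomplex.toCycles n (n + 1)))) (add_zero 0) = 0 := by
    refine Ext.postcomp_mk₀_injective_of_mono A (L.map (R.cocomplex.iCycles (n + 1))) ?_
    show Ext.comp (Ext.comp _ _ (add_zero 0)) _ (add_zero 0) =
      Ext.comp (0 : Ext A (L.obj (R.cocomplex.cycles (n + 1))) 0) _ (add_zero 0)
    rw [Ext.comp_assoc_of_second_deg_zero, Ext.mk₀_comp_mk₀, ← L.map_comp, HomologicalComplex.toCycles_i,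
      Ext.zero_comp]
    exact hz
  obtain ⟨a, ha⟩ := Ext.covariant_sequence_exact₂ A hS _ hz'
  exact ⟨a, ha, fun b hb => Ext.postcomp_mk₀_injective_of_mono A (L.map (R.cocomplex.iCycles n))
    (hb.trans ha.symm)⟩

/-- The lift of a cycle. -/
noncomputable def lift (n : ℕ) (z : (cx A L R).cycles n) : Ext A (L.obj (R.cocomplex.cycles n)) 0 :=
  (exists_lift A L R n z).choose

theorem lift_spec (n : ℕ) (z : (cx A L R).cycles n) :
    (lift A L R n z).comp (Ext.mk₀ (L.map (R.cocomplex.iCycles n))) (add_zero 0) =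
      ((cx A L R).iCycles n) z :=
  (exists_lift A L R n z).choose_spec.1

theorem lift_unique (n : ℕ) (z : (cx A L R).cycles n) (a : Ext A (L.obj (R.cocomplex.cycles n)) 0)
    (h : a.comp (Ext.mk₀ (L.map (R.cocomplex.iCycles n))) (add_zero 0) = ((cx A L R).iCycles n) z) :
    lift A L R n z = a :=
  ((exists_lift A L R n z).choose_spec.2 a h).symm

/-- Cycles to `Ext`. -/
noncomputable def cyclesToExt (n : ℕ) :
    (cx A L R).cycles n ⟶ AddCommGrpCat.of (Ext A (L.obj X) n) :=
  AddCommGrpCat.ofHom (AddMonoidHom.mk' (fun z => psi A L R n 0 n (zero_add n) (lift A L R n z))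
    fun a b => by
      rw [← map_add]
      refine congrArg _ (lift_unique A L R n _ _ ?_)
      rw [Ext.add_comp, lift_spec, lift_spec, map_add])

variable (hA : ∀ (I : C) [Injective I] (n : ℕ), Subsingleton (Ext A (L.obj I) (n + 1)))

theorem exists_cycle (n : ℕ) (a : Ext A (L.obj (R.cocomplex.cycles n)) 0) :
    ∃ z, lift A L R n z = a := by
  let e : Ext A (L.obj (R.cocomplex.X n)) 0 := a.comp (Ext.mk₀ (L.map (R.cocomplex.iCycles n))) (add_zero 0)
  have he : ((cx A L R).d n (n + 1)) e = 0 := by
    show Ext.comp e (Ext.mk₀ (L.map (R.cocomplex.d n (n + 1)))) (add_zero 0) = 0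
    rw [Ext.comp_assoc_of_second_deg_zero, Ext.mk₀_comp_mk₀, ← L.map_comp,
      HomologicalComplex.iCycles_d, L.map_zero, Ext.mk₀_zero, Ext.comp_zero]
  let k : AddCommGrpCat.of (ULift.{w} ℤ) ⟶ (cx A L R).X n :=
    AddCommGrpCat.ofHom ((zmultiplesHom _ e).comp AddEquiv.ulift.toAddMonoidHom)
  have hk : k ≫ (cx A L R).d n (n + 1) = 0 := by
    ext m
    change ((cx A L R).d n (n + 1)) ((AddEquiv.ulift m) • e) = 0
    rw [map_zsmul, he, smul_zero]
  refine ⟨((cx A L R).liftCycles k (n + 1) (by simp) hk) ⟨1⟩, lift_unique A L R n _ _ ?_⟩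
  refine Eq.trans ?_ (ConcreteCategory.congr_hom ((cx A L R).liftCycles_i k (n + 1) (by simp) hk) _).symm
  exact (one_zsmul e).symm

include hA in
theorem cyclesToExt_surjective (n : ℕ) : Function.Surjective (cyclesToExt A L R n) := fun y => by
  obtain ⟨a, rfl⟩ := psi_surjective A L R hA n y
  obtain ⟨z, rfl⟩ := exists_cycle A L R n a
  exact ⟨z, rfl⟩

include hA in
theorem cyclesToExt_eq_zero_iff (n : ℕ) (z : (cx A L R).cycles n) :
    cyclesToExt A L R n z = 0 ↔ (cx A L R).homologyπ n z = 0 := by
  have hex : ∀ i, (ComplexShape.up ℕ).prev n = i →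
      ((cx A L R).homologyπ n z = 0 ↔ ∃ g, (cx A L R).toCycles i n g = z) := fun i hi => by
    refine ⟨fun h => ?_, ?_⟩
    · exact (ShortComplex.ab_exact_iff _).1 (ShortComplex.exact_of_g_is_cokernel
        (ShortComplex.mk _ _ ((cx A L R).toCycles_comp_homologyπ i n))
        ((cx A L R).homologyIsCokernel i n hi)) z h
    · rintro ⟨g, rfl⟩
      exact ConcreteCategory.congr_hom ((cx A L R).toCycles_comp_homologyπ i n) g
  have hinj : Function.Injective ((cx A L R).iCycles n) :=
    (AddCommGrpCat.mono_iff_injective _).1 inferInstance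
  have htoC : ∀ i (g : (cx A L R).X i), (cx A L R).iCycles n ((cx A L R).toCycles i n g) =
      Ext.comp (g : Ext A (L.obj (R.cocomplex.X i)) 0) (Ext.mk₀ (L.map (R.cocomplex.d i n))) (add_zero 0) :=
    fun i g => ConcreteCategory.congr_hom ((cx A L R).toCycles_i i n) g
  cases n with
  | zero =>
    rw [hex 0 CochainComplex.prev_nat_zero]
    refine ⟨fun h => ⟨0, ?_⟩, ?_⟩
    · have h0 : lift A L R 0 z = 0 :=
        (psi_zero_bijective A L R (m := 0) (n := 0) rfl).1 (h.trans (map_zero _).symm)
      rw [map_zero]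
      refine hinj ?_
      rw [map_zero, ← lift_spec, h0, Ext.zero_comp]
    · rintro ⟨g, rfl⟩
      refine (congrArg (psi A L R 0 0 0 rfl) (lift_unique A L R 0 _ 0 ?_)).trans (map_zero _)
      rw [htoC, R.cocomplex.shape 0 0 (by simp), L.map_zero, Ext.mk₀_zero, Ext.comp_zero, Ext.zero_comp]
  | succ i =>
    rw [hex i (by simp)]
    refine (psi_succ_eq_zero_iff A L R hA i (lift A L R (i + 1) z)).trans
      ⟨fun ⟨y, hy⟩ => ⟨y, hinj ?_⟩, fun ⟨g, hg⟩ => ⟨g, ?_⟩⟩
    · rw [htoC, ← lift_spec, ← hy, Ext.comp_assoc_of_second_deg_zero, Ext.mk₀_comp_mk₀, ← L.map_comp,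
        HomologicalComplex.toCycles_i]
    · refine (lift_unique A L R (i + 1) z _ ?_).symm
      rw [Ext.comp_assoc_of_second_deg_zero, Ext.mk₀_comp_mk₀, ← L.map_comp, HomologicalComplex.toCycles_i,
        ← hg, htoC]

include hA in
theorem exists_homologyDesc (n : ℕ) : ∃ u : (cx A L R).homology n ⟶ AddCommGrpCat.of (Ext A (L.obj X) n),
    (cx A L R).homologyπ n ≫ u = cyclesToExt A L R n := by
  obtain ⟨u, hu⟩ := CokernelCofork.IsColimit.desc'
    ((cx A L R).homologyIsCokernel ((ComplexShape.up ℕ).prev n) n rfl) (cyclesToExt A L R n) (by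
      ext g
      exact (cyclesToExt_eq_zero_iff A L R hA n _).2
        (ConcreteCategory.congr_hom ((cx A L R).toCycles_comp_homologyπ _ n) g))
  exact ⟨u, hu⟩

/-- Homology to `Ext`. -/
noncomputable def homologyToExt (n : ℕ) :
    (cx A L R).homology n ⟶ AddCommGrpCat.of (Ext A (L.obj X) n) :=
  (exists_homologyDesc A L R hA n).choose

theorem π_homologyToExt (n : ℕ) :
    (cx A L R).homologyπ n ≫ homologyToExt A L R hA n = cyclesToExt A L R n :=
  (exists_homologyDesc A L R hA n).choose_spec

theorem isIso_homologyToExt (n : ℕ) : IsIso (homologyToExt A L R hA n) := by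
  refine (ConcreteCategory.isIso_iff_bijective _).2 ⟨(injective_iff_map_eq_zero _).2 fun h hh => ?_, fun y => ?_⟩
  · obtain ⟨z, rfl⟩ := (AddCommGrpCat.epi_iff_surjective ((cx A L R).homologyπ n)).1 inferInstance h
    exact (cyclesToExt_eq_zero_iff A L R hA n z).1
      ((ConcreteCategory.congr_hom (π_homologyToExt A L R hA n) z).symm.trans hh)
  · obtain ⟨z, rfl⟩ := cyclesToExt_surjective A L R hA n y
    exact ⟨_, ConcreteCategory.congr_hom (π_homologyToExt A L R hA n) z⟩

include hφ in
theorem homologyToExt_naturality (n : ℕ) :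
    HomologicalComplex.homologyMap (((homFun A L).mapHomologicalComplex (ComplexShape.up ℕ)).map φ) n ≫
        homologyToExt A L R' hA n =
      homologyToExt A L R hA n ≫ (L ⋙ extFunctorObj A n).map f := by
  rw [← cancel_epi ((cx A L R).homologyπ n), HomologicalComplex.homologyπ_naturality_assoc,
    π_homologyToExt, ← Category.assoc, π_homologyToExt]
  ext z
  show psi A L R' n 0 n (zero_add n) (lift A L R' n _) =
    (psi A L R n 0 n (zero_add n) (lift A L R n z)).comp (Ext.mk₀ (L.map f)) (add_zero n)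
  rw [← psi_naturality A L R R' f φ hφ]
  refine congrArg _ (lift_unique A L R' n _ _ ?_)
  rw [Ext.comp_assoc_of_second_deg_zero, Ext.mk₀_comp_mk₀, ← L.map_comp, HomologicalComplex.cyclesMap_i,
    L.map_comp, ← Ext.mk₀_comp_mk₀, ← Ext.comp_assoc_of_second_deg_zero, lift_spec]
  exact (ConcreteCategory.congr_hom (HomologicalComplex.cyclesMap_i
    (((homFun A L).mapHomologicalComplex (ComplexShape.up ℕ)).map φ) n) z).symm

omit R R' f φ hφ in
include hA in
/-- The right derived functors of `Ext^0(A, L -)` are `Ext^n(A, L -)`. -/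
theorem nonempty_rightDerived_iso (n : ℕ) :
    Nonempty ((homFun A L).rightDerived n ≅ L ⋙ extFunctorObj A n) := by
  haveI := fun X : C => isIso_homologyToExt A L (injectiveResolution X) hA n
  refine ⟨NatIso.ofComponents (fun X => (injectiveResolution X).isoRightDerivedObj (homFun A L) n ≪≫
    asIso (homologyToExt A L (injectiveResolution X) hA n)) fun {X Y} f => ?_⟩
  let φ := InjectiveResolution.desc f (injectiveResolution Y) (injectiveResolution X)
  have hφ : (injectiveResolution X).ι.f 0 ≫ φ.f 0 = f ≫ (injectiveResolution Y).ι.f 0 :=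
    InjectiveResolution.desc_commutes_zero f (injectiveResolution Y) (injectiveResolution X)
  simp only [Iso.trans_hom, asIso_hom, Category.assoc]
  rw [InjectiveResolution.isoRightDerivedObj_hom_naturality_assoc f _ _ φ hφ (homFun A L) n]
  exact congrArg (_ ≫ ·) (homologyToExt_naturality A L _ _ f φ hφ hA n)

end Groth.Agent.H1DFun
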