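import Groth.Agent.H1Lim.HBase
import Groth.Agent.H1Lim.PullPsi
import Groth.Agent.H18Et.FreeSheaf

/-!
# Inverse images of sections evaluated on a section of an etale scheme
-/

set_option autoImplicit false
set_option backward.isDefEq.respectTransparency false
set_option backward.isDefEq.respectTransparency.types false

universe u

open CategoryTheory CategoryTheory.Limits AlgebraicGeometry Opposite
open Groth.Agent.H1Lim Groth.Agent.H18Et

namespace Groth.Agent.H1DFun

variable {X V V' : Scheme.{u}}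

/-- The section of a base change given by a morphism. -/
noncomputable def svMor (h : V ⟶ X) (W : X.Etale) (π : V ⟶ W.left) (hπ : π ≫ W.hom = h) :
    EtCoh.top V ⟶ (EtCoh.bc h).obj W :=
  MorphismProperty.Over.homMk (pullback.lift π (𝟙 V) (hπ.trans (Category.id_comp h).symm))
    (pullback.lift_snd _ _ _) trivial

theorem svMor_fst (h : V ⟶ X) (W : X.Etale) (π : V ⟶ W.left) (hπ : π ≫ W.hom = h) :
    (svMor h W π hπ).left ≫ pullback.fst W.hom h = π := pullback.lift_fst _ _ _

/-- Inverse image of a section, evaluated. -/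
noncomputable def sv (h : V ⟶ X) (W : X.Etale) (π : V ⟶ W.left) (hπ : π ≫ W.hom = h) (F : EtCoh.Ab X) :
    F.obj.obj (op W) ⟶ ((EtCoh.pull h).obj F).obj.obj (op (EtCoh.top V)) :=
  secUnit h F W ≫ ((EtCoh.pull h).obj F).obj.map (svMor h W π hπ).op

theorem sv_apply (h : V ⟶ X) (W : X.Etale) (π : V ⟶ W.left) (hπ : π ≫ W.hom = h) (F : EtCoh.Ab X)
    (s : F.obj.obj (op W)) :
    sv h W π hπ F s = ((EtCoh.pull h).obj F).obj.map (svMor h W π hπ).op (secUnit h F W s) := rfl

theorem secUnit_map (h : V ⟶ X) (F : EtCoh.Ab X) {A B : X.Etale} (a : A ⟶ B) (s : F.obj.obj (op B)) :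
    secUnit h F A (F.obj.map a.op s) =
      ((EtCoh.pull h).obj F).obj.map ((EtCoh.bc h).map a).op (secUnit h F B s) :=
  NatTrans.naturality_apply ((EtCoh.pullPushAdj h).unit.app F).hom a.op s

theorem sv_map (h : V ⟶ X) {W W' : X.Etale} (m : W' ⟶ W) (π' : V ⟶ W'.left) (hπ' : π' ≫ W'.hom = h)
    (π : V ⟶ W.left) (hπ : π ≫ W.hom = h) (e : π' ≫ m.left = π) (F : EtCoh.Ab X)
    (s : F.obj.obj (op W)) :
    sv h W' π' hπ' F (F.obj.map m.op s) = sv h W π hπ F s := by
  rw [sv_apply, sv_apply, secUnit_map]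
  refine (Functor.map_comp_apply _ _ _ _).symm.trans ?_
  rw [← op_comp]
  refine congrArg (fun z => ((EtCoh.pull h).obj F).obj.map z.op (secUnit h F W s))
    (a₁ := svMor h W' π' hπ' ≫ (EtCoh.bc h).map m) (bc_hom_ext h ?_)
  show ((svMor h W' π' hπ').left ≫ ((EtCoh.bc h).map m).left) ≫ _ = _
  rw [Category.assoc, show ((EtCoh.bc h).map m).left ≫ pullback.fst W.hom h = pullback.fst W'.hom h ≫ m.left
    from pullback.lift_fst _ _ _]
  exact ((Category.assoc _ _ _).symm.trans (congrArg (· ≫ m.left) (svMor_fst h W' π' hπ'))).trans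
    (e.trans (svMor_fst h W π hπ).symm)

theorem sv_naturality (h : V ⟶ X) (W : X.Etale) (π : V ⟶ W.left) (hπ : π ≫ W.hom = h)
    {F G : EtCoh.Ab X} (φ : F ⟶ G) (s : F.obj.obj (op W)) :
    ((EtCoh.pull h).map φ).hom.app (op (EtCoh.top V)) (sv h W π hπ F s) =
      sv h W π hπ G (φ.hom.app (op W) s) := by
  rw [sv_apply, sv_apply]
  refine (NatTrans.naturality_apply ((EtCoh.pull h).map φ).hom (svMor h W π hπ).op _).trans ?_
  refine congrArg (((EtCoh.pull h).obj G).obj.map (svMor h W π hπ).op) ?_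
  exact (congrArg (fun k => k.hom.app (op W) s) ((EtCoh.pullPushAdj h).unit.naturality φ)).symm

theorem res0_sv (f : V' ⟶ V) (h : V ⟶ X) (h' : V' ⟶ X) (w : f ≫ h = h') (W : X.Etale) (π : V ⟶ W.left)
    (hπ : π ≫ W.hom = h) (π' : V' ⟶ W.left) (hπ' : π' ≫ W.hom = h') (e : f ≫ π = π') (F : EtCoh.Ab X)
    (s : F.obj.obj (op W)) :
    ((viaIso f h h' w).app F).hom.hom.app (op (EtCoh.top V'))
        (PullSections.res0 f ((EtCoh.pull h).obj F) (sv h W π hπ F s)) =
      sv h' W π' hπ' F s := by
  rw [sv_apply, sv_apply]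
  show ((viaIso f h h' w).app F).hom.hom.app _ (((EtCoh.pull f).obj ((EtCoh.pull h).obj F)).obj.map
    (EtCore.bcTopIso f).inv.op (secUnit f ((EtCoh.pull h).obj F) (EtCoh.top V)
      (((EtCoh.pull h).obj F).obj.map (svMor h W π hπ).op (secUnit h F W s)))) = _
  rw [secUnit_map]
  let l : (EtCoh.bc f).obj ((EtCoh.bc h).obj W) ⟶ (EtCoh.bc h').obj W :=
    MorphismProperty.Over.homMk (pullback.lift
      (pullback.fst ((EtCoh.bc h).obj W).hom f ≫ pullback.fst W.hom h)
      (pullback.snd ((EtCoh.bc h).obj W).hom f)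
      (by rw [Category.assoc, pullback.condition, ← w]
          exact (Category.assoc _ _ _).symm.trans ((congrArg (· ≫ h) pullback.condition).trans
            (Category.assoc _ _ _))))
      (pullback.lift_snd _ _ _) trivial
  rw [← Functor.map_comp_apply, ← op_comp]
  refine (NatTrans.naturality_apply ((viaIso f h h' w).app F).hom.hom _ _).trans ?_
  rw [viaIso_unit f h h' w F W l (pullback.lift_fst _ _ _), ← Functor.map_comp_apply, ← op_comp]
  refine congrArg (fun z => ((EtCoh.pull h').obj F).obj.map z.op (secUnit h' F W s))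
    (a₁ := ((EtCore.bcTopIso f).inv ≫ (EtCoh.bc f).map (svMor h W π hπ)) ≫ l) (bc_hom_ext h' ?_)
  show (((EtCore.bcTopIso f).inv.left ≫ ((EtCoh.bc f).map (svMor h W π hπ)).left) ≫ l.left) ≫ _ = _
  have e1 : l.left ≫ pullback.fst W.hom h' =
      pullback.fst ((EtCoh.bc h).obj W).hom f ≫ pullback.fst W.hom h := pullback.lift_fst _ _ _
  have e2 : ((EtCoh.bc f).map (svMor h W π hπ)).left ≫ pullback.fst ((EtCoh.bc h).obj W).hom f =
      pullback.fst (EtCoh.top V).hom f ≫ (svMor h W π hπ).left := pullback.lift_fst _ _ _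
  have e3 : (EtCore.bcTopIso f).inv.left ≫ pullback.fst (EtCoh.top V).hom f = f := by
    have h1 : (EtCore.bcTopIso f).inv.left ≫ pullback.snd (EtCoh.top V).hom f = 𝟙 V' :=
      MorphismProperty.Over.w (EtCore.bcTopIso f).inv
    calc (EtCore.bcTopIso f).inv.left ≫ pullback.fst (EtCoh.top V).hom f
        = (EtCore.bcTopIso f).inv.left ≫ pullback.fst (EtCoh.top V).hom f ≫ 𝟙 V :=
          congrArg ((EtCore.bcTopIso f).inv.left ≫ ·) (Category.comp_id (pullback.fst (EtCoh.top V).hom f)).symm
      _ = ((EtCore.bcTopIso f).inv.left ≫ pullback.snd (EtCoh.top V).hom f) ≫ f := by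
          rw [Category.assoc]; exact congrArg (_ ≫ ·) pullback.condition
      _ = f := by rw [h1]; exact Category.id_comp f
  rw [Category.assoc, Category.assoc, e1, ← Category.assoc ((EtCoh.bc f).map _).left, e2, Category.assoc]
  refine Eq.trans ?_ (svMor_fst h' W π' hπ').symm
  refine (Category.assoc _ _ _).symm.trans ?_
  rw [e3]
  exact (congrArg (f ≫ ·) (svMor_fst h W π hπ)).trans e

instance etale_hom (W : X.Etale) : Etale W.hom := W.prop

/-- The comparison of a member with itself. -/
noncomputable def svSelf (W : X.Etale) : FreeSheaf.obj W.hom ⟶ W :=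
  (EtaleRestrict.emap W.hom).map (svMor W.hom W (𝟙 _) (Category.id_comp _)) ≫
    (EtaleRestrict.emapAdj W.hom).counit.app W

theorem svSelf_left (W : X.Etale) : (svSelf W).left = 𝟙 W.left := by
  show (svMor W.hom W (𝟙 _) (Category.id_comp _)).left ≫
    ((EtaleRestrict.emapAdj W.hom).counit.app W).left = _
  rw [show ((EtaleRestrict.emapAdj W.hom).counit.app W).left = pullback.fst W.hom W.hom from by
    simp [EtaleRestrict.emapAdj, MorphismProperty.Over.mapPullbackAdj]]
  exact svMor_fst _ _ _ _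

theorem isIso_svSelf (W : X.Etale) : IsIso (svSelf W) := by
  haveI : IsIso (svSelf W).left := (svSelf_left W).symm ▸ (IsIso.id W.left)
  haveI : IsIso ((Scheme.Etale.forget X).map (svSelf W)) := by
    haveI : IsIso ((Over.forget X).map ((Scheme.Etale.forget X).map (svSelf W))) := ‹IsIso (svSelf W).left›
    exact isIso_of_reflects_iso _ (Over.forget X)
  exact isIso_of_reflects_iso _ (Scheme.Etale.forget X)

theorem secIso_sv (W : X.Etale) (F : EtCoh.Ab X) :
    sv W.hom W (𝟙 _) (Category.id_comp _) F ≫ (FreeSheaf.secIso W.hom F).hom = F.obj.map (svSelf W).op := by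
  let δ := svMor W.hom W (𝟙 _) (Category.id_comp _)
  have hu := congrArg (fun k => k.hom.app (op W))
    (Adjunction.unit_leftAdjointUniq_hom_app (EtCoh.pullPushAdj W.hom) (EtaleRestrict.resPushAdj W.hom) F)
  have hnat := ((EtaleRestrict.pullIso W.hom).hom.app F).hom.naturality δ.op
  calc sv W.hom W (𝟙 _) (Category.id_comp _) F ≫ (FreeSheaf.secIso W.hom F).hom
      = ((EtCoh.pullPushAdj W.hom).unit.app F).hom.app (op W) ≫
          ((EtaleRestrict.pullIso W.hom).hom.app F).hom.app (op ((EtCoh.bc W.hom).obj W)) ≫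
          F.obj.map ((EtaleRestrict.emap W.hom).map δ).op := by
        rw [sv, Category.assoc]
        exact congrArg _ hnat
    _ = ((EtaleRestrict.resPushAdj W.hom).unit.app F).hom.app (op W) ≫
          F.obj.map ((EtaleRestrict.emap W.hom).map δ).op := by
        rw [← Category.assoc]
        exact congrArg (· ≫ _) hu
    _ = F.obj.map (svSelf W).op := by
        rw [show ((EtaleRestrict.resPushAdj W.hom).unit.app F).hom.app (op W) =
          F.obj.map ((EtaleRestrict.emapAdj W.hom).counit.app W).op by simp [EtaleRestrict.resPushAdj]]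
        exact (F.obj.map_comp _ _).symm

theorem sv_bijective (W : X.Etale) (F : EtCoh.Ab X) :
    Function.Bijective (sv W.hom W (𝟙 _) (Category.id_comp _) F) := by
  haveI := isIso_svSelf W
  haveI : IsIso (sv W.hom W (𝟙 _) (Category.id_comp _) F ≫ (FreeSheaf.secIso W.hom F).hom) := by
    rw [secIso_sv]; infer_instance
  haveI : IsIso (sv W.hom W (𝟙 _) (Category.id_comp _) F) := IsIso.of_isIso_comp_right _ (FreeSheaf.secIso W.hom F).hom
  exact ConcreteCategory.bijective_of_isIso _

end Groth.Agent.H1DFun
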