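import Groth.Agent.H1DFun.StrictLoc
import Groth.Agent.H1DFun.SectVal
import Groth.Agent.H1DFun.ExtRD
import Groth.Agent.H1DFun.ExactComp
import Groth.Agent.H1Lim.ConstSys
import Mathlib.CategoryTheory.Limits.Shapes.Pullback.Connected
import Mathlib.CategoryTheory.Sites.Point.Skyscraper

/-!
# Stalks of higher direct images
-/

set_option autoImplicit false
set_option backward.isDefEq.respectTransparency false
set_option backward.isDefEq.respectTransparency.types false

universe u

open CategoryTheory CategoryTheory.Limits AlgebraicGeometry Opposite Abelian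
open Groth.Agent.H1Lim Groth.Agent.H18Et Groth.Agent.H12AlgSp.EtStrictHens

namespace Groth.Agent.H1DFun

attribute [local instance] Groth.Agent.H18Et.pull_preservesFiniteLimits

variable {X S : Scheme.{u}} {Ω : Type u} [Field Ω] [IsSepClosed Ω] (ξ : Spec (CommRingCat.of Ω) ⟶ S)
  (f : X ⟶ S)

/-- The base changes of the neighbourhoods in the etale site. -/
noncomputable abbrev bcNbhd (j : Idx ξ) : X.Etale := (EtCoh.bc f).obj (nbhd ξ j)

/-- Their transition maps. -/
noncomputable abbrev bcTrans {i j : Idx ξ} (a : i ⟶ j) : bcNbhd ξ f i ⟶ bcNbhd ξ f j :=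
  (EtCoh.bc f).map (((incl ξ).map a).1 : nbhd ξ i ⟶ nbhd ξ j)

/-- Their schemes. -/
noncomputable abbrev bcDiag : Idx ξ ⥤ Scheme.{u} :=
  nbhdFun ξ ⋙ EtCoh.bc f ⋙ Scheme.Etale.forget X ⋙ Over.forget X

instance compactSpace_bcDiag [QuasiCompact f] (j : Idx ξ) : CompactSpace ↥((bcDiag ξ f).obj j) :=
  haveI : CompactSpace ↥((𝟭 Scheme.{u}).obj (nbhd ξ j).left) := inferInstanceAs (CompactSpace ↥(nbhd ξ j).left)
  QuasiCompact.compactSpace_of_compactSpace (pullback.fst (nbhd ξ j).hom f)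

instance quasiSeparatedSpace_bcDiag [QuasiSeparated f] (j : Idx ξ) :
    QuasiSeparatedSpace ↥((bcDiag ξ f).obj j) :=
  haveI : QuasiSeparatedSpace ↥((𝟭 Scheme.{u}).obj (nbhd ξ j).left) :=
    inferInstanceAs (QuasiSeparatedSpace ↥(nbhd ξ j).left)
  quasiSeparatedSpace_of_quasiSeparated (pullback.fst (nbhd ξ j).hom f)

instance isAffineHom_bcDiag {i j : Idx ξ} (a : i ⟶ j) : IsAffineHom ((bcDiag ξ f).map a) :=
  MorphismProperty.of_isPullback (EtCoh.isPullback_bc_map f (((incl ξ).map a).1 : nbhd ξ i ⟶ nbhd ξ j)).flip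
    (inferInstanceAs (IsAffineHom (((incl ξ).map a).1 : nbhd ξ i ⟶ nbhd ξ j).left))

variable {P : Scheme.{u}} (p : P ⟶ S) (e : P ≅ Spec (EtBase.etaleLocalRing ξ))
  (he : e.hom ≫ Spec.map (stalkHom ξ) ≫ S.fromSpecStalk (imagePt ξ) = p)

include he in
theorem legP_hom (j : Idx ξ) : (e.hom ≫ leg ξ (nbhd ξ j) (nbhdPt ξ j)) ≫ (nbhd ξ j).hom = p := by
  rw [Category.assoc, leg_hom, he]

/-- The map from the base change to a member. -/
noncomputable def proj (j : Idx ξ) : pullback f p ⟶ (bcNbhd ξ f j).left :=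
  pullback.lift (pullback.snd f p ≫ e.hom ≫ leg ξ (nbhd ξ j) (nbhdPt ξ j)) (pullback.fst f p)
    (by
      refine (Category.assoc _ _ _).trans ?_
      rw [legP_hom ξ p e he j]
      exact pullback.condition.symm)

theorem proj_fst (j : Idx ξ) : proj ξ f p e he j ≫ pullback.fst (nbhd ξ j).hom f =
    pullback.snd f p ≫ e.hom ≫ leg ξ (nbhd ξ j) (nbhdPt ξ j) := pullback.lift_fst _ _ _

theorem proj_hom (j : Idx ξ) : proj ξ f p e he j ≫ (bcNbhd ξ f j).hom = pullback.fst f p :=
  pullback.lift_snd _ _ _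

theorem proj_nat {i j : Idx ξ} (a : i ⟶ j) :
    proj ξ f p e he i ≫ (bcTrans ξ f a).left = proj ξ f p e he j := by
  refine pullback.hom_ext ?_ ?_
  · rw [Category.assoc, show (bcTrans ξ f a).left ≫ pullback.fst (nbhd ξ j).hom f =
        pullback.fst (nbhd ξ i).hom f ≫ (((incl ξ).map a).1 : nbhd ξ i ⟶ nbhd ξ j).left
      from pullback.lift_fst _ _ _, ← Category.assoc, proj_fst, proj_fst]
    simp only [Category.assoc]
    rw [leg_nat]
  · exact (Category.assoc _ _ _).trans ((congrArg (_ ≫ ·) (MorphismProperty.Over.w (bcTrans ξ f a))).trans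
      ((proj_hom ξ f p e he i).trans (proj_hom ξ f p e he j).symm))

/-- The base change as a cone. -/
@[simps]
noncomputable def bcCone : Cone (bcDiag ξ f) where
  pt := pullback f p
  π :=
    { app := fun j => proj ξ f p e he j
      naturality := fun i j a => (Category.id_comp _).trans (proj_nat ξ f p e he a).symm }

/-- It is a limit. -/
noncomputable def isLimitBcCone : IsLimit (bcCone ξ f p e he) := by
  let α : bcDiag ξ f ⟶ diag ξ :=
    { app := fun j => pullback.fst (nbhd ξ j).hom f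
      naturality := fun i j a => pullback.lift_fst _ _ _ }
  let cG : Cone (diag ξ) :=
    { pt := P
      π :=
        { app := fun j => e.hom ≫ leg ξ (nbhd ξ j) (nbhdPt ξ j)
          naturality := fun i j a => (Category.id_comp _).trans
            ((congrArg (e.hom ≫ ·) (leg_nat ξ a)).symm.trans (Category.assoc _ _ _).symm) } }
  let h : IsLimit cG := IsLimit.ofIsoLimit (isLimitCone ξ) (Cone.ext e.symm fun j =>
    (Iso.inv_hom_id_assoc e _).symm)
  haveI : IsConnected (Idx ξ) := IsCofiltered.isConnected _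
  refine isLimitOfIsPullbackOfIsConnected α (bcCone ξ f p e he) cG
    { hom := pullback.snd f p, w := fun j => (proj_fst ξ f p e he j).symm } (fun j => ?_) h
  show IsPullback (proj ξ f p e he j) (pullback.snd f p) (pullback.fst (nbhd ξ j).hom f)
    (e.hom ≫ leg ξ (nbhd ξ j) (nbhdPt ξ j))
  refine IsPullback.of_right (h₁₂ := pullback.snd (nbhd ξ j).hom f) (v₁₃ := f) (h₂₂ := (nbhd ξ j).hom)
    ?_ (proj_fst ξ f p e he j) (IsPullback.of_hasPullback _ _).flip
  exact (congrArg₂ (fun a b => IsPullback a (pullback.snd f p) f b) (proj_hom ξ f p e he j)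
    (legP_hom ξ p e he j)).mpr (IsPullback.of_hasPullback f p)

theorem trans_hom {i j : Idx ξ} (a : i ⟶ j) :
    (bcDiag ξ f).map a ≫ (bcNbhd ξ f j).hom = (bcNbhd ξ f i).hom :=
  MorphismProperty.Over.w (bcTrans ξ f a)

variable (F : EtCoh.Ab X)

theorem key [QuasiCompact f] [QuasiSeparated f] (n : ℕ) :
    (∀ x : Sheaf.H ((EtCoh.pull (pullback.fst f p)).obj F) n, ∃ (k : Idx ξ)
      (y : Sheaf.H ((EtCoh.pull (bcNbhd ξ f k).hom).obj F) n),
        EtCore.HpullVia (proj ξ f p e he k) (bcNbhd ξ f k).hom (pullback.fst f p) (proj_hom ξ f p e he k) F n y = x) ∧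
    (∀ (i : Idx ξ) (y : Sheaf.H ((EtCoh.pull (bcNbhd ξ f i).hom).obj F) n),
      EtCore.HpullVia (proj ξ f p e he i) (bcNbhd ξ f i).hom (pullback.fst f p) (proj_hom ξ f p e he i) F n y = 0 →
        ∃ (k : Idx ξ) (a : k ⟶ i),
          hpull ((bcDiag ξ f).map a) ((EtCoh.pull (bcNbhd ξ f i).hom).obj F) n y = 0) :=
  constSys_surj_inj (D := bcDiag ξ f) (fun k => (bcNbhd ξ f k).hom) (fun _ _ a => trans_hom ξ f a) F
    (bcCone ξ f p e he) (pullback.fst f p) (proj_hom ξ f p e he) (isLimitBcCone ξ f p e he) n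

include he in
theorem subsingleton_H [QuasiCompact f] [QuasiSeparated f] [Injective F] (n : ℕ) :
    Subsingleton (Sheaf.H ((EtCoh.pull (pullback.fst f p)).obj F) (n + 1)) := by
  refine subsingleton_of_forall_eq 0 fun x => ?_
  obtain ⟨k, y, rfl⟩ := (key ξ f p e he F (n + 1)).1 x
  haveI := EtaleRestrict.injective_pull (bcNbhd ξ f k).hom F
  rw [show y = 0 from Ext.eq_zero_of_injective y]
  exact map_zero _

/-- A germ of the direct image. -/
noncomputable def germ (j : Idx ξ) : F.obj.obj (op (bcNbhd ξ f j)) ⟶ (EtCoh.stalk ξ).obj ((EtCoh.push f).obj F) :=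
  (Scheme.pointSmallEtale ξ).toPresheafFiber (nbhd ξ j) (nbhdPt ξ j) ((EtCoh.push f).obj F).obj

theorem germ_res {i j : Idx ξ} (a : i ⟶ j) (s : F.obj.obj (op (bcNbhd ξ f j))) :
    germ ξ f F i (F.obj.map (bcTrans ξ f a).op s) = germ ξ f F j s :=
  ((Scheme.pointSmallEtale ξ).toPresheafFiber_w_apply (((incl ξ).map a).1 : nbhd ξ i ⟶ nbhd ξ j)
    (nbhdPt ξ i) ((EtCoh.push f).obj F).obj s).trans
    (congrArg (fun z => (Scheme.pointSmallEtale ξ).toPresheafFiber (nbhd ξ j) z ((EtCoh.push f).obj F).obj s)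
      ((incl ξ).map a).2)

theorem germ_surjective (x : (EtCoh.stalk ξ).obj ((EtCoh.push f).obj F)) :
    ∃ (j : Idx ξ) (s : F.obj.obj (op (bcNbhd ξ f j))), germ ξ f F j s = x := by
  obtain ⟨U, z, s, rfl⟩ := (Scheme.pointSmallEtale ξ).toPresheafFiber_jointly_surjective
    (P := ((EtCoh.push f).obj F).obj) x
  obtain ⟨j, ⟨m⟩⟩ : ∃ j, Nonempty ((incl ξ).obj j ⟶ Functor.elementsMk _ U z) :=
    ⟨_, ⟨(Classical.arbitrary (CostructuredArrow (incl ξ) (Functor.elementsMk _ U z))).hom⟩⟩
  refine ⟨j, ((EtCoh.push f).obj F).obj.map m.1.op s, ?_⟩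
  exact ((Scheme.pointSmallEtale ξ).toPresheafFiber_w_apply m.1
    (nbhdPt ξ j) ((EtCoh.push f).obj F).obj s).trans
    (congrArg (fun z' => (Scheme.pointSmallEtale ξ).toPresheafFiber U z' ((EtCoh.push f).obj F).obj s) m.2)

/-- The evaluation of sections on the strict localisation. -/
noncomputable def val (j : Idx ξ) :
    F.obj.obj (op (bcNbhd ξ f j)) ⟶ AddCommGrpCat.of (Sheaf.H ((EtCoh.pull (pullback.fst f p)).obj F) 0) :=
  sv (pullback.fst f p) (bcNbhd ξ f j) (proj ξ f p e he j) (proj_hom ξ f p e he j) F ≫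
    AddCommGrpCat.ofHom (Sheaf.H.equiv₀ _ (EtCore.topIsTerminal (pullback f p))).symm.toAddMonoidHom

theorem val_apply (j : Idx ξ) (s : F.obj.obj (op (bcNbhd ξ f j))) :
    val ξ f p e he F j s = (Sheaf.H.equiv₀ _ (EtCore.topIsTerminal (pullback f p))).symm
      (sv (pullback.fst f p) (bcNbhd ξ f j) (proj ξ f p e he j) (proj_hom ξ f p e he j) F s) := rfl

theorem val_res {i j : Idx ξ} (a : i ⟶ j) (s : F.obj.obj (op (bcNbhd ξ f j))) :
    val ξ f p e he F i (F.obj.map (bcTrans ξ f a).op s) = val ξ f p e he F j s := by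
  rw [val_apply, val_apply]
  exact congrArg _ (sv_map _ (bcTrans ξ f a) _ _ _ _ (proj_nat ξ f p e he a) F s)

theorem exists_theta : ∃ θ : (EtCoh.stalk ξ).obj ((EtCoh.push f).obj F) ⟶
    AddCommGrpCat.of (Sheaf.H ((EtCoh.pull (pullback.fst f p)).obj F) 0),
      ∀ j, germ ξ f F j ≫ θ = val ξ f p e he F j := by
  let P' := ((EtCoh.push f).obj F).obj
  let hc := (Functor.Final.isColimitWhiskerEquiv (incl ξ).op _).symm
    ((Scheme.pointSmallEtale ξ).isColimitPresheafFiberCocone P')
  let c : Cocone ((incl ξ).op ⋙ (CategoryOfElements.π _).op ⋙ P') :=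
    { pt := AddCommGrpCat.of (Sheaf.H ((EtCoh.pull (pullback.fst f p)).obj F) 0)
      ι :=
        { app := fun j => val ξ f p e he F j.unop
          naturality := fun j i a => by
            ext s
            exact val_res ξ f p e he F a.unop s } }
  exact ⟨hc.desc c, fun j => hc.fac c (op j)⟩

/-- The comparison in degree zero. -/
noncomputable def theta : (EtCoh.stalk ξ).obj ((EtCoh.push f).obj F) ⟶
    AddCommGrpCat.of (Sheaf.H ((EtCoh.pull (pullback.fst f p)).obj F) 0) :=
  (exists_theta ξ f p e he F).choose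

theorem germ_theta (j : Idx ξ) (s : F.obj.obj (op (bcNbhd ξ f j))) :
    theta ξ f p e he F (germ ξ f F j s) = val ξ f p e he F j s :=
  ConcreteCategory.congr_hom ((exists_theta ξ f p e he F).choose_spec j) s

/-- A section as a class on a member. -/
noncomputable def secClass (W : X.Etale) (s : F.obj.obj (op W)) : Sheaf.H ((EtCoh.pull W.hom).obj F) 0 :=
  (Sheaf.H.equiv₀ _ (EtCore.topIsTerminal W.left)).symm (sv W.hom W (𝟙 _) (Category.id_comp _) F s)

omit ξ f p e he in
theorem secClass_surjective (W : X.Etale) : Function.Surjective (secClass F W) := fun y => by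
  obtain ⟨s, hs⟩ := (sv_bijective W F).2 (Sheaf.H.equiv₀ _ (EtCore.topIsTerminal W.left) y)
  exact ⟨s, (congrArg _ hs).trans (AddEquiv.symm_apply_apply _ y)⟩

omit ξ f p e he in
theorem equiv₀_viaIso {W : X.Etale} {V : Scheme.{u}} (g : V ⟶ W.left) (h : V ⟶ X) (w : g ≫ W.hom = h)
    (s : F.obj.obj (op W)) :
    Sheaf.H.equiv₀ _ (EtCore.topIsTerminal V)
      (Sheaf.H.map ((viaIso g W.hom h w).app F).hom 0 (hpull g _ 0 (secClass F W s))) =
      sv h W g w F s := by
  rw [← Sheaf.H.equiv₀_naturality]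
  refine (congrArg (((viaIso g W.hom h w).app F).hom.hom.app _) ?_).trans
    (res0_sv g W.hom h w W (𝟙 _) (Category.id_comp _) g w (Category.comp_id g) F s)
  refine (PullSections.equiv₀_Hpull g _ (secClass F W s)).trans (congrArg _ ?_)
  exact AddEquiv.apply_symm_apply _ _

theorem val_eq (j : Idx ξ) (s : F.obj.obj (op (bcNbhd ξ f j))) :
    val ξ f p e he F j s = EtCore.HpullVia (proj ξ f p e he j) (bcNbhd ξ f j).hom (pullback.fst f p)
      (proj_hom ξ f p e he j) F 0 (secClass F (bcNbhd ξ f j) s) := by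
  rw [val_apply, AddEquiv.symm_apply_eq]
  refine Eq.symm ((congrArg _ (HpullVia_def _ _ _ _ F 0 _)).trans ?_)
  exact equiv₀_viaIso F (proj ξ f p e he j) (pullback.fst f p) (proj_hom ξ f p e he j) s

theorem res_eq_zero {i k : Idx ξ} (a : k ⟶ i) (s : F.obj.obj (op (bcNbhd ξ f i)))
    (h : hpull ((bcDiag ξ f).map a) ((EtCoh.pull (bcNbhd ξ f i).hom).obj F) 0
      (secClass F (bcNbhd ξ f i) s) = 0) :
    F.obj.map (bcTrans ξ f a).op s = 0 := by
  apply (sv_bijective (bcNbhd ξ f k) F).1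
  rw [map_zero]
  refine (sv_map (bcNbhd ξ f k).hom (bcTrans ξ f a) (𝟙 _) (Category.id_comp _) (bcTrans ξ f a).left
    (trans_hom ξ f a) (Category.id_comp _) F s).trans ?_
  refine (equiv₀_viaIso F (bcTrans ξ f a).left (bcNbhd ξ f k).hom (trans_hom ξ f a) s).symm.trans ?_
  refine (congrArg (fun y => Sheaf.H.equiv₀ _ _ (Sheaf.H.map _ 0 y)) h).trans ?_
  rw [map_zero, map_zero]

theorem theta_bijective [QuasiCompact f] [QuasiSeparated f] : Function.Bijective (theta ξ f p e he F) := by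
  refine ⟨(injective_iff_map_eq_zero _).2 fun x hx => ?_, fun x => ?_⟩
  · obtain ⟨j, s, rfl⟩ := germ_surjective ξ f F x
    rw [germ_theta, val_eq] at hx
    obtain ⟨k, a, ha⟩ := (key ξ f p e he F 0).2 j _ hx
    rw [← germ_res ξ f F a s, res_eq_zero ξ f F a s ha, map_zero]
  · obtain ⟨j, y, rfl⟩ := (key ξ f p e he F 0).1 x
    obtain ⟨s, rfl⟩ := secClass_surjective F (bcNbhd ξ f j) y
    exact ⟨germ ξ f F j s, (germ_theta ξ f p e he F j s).trans (val_eq ξ f p e he F j s)⟩

omit F in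
theorem theta_naturality {F G : EtCoh.Ab X} (φ : F ⟶ G) :
    (EtCoh.stalk ξ).map ((EtCoh.push f).map φ) ≫ theta ξ f p e he G =
      theta ξ f p e he F ≫ AddCommGrpCat.ofHom (Sheaf.H.map ((EtCoh.pull (pullback.fst f p)).map φ) 0) := by
  ext x
  obtain ⟨j, s, rfl⟩ := germ_surjective ξ f F x
  show theta ξ f p e he G ((EtCoh.stalk ξ).map ((EtCoh.push f).map φ) (germ ξ f F j s)) =
    Sheaf.H.map ((EtCoh.pull (pullback.fst f p)).map φ) 0 (theta ξ f p e he F (germ ξ f F j s))
  rw [germ_theta, show (EtCoh.stalk ξ).map ((EtCoh.push f).map φ) (germ ξ f F j s) =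
      germ ξ f G j (φ.hom.app (op (bcNbhd ξ f j)) s) from
    (Scheme.pointSmallEtale ξ).toPresheafFiber_naturality_apply ((EtCoh.push f).map φ).hom (nbhd ξ j)
      (nbhdPt ξ j) s, germ_theta, val_apply, val_apply, Sheaf.H.equiv₀_symm_naturality]
  exact congrArg _ (sv_naturality _ _ _ _ φ s).symm

omit F in
/-- Isomorphic functors have isomorphic right derived functors. -/
noncomputable def rdIso {A B : Type*} [Category A] [Abelian A] [HasInjectiveResolutions A]
    [Category B] [Abelian B] {F G : A ⥤ B} [F.Additive] [G.Additive] (i : F ≅ G) (n : ℕ) :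
    F.rightDerived n ≅ G.rightDerived n where
  hom := NatTrans.rightDerived i.hom n
  inv := NatTrans.rightDerived i.inv n
  hom_inv_id := by rw [← NatTrans.rightDerived_comp, i.hom_inv_id, NatTrans.rightDerived_id]
  inv_hom_id := by rw [← NatTrans.rightDerived_comp, i.inv_hom_id, NatTrans.rightDerived_id]

omit F in
include he in
/-- Stalks of higher direct images. -/
theorem nonempty_Rpush_stalk_iso [QuasiCompact f] [QuasiSeparated f] (n : ℕ) :
    Nonempty (EtCoh.Rpush f n ⋙ EtCoh.stalk ξ ≅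
      EtCoh.pull (pullback.fst f p) ⋙ EtCoh.HF (pullback f p) n) := by
  let A : EtCoh.Ab (pullback f p) :=
    (constantSheaf (pullback f p).smallEtaleTopology AddCommGrpCat.{u + 1}).obj (AddCommGrpCat.of (ULift ℤ))
  let L := EtCoh.pull (pullback.fst f p)
  haveI : PreservesColimitsOfSize.{0, 0} L :=
    (EtCoh.pullPushAdj (pullback.fst f p)).leftAdjoint_preservesColimits
  haveI : PreservesFiniteColimits L := PreservesColimitsOfSize.preservesFiniteColimits L
  haveI : L.Additive := Functor.additive_of_preserves_binary_products L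
  have hA : ∀ (I : EtCoh.Ab X) [Injective I] (m : ℕ), Subsingleton (Ext A (L.obj I) (m + 1)) :=
    fun I _ m => subsingleton_H ξ f p e he I m
  haveI := fun F => (ConcreteCategory.isIso_iff_bijective (theta ξ f p e he F)).2 (theta_bijective ξ f p e he F)
  let θ : EtCoh.push f ⋙ EtCoh.stalk ξ ≅ homFun A L :=
    NatIso.ofComponents (fun F => asIso (theta ξ f p e he F)) (fun φ => theta_naturality ξ f p e he φ)
  obtain ⟨i₁⟩ := nonempty_rightDerived_comp_exact (EtCoh.push f) (EtCoh.stalk ξ) n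
  obtain ⟨i₂⟩ := nonempty_rightDerived_iso A L hA n
  exact ⟨i₁ ≪≫ rdIso θ n ≪≫ i₂ ≪≫
    NatIso.ofComponents (fun F => Iso.refl _) (fun φ => (Category.comp_id _).trans (Category.id_comp _).symm)⟩

end Groth.Agent.H1DFun
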