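import Groth.Agent.H1DFun.SectVal
import Groth.Agent.H1Lim.ConstSys
import Groth.Agent.H18Ext.MapNatTrans
import Groth.Agent.H10Coh.ExtMap

/-!
# Inverse image of classes on etale schemes
-/

set_option autoImplicit false
set_option backward.isDefEq.respectTransparency false
set_option backward.isDefEq.respectTransparency.types false

universe u

open CategoryTheory CategoryTheory.Limits AlgebraicGeometry Opposite Abelian
open Groth.Agent.H1Lim Groth.Agent.H18Et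

namespace Groth.Agent.H1DFun

attribute [local instance] Groth.Agent.H18Et.pull_preservesFiniteLimits

variable {X V V' : Scheme.{u}}

/-- The point of the free sheaf given by a morphism. -/
noncomputable def tau (h : V ⟶ X) (W : X.Etale) (π : V ⟶ W.left) (hπ : π ≫ W.hom = h) :
    (constantSheaf V.smallEtaleTopology AddCommGrpCat.{u + 1}).obj (AddCommGrpCat.of (ULift ℤ)) ⟶
      (EtCoh.pull h).obj ((FreeSheaf.free X).obj W) :=
  Ext.addEquiv₀ ((Sheaf.H.equiv₀ _ (EtCore.topIsTerminal V)).symm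
    (sv h W π hπ _ (FreeSheaf.homEquiv W _ (𝟙 _))))

theorem mk₀_tau (h : V ⟶ X) (W : X.Etale) (π : V ⟶ W.left) (hπ : π ≫ W.hom = h) :
    Sheaf.H.equiv₀ _ (EtCore.topIsTerminal V) (Ext.mk₀ (tau h W π hπ)) =
      sv h W π hπ _ (FreeSheaf.homEquiv W _ (𝟙 _)) := by
  rw [show Ext.mk₀ (tau h W π hπ) = (Sheaf.H.equiv₀ _ (EtCore.topIsTerminal V)).symm
    (sv h W π hπ _ (FreeSheaf.homEquiv W _ (𝟙 _))) from Ext.addEquiv₀.symm_apply_apply _]
  exact AddEquiv.apply_symm_apply _ _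

theorem tau_comp (h : V ⟶ X) (W : X.Etale) (π : V ⟶ W.left) (hπ : π ≫ W.hom = h) {F : EtCoh.Ab X}
    (φ : (FreeSheaf.free X).obj W ⟶ F) :
    Sheaf.H.equiv₀ _ (EtCore.topIsTerminal V) (Ext.mk₀ (tau h W π hπ ≫ (EtCoh.pull h).map φ)) =
      sv h W π hπ F (FreeSheaf.homEquiv W F φ) := by
  rw [show Ext.mk₀ (tau h W π hπ ≫ (EtCoh.pull h).map φ) =
      Sheaf.H.map ((EtCoh.pull h).map φ) 0 (Ext.mk₀ (tau h W π hπ)) from (Ext.mk₀_comp_mk₀ _ _).symm,
    ← Sheaf.H.equiv₀_naturality, mk₀_tau, sv_naturality, ← FreeSheaf.homEquiv_comp, Category.id_comp]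

/-- Classes on etale schemes give classes on schemes mapping to them. -/
noncomputable def pb (h : V ⟶ X) (W : X.Etale) (π : V ⟶ W.left) (hπ : π ≫ W.hom = h) (F : EtCoh.Ab X)
    (n : ℕ) : Ext ((FreeSheaf.free X).obj W) F n →+ Sheaf.H ((EtCoh.pull h).obj F) n :=
  H10Coh.extMap (EtCoh.pull h) (tau h W π hπ) F n

theorem pb_def (h : V ⟶ X) (W : X.Etale) (π : V ⟶ W.left) (hπ : π ≫ W.hom = h) (F : EtCoh.Ab X)
    (n : ℕ) (x : Ext ((FreeSheaf.free X).obj W) F n) :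
    pb h W π hπ F n x = H10Coh.extMap (EtCoh.pull h) (tau h W π hπ) F n x := rfl

theorem pb_naturality (h : V ⟶ X) (W : X.Etale) (π : V ⟶ W.left) (hπ : π ≫ W.hom = h) {F G : EtCoh.Ab X}
    (φ : F ⟶ G) (n : ℕ) (x : Ext ((FreeSheaf.free X).obj W) F n) :
    pb h W π hπ G n (x.comp (Ext.mk₀ φ) (add_zero n)) =
      Sheaf.H.map ((EtCoh.pull h).map φ) n (pb h W π hπ F n x) :=
  H10Coh.extMap_naturality _ _ φ n x

theorem pb_precomp (h : V ⟶ X) {W W' : X.Etale} (m : W' ⟶ W) (π' : V ⟶ W'.left) (hπ' : π' ≫ W'.hom = h)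
    (π : V ⟶ W.left) (hπ : π ≫ W.hom = h) (e : π' ≫ m.left = π) (F : EtCoh.Ab X) (n : ℕ)
    (x : Ext ((FreeSheaf.free X).obj W) F n) :
    pb h W' π' hπ' F n ((Ext.mk₀ ((FreeSheaf.free X).map m)).comp x (zero_add n)) = pb h W π hπ F n x := by
  have hk : 𝟙 _ ≫ tau h W π hπ = tau h W' π' hπ' ≫ (EtCoh.pull h).map ((FreeSheaf.free X).map m) := by
    rw [Category.id_comp]
    refine (Ext.mk₀_bijective _ _).injective ((Sheaf.H.equiv₀ _ (EtCore.topIsTerminal V)).injective ?_)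
    rw [mk₀_tau, tau_comp, ← sv_map h m π' hπ' π hπ e, ← FreeSheaf.homEquiv_map, Category.comp_id]
  rw [pb_def, H10Coh.extMap_precomp (EtCoh.pull h) (tau h W π hπ) (tau h W' π' hπ') _ (𝟙 _) hk,
    Ext.mk₀_id_comp, pb_def]

theorem pb_via (f : V' ⟶ V) (h : V ⟶ X) (h' : V' ⟶ X) (w : f ≫ h = h') (W : X.Etale) (π : V ⟶ W.left)
    (hπ : π ≫ W.hom = h) (π' : V' ⟶ W.left) (hπ' : π' ≫ W.hom = h') (e : f ≫ π = π') (F : EtCoh.Ab X)
    (n : ℕ) (x : Ext ((FreeSheaf.free X).obj W) F n) :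
    EtCore.HpullVia f h h' w F n (pb h W π hπ F n x) = pb h' W π' hπ' F n x := by
  let v := viaIso f h h' w
  let Z := (FreeSheaf.free X).obj W
  let k := (EtCore.pullConst f ℤ).inv ≫ (EtCoh.pull f).map (tau h W π hπ) ≫ v.hom.app Z
  have hk : k = tau h' W π' hπ' := by
    refine (Ext.mk₀_bijective _ _).injective ((Sheaf.H.equiv₀ _ (EtCore.topIsTerminal V')).injective ?_)
    have h1 : Ext.mk₀ k = Sheaf.H.map (v.app Z).hom 0 (hpull f _ 0 (Ext.mk₀ (tau h W π hπ))) := by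
      rw [hpull_def, Ext.mapExactFunctor_mk₀, Ext.mk₀_comp_mk₀, Sheaf.H.map_apply, Ext.mk₀_comp_mk₀]
      exact congrArg Ext.mk₀ (Category.assoc _ _ _).symm
    rw [mk₀_tau, h1, ← Sheaf.H.equiv₀_naturality]
    refine (congrArg ((v.app Z).hom.hom.app _) ?_).trans (res0_sv f h h' w W π hπ π' hπ' e _ _)
    exact (PullSections.equiv₀_Hpull f _ _).trans (congrArg _ (mk₀_tau h W π hπ))
  have hnt := H18Ext.mapExactFunctor_natTrans (EtCoh.pull h) (EtCoh.pull f) (EtCoh.pull h') v.hom Z n F x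
  rw [HpullVia_def, hpull_def, Sheaf.H.map_apply, pb_def, pb_def, H10Coh.extMap_apply, H10Coh.extMap_apply,
    Ext.mapExactFunctor_comp, Ext.mapExactFunctor_mk₀, Ext.mk₀_comp_mk₀_assoc, Ext.comp_assoc_of_third_deg_zero]
  refine (congrArg (fun y => Ext.comp (Ext.mk₀ ((EtCore.pullConst f ℤ).inv ≫ (EtCoh.pull f).map (tau h W π hπ)))
    y (zero_add n)) hnt).trans ?_
  rw [Ext.mk₀_comp_mk₀_assoc, ← hk]
  exact congrArg (fun j => Ext.comp (Ext.mk₀ j) _ _) (Category.assoc _ _ _)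

/-- On the etale scheme itself, the comparison is bijective. -/
theorem pb_self_bijective (W : X.Etale) (F : EtCoh.Ab X) (n : ℕ) :
    Function.Bijective (pb W.hom W (𝟙 _) (Category.id_comp _) F n) := by
  refine H10Coh.extMap_bijective (EtCoh.pull W.hom) (tau W.hom W (𝟙 _) (Category.id_comp _))
    (fun G => ?_) (fun J _ m => ?_) n F
  · have h : (fun φ => Sheaf.H.equiv₀ _ (EtCore.topIsTerminal W.left)
        (Ext.mk₀ (tau W.hom W (𝟙 _) (Category.id_comp _) ≫ (EtCoh.pull W.hom).map φ))) =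
        sv W.hom W (𝟙 _) (Category.id_comp _) G ∘ FreeSheaf.homEquiv W G :=
      funext fun φ => tau_comp _ _ _ _ φ
    refine (Function.Bijective.of_comp_iff' (f := fun z => Sheaf.H.equiv₀ _ (EtCore.topIsTerminal W.left)
      (Ext.mk₀ z)) ?_ _).1 ?_
    · exact (Sheaf.H.equiv₀ _ (EtCore.topIsTerminal W.left)).bijective.comp (Ext.mk₀_bijective _ _)
    · show Function.Bijective fun φ => Sheaf.H.equiv₀ _ (EtCore.topIsTerminal W.left)
        (Ext.mk₀ (tau W.hom W (𝟙 _) (Category.id_comp _) ≫ (EtCoh.pull W.hom).map φ))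
      rw [h]
      exact (sv_bijective W G).comp (FreeSheaf.homEquiv W G).bijective
  · haveI := EtaleRestrict.injective_pull W.hom J
    exact subsingleton_of_forall_eq 0 fun x => Ext.eq_zero_of_injective x

end Groth.Agent.H1DFun
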