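import Groth.Agent.H1DFun.Datum
import Groth.Agent.H1DFun.Pb
import Groth.Agent.H1DFun.SecCls
import Groth.Agent.H1DFun.BCStalk
import Groth.Agent.H18Et.Support
import Groth.Agent.H18Et.Subterminal
import Groth.Prelude.Def_EtBC2

/-!
# The comparison from stalks of higher direct images to the cohomology of the strict localisation

The comparison sends the germ of a cocycle of an injective resolution to the inverse image of its class.
-/

set_option autoImplicit false
set_option backward.isDefEq.respectTransparency false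
set_option backward.isDefEq.respectTransparency.types false

universe u

open CategoryTheory CategoryTheory.Limits AlgebraicGeometry Opposite Abelian
open Groth.Agent.H1Lim Groth.Agent.H18Et Groth.Agent.H12AlgSp.EtStrictHens

namespace Groth.Agent.H1DFun

attribute [local instance] Groth.Agent.H18Et.pull_preservesFiniteLimits

variable {S : Scheme.{u}} {Ω : Type u} [Field Ω] [IsSepClosed Ω] {ξ : Spec (CommRingCat.of Ω) ⟶ S}

theorem exists_idx (U : S.Etale) (z : (Scheme.pointSmallEtale ξ).fiber.obj U) :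
    ∃ (j : Idx ξ) (m : nbhd ξ j ⟶ U), (Scheme.pointSmallEtale ξ).fiber.map m (nbhdPt ξ j) = z := by
  let a := Classical.arbitrary (CostructuredArrow (incl ξ) (Functor.elementsMk _ U z))
  exact ⟨a.left, a.hom.1, a.hom.2⟩

theorem exists_idx_le {i : Idx ξ} (U : S.Etale) (z : (Scheme.pointSmallEtale ξ).fiber.obj U)
    (m : U ⟶ nbhd ξ i) (hm : (Scheme.pointSmallEtale ξ).fiber.map m z = nbhdPt ξ i) :
    ∃ (k : Idx ξ) (a : k ⟶ i) (m' : nbhd ξ k ⟶ U),
      (Scheme.pointSmallEtale ξ).fiber.map m' (nbhdPt ξ k) = z ∧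
        m' ≫ m = (((incl ξ).map a).1 : nbhd ξ k ⟶ nbhd ξ i) := by
  obtain ⟨j, n, hn⟩ := exists_idx U z
  obtain ⟨k, b, a, -⟩ := IsCofilteredOrEmpty.cone_objs j i
  let f : (incl ξ).obj k ⟶ Functor.elementsMk _ U z :=
    (incl ξ).map b ≫ CategoryOfElements.homMk ((incl ξ).obj j) (Functor.elementsMk _ U z) n hn
  let g : Functor.elementsMk (Scheme.pointSmallEtale ξ).fiber U z ⟶ (incl ξ).obj i :=
    CategoryOfElements.homMk (Functor.elementsMk _ U z) ((incl ξ).obj i) m hm
  obtain ⟨l, h, hl⟩ : ∃ (l : (Scheme.pointSmallEtale ξ).fiber.Elements) (h : l ⟶ (incl ξ).obj k),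
      h ≫ f ≫ g = h ≫ (incl ξ).map a := IsCofilteredOrEmpty.cone_maps (f ≫ g) ((incl ξ).map a)
  let c := Classical.arbitrary (CostructuredArrow (incl ξ) l)
  obtain ⟨k', w, hw⟩ : ∃ (k' : Idx ξ) (w : (incl ξ).obj k' ⟶ (incl ξ).obj k),
      w ≫ f ≫ g = w ≫ (incl ξ).map a := by
    refine ⟨c.left, c.hom ≫ h, ?_⟩
    exact (Category.assoc _ _ _).trans ((congrArg (c.hom ≫ ·) hl).trans (Category.assoc _ _ _).symm)
  obtain ⟨k'', r, s, hrs⟩ : ∃ (k'' : Idx ξ) (r : k'' ⟶ k') (s : k'' ⟶ k),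
      (incl ξ).map r ≫ w = (incl ξ).map s := by
    obtain ⟨y, hy⟩ : ∃ y : k' ⟶ k, (incl ξ).map y = w :=
      ⟨(equivSmallModel.{u} (affFiber ξ).Elements).inverse.preimage ((affIncl ξ).preimage w), by
        show (affIncl ξ).map ((equivSmallModel.{u} (affFiber ξ).Elements).inverse.map _) = w
        rw [Functor.map_preimage, Functor.map_preimage]⟩
    exact ⟨k', 𝟙 _, y, by rw [CategoryTheory.Functor.map_id, Category.id_comp, hy]⟩
  refine ⟨k'', s ≫ a, ((incl ξ).map s ≫ f).1, ((incl ξ).map s ≫ f).2, ?_⟩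
  have e : ((incl ξ).map s ≫ f) ≫ g = (incl ξ).map (s ≫ a) := by
    rw [Functor.map_comp, ← hrs, Category.assoc, Category.assoc, Category.assoc]
    exact congrArg ((incl ξ).map r ≫ ·) hw
  exact congrArg Subtype.val e

theorem exists_idx_cover {i : Idx ξ} {R : Sieve (nbhd ξ i)} (hR : R ∈ S.smallEtaleTopology (nbhd ξ i)) :
    ∃ (k : Idx ξ) (a : k ⟶ i), R.arrows (((incl ξ).map a).1 : nbhd ξ k ⟶ nbhd ξ i) := by
  obtain ⟨V, g, v, hg, hv⟩ := Subterminal.exists_mem_of_cover hR (ptOf (nbhdPt ξ i))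
  obtain ⟨y, hy⟩ := exists_fiber_lift g (nbhdPt ξ i) v hv
  obtain ⟨k, a, m', -, hm'⟩ := exists_idx_le V y g hy
  exact ⟨k, a, hm' ▸ R.downward_closed hg m'⟩

variable (d : Datum ξ) {T : Scheme.{u}} (g : T ⟶ S) {PT : Scheme.{u}} (aT : PT ⟶ T) (bT : PT ⟶ d.P)
  (hP : IsPullback aT bT g d.p)

include hP in
theorem projP_cond (U : S.Etale) (z : (Scheme.pointSmallEtale ξ).fiber.obj U) [IsAffine U.left] :
    (bT ≫ d.sec U z) ≫ U.hom = aT ≫ g := by
  rw [Category.assoc, d.sec_hom, hP.w]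

/-- The map from the strict localisation to a member. -/
noncomputable def projP (U : S.Etale) (z : (Scheme.pointSmallEtale ξ).fiber.obj U) [IsAffine U.left] :
    PT ⟶ ((EtCoh.bc g).obj U).left :=
  pullback.lift (bT ≫ d.sec U z) aT (projP_cond d g aT bT hP U z)

theorem projP_fst (U : S.Etale) (z : (Scheme.pointSmallEtale ξ).fiber.obj U) [IsAffine U.left] :
    projP d g aT bT hP U z ≫ pullback.fst U.hom g = bT ≫ d.sec U z := pullback.lift_fst _ _ _

theorem projP_hom (U : S.Etale) (z : (Scheme.pointSmallEtale ξ).fiber.obj U) [IsAffine U.left] :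
    projP d g aT bT hP U z ≫ ((EtCoh.bc g).obj U).hom = aT := pullback.lift_snd _ _ _

theorem projP_map {U V : S.Etale} [IsAffine U.left] [IsAffine V.left] (m : V ⟶ U)
    (z : (Scheme.pointSmallEtale ξ).fiber.obj V) (z' : (Scheme.pointSmallEtale ξ).fiber.obj U)
    (hz : (Scheme.pointSmallEtale ξ).fiber.map m z = z') :
    projP d g aT bT hP V z ≫ ((EtCoh.bc g).map m).left = projP d g aT bT hP U z' := by
  subst hz
  refine pullback.hom_ext ?_ ?_
  · rw [Category.assoc, show ((EtCoh.bc g).map m).left ≫ pullback.fst U.hom g =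
        pullback.fst V.hom g ≫ m.left from pullback.lift_fst _ _ _, ← Category.assoc, projP_fst, projP_fst,
      Category.assoc, d.sec_map]
  · exact (Category.assoc _ _ _).trans ((congrArg (_ ≫ ·) (MorphismProperty.Over.w ((EtCoh.bc g).map m))).trans
      ((projP_hom d g aT bT hP V z).trans (projP_hom d g aT bT hP U _).symm))

/-- The projection to an index. -/
noncomputable abbrev pj (j : Idx ξ) : PT ⟶ (bcNbhd ξ g j).left :=
  projP d g aT bT hP (nbhd ξ j) (nbhdPt ξ j)

theorem pj_nat {i j : Idx ξ} (a : i ⟶ j) :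
    pj d g aT bT hP i ≫ (bcTrans ξ g a).left = pj d g aT bT hP j :=
  projP_map d g aT bT hP (((incl ξ).map a).1 : nbhd ξ i ⟶ nbhd ξ j) _ _ ((incl ξ).map a).2

/-- The strict localisation as a cone. -/
@[simps]
noncomputable def pjCone : Cone (bcDiag ξ g) where
  pt := PT
  π :=
    { app := fun j => pj d g aT bT hP j
      naturality := fun i j a => (Category.id_comp _).trans (pj_nat d g aT bT hP a).symm }

/-- It is a limit. -/
noncomputable def isLimitPjCone : IsLimit (pjCone d g aT bT hP) := by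
  let α : bcDiag ξ g ⟶ diag ξ :=
    { app := fun j => pullback.fst (nbhd ξ j).hom g
      naturality := fun i j a => pullback.lift_fst _ _ _ }
  let cG : Cone (diag ξ) :=
    { pt := d.P
      π :=
        { app := fun j => d.sec (nbhd ξ j) (nbhdPt ξ j)
          naturality := fun i j a => (Category.id_comp _).trans
            ((congrArg (d.e.hom ≫ ·) (leg_nat ξ a)).symm.trans (Category.assoc _ _ _).symm) } }
  let h : IsLimit cG := IsLimit.ofIsoLimit (isLimitCone ξ) (Cone.ext d.e.symm fun j =>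
    (Iso.inv_hom_id_assoc d.e _).symm)
  haveI : IsConnected (Idx ξ) := IsCofiltered.isConnected _
  refine isLimitOfIsPullbackOfIsConnected α (pjCone d g aT bT hP) cG
    { hom := bT, w := fun j => (projP_fst d g aT bT hP _ _).symm } (fun j => ?_) h
  show IsPullback (pj d g aT bT hP j) bT (pullback.fst (nbhd ξ j).hom g) (d.sec (nbhd ξ j) (nbhdPt ξ j))
  refine IsPullback.of_right (h₁₂ := pullback.snd (nbhd ξ j).hom g) (v₁₃ := g) (h₂₂ := (nbhd ξ j).hom)
    ?_ (projP_fst d g aT bT hP _ _) (IsPullback.of_hasPullback _ _).flip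
  exact (congrArg₂ (fun a b => IsPullback a bT g b) (projP_hom d g aT bT hP _ _)
    (d.sec_hom (nbhd ξ j) (nbhdPt ξ j))).mpr hP

variable {F : EtCoh.Ab T}

theorem key2 [QuasiCompact g] [QuasiSeparated g] (F : EtCoh.Ab T) (n : ℕ) :
    (∀ x : Sheaf.H ((EtCoh.pull aT).obj F) n, ∃ (k : Idx ξ)
      (y : Sheaf.H ((EtCoh.pull (bcNbhd ξ g k).hom).obj F) n),
        EtCore.HpullVia (pj d g aT bT hP k) (bcNbhd ξ g k).hom aT (projP_hom d g aT bT hP _ _) F n y = x) ∧
    (∀ (i : Idx ξ) (y : Sheaf.H ((EtCoh.pull (bcNbhd ξ g i).hom).obj F) n),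
      EtCore.HpullVia (pj d g aT bT hP i) (bcNbhd ξ g i).hom aT (projP_hom d g aT bT hP _ _) F n y = 0 →
        ∃ (k : Idx ξ) (a : k ⟶ i),
          hpull ((bcDiag ξ g).map a) ((EtCoh.pull (bcNbhd ξ g i).hom).obj F) n y = 0) :=
  constSys_surj_inj (D := bcDiag ξ g) (fun k => (bcNbhd ξ g k).hom) (fun _ _ a => trans_hom ξ g a) F
    (pjCone d g aT bT hP) aT (fun k => projP_hom d g aT bT hP (nbhd ξ k) (nbhdPt ξ k))
    (isLimitPjCone d g aT bT hP) n

variable (R : InjectiveResolution F) (q : ℕ)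

/-- The complex computing the higher direct images. -/
noncomputable abbrev pushCx : CochainComplex (EtCoh.Ab S) ℕ :=
  ((EtCoh.push g).mapHomologicalComplex (ComplexShape.up ℕ)).obj R.cocomplex

/-- A cycle as a section cocycle of the resolution. -/
noncomputable abbrev cycSect (U : S.Etale) (c : ((pushCx g R).cycles q).obj.obj (op U)) :
    (R.cocomplex.X q).obj.obj (op ((EtCoh.bc g).obj U)) :=
  ((pushCx g R).iCycles q).hom.app (op U) c

theorem cycSect_d (U : S.Etale) (c : ((pushCx g R).cycles q).obj.obj (op U)) :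
    (R.cocomplex.d q (q + 1)).hom.app (op ((EtCoh.bc g).obj U)) (cycSect g R q U c) = 0 :=
  ConcreteCategory.congr_hom (congrArg (fun φ : (pushCx g R).cycles q ⟶ (pushCx g R).X (q + 1) =>
    φ.hom.app (op U)) ((pushCx g R).iCycles_d q (q + 1))) c

theorem cycSect_map {U U' : S.Etale} (m : U' ⟶ U) (c : ((pushCx g R).cycles q).obj.obj (op U)) :
    cycSect g R q U' (((pushCx g R).cycles q).obj.map m.op c) =
      (R.cocomplex.X q).obj.map ((EtCoh.bc g).map m).op (cycSect g R q U c) :=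
  NatTrans.naturality_apply ((pushCx g R).iCycles q).hom m.op c

theorem cycSect_injective (U : S.Etale) : Function.Injective (cycSect g R q U) := by
  haveI : Mono (((sheafToPresheaf S.smallEtaleTopology AddCommGrpCat.{u + 1}) ⋙
      (evaluation _ _).obj (op U)).map ((pushCx g R).iCycles q)) := inferInstance
  exact (AddCommGrpCat.mono_iff_injective _).1 this

theorem exists_cycSect (U : S.Etale) (x : (R.cocomplex.X q).obj.obj (op ((EtCoh.bc g).obj U)))
    (hx : (R.cocomplex.d q (q + 1)).hom.app (op ((EtCoh.bc g).obj U)) x = 0) :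
    ∃ c, cycSect g R q U c = x := by
  let K := pushCx g R
  let G₀ := (sheafToPresheaf S.smallEtaleTopology AddCommGrpCat.{u + 1}) ⋙ (evaluation _ _).obj (op U)
  let Sh := ShortComplex.mk (K.iCycles q) (K.d q (q + 1)) (K.iCycles_d q (q + 1))
  have hSh : Sh.Exact := ShortComplex.exact_of_f_is_kernel _ (K.cyclesIsKernel q (q + 1) (by simp))
  haveI : Mono Sh.f := inferInstanceAs (Mono (K.iCycles q))
  exact (ShortComplex.ab_exact_iff _).1 (hSh.map_of_mono_of_preservesKernel G₀ inferInstance inferInstance) x hx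

/-- The class on the strict localisation of a cycle. -/
noncomputable def valC (j : Idx ξ) (c : ((pushCx g R).cycles q).obj.obj (op (nbhd ξ j))) :
    Sheaf.H ((EtCoh.pull aT).obj F) q :=
  pb aT (bcNbhd ξ g j) (pj d g aT bT hP j) (projP_hom d g aT bT hP _ _) F q
    (secCls R (bcNbhd ξ g j) q (cycSect g R q (nbhd ξ j) c) (cycSect_d g R q _ c))

theorem valC_def (j : Idx ξ) (c : ((pushCx g R).cycles q).obj.obj (op (nbhd ξ j))) :
    valC d g aT bT hP R q j c = pb aT (bcNbhd ξ g j) (pj d g aT bT hP j) (projP_hom d g aT bT hP _ _) F q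
      (secCls R (bcNbhd ξ g j) q (cycSect g R q (nbhd ξ j) c) (cycSect_d g R q _ c)) := rfl

theorem valC_add (j : Idx ξ) (c c' : ((pushCx g R).cycles q).obj.obj (op (nbhd ξ j))) :
    valC d g aT bT hP R q j (c + c') = valC d g aT bT hP R q j c + valC d g aT bT hP R q j c' := by
  rw [valC_def, valC_def, valC_def, ← map_add, ← secCls_add]
  exact congrArg _ (secCls_congr R _ q _ _ (map_add _ _ _) _)

theorem valC_res {i j : Idx ξ} (a : i ⟶ j) (c : ((pushCx g R).cycles q).obj.obj (op (nbhd ξ j))) :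
    valC d g aT bT hP R q i
        (((pushCx g R).cycles q).obj.map (((incl ξ).map a).1 : nbhd ξ i ⟶ nbhd ξ j).op c) =
      valC d g aT bT hP R q j c := by
  rw [valC_def, valC_def, ← pb_precomp aT (bcTrans ξ g a) (pj d g aT bT hP i) (projP_hom d g aT bT hP _ _)
    (pj d g aT bT hP j) (projP_hom d g aT bT hP _ _) (pj_nat d g aT bT hP a)]
  refine congrArg _ ((secCls_congr R _ q _ _ (cycSect_map g R q _ c) ?_).trans
    (secCls_map R _ q _ _ _ _).symm)
  rw [← cycSect_map]
  exact cycSect_d g R q _ _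

/-- A germ of a cycle. -/
noncomputable def germC (j : Idx ξ) :
    ((pushCx g R).cycles q).obj.obj (op (nbhd ξ j)) ⟶ (EtCoh.stalk ξ).obj ((pushCx g R).cycles q) :=
  (Scheme.pointSmallEtale ξ).toPresheafFiber (nbhd ξ j) (nbhdPt ξ j) ((pushCx g R).cycles q).obj

omit ξ in
theorem germ_surj_idx {ξ : Spec (CommRingCat.of Ω) ⟶ S} (G : EtCoh.Ab S) (x : (EtCoh.stalk ξ).obj G) :
    ∃ (j : Idx ξ) (s : G.obj.obj (op (nbhd ξ j))),
      (Scheme.pointSmallEtale ξ).toPresheafFiber (nbhd ξ j) (nbhdPt ξ j) G.obj s = x := by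
  obtain ⟨U, z, s, rfl⟩ := (Scheme.pointSmallEtale ξ).toPresheafFiber_jointly_surjective (P := G.obj) x
  obtain ⟨j, m, hm⟩ := exists_idx U z
  refine ⟨j, G.obj.map m.op s, ?_⟩
  exact ((Scheme.pointSmallEtale ξ).toPresheafFiber_w_apply m (nbhdPt ξ j) G.obj s).trans
    (congrArg (fun z' => (Scheme.pointSmallEtale ξ).toPresheafFiber U z' G.obj s) hm)

omit ξ in
theorem germ_res_idx {ξ : Spec (CommRingCat.of Ω) ⟶ S} (G : EtCoh.Ab S) {i j : Idx ξ} (a : i ⟶ j)
    (s : G.obj.obj (op (nbhd ξ j))) :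
    (Scheme.pointSmallEtale ξ).toPresheafFiber (nbhd ξ i) (nbhdPt ξ i) G.obj
        (G.obj.map (((incl ξ).map a).1 : nbhd ξ i ⟶ nbhd ξ j).op s) =
      (Scheme.pointSmallEtale ξ).toPresheafFiber (nbhd ξ j) (nbhdPt ξ j) G.obj s :=
  ((Scheme.pointSmallEtale ξ).toPresheafFiber_w_apply (((incl ξ).map a).1 : nbhd ξ i ⟶ nbhd ξ j)
    (nbhdPt ξ i) G.obj s).trans
    (congrArg (fun z => (Scheme.pointSmallEtale ξ).toPresheafFiber (nbhd ξ j) z G.obj s) ((incl ξ).map a).2)

theorem exists_phiC : ∃ φ : (EtCoh.stalk ξ).obj ((pushCx g R).cycles q) ⟶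
    AddCommGrpCat.of (Sheaf.H ((EtCoh.pull aT).obj F) q),
      ∀ j c, φ (germC g R q j c) = valC d g aT bT hP R q j c := by
  let P' := ((pushCx g R).cycles q).obj
  let hc := (Functor.Final.isColimitWhiskerEquiv (incl ξ).op _).symm
    ((Scheme.pointSmallEtale ξ).isColimitPresheafFiberCocone P')
  let v : ∀ j : Idx ξ, P'.obj (op (nbhd ξ j)) ⟶ AddCommGrpCat.of (Sheaf.H ((EtCoh.pull aT).obj F) q) :=
    fun j => AddCommGrpCat.ofHom (AddMonoidHom.mk' (valC d g aT bT hP R q j) (valC_add d g aT bT hP R q j))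
  let c : Cocone ((incl ξ).op ⋙ (CategoryOfElements.π _).op ⋙ P') :=
    { pt := AddCommGrpCat.of (Sheaf.H ((EtCoh.pull aT).obj F) q)
      ι :=
        { app := fun j => v j.unop
          naturality := fun j i a => by
            ext s
            exact valC_res d g aT bT hP R q a.unop s } }
  exact ⟨hc.desc c, fun j s => ConcreteCategory.congr_hom (hc.fac c (op j)) s⟩

theorem toCycles_cycSect (i : ℕ) (U : S.Etale) (b : ((pushCx g R).X i).obj.obj (op U)) :
    cycSect g R (i + 1) U (((pushCx g R).toCycles i (i + 1)).hom.app (op U) b) =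
      (R.cocomplex.d i (i + 1)).hom.app (op ((EtCoh.bc g).obj U)) b :=
  ConcreteCategory.congr_hom (congrArg (fun φ : (pushCx g R).X i ⟶ (pushCx g R).X (i + 1) =>
    φ.hom.app (op U)) ((pushCx g R).toCycles_i i (i + 1))) b

theorem exists_phi : ∃ φ : (EtCoh.stalk ξ).obj ((pushCx g R).homology q) ⟶
    AddCommGrpCat.of (Sheaf.H ((EtCoh.pull aT).obj F) q),
      ∀ j c, φ ((EtCoh.stalk ξ).map ((pushCx g R).homologyπ q) (germC g R q j c)) =
        valC d g aT bT hP R q j c := by
  obtain ⟨φ, hφ⟩ := exists_phiC d g aT bT hP R q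
  let K := pushCx g R
  have h0 : (EtCoh.stalk ξ).map (K.toCycles ((ComplexShape.up ℕ).prev q) q) ≫ φ = 0 := by
    ext x
    obtain ⟨j, b, rfl⟩ := germ_surj_idx (K.X ((ComplexShape.up ℕ).prev q)) x
    show φ ((EtCoh.stalk ξ).map (K.toCycles ((ComplexShape.up ℕ).prev q) q) _) = 0
    rw [show (EtCoh.stalk ξ).map (K.toCycles ((ComplexShape.up ℕ).prev q) q)
        (((Scheme.pointSmallEtale ξ).toPresheafFiber (nbhd ξ j) (nbhdPt ξ j) (K.X _).obj) b) =
      germC g R q j ((K.toCycles ((ComplexShape.up ℕ).prev q) q).hom.app (op (nbhd ξ j)) b) from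
        (Scheme.pointSmallEtale ξ).toPresheafFiber_naturality_apply
          (K.toCycles ((ComplexShape.up ℕ).prev q) q).hom (nbhd ξ j) (nbhdPt ξ j) b, hφ]
    revert b
    cases q with
    | zero =>
      intro b
      have hz : K.toCycles ((ComplexShape.up ℕ).prev 0) 0 = 0 := by
        rw [← cancel_mono (K.iCycles 0), K.toCycles_i, zero_comp, K.shape _ _ (by simp)]
      rw [valC_def]
      refine (congrArg _ (secCls_congr R _ 0 _ _ ?_ (map_zero _))).trans
        ((congrArg _ ?_).trans (map_zero _))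
      · exact (congrArg (fun m : K.X ((ComplexShape.up ℕ).prev 0) ⟶ K.cycles 0 =>
          cycSect g R 0 (nbhd ξ j) (m.hom.app (op (nbhd ξ j)) b)) hz).trans (map_zero _)
      · rw [secCls_def, ← sub_self (cls _ R 0 _ (symm_comp_d R (bcNbhd ξ g j) 0 0 (map_zero _))), eq_sub_iff_add_eq,
          ← cls_add]
        exact cls_congr _ R 0 (by rw [← homEquiv_symm_add, add_zero]) _ _
    | succ i =>
      intro b
      have hp : (ComplexShape.up ℕ).prev (i + 1) = i := CochainComplex.prev_nat_succ i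
      obtain ⟨b', hb'⟩ : ∃ b', (R.cocomplex.d i (i + 1)).hom.app (op (bcNbhd ξ g j)) b' =
          cycSect g R (i + 1) (nbhd ξ j)
            ((K.toCycles ((ComplexShape.up ℕ).prev (i + 1)) (i + 1)).hom.app (op (nbhd ξ j)) b) := by
        generalize (ComplexShape.up ℕ).prev (i + 1) = p at hp b
        subst hp
        exact ⟨b, (toCycles_cycSect g R _ _ b).symm⟩
      rw [valC_def, (secCls_eq_zero_iff R _ i _ _).2 ⟨b', hb'⟩, map_zero]
  obtain ⟨u, hu⟩ := CokernelCofork.IsColimit.desc'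
    (CokernelCofork.mapIsColimit _ (K.homologyIsCokernel ((ComplexShape.up ℕ).prev q) q rfl) (EtCoh.stalk ξ))
    φ h0
  exact ⟨u, fun j c => (ConcreteCategory.congr_hom hu (germC g R q j c)).trans (hφ j c)⟩

/-- The comparison. -/
noncomputable def phi : (EtCoh.stalk ξ).obj ((pushCx g R).homology q) ⟶
    AddCommGrpCat.of (Sheaf.H ((EtCoh.pull aT).obj F) q) :=
  (exists_phi d g aT bT hP R q).choose

theorem phi_germ (j : Idx ξ) (c : ((pushCx g R).cycles q).obj.obj (op (nbhd ξ j))) :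
    phi d g aT bT hP R q ((EtCoh.stalk ξ).map ((pushCx g R).homologyπ q) (germC g R q j c)) =
      valC d g aT bT hP R q j c :=
  (exists_phi d g aT bT hP R q).choose_spec j c

theorem exists_germ_rep (y : (EtCoh.stalk ξ).obj ((pushCx g R).homology q)) :
    ∃ (j : Idx ξ) (c : ((pushCx g R).cycles q).obj.obj (op (nbhd ξ j))),
      (EtCoh.stalk ξ).map ((pushCx g R).homologyπ q) (germC g R q j c) = y := by
  haveI : Epi ((EtCoh.stalk ξ).map ((pushCx g R).homologyπ q)) := inferInstance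
  obtain ⟨x, rfl⟩ := (AddCommGrpCat.epi_iff_surjective _).1 this y
  obtain ⟨j, c, rfl⟩ := germ_surj_idx _ x
  exact ⟨j, c, rfl⟩

theorem res_secCls_eq_zero {i k : Idx ξ} (a : k ⟶ i) (c : ((pushCx g R).cycles q).obj.obj (op (nbhd ξ i)))
    (h : hpull ((bcDiag ξ g).map a) ((EtCoh.pull (bcNbhd ξ g i).hom).obj F) q
      (pb (bcNbhd ξ g i).hom (bcNbhd ξ g i) (𝟙 _) (Category.id_comp _) F q
        (secCls R (bcNbhd ξ g i) q (cycSect g R q (nbhd ξ i) c) (cycSect_d g R q _ c))) = 0) :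
    secCls R (bcNbhd ξ g k) q
      (cycSect g R q (nbhd ξ k)
        (((pushCx g R).cycles q).obj.map (((incl ξ).map a).1 : nbhd ξ k ⟶ nbhd ξ i).op c))
      (cycSect_d g R q _ _) = 0 := by
  apply (pb_self_bijective (bcNbhd ξ g k) F q).1
  rw [map_zero]
  refine Eq.trans ?_ (((HpullVia_def _ _ _ (trans_hom ξ g a) F q _).trans
    (congrArg _ h)).trans (map_zero _))
  refine Eq.trans ?_ (pb_via ((bcDiag ξ g).map a) (bcNbhd ξ g i).hom (bcNbhd ξ g k).hom (trans_hom ξ g a) (bcNbhd ξ g i)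
    (𝟙 _) (Category.id_comp _) (bcTrans ξ g a).left (trans_hom ξ g a) (Category.comp_id _) F q _).symm
  refine Eq.trans ?_ (pb_precomp (bcNbhd ξ g k).hom (bcTrans ξ g a) (𝟙 _) (Category.id_comp _) (bcTrans ξ g a).left
      (trans_hom ξ g a) (Category.id_comp _) F q _)
  refine congrArg _ ((secCls_congr R _ q _ _ (cycSect_map g R q _ c) ?_).trans
    (secCls_map R _ q _ _ _ _).symm)
  rw [← cycSect_map]
  exact cycSect_d g R q _ _

theorem homologyπ_germ_eq_zero (j : Idx ξ) (c : ((pushCx g R).cycles q).obj.obj (op (nbhd ξ j)))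
    (h : secCls R (bcNbhd ξ g j) q (cycSect g R q (nbhd ξ j) c) (cycSect_d g R q _ c) = 0) :
    (EtCoh.stalk ξ).map ((pushCx g R).homologyπ q) (germC g R q j c) = 0 := by
  cases q with
  | zero =>
    have h0 : c = 0 := cycSect_injective g R 0 _ ((eq_zero_of_secCls R _ _ _ h).trans (map_zero _).symm)
    rw [h0, map_zero, map_zero]
  | succ i =>
    obtain ⟨b, hb⟩ := (secCls_eq_zero_iff R _ i _ _).1 h
    have hc : c = ((pushCx g R).toCycles i (i + 1)).hom.app (op (nbhd ξ j)) b :=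
      cycSect_injective g R (i + 1) _ (hb.symm.trans (toCycles_cycSect g R i _ b).symm)
    rw [hc, show germC g R (i + 1) j (((pushCx g R).toCycles i (i + 1)).hom.app (op (nbhd ξ j)) b) =
      (EtCoh.stalk ξ).map ((pushCx g R).toCycles i (i + 1))
        (((Scheme.pointSmallEtale ξ).toPresheafFiber (nbhd ξ j) (nbhdPt ξ j) ((pushCx g R).X i).obj) b) from
      ((Scheme.pointSmallEtale ξ).toPresheafFiber_naturality_apply
          ((pushCx g R).toCycles i (i + 1)).hom (nbhd ξ j) (nbhdPt ξ j) b).symm]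
    refine (ConcreteCategory.congr_hom ((EtCoh.stalk ξ).map_comp _ _).symm _).trans ?_
    exact (ConcreteCategory.congr_hom ((congrArg (EtCoh.stalk ξ).map
      ((pushCx g R).toCycles_comp_homologyπ i (i + 1))).trans ((EtCoh.stalk ξ).map_zero _ _)) _)

theorem phi_bijective [QuasiCompact g] [QuasiSeparated g] : Function.Bijective (phi d g aT bT hP R q) := by
  refine ⟨(injective_iff_map_eq_zero _).2 fun y hy => ?_, fun x => ?_⟩
  · obtain ⟨j, c, rfl⟩ := exists_germ_rep g R q y
    rw [phi_germ, valC_def] at hy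
    obtain ⟨k, a, ha⟩ := (key2 d g aT bT hP F q).2 j
      (pb (bcNbhd ξ g j).hom (bcNbhd ξ g j) (𝟙 _) (Category.id_comp _) F q
        (secCls R (bcNbhd ξ g j) q (cycSect g R q (nbhd ξ j) c) (cycSect_d g R q _ c))) (
      (pb_via (pj d g aT bT hP j) (bcNbhd ξ g j).hom aT (projP_hom d g aT bT hP _ _) (bcNbhd ξ g j)
        (𝟙 _) (Category.id_comp _) (pj d g aT bT hP j) (projP_hom d g aT bT hP _ _) (Category.comp_id _) F q
        _).trans hy)
    rw [show germC g R q j c = germC g R q k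
      (((pushCx g R).cycles q).obj.map (((incl ξ).map a).1 : nbhd ξ k ⟶ nbhd ξ j).op c) from
        (germ_res_idx _ a c).symm]
    exact homologyπ_germ_eq_zero g R q k _ (res_secCls_eq_zero g R q a c ha)
  · obtain ⟨j, y, rfl⟩ := (key2 d g aT bT hP F q).1 x
    obtain ⟨x₀, rfl⟩ := (pb_self_bijective (bcNbhd ξ g j) F q).2 y
    obtain ⟨s, hs, rfl⟩ := secCls_surjective R (bcNbhd ξ g j) q x₀
    obtain ⟨c, rfl⟩ := exists_cycSect g R q (nbhd ξ j) s hs
    refine ⟨(EtCoh.stalk ξ).map ((pushCx g R).homologyπ q) (germC g R q j c), ?_⟩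
    exact (phi_germ d g aT bT hP R q j c).trans (pb_via (pj d g aT bT hP j) (bcNbhd ξ g j).hom aT
      (projP_hom d g aT bT hP _ _) (bcNbhd ξ g j) (𝟙 _) (Category.id_comp _) (pj d g aT bT hP j)
      (projP_hom d g aT bT hP _ _) (Category.comp_id _) F q _).symm

end Groth.Agent.H1DFun
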