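import Groth.Agent.H1DFun.Datum
import Groth.Agent.H1DFun.StalkMap

/-!
# Strict localisations at images of geometric points under etale maps
-/

set_option autoImplicit false
set_option backward.isDefEq.respectTransparency false
set_option backward.isDefEq.respectTransparency.types false

universe u

open CategoryTheory CategoryTheory.Limits AlgebraicGeometry Opposite
open Groth.Agent.H18Et Groth.Agent.H12AlgSp.EtStrictHens

namespace Groth.Agent.H1DFun

variable {S U : Scheme.{u}} {Ω : Type u} [Field Ω] [IsSepClosed Ω]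

/-- Transport of a datum along an equality of geometric points. -/
theorem Datum.exists_cast {ξ ξ' : Spec (CommRingCat.of Ω) ⟶ S} (h : ξ = ξ') (d : Datum ξ) :
    ∃ (d' : Datum ξ') (e : d'.P ≅ d.P), e.hom ≫ d.p = d'.p ∧ d'.c ≫ e.hom = d.c := by
  subst h
  exact ⟨d, Iso.refl _, Category.id_comp _, Category.comp_id _⟩

/-- The sections over the affine neighbourhoods as a cone. -/
@[simps]
noncomputable def Datum.secCone {ξ : Spec (CommRingCat.of Ω) ⟶ S} (d : Datum ξ) : Cone (diag ξ) where
  pt := d.P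
  π :=
    { app := fun j => d.sec (nbhd ξ j) (nbhdPt ξ j)
      naturality := fun i j a => (Category.id_comp _).trans
        ((congrArg (d.e.hom ≫ ·) (leg_nat ξ a)).symm.trans (Category.assoc _ _ _).symm) }

/-- It is a limit. -/
noncomputable def Datum.isLimitSecCone {ξ : Spec (CommRingCat.of Ω) ⟶ S} (d : Datum ξ) : IsLimit d.secCone :=
  IsLimit.ofIsoLimit (isLimitCone ξ) (Cone.ext d.e.symm fun j => (Iso.inv_hom_id_assoc d.e _).symm)

variable (π : U ⟶ S) [Etale π] {η : Spec (CommRingCat.of Ω) ⟶ U}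

/-- A neighbourhood on an etale scheme as a neighbourhood on the base. -/
noncomputable abbrev pushNbhd (W : U.Etale) : S.Etale :=
  haveI : Etale W.hom := W.prop
  MorphismProperty.Over.mk ⊤ (W.hom ≫ π) (inferInstance : Etale (W.hom ≫ π))

/-- Its point. -/
noncomputable def pushPt (W : U.Etale) (z : (Scheme.pointSmallEtale η).fiber.obj W) :
    (Scheme.pointSmallEtale (η ≫ π)).fiber.obj (pushNbhd π W) :=
  Over.homMk (z.left : Spec (CommRingCat.of Ω) ⟶ W.left)
    ((Category.assoc _ _ _).symm.trans (congrArg (· ≫ π) (Over.w z)))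

/-- A datum at a geometric point is one at its image under an etale map. -/
theorem Datum.exists_pushEtale (d : Datum η) :
    ∃ d' : Datum (η ≫ π), ∃ e : d'.P ≅ d.P, e.hom ≫ d.p ≫ π = d'.p ∧ d'.c ≫ e.hom = d.c := by
  let D := Datum.std (η ≫ π)
  obtain ⟨φ, hφp, hφc⟩ := Datum.exists_map π d D
  let W : Idx η → S.Etale := fun j => pushNbhd π (nbhd η j)
  let w : ∀ j, (Scheme.pointSmallEtale (η ≫ π)).fiber.obj (W j) := fun j => pushPt π (nbhd η j) (nbhdPt η j)
  haveI : ∀ j, IsAffine (W j).left := fun j => inferInstanceAs (IsAffine (nbhd η j).left)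
  haveI hW : ∀ j, Etale (W j).hom := fun j => (W j).prop
  haveI hN : ∀ j, Etale (nbhd η j).hom := fun j => (nbhd η j).prop
  let K : Cone (diag η) :=
    { pt := D.P
      π :=
        { app := fun j => D.sec (W j) (w j)
          naturality := fun i j a => (Category.id_comp _).trans (by
            let a' : nbhd η i ⟶ nbhd η j := ((incl η).map a).1
            show D.sec (W j) (w j) = D.sec (W i) (w i) ≫ a'.left
            refine D.hom_ext (W j).hom _ _ ?_ ?_
            · rw [D.sec_hom, Category.assoc]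
              exact ((congrArg (D.sec (W i) (w i) ≫ ·) ((Category.assoc _ _ _).symm.trans
                (congrArg (· ≫ π) (MorphismProperty.Over.w a')))).trans (D.sec_hom (W i) (w i))).symm
            · rw [D.c_sec, ← Category.assoc, D.c_sec]
              exact (congrArg (fun y => y.left) ((incl η).map a).2).symm) } }
  let ψ : D.P ⟶ d.P := d.isLimitSecCone.lift K
  have hψ : ∀ j, ψ ≫ d.sec (nbhd η j) (nbhdPt η j) = D.sec (W j) (w j) := fun j =>
    d.isLimitSecCone.fac K j
  obtain ⟨j₀⟩ : Nonempty (Idx η) := IsCofiltered.nonempty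
  have hψp : ψ ≫ d.p ≫ π = D.p := by
    rw [← d.sec_hom (nbhd η j₀) (nbhdPt η j₀), Category.assoc, ← Category.assoc ψ, hψ]
    exact D.sec_hom (W j₀) (w j₀)
  have hψc : D.c ≫ ψ = d.c := by
    refine d.isLimitSecCone.hom_ext fun j => ?_
    show (D.c ≫ ψ) ≫ d.sec (nbhd η j) (nbhdPt η j) = d.c ≫ d.sec (nbhd η j) (nbhdPt η j)
    rw [Category.assoc, hψ, D.c_sec, d.c_sec]
    rfl
  have h1 : φ ≫ ψ = 𝟙 d.P := by
    refine d.isLimitSecCone.hom_ext fun j => ?_
    show (φ ≫ ψ) ≫ d.sec (nbhd η j) (nbhdPt η j) = 𝟙 d.P ≫ d.sec (nbhd η j) (nbhdPt η j)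
    rw [Category.assoc, hψ, Category.id_comp]
    refine d.hom_ext ((nbhd η j).hom ≫ π) _ _ ?_ ?_
    · rw [Category.assoc]
      refine (congrArg (φ ≫ ·) (D.sec_hom (W j) (w j))).trans (hφp.trans ?_)
      rw [← Category.assoc (d.sec _ _), d.sec_hom]
    · rw [← Category.assoc, hφc, D.c_sec, d.c_sec]
      rfl
  have h2 : ψ ≫ φ = 𝟙 D.P := by
    refine D.isLimitSecCone.hom_ext fun j => ?_
    haveI : Etale (nbhd (η ≫ π) j).hom := (nbhd (η ≫ π) j).prop
    show (ψ ≫ φ) ≫ D.sec (nbhd (η ≫ π) j) (nbhdPt (η ≫ π) j) = 𝟙 D.P ≫ D.sec _ _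
    rw [Category.id_comp]
    refine D.hom_ext (nbhd (η ≫ π) j).hom _ _ ?_ ?_
    · simp only [Category.assoc, D.sec_hom, hφp]
      exact hψp
    · rw [Category.assoc, reassoc_of% hψc, reassoc_of% hφc]
  exact ⟨D, ⟨ψ, φ, h2, h1⟩, hψp, hψc⟩

end Groth.Agent.H1DFun
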