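import Groth.Agent.H1DFun.BCPaste
import Groth.Agent.H1DFun.DatumEtale

/-!
# Bijectivity of the base change morphism is etale local
-/

set_option autoImplicit false
set_option backward.isDefEq.respectTransparency false
set_option backward.isDefEq.respectTransparency.types false

universe u

open CategoryTheory CategoryTheory.Limits AlgebraicGeometry Opposite Abelian
open Groth.Agent.H1Lim Groth.Agent.H18Et

namespace Groth.Agent.H1DFun

attribute [local instance] Groth.Agent.H18Et.pull_preservesFiniteLimits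

variable {Ω : Type u} [Field Ω] [IsSepClosed Ω]

theorem pushPt_left {S U : Scheme.{u}} (π : U ⟶ S) [Etale π] {η : Spec (CommRingCat.of Ω) ⟶ U} (W : U.Etale)
    (z : (Scheme.pointSmallEtale η).fiber.obj W) : (pushPt π W z).left = z.left := rfl

section Maps

variable {S T V Ti : Scheme.{u}} {g : T ⟶ S} {p : V ⟶ S} {gi : Ti ⟶ V} {ti : Ti ⟶ T}

/-- From the base change of a neighbourhood to the base change of its restriction. -/
noncomputable def resTop (cT : IsPullback ti gi g p) (U : S.Etale) :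
    ((EtCoh.bc gi).obj ((EtCoh.bc p).obj U)).left ⟶ ((EtCoh.bc g).obj U).left :=
  pullback.lift (pullback.fst ((EtCoh.bc p).obj U).hom gi ≫ pullback.fst U.hom p)
    (pullback.snd ((EtCoh.bc p).obj U).hom gi ≫ ti)
    (by rw [Category.assoc, pullback.condition, Category.assoc, cT.w, ← Category.assoc, ← Category.assoc]
        exact congrArg (· ≫ p) pullback.condition)

theorem resTop_fst (cT : IsPullback ti gi g p) (U : S.Etale) : resTop cT U ≫ pullback.fst U.hom g =
    pullback.fst ((EtCoh.bc p).obj U).hom gi ≫ pullback.fst U.hom p := pullback.lift_fst _ _ _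

theorem resTop_hom (cT : IsPullback ti gi g p) (U : S.Etale) : resTop cT U ≫ ((EtCoh.bc g).obj U).hom =
    ((EtCoh.bc gi).obj ((EtCoh.bc p).obj U)).hom ≫ ti := pullback.lift_snd _ _ _

/-- From the base change of a pushed neighbourhood back to the base change of the neighbourhood. -/
noncomputable def extTop (cT : IsPullback ti gi g p) [Etale p] (W : V.Etale) :
    ((EtCoh.bc g).obj (pushNbhd p W)).left ⟶ ((EtCoh.bc gi).obj W).left :=
  pullback.lift (pullback.fst (pushNbhd p W).hom g)
    (cT.lift (pullback.snd (pushNbhd p W).hom g) (pullback.fst (pushNbhd p W).hom g ≫ W.hom)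
      ((pullback.condition (f := (pushNbhd p W).hom) (g := g)).symm.trans (Category.assoc _ _ _).symm))
    (cT.lift_snd _ _ _).symm

theorem extTop_fst (cT : IsPullback ti gi g p) [Etale p] (W : V.Etale) :
    extTop cT W ≫ pullback.fst W.hom gi = pullback.fst (pushNbhd p W).hom g := pullback.lift_fst _ _ _

theorem extTop_hom (cT : IsPullback ti gi g p) [Etale p] (W : V.Etale) :
    extTop cT W ≫ ((EtCoh.bc gi).obj W).hom ≫ ti = ((EtCoh.bc g).obj (pushNbhd p W)).hom := by
  rw [← Category.assoc, show extTop cT W ≫ ((EtCoh.bc gi).obj W).hom = _ from pullback.lift_snd _ _ _]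
  exact cT.lift_fst _ _ _

/-- The map from a pushed neighbourhood to a neighbourhood it refines. -/
noncomputable def pushTo [Etale p] {U : S.Etale} {W : V.Etale} (m : W ⟶ (EtCoh.bc p).obj U) : pushNbhd p W ⟶ U :=
  MorphismProperty.Over.homMk (m.left ≫ pullback.fst U.hom p)
    (show (m.left ≫ pullback.fst U.hom p) ≫ U.hom = W.hom ≫ p by
      rw [Category.assoc, pullback.condition, ← Category.assoc]
      exact congrArg (· ≫ p) (MorphismProperty.Over.w m)) trivial

theorem pushTo_pt [Etale p] {ζ : Spec (CommRingCat.of Ω) ⟶ V} {U : S.Etale} {W : V.Etale}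
    (m : W ⟶ (EtCoh.bc p).obj U) (y : (Scheme.pointSmallEtale ζ).fiber.obj W)
    (z : (Scheme.pointSmallEtale (ζ ≫ p)).fiber.obj U)
    (h : (Scheme.pointSmallEtale ζ).fiber.map m y = (fiberCompIso p ζ).inv.app U z) :
    (Scheme.pointSmallEtale (ζ ≫ p)).fiber.map (pushTo m) (pushPt p W y) = z :=
  Over.OverMorphism.ext (pt_fst_of_map p h)

theorem extTop_resTop (cT : IsPullback ti gi g p) [Etale p] {U : S.Etale} {W : V.Etale}
    (m : W ⟶ (EtCoh.bc p).obj U) :
    extTop cT W ≫ ((EtCoh.bc gi).map m).left ≫ resTop cT U = ((EtCoh.bc g).map (pushTo m)).left := by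
  refine to_bc_ext g ?_ ?_
  · rw [Category.assoc, Category.assoc, resTop_fst,
      show ((EtCoh.bc g).map (pushTo m)).left ≫ pullback.fst U.hom g =
        pullback.fst (pushNbhd p W).hom g ≫ m.left ≫ pullback.fst U.hom p from pullback.lift_fst _ _ _]
    refine (congrArg (extTop cT W ≫ ·) ((Category.assoc _ _ _).symm.trans ((congrArg (· ≫ pullback.fst U.hom p)
      (show ((EtCoh.bc gi).map m).left ≫ pullback.fst ((EtCoh.bc p).obj U).hom gi =
        pullback.fst W.hom gi ≫ m.left from pullback.lift_fst _ _ _)).trans (Category.assoc _ _ _)))).trans ?_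
    exact (Category.assoc _ _ _).symm.trans (congrArg (· ≫ _) (extTop_fst cT W))
  · rw [Category.assoc, Category.assoc, resTop_hom]
    refine (congrArg (extTop cT W ≫ ·) (bc_map_comp_hom gi ti m)).trans ((extTop_hom cT W).trans ?_)
    exact (MorphismProperty.Over.w ((EtCoh.bc g).map (pushTo m))).symm

end Maps

variable {X S Y T : Scheme.{u}} (f : X ⟶ S) (g : T ⟶ S) (h : Y ⟶ X) (e : Y ⟶ T) (w : e ≫ g = h ≫ f)
  {U₀ V Ti Yi : Scheme.{u}} (π : U₀ ⟶ X) [Etale π] (p : V ⟶ S) [Etale p] (a : U₀ ⟶ V) (ha : a ≫ p = π ≫ f)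
  (gi : Ti ⟶ V) (ti : Ti ⟶ T) (cT : IsPullback ti gi g p) (hi : Yi ⟶ U₀) (ei : Yi ⟶ Ti)
  (w' : ei ≫ gi = hi ≫ a) (k : Yi ⟶ Y) (cK : IsPullback k hi h π) (hk : k ≫ e = ei ≫ ti)
  (F : EtCoh.Ab T) (q : ℕ)

include ha cT cK hk in
/-- Bijectivity upstairs gives bijectivity downstairs. -/
theorem BCBij.of_etale (η' : Spec (CommRingCat.of Ω) ⟶ U₀)
    (H : BCBij a gi hi ei w' ((EtCoh.pull ti).obj F) q η') : BCBij f g h e w F q (η' ≫ π) := by
  have hη : (η' ≫ a) ≫ p = (η' ≫ π) ≫ f := by rw [Category.assoc, ha, Category.assoc]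
  constructor
  · intro U z x Q n v hn h0
    let z₁ := (fiberCompIso p (η' ≫ a)).inv.app U (castPt hη.symm z)
    let Q₁ := (EtCoh.bc π).obj Q
    let v₁ := (fiberCompIso π η').inv.app Q v
    let b : Q₁.left ⟶ U.left := pullback.fst Q.hom π ≫ n.left ≫ pullback.fst U.hom f
    have hQ₁ : pullback.fst Q.hom π ≫ Q.hom = Q₁.hom ≫ π := pullback.condition
    have hb : b ≫ U.hom = (Q₁.hom ≫ a) ≫ p := by
      simp only [b, Category.assoc]
      rw [pullback.condition, ha, ← Category.assoc n.left]
      refine (congrArg (fun t => pullback.fst Q.hom π ≫ t ≫ f) (MorphismProperty.Over.w n)).trans ?_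
      rw [← Category.assoc, hQ₁, Category.assoc]
    let b' : Q₁.left ⟶ ((EtCoh.bc p).obj U).left := pullback.lift b (Q₁.hom ≫ a) hb
    let n₁ : Q₁ ⟶ (EtCoh.bc a).obj ((EtCoh.bc p).obj U) := bcLift a b' (pullback.lift_snd _ _ _)
    have hn₁ : (Scheme.pointSmallEtale η').fiber.map n₁ v₁ = (fiberCompIso a η').inv.app _ z₁ := by
      refine bcLift_pt a b' _ v₁ z₁ (pullback.hom_ext ?_ ?_)
      · rw [Category.assoc, show b' ≫ pullback.fst U.hom p = b from pullback.lift_fst _ _ _]
        refine Eq.trans ?_ (fiberCompIso_inv_left p (η' ≫ a) U (castPt hη.symm z)).symm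
        refine (Category.assoc _ _ _).symm.trans ?_
        refine (congrArg (· ≫ n.left ≫ pullback.fst U.hom f) (fiberCompIso_inv_left π η' Q v)).trans ?_
        exact pt_fst_of_map f hn
      · rw [Category.assoc, show b' ≫ pullback.snd U.hom p = Q₁.hom ≫ a from pullback.lift_snd _ _ _,
          ← Category.assoc]
        exact (congrArg (· ≫ a) (Over.w v₁)).trans (Over.w z₁).symm
    let x' := rT F q (resTop cT U) (resTop_hom cT U) x
    let x₁ : H0 gi ((EtCoh.pull ti).obj F) q ((EtCoh.bc p).obj U) :=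
      Sheaf.H.map ((viaIso ((EtCoh.bc gi).obj ((EtCoh.bc p).obj U)).hom ti _ rfl).app F).inv q x'
    have h1 : rlam a gi hi ei w' ((EtCoh.pull ti).obj F) q ((EtCoh.bc p).obj U) n₁ x₁ = 0 := by
      apply H_map_injective ((viaIso (((EtCoh.bc hi).obj Q₁).hom ≫ ei) ti (((EtCoh.bc hi).obj Q₁).hom ≫ ei ≫ ti)
        (Category.assoc _ _ _)).app F) q
      refine (sig_rT ti F q _ _ rfl (Category.assoc _ _ _) _ (lamTo_hom a gi hi ei w' _ n₁) x₁).trans ?_
      rw [map_zero]
      refine (congrArg _ (sigma_inv_hom ti F q _ _ rfl x')).trans ?_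
      let μ : ((EtCoh.bc hi).obj Q₁).left ⟶ ((EtCoh.bc h).obj Q).left :=
        pullback.lift (pullback.fst Q₁.hom hi ≫ pullback.fst Q.hom π) (pullback.snd Q₁.hom hi ≫ k)
          (by rw [Category.assoc, hQ₁, ← Category.assoc, pullback.condition, Category.assoc, Category.assoc,
            cK.w])
      have hμ : μ ≫ ((EtCoh.bc h).obj Q).hom ≫ e = ((EtCoh.bc hi).obj Q₁).hom ≫ ei ≫ ti := by
        rw [← hk, ← Category.assoc, ← Category.assoc]
        exact congrArg (· ≫ e) (pullback.lift_snd _ _ _)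
      refine Eq.trans ?_ ((congrArg (rT F q μ hμ) h0).trans (map_zero _))
      refine (rT_comp F q _ _ _ _ _ rfl x).trans (Eq.trans ?_ (rT_comp F q _ _ _ _ _ rfl x).symm)
      refine rT_congr F q (to_bc_ext g ?_ ?_) _ x
      · rw [Category.assoc, resTop_fst, ← Category.assoc, lamTo_fst]
        simp only [Category.assoc]
        refine Eq.trans ?_ (congrArg (μ ≫ ·) (lamTo_fst f g h e w U n)).symm
        refine (congrArg (fun t => pullback.fst Q₁.hom hi ≫ t) ((Category.assoc _ _ _).symm.trans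
          (congrArg (· ≫ pullback.fst U.hom p) (bcLift_fst a b' (pullback.lift_snd _ _ _))))).trans ?_
        refine (congrArg (fun t => pullback.fst Q₁.hom hi ≫ t) (pullback.lift_fst b (Q₁.hom ≫ a) hb)).trans ?_
        refine Eq.trans ?_ (Category.assoc _ _ _)
        refine Eq.trans ?_ (congrArg (· ≫ n.left ≫ pullback.fst U.hom f) (pullback.lift_fst _ _ _)).symm
        simp only [b, Category.assoc]
      · rw [Category.assoc, resTop_hom, ← Category.assoc, lamTo_hom, Category.assoc, Category.assoc,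
          lamTo_hom, hμ]
    obtain ⟨V', m, y, hy, h2⟩ := H.inj _ z₁ x₁ Q₁ n₁ v₁ hn₁ h1
    refine ⟨pushNbhd p V', pushTo m, castPt hη (pushPt p V' y), ?_, ?_⟩
    · rw [castPt_map, pushTo_pt m y _ hy]
      exact castPt_castPt hη.symm z
    · have h3 := congrArg (sig ti F q ((EtCoh.bc gi).obj V').hom _ rfl) h2
      rw [map_zero] at h3
      have h4 := congrArg (rT F q (extTop cT V') (extTop_hom cT V')) h3
      rw [map_zero] at h4
      refine Eq.trans ?_ h4
      refine Eq.trans ?_ (congrArg _ (sig_rT ti F q _ _ rfl rfl _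
        (MorphismProperty.Over.w ((EtCoh.bc gi).map m)) x₁)).symm
      refine Eq.trans ?_ (congrArg (fun t => rT F q _ _ (rT F q _ _ t)) (sigma_inv_hom ti F q _ _ rfl x')).symm
      refine Eq.trans ?_ (congrArg _ (rT_comp F q _ _ _ _ _ rfl x)).symm
      exact (rT_comp F q _ _ _ _ _ (extTop_resTop cT m) x).symm
  · intro Q v y
    let Q₁ := (EtCoh.bc π).obj Q
    let v₁ := (fiberCompIso π η').inv.app Q v
    have hres : resTop cK Q ≫ ((EtCoh.bc h).obj Q).hom ≫ e = ((EtCoh.bc hi).obj Q₁).hom ≫ ei ≫ ti := by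
      rw [← Category.assoc, resTop_hom, Category.assoc, hk]
    let y' := rT F q (resTop cK Q) hres y
    let y₁ : H1 hi ei ((EtCoh.pull ti).obj F) q Q₁ :=
      Sheaf.H.map ((viaIso (((EtCoh.bc hi).obj Q₁).hom ≫ ei) ti (((EtCoh.bc hi).obj Q₁).hom ≫ ei ≫ ti)
        (Category.assoc _ _ _)).app F).inv q y'
    obtain ⟨U₁, z₁, x₁, Q₁', m, n, v', hm, hn, he⟩ := H.surj Q₁ v₁ y₁
    let c : Q₁'.left ⟶ U₁.left := n.left ≫ pullback.fst U₁.hom a
    have hc : c ≫ (pushNbhd p U₁).hom = (pushNbhd π Q₁').hom ≫ f := by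
      show (n.left ≫ pullback.fst U₁.hom a) ≫ U₁.hom ≫ p = (Q₁'.hom ≫ π) ≫ f
      simp only [Category.assoc]
      rw [← ha, ← Category.assoc (pullback.fst U₁.hom a), pullback.condition, Category.assoc, ← Category.assoc]
      exact congrArg (· ≫ a ≫ p) (MorphismProperty.Over.w n)
    let x : H0 g F q (pushNbhd p U₁) :=
      rT F q (extTop cT U₁) (extTop_hom cT U₁) (sig ti F q ((EtCoh.bc gi).obj U₁).hom _ rfl x₁)
    refine ⟨pushNbhd p U₁, castPt hη (pushPt p U₁ z₁), x, pushNbhd π Q₁', pushTo m, bcLift f c hc,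
      pushPt π Q₁' v', ?_, ?_, ?_⟩
    · exact pushTo_pt m v' v hm
    · exact bcLift_pt (η := η' ≫ π) f (U := pushNbhd p U₁) (Q := pushNbhd π Q₁') c hc (pushPt π Q₁' v')
        (castPt hη (pushPt p U₁ z₁)) (pt_fst_of_map a hn)
    · let ε := extTop cK Q₁'
      have hε : ε ≫ ((EtCoh.bc hi).obj Q₁').hom ≫ ei ≫ ti = ((EtCoh.bc h).obj (pushNbhd π Q₁')).hom ≫ e := by
        rw [← hk, ← Category.assoc, ← Category.assoc, Category.assoc ε]
        exact congrArg (· ≫ e) (extTop_hom cK Q₁')
      have e1 := congrArg (sig ti F q (((EtCoh.bc hi).obj Q₁').hom ≫ ei)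
        (((EtCoh.bc hi).obj Q₁').hom ≫ ei ≫ ti) (Category.assoc _ _ _)) he
      have e2 := congrArg (rT F q ε hε) ((sig_rT ti F q _ _ (Category.assoc _ _ _) (Category.assoc _ _ _) _
        (bc_map_comp_hom hi ei m) y₁).symm.trans (e1.trans (sig_rT ti F q _ _ rfl (Category.assoc _ _ _) _
        (lamTo_hom a gi hi ei w' _ n) x₁)))
      refine Eq.trans ?_ (e2.trans ?_)
      · refine Eq.trans ?_ (congrArg (fun t => rT F q _ _ (rT F q _ _ t))
          (sigma_inv_hom ti F q _ _ (Category.assoc _ _ _) y')).symm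
        refine Eq.trans ?_ (congrArg _ (rT_comp F q _ _ _ _ _ rfl y)).symm
        exact (rT_comp F q _ _ _ _ _ (extTop_resTop cK m) y).symm
      · refine (rT_comp F q _ _ _ _ _ rfl _).trans ((rT_congr F q ?_ _ _).trans
          (rT_comp F q _ _ _ _ _ rfl _).symm)
        refine to_bc_ext gi ?_ ?_
        · rw [Category.assoc, lamTo_fst, Category.assoc, extTop_fst, lamTo_fst, bcLift_fst, ← Category.assoc,
            extTop_fst]
        · have key : (lamTo f g h e w (pushNbhd p U₁) (bcLift f c hc) ≫ extTop cT U₁) ≫ ((EtCoh.bc gi).obj U₁).hom =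
              ε ≫ ((EtCoh.bc hi).obj Q₁').hom ≫ ei := by
            refine cT.hom_ext ?_ ?_
            · rw [Category.assoc, Category.assoc, extTop_hom, lamTo_hom]
              refine Eq.trans ?_ ((Category.assoc _ _ _).trans (congrArg (ε ≫ ·) (Category.assoc _ _ _))).symm
              exact hε.symm
            · rw [Category.assoc, Category.assoc,
                show ((EtCoh.bc gi).obj U₁).hom ≫ gi = pullback.fst U₁.hom gi ≫ U₁.hom from pullback.condition.symm,
                ← Category.assoc (extTop cT U₁), extTop_fst, ← Category.assoc, lamTo_fst, bcLift_fst]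
              simp only [Category.assoc, w']
              rw [← Category.assoc ((EtCoh.bc hi).obj Q₁').hom,
                show ((EtCoh.bc hi).obj Q₁').hom ≫ hi = pullback.fst Q₁'.hom hi ≫ Q₁'.hom from pullback.condition.symm]
              refine Eq.trans ?_ (congrArg (ε ≫ ·) (Category.assoc _ _ _)).symm
              refine Eq.trans ?_ (Category.assoc _ _ _)
              refine Eq.trans ?_ (congrArg (· ≫ Q₁'.hom ≫ a) (extTop_fst cK Q₁')).symm
              refine congrArg (_ ≫ ·) ?_
              show (n.left ≫ pullback.fst U₁.hom a) ≫ U₁.hom = _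
              rw [Category.assoc, pullback.condition, ← Category.assoc]
              exact congrArg (· ≫ a) (MorphismProperty.Over.w n)
          rw [key, Category.assoc, lamTo_hom]

end Groth.Agent.H1DFun
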