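import Groth.Agent.H1DFun.BCInjCoker
import Groth.Agent.H1DFun.PushClass
import Groth.Agent.S14622

/-!
# Base change for direct images along integral morphisms
-/

set_option autoImplicit false
set_option backward.isDefEq.respectTransparency false
set_option backward.isDefEq.respectTransparency.types false

universe u

open CategoryTheory CategoryTheory.Limits AlgebraicGeometry Opposite
open Groth.Agent.H18Et

namespace Groth.Agent.H1DFun

attribute [local instance] Groth.Agent.H18Et.pull_preservesFiniteLimits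

section Leg

variable {A B B' : Scheme.{u}} (g : B ⟶ A) (π : B' ⟶ B) (U : A.Etale)

/-- The projection between the two base changes. -/
noncomputable def prBC : ((EtCoh.bc (π ≫ g)).obj U).left ⟶ ((EtCoh.bc g).obj U).left :=
  pullback.lift (pullback.fst U.hom (π ≫ g)) (pullback.snd U.hom (π ≫ g) ≫ π)
    (pullback.condition.trans (Category.assoc _ _ _).symm)

theorem prBC_fst : prBC g π U ≫ pullback.fst U.hom g = pullback.fst U.hom (π ≫ g) := pullback.lift_fst _ _ _

theorem prBC_hom : prBC g π U ≫ ((EtCoh.bc g).obj U).hom = ((EtCoh.bc (π ≫ g)).obj U).hom ≫ π :=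
  pullback.lift_snd _ _ _

theorem isPullback_prBC :
    IsPullback (prBC g π U) ((EtCoh.bc (π ≫ g)).obj U).hom ((EtCoh.bc g).obj U).hom π := by
  refine IsPullback.of_right (h₁₂ := pullback.fst U.hom g) (v₁₃ := U.hom) (h₂₂ := g) ?_ (prBC_hom g π U)
    (IsPullback.of_hasPullback U.hom g)
  rw [prBC_fst]
  exact IsPullback.of_hasPullback U.hom (π ≫ g)

theorem prBC_map {U' : A.Etale} (m : U' ⟶ U) :
    ((EtCoh.bc (π ≫ g)).map m).left ≫ prBC g π U = prBC g π U' ≫ ((EtCoh.bc g).map m).left := by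
  refine pullback.hom_ext ?_ ?_
  · refine (Category.assoc _ _ _).trans ((congrArg (_ ≫ ·) (prBC_fst g π U)).trans ?_)
    refine (pullback.lift_fst _ _ _).trans ((congrArg (· ≫ m.left) (prBC_fst g π U').symm).trans ?_)
    exact (Category.assoc _ _ _).trans ((congrArg (_ ≫ ·) (pullback.lift_fst _ _ _).symm).trans
      (Category.assoc _ _ _).symm)
  · refine (Category.assoc _ _ _).trans ((congrArg (_ ≫ ·) (prBC_hom g π U)).trans ?_)
    refine (Category.assoc _ _ _).symm.trans ((congrArg (· ≫ π)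
      (MorphismProperty.Over.w ((EtCoh.bc (π ≫ g)).map m))).trans ((prBC_hom g π U').symm.trans ?_))
    exact (congrArg (_ ≫ ·) (MorphismProperty.Over.w ((EtCoh.bc g).map m)).symm).trans
      (Category.assoc _ _ _).symm

end Leg

variable {X S Y T T' Y' : Scheme.{u}} (f : X ⟶ S) (g : T ⟶ S) (h : Y ⟶ X) (e : Y ⟶ T) (w : e ≫ g = h ≫ f)
  (π : T' ⟶ T) (π' : Y' ⟶ Y) (e' : Y' ⟶ T') (w'' : e' ≫ π ≫ g = (π' ≫ h) ≫ f) (c' : IsPullback e' π' π e)
  (H : EtCoh.Ab T') (q : ℕ)

/-- Classes below. -/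
noncomputable def pI (U : S.Etale) :
    (C0 g ((EtCoh.push π).obj H) q U : Type (u + 1)) →+ C0 (π ≫ g) H q U :=
  phiC π H q _ _ (prBC g π U) (((EtCoh.bc (π ≫ g)).obj U).hom ≫ π) (prBC_hom g π U) rfl

include c' in
theorem hom_e'_pi (Q : X.Etale) : prBC h π' Q ≫ ((EtCoh.bc h).obj Q).hom ≫ e =
    (((EtCoh.bc (π' ≫ h)).obj Q).hom ≫ e') ≫ π := by
  rw [← Category.assoc, prBC_hom]
  exact (Category.assoc _ _ _).trans ((congrArg (_ ≫ ·) c'.w.symm).trans (Category.assoc _ _ _).symm)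

/-- Classes upstairs. -/
noncomputable def pJ (Q : X.Etale) :
    (C1 h e ((EtCoh.push π).obj H) q Q : Type (u + 1)) →+ C1 (π' ≫ h) e' H q Q :=
  phiC π H q _ _ (prBC h π' Q) ((((EtCoh.bc (π' ≫ h)).obj Q).hom ≫ e') ≫ π) (hom_e'_pi h e π π' e' c' Q) rfl

theorem pI_c0 {U U' : S.Etale} (m : U' ⟶ U) (x : C0 g ((EtCoh.push π).obj H) q U) :
    c0 (π ≫ g) H q m (pI g π H q U x) = pI g π H q U' (c0 g _ q m x) :=
  phiC_natural π H q _ _ _ _ _ _ _ _ _ _ _ _ ((EtCoh.bc g).map m).left _ ((EtCoh.bc (π ≫ g)).map m).left _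
    (prBC_map g π U m) x

theorem pJ_c1 {Q Q' : X.Etale} (m : Q' ⟶ Q) (x : C1 h e ((EtCoh.push π).obj H) q Q) :
    c1 (π' ≫ h) e' H q m (pJ h e π π' e' c' H q Q x) = pJ h e π π' e' c' H q Q' (c1 h e _ q m x) :=
  phiC_natural π H q _ _ _ _ _ _ _ _ _ _ _ _ ((EtCoh.bc h).map m).left _ ((EtCoh.bc (π' ≫ h)).map m).left _
    (prBC_map h π' Q m) x

include c' in
theorem prBC_lamTo (U : S.Etale) {Q : X.Etale} (n : Q ⟶ (EtCoh.bc f).obj U) :
    lamTo f (π ≫ g) (π' ≫ h) e' w'' U n ≫ prBC g π U = prBC h π' Q ≫ lamTo f g h e w U n := by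
  refine pullback.hom_ext ?_ ?_
  · refine (Category.assoc _ _ _).trans ((congrArg (_ ≫ ·) (prBC_fst g π U)).trans ?_)
    refine (lamTo_fst f (π ≫ g) (π' ≫ h) e' w'' U n).trans (Eq.trans ?_ (Category.assoc _ _ _).symm)
    refine Eq.trans ?_ (congrArg (_ ≫ ·) (lamTo_fst f g h e w U n).symm)
    exact (congrArg (· ≫ _) (prBC_fst h π' Q).symm).trans (Category.assoc _ _ _)
  · refine (Category.assoc _ _ _).trans ((congrArg (_ ≫ ·) (prBC_hom g π U)).trans ?_)
    refine Eq.trans ?_ (Category.assoc _ _ _).symm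
    refine Eq.trans ?_ (congrArg (_ ≫ ·) (lamTo_hom f g h e w U n).symm)
    refine (Category.assoc _ _ _).symm.trans ((congrArg (· ≫ π) (lamTo_hom f (π ≫ g) (π' ≫ h) e' w'' U n)).trans ?_)
    exact (hom_e'_pi h e π π' e' c' Q).symm

theorem pJ_cl (U : S.Etale) {Q : X.Etale} (n : Q ⟶ (EtCoh.bc f).obj U)
    (x : C0 g ((EtCoh.push π).obj H) q U) :
    cl (π ≫ g) (π' ≫ h) e' H q f w'' U n (pI g π H q U x) =
      pJ h e π π' e' c' H q Q (cl g h e _ q f w U n x) :=
  phiC_natural π H q _ _ _ _ _ _ _ _ _ _ _ _ (lamTo f g h e w U n) _ (lamTo f (π ≫ g) (π' ≫ h) e' w'' U n) _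
    (prBC_lamTo f g h e w π π' e' w'' c' U n) x

variable [IsIntegralHom π]

theorem pI_bijective (U : S.Etale) : Function.Bijective (pI g π H q U) :=
  phiC_bijective π H _ _ _ q _ _ _ (isPullback_prBC g π U).flip

include c' in
theorem pJ_bijective (Q : X.Etale) : Function.Bijective (pJ h e π π' e' c' H q Q) :=
  phiC_bijective π H _ _ _ q _ _ _ ((isPullback_prBC h π' Q).paste_vert c'.flip).flip

variable {Ω : Type u} [Field Ω] [IsSepClosed Ω] {η : Spec (CommRingCat.of Ω) ⟶ X}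

include c' w'' in
/-- Bijectivity for a direct image along an integral morphism. -/
theorem bcBij_push (hb : BCBij f (π ≫ g) (π' ≫ h) e' w'' H q η) :
    BCBij f g h e w ((EtCoh.push π).obj H) q η := by
  have hI : CInj f g h e w η ((EtCoh.push π).obj H) q := fun U z x Q n v hn hx => by
    obtain ⟨V, m, y, hy, h0⟩ := cInj_of_bcBij f (π ≫ g) (π' ≫ h) e' w'' hb U z (pI g π H q U x) Q n v hn
      ((pJ_cl f g h e w π π' e' w'' c' H q U n x).trans ((congrArg _ hx).trans (map_zero _)))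
    exact ⟨V, m, y, hy, (pI_bijective g π H q V).1 (((pI_c0 g π H q m x).symm.trans h0).trans (map_zero _).symm)⟩
  have hS : CSurj f g h e w η ((EtCoh.push π).obj H) q := fun Q v s => by
    obtain ⟨U, z, x', Q', m, n, v', hm, hn, he⟩ :=
      cSurj_of_bcBij f (π ≫ g) (π' ≫ h) e' w'' hb Q v (pJ h e π π' e' c' H q Q s)
    obtain ⟨x, rfl⟩ := (pI_bijective g π H q U).2 x'
    exact ⟨U, z, x, Q', m, n, v', hm, hn, (pJ_bijective h e π π' e' c' H q Q').1
      (((pJ_c1 h e π π' e' c' H q m s).symm.trans he).trans (pJ_cl f g h e w π π' e' w'' c' H q U n x))⟩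
  exact ⟨hI, hS⟩

theorem killedBy_pull_pushed {n : ℕ} {F : EtCoh.Ab T} (hF : EtCoh.KilledBy n F) :
    EtCoh.KilledBy n ((EtCoh.push π).obj ((EtCoh.pull π).obj F)) := fun U s => by
  have hp : EtCoh.KilledBy n ((EtCoh.pull π).obj F) := fun V t => by
    refine H18Et.sect_ext _ _ fun Ω _ _ ξ z => ?_
    rw [map_zero, map_nsmul]
    obtain ⟨y, hy⟩ := (ConcreteCategory.bijective_of_isIso ((stalkPullIso π ξ).inv.app F)).2
      (H18Et.germ ξ ((EtCoh.pull π).obj F) V z t)
    rw [← hy]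
    obtain ⟨W, v, t', rfl⟩ := H18Et.germ_surjective (ξ ≫ π) F y
    refine (map_nsmul _ n _).symm.trans ?_
    refine (congrArg _ ((map_nsmul _ n t').symm.trans ?_)).trans (map_zero _)
    rw [hF W t']
    exact map_zero _
  exact hp _ s

end Groth.Agent.H1DFun
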