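import Groth.Agent.S19886
import Groth.Agent.H18AS.Main
import Mathlib.GroupTheory.PGroup

/-!
# Degree two cohomology of proper curves with `p`-primary coefficients in characteristic `p`
-/

set_option autoImplicit false
set_option linter.style.haveILetI false
set_option backward.isDefEq.respectTransparency false
set_option backward.isDefEq.respectTransparency.types false

universe u

open CategoryTheory CategoryTheory.Limits AlgebraicGeometry Opposite Abelian
open scoped Groth.Agent.H18Et

namespace Groth.Agent.H1DFun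

/-- Constant sheaves form an exact functor. -/
theorem shortExact_const {X : Scheme.{u}} {S : ShortComplex AddCommGrpCat.{u + 1}} (hS : S.ShortExact) :
    (S.map (constantSheaf X.smallEtaleTopology AddCommGrpCat.{u + 1})).ShortExact := by
  haveI : PreservesFiniteLimits (constantSheaf X.smallEtaleTopology AddCommGrpCat.{u + 1}) :=
    inferInstanceAs (PreservesFiniteLimits (Functor.const X.Etaleᵒᵖ ⋙ presheafToSheaf _ _))
  haveI : PreservesFiniteColimits (constantSheaf X.smallEtaleTopology AddCommGrpCat.{u + 1}) :=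
    ⟨fun _ _ _ => (constantSheafAdj X.smallEtaleTopology AddCommGrpCat.{u + 1}
      (EtCore.topIsTerminal X)).leftAdjoint_preservesColimits.preservesColimitsOfShape⟩
  haveI : (constantSheaf X.smallEtaleTopology AddCommGrpCat.{u + 1}).Additive :=
    Functor.additive_of_preserves_binary_products _
  exact hS.map_of_exact _

variable {k : Type u} [Field k] [IsSepClosed k] (p : ℕ) [Fact p.Prime] [CharP k p]
  {Z : Scheme.{u}} (f : Z ⟶ Spec (CommRingCat.of k)) [IsProper f]

include k f in
theorem subsingleton_H_two_zmod (hdim : topologicalKrullDim Z ≤ 1) :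
    Subsingleton (EtCoh.H Z (EtCoh.const Z (ZMod p)) 2) := by
  rcases isEmpty_or_nonempty Z with h | h
  · exact H18AS.subsingleton_H_of_isEmpty _ _
  obtain ⟨d, hd, hd1⟩ : ∃ d : ℕ, topologicalKrullDim Z = d ∧ d ≤ 1 := by
    have h0 : 0 ≤ topologicalKrullDim Z := Order.krullDim_nonneg_iff.2
      ⟨⟨closure {h.some}, isIrreducible_singleton.closure, isClosed_closure⟩⟩
    obtain ⟨n, hn⟩ := WithBot.ne_bot_iff_exists.mp (fun h1 => by rw [h1] at h0; simp at h0 :
      topologicalKrullDim Z ≠ ⊥)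
    rw [← hn] at hdim ⊢
    have hn1 : n ≤ 1 := by exact_mod_cast hdim
    obtain ⟨d, rfl⟩ := ENat.ne_top_iff_exists.mp (ne_top_of_le_ne_top (by simp) hn1)
    exact ⟨d, rfl, by exact_mod_cast hn1⟩
  exact S19886.result k p Z f d hd 2 (by omega)

include k f in
/-- Degree two vanishes for finite `p`-groups. -/
theorem subsingleton_H_two_pgroup (hdim : topologicalKrullDim Z ≤ 1) :
    ∀ r : ℕ, Subsingleton (EtCoh.H Z (EtCoh.const Z (ZMod (p ^ r))) 2) := by
  intro r
  induction r with
  | zero =>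
    refine subsingleton_of_forall_eq 0 fun x => ?_
    have h0 : 𝟙 (EtCoh.const Z (ZMod (p ^ 0))) = 0 := by
      refine ((constantSheaf Z.smallEtaleTopology AddCommGrpCat.{u + 1}).map_id _).symm.trans ?_
      haveI : Subsingleton (ZMod (p ^ 0)) := inferInstanceAs (Subsingleton (Fin 1))
      rw [show 𝟙 (AddCommGrpCat.of (ULift.{u + 1} (ZMod (p ^ 0)))) = 0 from
        AddCommGrpCat.ext fun _ => Subsingleton.elim _ _]
      haveI : PreservesFiniteLimits (constantSheaf Z.smallEtaleTopology AddCommGrpCat.{u + 1}) :=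
        inferInstanceAs (PreservesFiniteLimits (Functor.const Z.Etaleᵒᵖ ⋙ presheafToSheaf _ _))
      haveI : (constantSheaf Z.smallEtaleTopology AddCommGrpCat.{u + 1}).Additive :=
        Functor.additive_of_preserves_binary_products _
      exact Functor.map_zero _ _ _
    rw [← Ext.comp_mk₀_id x, h0, Ext.mk₀_zero, Ext.comp_zero]
  | succ r ih =>
    haveI := subsingleton_H_two_zmod p f hdim
    haveI : NeZero (p ^ (r + 1)) := ⟨pow_ne_zero _ (Fact.out : p.Prime).ne_zero⟩
    let L : {g : ℤ →+ ZMod (p ^ (r + 1)) // g p = 0} :=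
      ⟨(AddMonoidHom.mulLeft ((p : ZMod (p ^ (r + 1))) ^ r)).comp (Int.castAddHom _), by
        show (p : ZMod (p ^ (r + 1))) ^ r * ((p : ℤ) : ZMod (p ^ (r + 1))) = 0
        rw [Int.cast_natCast, ← pow_succ, ← Nat.cast_pow, ZMod.natCast_self]⟩
    let a : ULift.{u + 1} (ZMod p) →+ ULift.{u + 1} (ZMod (p ^ (r + 1))) :=
      AddEquiv.ulift.symm.toAddMonoidHom.comp ((ZMod.lift p L).comp AddEquiv.ulift.toAddMonoidHom)
    let b : ULift.{u + 1} (ZMod (p ^ (r + 1))) →+ ULift.{u + 1} (ZMod (p ^ r)) :=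
      AddEquiv.ulift.symm.toAddMonoidHom.comp
        ((ZMod.castHom (pow_dvd_pow p (Nat.le_succ r)) (ZMod (p ^ r))).toAddMonoidHom.comp
          AddEquiv.ulift.toAddMonoidHom)
    have ha : ∀ j : ℕ, a (ULift.up (j : ZMod p)) = ULift.up (((p ^ r * j : ℕ) : ZMod (p ^ (r + 1)))) := fun j => by
      refine ULift.ext _ _ ?_
      simp only [a, AddMonoidHom.comp_apply, AddEquiv.coe_toAddMonoidHom]
      change ZMod.lift p L ((j : ℕ) : ZMod p) = _
      refine ((congrArg (ZMod.lift p L) (Int.cast_natCast j).symm).trans (ZMod.lift_coe _ _ _)).trans ?_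
      show (p : ZMod (p ^ (r + 1))) ^ r * ((j : ℤ) : ZMod (p ^ (r + 1))) = _
      push_cast
      rfl
    have hb : ∀ j : ℕ, b (ULift.up (j : ZMod (p ^ (r + 1)))) = ULift.up ((j : ZMod (p ^ r))) := fun j =>
      ULift.ext _ _ (map_natCast (ZMod.castHom (pow_dvd_pow p (Nat.le_succ r)) (ZMod (p ^ r))) j)
    have hex : ∀ x : ULift.{u + 1} (ZMod p), ∃ j : ℕ, x = ULift.up (j : ZMod p) := fun x =>
      ⟨x.down.val, ULift.ext _ _ (ZMod.natCast_zmod_val _).symm⟩
    have hex' : ∀ x : ULift.{u + 1} (ZMod (p ^ (r + 1))), ∃ j : ℕ, x = ULift.up (j : ZMod (p ^ (r + 1))) := fun x =>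
      ⟨x.down.val, ULift.ext _ _ (ZMod.natCast_zmod_val _).symm⟩
    have hz : b.comp a = 0 := by
      refine AddMonoidHom.ext fun x => ?_
      obtain ⟨j, rfl⟩ := hex x
      refine (congrArg b (ha j)).trans ((hb _).trans (ULift.ext _ _ ?_))
      show ((p ^ r * j : ℕ) : ZMod (p ^ r)) = 0
      rw [Nat.cast_mul, ZMod.natCast_self, zero_mul]
    let S : ShortComplex AddCommGrpCat.{u + 1} :=
      ShortComplex.mk (AddCommGrpCat.ofHom a) (AddCommGrpCat.ofHom b) (AddCommGrpCat.ext fun x =>
        DFunLike.congr_fun hz x)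
    have hS : S.ShortExact := by
      haveI : Mono S.f := (AddCommGrpCat.mono_iff_injective _).2 <| (injective_iff_map_eq_zero a).2 fun x hx => by
        obtain ⟨j, rfl⟩ := hex x
        rw [ha] at hx
        have hd : p ^ (r + 1) ∣ p ^ r * j := (ZMod.natCast_eq_zero_iff _ _).1 (congrArg ULift.down hx)
        refine ULift.ext _ _ ((ZMod.natCast_eq_zero_iff _ _).2 ?_)
        rw [pow_succ] at hd
        exact Nat.dvd_of_mul_dvd_mul_left (pow_pos (Fact.out : p.Prime).pos _) hd
      haveI : Epi S.g := (AddCommGrpCat.epi_iff_surjective _).2 fun y => by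
        haveI : NeZero (p ^ r) := ⟨pow_ne_zero _ (Fact.out : p.Prime).ne_zero⟩
        exact ⟨ULift.up ((y.down.val : ℕ) : ZMod (p ^ (r + 1))),
          (hb _).trans (ULift.ext _ _ (ZMod.natCast_zmod_val _))⟩
      refine ⟨(ShortComplex.ab_exact_iff _).2 fun x hx => ?_⟩
      obtain ⟨j, rfl⟩ := hex' x
      have h1 : ((j : ℕ) : ZMod (p ^ r)) = 0 := congrArg ULift.down ((hb j).symm.trans hx)
      obtain ⟨i, rfl⟩ := (ZMod.natCast_eq_zero_iff _ _).1 h1
      exact ⟨ULift.up (i : ZMod p), ha i⟩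
    refine subsingleton_of_forall_eq 0 fun x => ?_
    obtain ⟨y, hy⟩ := Ext.covariant_sequence_exact₂ _ (shortExact_const (X := Z) hS) x (ih.elim _ _)
    rw [← hy]
    have : y = 0 := Subsingleton.elim (α := EtCoh.H Z (EtCoh.const Z (ZMod p)) 2) _ _
    rw [this, Ext.zero_comp]

end Groth.Agent.H1DFun
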