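import Groth.Agent.H1DFun.PushClass
import Groth.Agent.H18Et.PushClosed
import Groth.Agent.H18Et.StalkSets

/-!
# Classes on a disjoint union of two clopen pieces
-/

set_option autoImplicit false
set_option backward.isDefEq.respectTransparency false
set_option backward.isDefEq.respectTransparency.types false

universe u

open CategoryTheory CategoryTheory.Limits AlgebraicGeometry Opposite Abelian
open Groth.Agent.H18Et Groth.Agent.H1Lim

namespace Groth.Agent.H1DFun

attribute [local instance] Groth.Agent.H18Et.pull_preservesFiniteLimits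

theorem map_split_apply {V : Scheme.{u}} {A B C : EtCoh.Ab V} (q : ℕ) {i : A ⟶ C} {i' : B ⟶ C} {p : C ⟶ A}
    (h : i ≫ p = 𝟙 A) (h' : i' ≫ p = 0) (t : Sheaf.H A q) (t' : Sheaf.H B q) :
    Sheaf.H.map p q (Sheaf.H.map i q t + Sheaf.H.map i' q t') = t := by
  rw [map_add, ← Sheaf.H.map_comp_apply, ← Sheaf.H.map_comp_apply, h, h', Sheaf.H.map_apply,
    Sheaf.H.map_apply, Ext.comp_mk₀_id, Ext.mk₀_zero, Ext.comp_zero, add_zero]

variable {V W W' : Scheme.{u}} (j : W ⟶ V) (j' : W' ⟶ V) [IsClosedImmersion j] [IsClosedImmersion j']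

theorem isIso_pull_unit (G : EtCoh.Ab V) : IsIso ((EtCoh.pull j).map ((EtCoh.pullPushAdj j).unit.app G)) := by
  haveI := isIso_counit_of_liftsEtaleUniv (liftsEtaleUniv_of_isClosedImmersion j) ((EtCoh.pull j).obj G)
  haveI : IsIso ((EtCoh.pull j).map ((EtCoh.pullPushAdj j).unit.app G) ≫
      (EtCoh.pullPushAdj j).counit.app ((EtCoh.pull j).obj G)) := by
    rw [(EtCoh.pullPushAdj j).left_triangle_components G]; exact IsIso.id ((EtCoh.pull j).obj G)
  exact IsIso.of_isIso_comp_right _ ((EtCoh.pullPushAdj j).counit.app ((EtCoh.pull j).obj G))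

variable (hd : ∀ w w', j.base w ≠ j'.base w') (hc : ∀ v, (∃ w, j.base w = v) ∨ ∃ w', j'.base w' = v)

include hd in
theorem isZero_pull_push (H : EtCoh.Ab W') : IsZero ((EtCoh.pull j).obj ((EtCoh.push j').obj H)) := by
  refine (H18Et.isZero_iff_stalk _).2 fun Ω _ _ ξ => ?_
  refine IsZero.of_iso (Y := (EtCoh.stalk (ξ ≫ j)).obj ((EtCoh.push j').obj H)) ?_
    ((stalkPullIso j ξ).app ((EtCoh.push j').obj H))
  haveI := subsingleton_stalk_push j' j'.isClosedEmbedding.isClosed_range H (ξ ≫ j)
    (fun ⟨w', hw'⟩ => hd _ w' (((Scheme.Hom.comp_apply _ _ _).symm).trans hw'.symm))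
  exact AddCommGrpCat.isZero_of_subsingleton _

variable (G : EtCoh.Ab V)

/-- A sheaf maps to the product of its restrictions to the two pieces. -/
noncomputable def splitMap : G ⟶ (EtCoh.push j).obj ((EtCoh.pull j).obj G) ⊞
    (EtCoh.push j').obj ((EtCoh.pull j').obj G) :=
  biprod.lift ((EtCoh.pullPushAdj j).unit.app G) ((EtCoh.pullPushAdj j').unit.app G)

include hd in
theorem isIso_pull_splitMap : IsIso ((EtCoh.pull j).map (splitMap j j' G)) := by
  haveI := isIso_pull_unit j G
  let A := (EtCoh.push j).obj ((EtCoh.pull j).obj G)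
  let B := (EtCoh.push j').obj ((EtCoh.pull j').obj G)
  haveI : IsIso ((EtCoh.pull j).map (biprod.fst : A ⊞ B ⟶ A)) := by
    refine ⟨(EtCoh.pull j).map biprod.inl, ?_, ?_⟩
    · have h : (EtCoh.pull j).map (biprod.snd ≫ biprod.inr : A ⊞ B ⟶ A ⊞ B) = 0 := by
        rw [Functor.map_comp, (isZero_pull_push j j' hd _).eq_of_tgt ((EtCoh.pull j).map biprod.snd) 0,
          zero_comp]
      rw [← Functor.map_comp, ← (EtCoh.pull j).map_id]
      conv_rhs => rw [← biprod.total, Functor.map_add, h, add_zero]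
    · rw [← Functor.map_comp, biprod.inl_fst, CategoryTheory.Functor.map_id]
  haveI : IsIso ((EtCoh.pull j).map (splitMap j j' G) ≫ (EtCoh.pull j).map (biprod.fst : A ⊞ B ⟶ A)) := by
    rw [← Functor.map_comp]
    unfold splitMap
    rw [biprod.lift_fst]
    infer_instance
  exact IsIso.of_isIso_comp_right _ ((EtCoh.pull j).map (biprod.fst : A ⊞ B ⟶ A))

include hd in
theorem isIso_pull_splitMap' : IsIso ((EtCoh.pull j').map (splitMap j j' G)) := by
  haveI := isIso_pull_splitMap j' j (fun w' w h => hd w w' h.symm) G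
  have h : splitMap j j' G = splitMap j' j G ≫ (biprod.braiding _ _).hom := by
    apply biprod.hom_ext <;> simp [splitMap]
  rw [h, Functor.map_comp]
  infer_instance

include hd hc in
theorem isIso_splitMap : IsIso (splitMap j j' G) := by
  refine H18Et.isIso_of_stalk _ fun v => ?_
  rcases hc v with ⟨w, rfl⟩ | ⟨w, rfl⟩
  · refine ⟨_, inferInstance, SeparableClosure.isSepClosed _, geomPt w ≫ j, ?_, ?_⟩
    · rw [Scheme.Hom.comp_apply, geomPt_base]
    · haveI := isIso_pull_splitMap j j' hd G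
      rw [← ConcreteCategory.isIso_iff_bijective]
      exact (pull_map_stalk_iff (splitMap j j' G) j (MorphismProperty.isomorphisms _) (geomPt w)).1
        ((H18Et.isIso_iff_stalk _).1 inferInstance _ _)
  · refine ⟨_, inferInstance, SeparableClosure.isSepClosed _, geomPt w ≫ j', ?_, ?_⟩
    · rw [Scheme.Hom.comp_apply, geomPt_base]
    · haveI := isIso_pull_splitMap' j j' hd G
      rw [← ConcreteCategory.isIso_iff_bijective]
      exact (pull_map_stalk_iff (splitMap j j' G) j' (MorphismProperty.isomorphisms _) (geomPt w)).1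
        ((H18Et.isIso_iff_stalk _).1 inferInstance _ _)

theorem hpull_eq (q : ℕ) (x : Sheaf.H G q) :
    hpull j G q x = Sheaf.H.map ((EtCoh.pull j).map (𝟙 ((EtCoh.push j).obj ((EtCoh.pull j).obj G))) ≫
      (EtCoh.pullPushAdj j).counit.app ((EtCoh.pull j).obj G)) q
      (hpull j _ q (Sheaf.H.map ((EtCoh.pullPushAdj j).unit.app G) q x)) := by
  refine Eq.trans ?_ (congrArg (Sheaf.H.map _ q) (Hpull_map j ((EtCoh.pullPushAdj j).unit.app G) q x).symm)
  refine Eq.trans ?_ (Sheaf.H.map_comp_apply _ _ _)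
  rw [CategoryTheory.Functor.map_id, Category.id_comp, (EtCoh.pullPushAdj j).left_triangle_components G,
    Sheaf.H.map_apply]
  exact (Ext.comp_mk₀_id _).symm

include hd hc in
theorem hpull_pair_bijective (q : ℕ) :
    Function.Bijective fun x : Sheaf.H G q => (hpull j G q x, hpull j' G q x) := by
  haveI := isIso_splitMap j j' hd hc G
  have b := hpull_map_bijective j (H' := (EtCoh.pull j).obj G) (𝟙 _) q
  have b' := hpull_map_bijective j' (H' := (EtCoh.pull j').obj G) (𝟙 _) q
  refine ⟨fun x y hxy => ?_, fun ⟨a, a'⟩ => ?_⟩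
  · obtain ⟨h1, h2⟩ := Prod.mk.injEq _ _ _ _ ▸ hxy
    rw [hpull_eq, hpull_eq j G q y] at h1
    rw [hpull_eq, hpull_eq j' G q y] at h2
    apply H_map_injective (asIso (splitMap j j' G)) q
    rw [asIso_hom]
    have e : splitMap j j' G = (EtCoh.pullPushAdj j).unit.app G ≫ biprod.inl +
        (EtCoh.pullPushAdj j').unit.app G ≫ biprod.inr := biprod.lift_eq
    rw [e, Sheaf.H.map_apply, Sheaf.H.map_apply, Ext.mk₀_add, Ext.comp_add, Ext.comp_add]
    simp only [← Sheaf.H.map_apply, Sheaf.H.map_comp_apply]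
    exact congrArg₂ (· + ·) (congrArg _ (b.1 h1)) (congrArg _ (b'.1 h2))
  · obtain ⟨t, ht⟩ := b.2 a
    obtain ⟨t', ht'⟩ := b'.2 a'
    refine ⟨Sheaf.H.map (inv (splitMap j j' G)) q (Sheaf.H.map biprod.inl q t + Sheaf.H.map biprod.inr q t'), ?_⟩
    have e1 : inv (splitMap j j' G) ≫ (EtCoh.pullPushAdj j).unit.app G = biprod.fst :=
      (IsIso.inv_comp_eq _).2 (biprod.lift_fst _ _).symm
    have e2 : inv (splitMap j j' G) ≫ (EtCoh.pullPushAdj j').unit.app G = biprod.snd :=
      (IsIso.inv_comp_eq _).2 (biprod.lift_snd _ _).symm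
    refine Prod.ext ((hpull_eq j G q _).trans (Eq.trans ?_ ht)) ((hpull_eq j' G q _).trans (Eq.trans ?_ ht'))
    · refine congrArg (fun z => Sheaf.H.map _ q (hpull j _ q z)) ?_
      refine (Sheaf.H.map_comp_apply _ _ _).symm.trans ((congrArg (fun k => Sheaf.H.map k q _) e1).trans ?_)
      exact map_split_apply q biprod.inl_fst biprod.inr_fst t t'
    · refine congrArg (fun z => Sheaf.H.map _ q (hpull j' _ q z)) ?_
      refine (Sheaf.H.map_comp_apply _ _ _).symm.trans ((congrArg (fun k => Sheaf.H.map k q _) e2).trans ?_)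
      rw [add_comm]
      exact map_split_apply q biprod.inr_snd biprod.inl_snd t' t

variable {T : Scheme.{u}} (F : EtCoh.Ab T) (q : ℕ) {a : V ⟶ T} {b : W ⟶ T} {b' : W' ⟶ T}
  (w : j ≫ a = b) (w' : j' ≫ a = b')

theorem cR_def (x : CL F q a) :
    cR F q j w x = Sheaf.H.map ((viaIso j a b w).app F).hom q (hpull j ((EtCoh.pull a).obj F) q x) :=
  HpullVia_def j a b w F q x

include hd hc in
/-- Classes on two clopen pieces glue uniquely. -/
theorem cR_pair_bijective :
    Function.Bijective fun x : CL F q a => (cR F q j w x, cR F q j' w' x) := by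
  have hb := hpull_pair_bijective j j' hd hc ((EtCoh.pull a).obj F) q
  refine ⟨fun x y hxy => ?_, fun z => ?_⟩
  · have h1 := (cR_def j F q w x).symm.trans ((congrArg Prod.fst hxy).trans (cR_def j F q w y))
    have h2 := (cR_def j' F q w' x).symm.trans ((congrArg Prod.snd hxy).trans (cR_def j' F q w' y))
    exact hb.1 (Prod.ext (H_map_injective _ q h1) (H_map_injective _ q h2))
  · obtain ⟨x, hx⟩ := hb.2 (Sheaf.H.map ((viaIso j a b w).app F).inv q z.1,
      Sheaf.H.map ((viaIso j' a b' w').app F).inv q z.2)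
    refine ⟨x, Prod.ext ?_ ?_⟩
    · exact (cR_def j F q w x).trans ((congrArg _ (congrArg Prod.fst hx)).trans (H_map_inv_hom _ q z.1))
    · exact (cR_def j' F q w' x).trans ((congrArg _ (congrArg Prod.snd hx)).trans (H_map_inv_hom _ q z.2))

include hd hc in
theorem cR_pair_eq_zero (x : CL F q a) (h : cR F q j w x = 0) (h' : cR F q j' w' x = 0) : x = 0 :=
  (cR_pair_bijective j j' hd hc F q w w').1 (Prod.ext (h.trans (map_zero _).symm) (h'.trans (map_zero _).symm))

include hd hc in
theorem exists_extend_zero (y : CL F q b) : ∃ x : CL F q a, cR F q j w x = y ∧ cR F q j' w' x = 0 := by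
  obtain ⟨x, hx⟩ := (cR_pair_bijective j j' hd hc F q w w').2 (y, 0)
  exact ⟨x, congrArg Prod.fst hx, congrArg Prod.snd hx⟩

end Groth.Agent.H1DFun
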