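import Groth.Agent.H1DFun.EfaceClosed
import Groth.Agent.H1DFun.GabberInduction
import Groth.Agent.H1DFun.TorsionAcyclic

/-!
# Cohomological comparison for closed subschemes from degree zero and effacement
-/

set_option autoImplicit false
set_option backward.isDefEq.respectTransparency false
set_option backward.isDefEq.respectTransparency.types false

universe u

open CategoryTheory CategoryTheory.Limits AlgebraicGeometry Opposite Abelian
open Groth.Agent.H18Et Groth.Agent.H1Lim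
open scoped Groth.Agent.H18Et

namespace Groth.Agent.H1DFun

attribute [local instance] Groth.Agent.H18Et.pull_preservesFiniteLimits

variable {X : Scheme.{u}}

variable [CompactSpace X] [QuasiSeparatedSpace X] {Z : Scheme.{u}} (i : Z ⟶ X) [IsClosedImmersion i]

/-- Classes on the closed subscheme are killed by injective maps of torsion sheaves. -/
abbrev KillOn : Prop :=
  ∀ (F : EtCoh.Ab X), EtCoh.IsTorsion F → ∀ q : ℕ, 0 < q → ∀ ξ : Sheaf.H ((EtCoh.pull i).obj F) q,
    ∃ (F' : EtCoh.Ab X) (_ : EtCoh.IsTorsion F') (φ : F ⟶ F') (_ : Mono φ),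
      Sheaf.H.map ((EtCoh.pull i).map φ) q ξ = 0

variable (hK : KillOn i)

include hK in
/-- The effacement transported to the direct image. -/
theorem exists_mono_kill_push' (F : EtCoh.Ab X) (hF : EtCoh.IsTorsion F) (q : ℕ) (hq : 0 < q)
    (y : Sheaf.H ((EtCoh.push i).obj ((EtCoh.pull i).obj F)) q) :
    ∃ (F' : EtCoh.Ab X) (_ : EtCoh.IsTorsion F') (φ : F ⟶ F') (_ : Mono φ),
      Sheaf.H.map ((EtCoh.push i).map ((EtCoh.pull i).map φ)) q y = 0 := by
  let τ : ∀ G : EtCoh.Ab Z, Sheaf.H ((EtCoh.push i).obj G) q → Sheaf.H G q := fun G x =>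
    Sheaf.H.map ((EtCoh.pull i).map (𝟙 ((EtCoh.push i).obj G)) ≫ (EtCoh.pullPushAdj i).counit.app G) q
      (hpull i ((EtCoh.push i).obj G) q x)
  obtain ⟨F', hF', φ, hφ, h⟩ := hK F hF q hq (τ _ y)
  refine ⟨F', hF', φ, hφ, (hpull_map_bijective i (𝟙 ((EtCoh.push i).obj ((EtCoh.pull i).obj F'))) q).1 ?_⟩
  show τ _ (Sheaf.H.map ((EtCoh.push i).map ((EtCoh.pull i).map φ)) q y) = τ _ 0
  have hz : τ ((EtCoh.pull i).obj F') 0 = 0 := (congrArg _ (map_zero _)).trans (map_zero _)
  rw [hz, ← h]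
  show Sheaf.H.map _ q (hpull i _ q (Sheaf.H.map _ q y)) = Sheaf.H.map _ q (Sheaf.H.map _ q (hpull i _ q y))
  rw [Hpull_map]
  refine (H_map_map _ _ q _).trans (Eq.trans ?_ (H_map_map _ _ q _).symm)
  refine congrArg (fun k => Sheaf.H.map k q _) ?_
  rw [CategoryTheory.Functor.map_id, CategoryTheory.Functor.map_id, Category.id_comp, Category.id_comp]
  exact (EtCoh.pullPushAdj i).counit.naturality ((EtCoh.pull i).map φ)

variable (h0 : ∀ F : EtCoh.Ab X, Function.Bijective
  (((EtCoh.pullPushAdj i).unit.app F).hom.app (op (EtCoh.top X))))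

include h0 hK in
/-- The unit induces bijections in all degrees on torsion sheaves. -/
theorem bijective_H_map_unit_of_kill : ∀ (q : ℕ) (F : EtCoh.Ab X), EtCoh.IsTorsion F →
    Function.Bijective (Sheaf.H.map ((EtCoh.pullPushAdj i).unit.app F) q) := by
  haveI := push_preservesFiniteColimits_of_isIntegralHom i
  haveI : (EtCoh.push i).IsRightAdjoint := ⟨_, ⟨EtCoh.pullPushAdj i⟩⟩
  haveI : (EtCoh.pull i).IsLeftAdjoint := ⟨_, ⟨EtCoh.pullPushAdj i⟩⟩
  let Φ := EtCoh.pull i ⋙ EtCoh.push i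
  let η := (EtCoh.pullPushAdj i).unit
  intro q
  induction q with
  | zero =>
    intro F _
    let hT := EtCore.topIsTerminal X
    refine (Function.Bijective.of_comp_iff' (Sheaf.H.equiv₀ _ hT).bijective _).1 ?_
    refine (congrArg Function.Bijective (funext fun x => ?_)).mp ((h0 F).comp (Sheaf.H.equiv₀ F hT).bijective)
    exact Sheaf.H.equiv₀_naturality (hT := hT) (f := (EtCoh.pullPushAdj i).unit.app F) x
  | succ n ih =>
    have seq : ∀ {F F' : EtCoh.Ab X} (φ : F ⟶ F'), Mono φ → EtCoh.IsTorsion F' →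
        ∃ (Q : EtCoh.Ab X) (g : F' ⟶ Q) (w : φ ≫ g = 0), EtCoh.IsTorsion Q ∧
          (ShortComplex.mk φ g w).ShortExact := fun {F F'} φ hφ hF' => by
      refine ⟨cokernel φ, cokernel.π φ, cokernel.condition φ, ?_,
        { exact := ShortComplex.exact_of_g_is_cokernel _ (cokernelIsCokernel φ), mono_f := hφ }⟩
      haveI : Epi (biprod.desc (cokernel.π φ) (cokernel.π φ) : F' ⊞ F' ⟶ cokernel φ) :=
        ⟨fun a b h => (cancel_epi (cokernel.π φ)).1 (by simpa using congrArg (biprod.inl ≫ ·) h)⟩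
      exact isTorsion_of_epi_biprod (biprod.desc (cokernel.π φ) (cokernel.π φ)) hF' hF'
    intro F hF
    refine ⟨(injective_iff_map_eq_zero _).2 fun x hx => ?_, fun y => ?_⟩
    · obtain ⟨F', hF', φ, hφ, hx'⟩ := exists_mono_kill_self F hF (n + 1) (Nat.succ_pos n) x
      obtain ⟨Q, g, w, hQ, hS⟩ := seq φ hφ hF'
      have hSΦ := hS.map_of_exact Φ
      obtain ⟨z, rfl⟩ := Ext.covariant_sequence_exact₁ _ hS x hx' rfl
      let ψ : ShortComplex.mk φ g w ⟶ (ShortComplex.mk φ g w).map Φ :=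
        { τ₁ := η.app F, τ₂ := η.app F', τ₃ := η.app Q
          comm₁₂ := (η.naturality φ).symm, comm₂₃ := (η.naturality g).symm }
      have hz : Ext.comp (Sheaf.H.map (η.app Q) n z) hSΦ.extClass rfl = 0 :=
        (H_map_extClass hS hSΦ ψ n z).symm.trans hx
      obtain ⟨v, hv⟩ := Ext.covariant_sequence_exact₃ _ hSΦ (Sheaf.H.map (η.app Q) n z) rfl hz
      obtain ⟨ζ, rfl⟩ := (ih F' hF').2 v
      have hζ : Sheaf.H.map g n ζ = z := by
        apply (ih Q hQ).1
        refine Eq.trans ?_ hv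
        refine (H_map_map g (η.app Q) n ζ).trans ?_
        refine Eq.trans ?_ (H_map_map (η.app F') (Φ.map g) n ζ).symm
        exact congrArg (fun k => Sheaf.H.map k n ζ) (η.naturality g)
      rw [← hζ, Sheaf.H.map_apply, Ext.comp_assoc_of_second_deg_zero, hS.comp_extClass, Ext.comp_zero]
    · obtain ⟨F', hF', φ, hφ, h⟩ := exists_mono_kill_push' i hK F hF (n + 1) (Nat.succ_pos n) y
      obtain ⟨Q, g, w, hQ, hS⟩ := seq φ hφ hF'
      have hSΦ := hS.map_of_exact Φ
      obtain ⟨v, rfl⟩ := Ext.covariant_sequence_exact₁ _ hSΦ y h rfl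
      obtain ⟨z, rfl⟩ := (ih Q hQ).2 v
      let ψ : ShortComplex.mk φ g w ⟶ (ShortComplex.mk φ g w).map Φ :=
        { τ₁ := η.app F, τ₂ := η.app F', τ₃ := η.app Q
          comm₁₂ := (η.naturality φ).symm, comm₂₃ := (η.naturality g).symm }
      exact ⟨z.comp hS.extClass rfl, H_map_extClass hS hSΦ ψ n z⟩

end Groth.Agent.H1DFun
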