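import Groth.Agent.H1DFun.ExtRD
import Groth.Agent.H10Coh.ExtMap

/-!
# Classes of cocycles by dimension shifting
-/

set_option autoImplicit false
set_option backward.isDefEq.respectTransparency false

universe w v u v' u' v'' u''

open CategoryTheory CategoryTheory.Limits CategoryTheory.Abelian

namespace Groth.Agent.H1DFun

variable {C : Type u} [Category.{v} C] [Abelian C] [HasInjectiveResolutions C]
  {C' : Type u'} [Category.{v'} C'] [Abelian C'] [HasInjectiveResolutions C']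
  {C₂ : Type u''} [Category.{v''} C₂] [Abelian C₂] [HasInjectiveResolutions C₂]

section PsiMap

variable [HasExt.{w} C'] (A : C')
  (L : C ⥤ C') [L.Additive] [PreservesFiniteLimits L] [PreservesFiniteColimits L]
  (L₂ : C₂ ⥤ C') [L₂.Additive] [PreservesFiniteLimits L₂] [PreservesFiniteColimits L₂]
  {X : C} (R : InjectiveResolution X) {X₂ : C₂} (R₂ : InjectiveResolution X₂)
  (α : ∀ i, L.obj (R.cocomplex.X i) ⟶ L₂.obj (R₂.cocomplex.X i))
  (hα : ∀ i, α i ≫ L₂.map (R₂.cocomplex.d i (i + 1)) = L.map (R.cocomplex.d i (i + 1)) ≫ α (i + 1))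
  (γ : L.obj X ⟶ L₂.obj X₂) (hγ : L.map (R.ι.f 0) ≫ α 0 = γ ≫ L₂.map (R₂.ι.f 0))

include hα in
theorem exists_cyclesHom (i : ℕ) : ∃ β : L.obj (R.cocomplex.cycles i) ⟶ L₂.obj (R₂.cocomplex.cycles i),
    β ≫ L₂.map (R₂.cocomplex.iCycles i) = L.map (R.cocomplex.iCycles i) ≫ α i := by
  have hS := (cycSeq_shortExact R₂ i).map_of_exact L₂
  haveI : Mono ((cycSeq R₂ i).map L₂).f := hS.mono_f
  haveI : Mono (L₂.map (R₂.cocomplex.iCycles (i + 1))) := inferInstance
  refine ⟨hS.exact.lift (L.map (R.cocomplex.iCycles i) ≫ α i) ?_, hS.exact.lift_f _ _⟩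
  show (L.map (R.cocomplex.iCycles i) ≫ α i) ≫ L₂.map (R₂.cocomplex.toCycles i (i + 1)) = 0
  rw [← cancel_mono (L₂.map (R₂.cocomplex.iCycles (i + 1))), Category.assoc, ← L₂.map_comp,
    HomologicalComplex.toCycles_i, Category.assoc, hα, ← Category.assoc, ← L.map_comp,
    HomologicalComplex.iCycles_d, L.map_zero, zero_comp, zero_comp]

/-- The induced maps on cycles. -/
noncomputable def cyclesHom (i : ℕ) : L.obj (R.cocomplex.cycles i) ⟶ L₂.obj (R₂.cocomplex.cycles i) :=
  (exists_cyclesHom L L₂ R R₂ α hα i).choose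

theorem cyclesHom_i (i : ℕ) : cyclesHom L L₂ R R₂ α hα i ≫ L₂.map (R₂.cocomplex.iCycles i) =
    L.map (R.cocomplex.iCycles i) ≫ α i :=
  (exists_cyclesHom L L₂ R R₂ α hα i).choose_spec

include hγ in
/-- Dimension shifting is natural in morphisms of mapped resolutions. -/
theorem psi_map : ∀ (i m n : ℕ) (h : m + i = n) (x : Ext A (L.obj (R.cocomplex.cycles i)) m),
    psi A L₂ R₂ i m n h (x.comp (Ext.mk₀ (cyclesHom L L₂ R R₂ α hα i)) (add_zero m)) =
      (psi A L R i m n h x).comp (Ext.mk₀ γ) (add_zero n) := by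
  intro i
  induction i with
  | zero =>
    intro m n h x
    obtain rfl : m = n := h
    rw [psi_zero, psi_zero, Ext.comp_assoc_of_second_deg_zero, Ext.comp_assoc_of_second_deg_zero,
      Ext.mk₀_comp_mk₀, Ext.mk₀_comp_mk₀]
    congr 2
    haveI : Mono (L₂.map (R₂.ι.f 0)) := inferInstance
    rw [← cancel_mono (L₂.map (R₂.ι.f 0)), Category.assoc, Category.assoc, ← L₂.map_comp, augIso_hom_ι,
      cyclesHom_i, ← hγ, ← Category.assoc, ← L.map_comp, augIso_hom_ι]
  | succ i ih =>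
    intro m n h x
    rw [psi_succ, psi_succ]
    refine Eq.trans ?_ (ih (m + 1) n (by omega) _)
    let τ : (cycSeq R i).map L ⟶ (cycSeq R₂ i).map L₂ := ShortComplex.homMk
      (cyclesHom L L₂ R R₂ α hα i) (α i) (cyclesHom L L₂ R R₂ α hα (i + 1))
      (cyclesHom_i L L₂ R R₂ α hα i)
      (by
        show α i ≫ L₂.map (R₂.cocomplex.toCycles i (i + 1)) =
          L.map (R.cocomplex.toCycles i (i + 1)) ≫ cyclesHom L L₂ R R₂ α hα (i + 1)
        haveI : Mono (L₂.map (R₂.cocomplex.iCycles (i + 1))) := inferInstance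
        rw [← cancel_mono (L₂.map (R₂.cocomplex.iCycles (i + 1))), Category.assoc, ← L₂.map_comp,
          HomologicalComplex.toCycles_i, Category.assoc, cyclesHom_i, ← Category.assoc, ← L.map_comp,
          HomologicalComplex.toCycles_i, hα])
    refine congrArg _ ?_
    rw [Ext.comp_assoc_of_second_deg_zero]
    refine Eq.trans ?_ (Ext.comp_assoc_of_third_deg_zero _ _ _ _).symm
    exact congrArg (fun e => Ext.comp x e rfl)
      (ShortComplex.ShortExact.extClass_naturality ((cycSeq_shortExact R i).map_of_exact L)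
        ((cycSeq_shortExact R₂ i).map_of_exact L₂) τ).symm

/-- Dimension shifting is natural in the first variable. -/
theorem psi_precomp {A' : C'} (l : A' ⟶ A) : ∀ (i m n : ℕ) (h : m + i = n)
    (x : Ext A (L.obj (R.cocomplex.cycles i)) m),
    psi A' L R i m n h ((Ext.mk₀ l).comp x (zero_add m)) =
      (Ext.mk₀ l).comp (psi A L R i m n h x) (zero_add n) := by
  intro i
  induction i with
  | zero =>
    intro m n h x
    obtain rfl : m = n := h
    rw [psi_zero, psi_zero, Ext.comp_assoc_of_third_deg_zero]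
  | succ i ih =>
    intro m n h x
    rw [psi_succ, psi_succ, ← ih]
    exact congrArg _ (Ext.comp_assoc _ _ _ (zero_add m) rfl (by omega))

end PsiMap

section ExtMap

variable [HasExt.{w} C] [HasExt.{w} C'] (G : C ⥤ C') [G.Additive] [PreservesFiniteLimits G]
  [PreservesFiniteColimits G] {A : C} {A' : C'} (e : A' ⟶ G.obj A) {X : C} (R : InjectiveResolution X)

theorem extMap_psi : ∀ (i m n : ℕ) (h : m + i = n) (x : Ext A (R.cocomplex.cycles i) m),
    psi A' G R i m n h (H10Coh.extMap G e _ m x) = H10Coh.extMap G e _ n (psi A (𝟭 C) R i m n h x) := by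
  intro i
  induction i with
  | zero =>
    intro m n h x
    obtain rfl : m = n := h
    rw [psi_zero, psi_zero]
    exact (H10Coh.extMap_naturality G e (augIso R).hom _ x).symm
  | succ i ih =>
    intro m n h x
    rw [psi_succ, psi_succ, ← ih]
    exact congrArg _ (H10Coh.extMap_extClass G e (cycSeq_shortExact R i) m x).symm

end ExtMap

section Cls

variable [HasExt.{w} C] (A : C) {X : C} (R : InjectiveResolution X)

/-- The class of a cocycle. -/
noncomputable def cls (n : ℕ) (x : A ⟶ R.cocomplex.X n) (hx : x ≫ R.cocomplex.d n (n + 1) = 0) : Ext A X n :=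
  psi A (𝟭 C) R n 0 n (zero_add n) (Ext.mk₀ (R.cocomplex.liftCycles x (n + 1) (by simp) hx))

theorem cls_def (n : ℕ) (x : A ⟶ R.cocomplex.X n) (hx : x ≫ R.cocomplex.d n (n + 1) = 0) :
    cls A R n x hx = psi A (𝟭 C) R n 0 n (zero_add n)
      (Ext.mk₀ (R.cocomplex.liftCycles x (n + 1) (by simp) hx)) := rfl

theorem cls_surjective (n : ℕ) (y : Ext A X n) :
    ∃ x hx, cls A R n x hx = y := by
  obtain ⟨a, rfl⟩ := psi_surjective A (𝟭 C) R
    (fun I _ m => subsingleton_of_forall_eq 0 fun z =>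
      haveI : Injective ((𝟭 C).obj I) := inferInstanceAs (Injective I)
      Ext.eq_zero_of_injective z) n y
  obtain ⟨b, rfl⟩ := (Ext.mk₀_bijective _ _).2 a
  refine ⟨b ≫ R.cocomplex.iCycles n, by simp, ?_⟩
  rw [cls_def]
  exact congrArg (fun k => psi A (𝟭 C) R n 0 n (zero_add n) (Ext.mk₀ k))
    (by rw [← cancel_mono (R.cocomplex.iCycles n), R.cocomplex.liftCycles_i])

theorem eq_zero_of_cls (x : A ⟶ R.cocomplex.X 0) (hx : x ≫ R.cocomplex.d 0 1 = 0)
    (h : cls A R 0 x hx = 0) : x = 0 := by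
  have h1 := (psi_zero_bijective A (𝟭 C) R (zero_add 0)).1 (h.trans (map_zero _).symm)
  have h2 : R.cocomplex.liftCycles x 1 (by simp) hx = 0 :=
    (Ext.mk₀_bijective _ _).1 (h1.trans (Ext.mk₀_zero _ _).symm)
  rw [← R.cocomplex.liftCycles_i x 1 (by simp) hx, h2, zero_comp]

theorem cls_eq_zero_iff (i : ℕ) (x : A ⟶ R.cocomplex.X (i + 1))
    (hx : x ≫ R.cocomplex.d (i + 1) (i + 1 + 1) = 0) :
    cls A R (i + 1) x hx = 0 ↔ ∃ g : A ⟶ R.cocomplex.X i, g ≫ R.cocomplex.d i (i + 1) = x := by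
  rw [cls_def]
  refine (psi_succ_eq_zero_iff A (𝟭 C) R (fun I _ m => subsingleton_of_forall_eq 0 fun z =>
      haveI : Injective ((𝟭 C).obj I) := inferInstanceAs (Injective I)
      Ext.eq_zero_of_injective z) i _).trans ⟨fun ⟨y, hy⟩ => ?_, fun ⟨g, hg⟩ => ?_⟩
  · obtain ⟨g, rfl⟩ := (Ext.mk₀_bijective _ _).2 y
    refine ⟨g, ?_⟩
    rw [Ext.mk₀_comp_mk₀] at hy
    have h2 := congrArg (· ≫ R.cocomplex.iCycles (i + 1)) ((Ext.mk₀_bijective _ _).1 hy)
    simpa [HomologicalComplex.toCycles_i] using h2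
  · refine ⟨Ext.mk₀ g, ?_⟩
    rw [Ext.mk₀_comp_mk₀]
    refine congrArg Ext.mk₀ ?_
    rw [← cancel_mono (R.cocomplex.iCycles (i + 1)), R.cocomplex.liftCycles_i]
    simpa [HomologicalComplex.toCycles_i] using hg

theorem mk₀_comp_cls {A' : C} (l : A' ⟶ A) (n : ℕ) (x : A ⟶ R.cocomplex.X n)
    (hx : x ≫ R.cocomplex.d n (n + 1) = 0) :
    (Ext.mk₀ l).comp (cls A R n x hx) (zero_add n) =
      cls A' R n (l ≫ x) (by rw [Category.assoc, hx, comp_zero]) := by
  rw [cls_def, cls_def, ← psi_precomp]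
  refine congrArg _ ((Ext.mk₀_comp_mk₀ _ _).trans (congrArg Ext.mk₀ ?_))
  rw [← cancel_mono (R.cocomplex.iCycles n), Category.assoc, R.cocomplex.liftCycles_i,
    R.cocomplex.liftCycles_i]

theorem cls_congr (n : ℕ) {x x' : A ⟶ R.cocomplex.X n} (h : x = x') (hx : x ≫ R.cocomplex.d n (n + 1) = 0)
    (hx' : x' ≫ R.cocomplex.d n (n + 1) = 0) : cls A R n x hx = cls A R n x' hx' := by
  subst h; rfl

variable [HasExt.{w} C'] (G : C ⥤ C') [G.Additive] [PreservesFiniteLimits G] [PreservesFiniteColimits G]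
  {A' : C'} (e : A' ⟶ G.obj A) {X₂ : C'} (R₂ : InjectiveResolution X₂)
  (α : ∀ i, G.obj (R.cocomplex.X i) ⟶ R₂.cocomplex.X i)
  (hα : ∀ i, α i ≫ R₂.cocomplex.d i (i + 1) = G.map (R.cocomplex.d i (i + 1)) ≫ α (i + 1))
  (γ : G.obj X ⟶ X₂) (hγ : G.map (R.ι.f 0) ≫ α 0 = γ ≫ R₂.ι.f 0)

include hα hγ in
/-- Exact functors send classes of cocycles to classes of cocycles. -/
theorem extMap_cls (n : ℕ) (x : A ⟶ R.cocomplex.X n) (hx : x ≫ R.cocomplex.d n (n + 1) = 0) :
    (H10Coh.extMap G e X n (cls A R n x hx)).comp (Ext.mk₀ γ) (add_zero n) =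
      cls A' R₂ n (e ≫ G.map x ≫ α n) (by
        rw [Category.assoc, Category.assoc, hα, ← Category.assoc (G.map x), ← G.map_comp, hx, G.map_zero,
          zero_comp, comp_zero]) := by
  refine (congrArg (fun y => Ext.comp y (Ext.mk₀ γ) (add_zero n))
    (extMap_psi G e R n 0 n (zero_add n) _).symm).trans ?_
  refine (psi_map A' G (𝟭 C') R R₂ α hα γ hγ n 0 n (zero_add n) _).symm.trans ?_
  rw [cls_def]
  refine congrArg _ ?_
  rw [H10Coh.extMap_mk₀, Ext.mk₀_comp_mk₀]
  refine congrArg Ext.mk₀ ?_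
  have h2 : cyclesHom G (𝟭 C') R R₂ α hα n ≫ R₂.cocomplex.iCycles n =
      G.map (R.cocomplex.iCycles n) ≫ α n := cyclesHom_i G (𝟭 C') R R₂ α hα n
  refine (cancel_mono (R₂.cocomplex.iCycles n)).1 ?_
  refine Eq.trans ?_ (R₂.cocomplex.liftCycles_i _ (n + 1) _ _).symm
  refine (Category.assoc _ _ _).trans ((congrArg (_ ≫ ·) h2).trans ?_)
  rw [Category.assoc, ← Category.assoc (G.map _), ← G.map_comp, R.cocomplex.liftCycles_i]

end Cls

end Groth.Agent.H1DFun

namespace Groth.Agent.H1DFun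

section Add

variable {C : Type u} [Category.{v} C] [Abelian C] [HasInjectiveResolutions C] [HasExt.{w} C]
  (A : C) {X : C} (R : InjectiveResolution X)

theorem cls_add (n : ℕ) (x y : A ⟶ R.cocomplex.X n) (hx : x ≫ R.cocomplex.d n (n + 1) = 0)
    (hy : y ≫ R.cocomplex.d n (n + 1) = 0) :
    cls A R n (x + y) (by rw [Preadditive.add_comp, hx, hy, add_zero]) = cls A R n x hx + cls A R n y hy := by
  rw [cls_def, cls_def, cls_def]
  refine Eq.trans ?_ (map_add (psi A (𝟭 C) R n 0 n (zero_add n)) _ _)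
  refine congrArg (psi A (𝟭 C) R n 0 n (zero_add n)) ((congrArg Ext.mk₀ ?_).trans (Ext.mk₀_add _ _))
  rw [← cancel_mono (R.cocomplex.iCycles n)]
  refine (R.cocomplex.liftCycles_i (x + y) (n + 1) _ _).trans (Eq.trans ?_ (Preadditive.add_comp _ _ _ _ _ _).symm)
  rw [R.cocomplex.liftCycles_i, R.cocomplex.liftCycles_i]

end Add

end Groth.Agent.H1DFun
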