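import Groth.Agent.H1DFun.LerayVanish
import Groth.Agent.H1DFun.PushClass
import Groth.Agent.H18Et.TopInvSheaf
import Groth.Agent.H18Et.TopInvLocal
import Groth.Agent.H18Et.Coh.TorsionRpush
import Groth.Agent.H1Lim.PushSys

/-!
# Cohomological dimension along morphisms
-/

set_option autoImplicit false
set_option backward.isDefEq.respectTransparency false
set_option backward.isDefEq.respectTransparency.types false

universe u

open CategoryTheory CategoryTheory.Limits AlgebraicGeometry Opposite Abelian
open Groth.Agent.H18Et Groth.Agent.H1Lim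
open scoped Groth.Agent.H18Et

namespace Groth.Agent.H1DFun

attribute [local instance] Groth.Agent.H18Et.pull_preservesFiniteLimits

variable {X Y : Scheme.{u}}

/-- Cohomological dimension does not go up along integral morphisms. -/
theorem cohDimLE_of_isIntegralHom (π : X ⟶ Y) [IsIntegralHom π] {d : ℕ} (h : EtCoh.CohDimLE Y d) :
    EtCoh.CohDimLE X d := fun F hF q hq => by
  haveI := h _ (H1Lim.isTorsion_push π F hF) q hq
  exact (hpull_map_bijective π (𝟙 ((EtCoh.push π).obj F)) q).2.subsingleton

/-- Cohomological dimension is insensitive to universal homeomorphisms. -/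
theorem cohDimLE_of_universalHomeo (f : X ⟶ Y) [IsIntegralHom f] [UniversallyInjective f] [Surjective f] {d : ℕ}
    (h : EtCoh.CohDimLE X d) : EtCoh.CohDimLE Y d := fun F hF q hq => by
  haveI := TopInvLocal.bc_isEquivalence f
  haveI := h _ (H18Et.Coh.isTorsion_pull f F hF) q hq
  exact (TopInvSheaf.bijective_Hpull f F q).1.subsingleton

/-- Cohomological dimension from the higher direct images. -/
theorem cohDimLE_of_Rpush (f : X ⟶ Y) [QuasiCompact f] [QuasiSeparated f] {e r : ℕ} (h : EtCoh.CohDimLE Y e)
    (hf : ∀ (F : EtCoh.Ab X), EtCoh.IsTorsion F → ∀ q, r < q → IsZero ((EtCoh.Rpush f q).obj F)) :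
    EtCoh.CohDimLE X (e + r) := fun F hF n hn => by
  haveI hsub := subsingleton_ext_of_rows (EtCoh.pullPushAdj f) (EtCoh.const Y ℤ) n F fun p q hpq => by
    by_cases hq : r < q
    · exact subsingleton_of_forall_eq 0 fun x => by
        rw [← Ext.comp_mk₀_id x, (hf F hF q hq).eq_of_src (𝟙 _) 0, Ext.mk₀_zero, Ext.comp_zero]
    · exact h _ (H18Et.Coh.isTorsion_Rpush f F hF q) p (by omega)
  refine subsingleton_of_forall_eq 0 fun x => ?_
  have h1 : (Ext.mk₀ (EtCore.pullConst f ℤ).hom).comp x (zero_add n) = 0 := hsub.elim _ _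
  have h2 := congrArg (fun z => (Ext.mk₀ (EtCore.pullConst f ℤ).inv).comp z (zero_add n)) h1
  simpa using h2

end Groth.Agent.H1DFun
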