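import Groth.Agent.H1DFun.CohDimRatFunc
import Groth.Agent.H9Hens.BranchNormal
import Mathlib.RingTheory.TensorProduct.Basic
import Mathlib.FieldTheory.IntermediateField.Adjoin.Algebra

/-!
# The cohomological dimension along extensions of fields
-/

set_option autoImplicit false
set_option backward.isDefEq.respectTransparency false
set_option backward.isDefEq.respectTransparency.types false

universe u

open CategoryTheory CategoryTheory.Limits AlgebraicGeometry Opposite
open scoped TensorProduct
open scoped Groth.Agent.H18Et

namespace Groth.Agent.H1DFun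

attribute [local instance] Groth.Agent.H18Et.pull_preservesFiniteLimits

/-- Algebraic extensions do not raise the cohomological dimension. -/
theorem cohDimLE_of_ringHom_integral {K L : Type u} [CommRing K] [CommRing L] (φ : K →+* L) (hφ : φ.IsIntegral)
    {d : ℕ} (h : EtCoh.CohDimLE (Spec (CommRingCat.of K)) d) : EtCoh.CohDimLE (Spec (CommRingCat.of L)) d :=
  haveI : IsIntegralHom (Spec.map (CommRingCat.ofHom φ)) := IsIntegralHom.SpecMap_iff.2 hφ
  cohDimLE_of_isIntegralHom (Spec.map (CommRingCat.ofHom φ)) h

/-- A separable closure is the colimit of its pointed etale algebras. -/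
theorem isPtColim_sepClosure (O R : Type u) [Field O] [Field R] [Algebra O R] [Algebra.IsSeparable O R] :
    H9Hens.IsPtColim (AlgHom.id O R) where
  exists_rep x := by
    haveI : FiniteDimensional O (IntermediateField.adjoin O ({x} : Set R)) :=
      IntermediateField.adjoin.finiteDimensional (Algebra.IsIntegral.isIntegral x)
    haveI : Algebra.FormallyEtale O (IntermediateField.adjoin O ({x} : Set R)) :=
      Algebra.FormallyEtale.of_isSeparable O _
    haveI : Algebra.FinitePresentation O (IntermediateField.adjoin O ({x} : Set R)) :=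
      Algebra.FinitePresentation.of_finiteType.1 inferInstance
    haveI : Algebra.Etale O (IntermediateField.adjoin O ({x} : Set R)) := ⟨‹_›, ‹_›⟩
    exact ⟨_, _, _, inferInstance, (IntermediateField.adjoin O ({x} : Set R)).val,
      ⟨x, IntermediateField.mem_adjoin_simple_self O x⟩, rfl⟩
  exists_map S _ _ _ σ := ⟨σ, AlgHom.id_comp σ⟩
  jac x hx := by
    rw [show x = 0 from hx]
    exact Ideal.zero_mem _
  exists_eq_zero S _ _ _ φ s hs := by
    haveI : Module.Finite O S := Algebra.FormallyUnramified.finite_of_free O S
    let T : IntermediateField O R := φ.range.toIntermediateField fun z hz =>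
      φ.range.inv_mem_of_algebraic (x := ⟨z, hz⟩) (Algebra.IsAlgebraic.isAlgebraic z)
    let ψ : S →ₐ[O] T := φ.codRestrict T.toSubalgebra fun a => ⟨a, rfl⟩
    haveI : FiniteDimensional O T := Module.Finite.of_surjective ψ.toLinearMap fun z => by
      obtain ⟨a, ha⟩ := z.2
      exact ⟨a, Subtype.ext ha⟩
    haveI : Algebra.FormallyEtale O T := Algebra.FormallyEtale.of_isSeparable O _
    haveI : Algebra.FinitePresentation O T := Algebra.FinitePresentation.of_finiteType.1 inferInstance
    haveI : Algebra.Etale O T := ⟨‹_›, ‹_›⟩
    exact ⟨T, _, _, inferInstance, ψ, T.val, AlgHom.ext fun a => rfl, Subtype.ext hs⟩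

section Stalk

variable (K : Type u) [Field K]

/-- The structure map of rational functions. -/
noncomputable abbrev ratStr : Spec (CommRingCat.of (RatFunc K)) ⟶ Spec (CommRingCat.of K) :=
  Spec.map (CommRingCat.ofHom (algebraMap K (RatFunc K)))

/-- The fibre over a separably closed algebraic extension has dimension at most one. -/
theorem cohDimLE_fibre_ratFunc (R : Type u) [Field R] [IsSepClosed R] [Algebra K R] [Algebra.IsAlgebraic K R] :
    EtCoh.CohDimLE (pullback (ratStr K) (Spec.map (CommRingCat.ofHom (algebraMap K R)))) 1 := by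
  let Ω := AlgebraicClosure R
  haveI : Algebra.IsAlgebraic K Ω := Algebra.IsAlgebraic.trans K R Ω
  let p := Spec.map (CommRingCat.ofHom (algebraMap K R))
  let q := Spec.map (CommRingCat.ofHom (algebraMap R Ω))
  haveI : IsPurelyInseparable R Ω := inferInstance
  haveI : UniversallyInjective q := H7Lim.GeomConnFinite.universallyInjective_SpecMap R Ω
  haveI : IsIntegralHom q := IsIntegralHom.SpecMap_iff.2
    (show (algebraMap R Ω).IsIntegral from fun x => Algebra.IsIntegral.isIntegral x)
  haveI : Surjective q := ⟨fun y => ⟨(default : Spec (CommRingCat.of Ω)),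
    Subsingleton.elim (α := ↥(Spec (CommRingCat.of R))) _ _⟩⟩
  have hqp : q ≫ p = Spec.map (CommRingCat.ofHom (algebraMap K Ω)) := by
    rw [← Spec.map_comp, ← CommRingCat.ofHom_comp, ← IsScalarTower.algebraMap_eq]
  let h := pullback.fst (pullback.snd (ratStr K) p) q
  haveI : UniversallyInjective h := MorphismProperty.pullback_fst (P := @UniversallyInjective) _ _ ‹_›
  haveI : IsIntegralHom h := MorphismProperty.pullback_fst (P := @IsIntegralHom) _ _ ‹_›
  haveI : Surjective h := MorphismProperty.pullback_fst (P := @Surjective) _ _ ‹_›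
  refine cohDimLE_of_universalHomeo h ?_
  let e := pullbackLeftPullbackSndIso (ratStr K) p q ≪≫ pullback.congrHom rfl hqp ≪≫
    pullbackSpecIso K (RatFunc K) Ω
  haveI : IsIntegralHom e.hom := inferInstance
  exact cohDimLE_of_isIntegralHom e.hom (isCi_tensor_ratFunc K Ω)

/-- Higher direct images to the field vanish above degree one. -/
theorem isZero_Rpush_ratFunc (F : EtCoh.Ab (Spec (CommRingCat.of (RatFunc K)))) (hF : EtCoh.IsTorsion F)
    (n : ℕ) (hn : 1 < n) : IsZero ((EtCoh.Rpush (ratStr K) n).obj F) := by
  suffices hz : ∀ s : Spec (CommRingCat.of K), ∃ (Ω : Type u) (_ : Field Ω) (_ : IsSepClosed Ω)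
      (ξ : Spec (CommRingCat.of Ω) ⟶ Spec (CommRingCat.of K)), ξ.base default = s ∧
        IsZero ((EtCoh.stalk ξ).obj ((EtCoh.Rpush (ratStr K) n).obj F)) by
    let G := (EtCoh.Rpush (ratStr K) n).obj F
    haveI : IsIso (0 : G ⟶ G) := H18Et.isIso_of_stalk _ fun s => by
      obtain ⟨Ω, i₁, i₂, ξ, h1, h2⟩ := hz s
      exact ⟨Ω, i₁, i₂, ξ, h1, (ConcreteCategory.isIso_iff_bijective _).1
        (h2.isIso h2 _)⟩
    exact (IsZero.iff_id_eq_zero _).2 ((cancel_epi (0 : G ⟶ G)).1 (zero_comp.trans zero_comp.symm))
  intro s
  let S := Spec (CommRingCat.of K)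
  let O := S.presheaf.stalk s
  letI algO : Algebra K O := StructureSheaf.stalkAlgebra K s
  haveI : IsLocalization.AtPrime O s.asIdeal :=
    inferInstanceAs (IsLocalization.AtPrime ((Spec.structureSheaf K).presheaf.stalk s) s.asIdeal)
  have hb : Function.Bijective (algebraMap K O) := (IsLocalization.atUnits K s.asIdeal.primeCompl (S := O)
    fun x hx => isUnit_iff_ne_zero.2 fun h => hx (h ▸ Submodule.zero_mem _)).bijective
  letI : Field O := ((RingEquiv.ofBijective _ hb).symm.toMulEquiv.isField (Field.toIsField K)).toField
  let R := SeparableClosure O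
  letI : Algebra (IsLocalRing.ResidueField O) R :=
    ((algebraMap O R).comp (RingEquiv.ofBijective (IsLocalRing.residue O)
      ⟨RingHom.injective _, IsLocalRing.residue_surjective⟩).symm.toRingHom).toAlgebra
  haveI : IsScalarTower O (IsLocalRing.ResidueField O) R := IsScalarTower.of_algebraMap_eq fun x => by
    show algebraMap O R x = algebraMap O R _
    refine congrArg _ ?_
    exact ((RingEquiv.ofBijective (IsLocalRing.residue O)
      ⟨RingHom.injective _, IsLocalRing.residue_surjective⟩).symm_apply_apply x).symm
  haveI : IsSepClosure (IsLocalRing.ResidueField O) R :=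
    ⟨inferInstance, Algebra.isSeparable_tower_top_of_isSeparable O _ R⟩
  haveI : IsLocalHom (algebraMap O R) := inferInstance
  haveI : Hensel.IsStrictHenselization O R := H9Hens.IsPtColim.isStrictHenselization
    (k := R) (π := AlgHom.id O R) (isPtColim_sepClosure O R)
  haveI : IsSepClosed (IsLocalRing.ResidueField R) := H9Hens.isSepClosed_of_ringEquiv
    (RingEquiv.ofBijective (IsLocalRing.residue R) ⟨RingHom.injective _, IsLocalRing.residue_surjective⟩)
  refine ⟨_, _, inferInstanceAs (IsSepClosed (IsLocalRing.ResidueField R)), Hens2.geomPt S s R,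
    imagePt_geomPt s R, ?_⟩
  obtain ⟨i⟩ := nonempty_Rpush_geomPt_iso (ratStr K) s R n
  refine IsZero.of_iso ?_ (i.app F)
  letI : Algebra K R := ((algebraMap O R).comp (algebraMap K O)).toAlgebra
  haveI : Algebra.IsAlgebraic K R := Algebra.isAlgebraic_iff_isIntegral.2 ⟨fun x =>
    RingHom.IsIntegral.trans (algebraMap K O) (algebraMap O R) (RingHom.isIntegral_of_surjective _ hb.2)
      (fun y => Algebra.IsIntegral.isIntegral y) x⟩
  have hp : Hens2.specOf S s R = Spec.map (CommRingCat.ofHom (algebraMap K R)) := by
    show Spec.map (CommRingCat.ofHom (algebraMap O R)) ≫ S.fromSpecStalk s = _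
    rw [Spec.fromSpecStalk_eq', ← Spec.map_comp]
    rfl
  haveI hX : EtCoh.CohDimLE (pullback (ratStr K) (Hens2.specOf S s R)) 1 := hp ▸ cohDimLE_fibre_ratFunc K R
  have h0 := hX _ (H18Et.Coh.isTorsion_pull (pullback.fst (ratStr K) (Hens2.specOf S s R)) F hF) n hn
  exact AddCommGrpCat.isZero_iff_subsingleton.2 h0

/-- Rational functions raise the cohomological dimension by at most one. -/
theorem cohDimLE_ratFunc {e : ℕ} (h : EtCoh.CohDimLE (Spec (CommRingCat.of K)) e) :
    EtCoh.CohDimLE (Spec (CommRingCat.of (RatFunc K))) (e + 1) :=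
  cohDimLE_of_Rpush (ratStr K) h fun F hF n hn => isZero_Rpush_ratFunc K F hF n hn

end Stalk

/-- The bound by the transcendence degree, for a finite transcendence basis. -/
theorem cohDimLE_of_transcendenceBasis {K : Type u} [Field K] {e : ℕ}
    (hK : EtCoh.CohDimLE (Spec (CommRingCat.of K)) e) : ∀ (n : ℕ) {L : Type u} [Field L] [Algebra K L]
      (x : Fin n → L), AlgebraicIndependent K x → Algebra.IsAlgebraic (IntermediateField.adjoin K (Set.range x)) L →
        EtCoh.CohDimLE (Spec (CommRingCat.of L)) (e + n) := by
  intro n
  induction n with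
  | zero =>
    intro L _ _ x _ hal
    haveI := hal
    have h0 : IntermediateField.adjoin K (Set.range x) = ⊥ := by
      rw [Set.range_eq_empty, IntermediateField.adjoin_empty]
    haveI : Algebra.IsAlgebraic K (IntermediateField.adjoin K (Set.range x)) := by
      rw [h0]; infer_instance
    haveI : Algebra.IsAlgebraic K L := Algebra.IsAlgebraic.trans K (IntermediateField.adjoin K (Set.range x)) L
    exact cohDimLE_of_ringHom_integral (algebraMap K L) (fun y => Algebra.IsIntegral.isIntegral y) hK
  | succ n ih =>
    intro L _ _ x hx hal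
    haveI := hal
    let M := IntermediateField.adjoin K (Set.range (Fin.init x))
    let t := x (Fin.last n)
    have hM : EtCoh.CohDimLE (Spec (CommRingCat.of M)) (e + n) := by
      let y : Fin n → M := fun i => ⟨Fin.init x i, IntermediateField.subset_adjoin K _ ⟨i, rfl⟩⟩
      refine ih y (AlgebraicIndependent.of_comp M.val (hx.comp _ (Fin.castSucc_injective n))) ?_
      have h1 : IntermediateField.adjoin K (Set.range y) = ⊤ := by
        apply IntermediateField.map_injective M.val
        rw [IntermediateField.adjoin_map, ← Set.range_comp, ← AlgHom.fieldRange_eq_map, IntermediateField.fieldRange_val]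
        rfl
      rw [h1]
      exact ⟨fun a => (isAlgebraic_algebraMap (⟨a, trivial⟩ : (⊤ : IntermediateField K M)))⟩
    have ht : Transcendental M t := by
      have h1 := hx.transcendental_adjoin (s := Set.range Fin.castSucc) (i := Fin.last n)
        (fun ⟨i, hi⟩ => (Fin.castSucc_lt_last i).ne hi)
      rw [← Set.range_comp] at h1
      exact IntermediateField.transcendental_adjoin_iff.2 h1
    let N := IntermediateField.adjoin M {t}
    haveI : Algebra.IsAlgebraic N L := by
      have hle : IntermediateField.adjoin K (Set.range x) ≤ N.restrictScalars K := by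
        refine IntermediateField.adjoin_le_iff.2 ?_
        rintro _ ⟨i, rfl⟩
        cases i using Fin.lastCases with
        | last => exact IntermediateField.subset_adjoin M _ rfl
        | cast i =>
          exact N.algebraMap_mem ⟨Fin.init x i, IntermediateField.subset_adjoin K _ ⟨i, rfl⟩⟩
      letI : Algebra (IntermediateField.adjoin K (Set.range x)) N :=
        (IntermediateField.inclusion hle).toRingHom.toAlgebra
      haveI : IsScalarTower (IntermediateField.adjoin K (Set.range x)) N L := IsScalarTower.of_algebraMap_eq fun _ => rfl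
      exact Algebra.IsAlgebraic.extendScalars (R := IntermediateField.adjoin K (Set.range x)) (RingHom.injective _)
    refine cohDimLE_of_ringHom_integral ((algebraMap N L).comp (RatFunc.algEquivOfTranscendental t ht).toRingHom)
      (RingHom.IsIntegral.trans _ _ (RingHom.isIntegral_of_surjective _ (RatFunc.algEquivOfTranscendental t ht).surjective)
        fun y => Algebra.IsIntegral.isIntegral y) ?_
    exact (Nat.add_assoc e n 1) ▸ cohDimLE_ratFunc M hM

end Groth.Agent.H1DFun
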