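import Groth.Agent.H1DFun.CohDimBasic
import Groth.Agent.H1DFun.StalkRpush
import Groth.Agent.H05EGA4.EtCl.Fields
import Groth.Agent.H7Lim.GeomConnFinite
import Groth.Agent.H9Hens.StrictHens
import Mathlib.FieldTheory.RatFunc.AsPolynomial
import Mathlib.RingTheory.AlgebraicIndependent.TranscendenceBasis

/-!
# The cohomological dimension of a field of rational functions
-/

set_option autoImplicit false
set_option backward.isDefEq.respectTransparency false
set_option backward.isDefEq.respectTransparency.types false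

universe u

open CategoryTheory CategoryTheory.Limits AlgebraicGeometry Opposite
open scoped TensorProduct
open scoped Groth.Agent.H18Et

namespace Groth.Agent.H1DFun

/-- Fields with the property `C₁` have cohomological dimension at most one. -/
theorem cohDimLE_one_of_isCi (k : Type u) [Field k] (hk : Curves.IsCi k 1) :
    EtCoh.CohDimLE (Spec (CommRingCat.of k)) 1 := fun F hF q hq => by
  refine subsingleton_of_forall_eq 0 fun x => ?_
  obtain ⟨n, hn, hx⟩ := isOfFinAddOrder_iff_nsmul_eq_zero.1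
    (H9GalCoh.Killing.isOfFinAddOrder F q (Nat.lt_of_le_of_lt (Nat.zero_le 1) hq) x)
  induction n using Nat.recOnPrimePow generalizing x with
  | zero => omega
  | one => simpa using hx
  | prime_pow_mul a p m hp _ _ ih =>
    haveI : Fact p.Prime := ⟨hp⟩
    have ha : 0 < a := Nat.pos_of_mul_pos_left hn
    have h0 : p ^ m • x = 0 := ih (p ^ m • x) ha (by rw [← mul_nsmul]; exact hx)
    by_cases h : (p : k) = 0
    · haveI : CharP k p := (CharP.charP_iff_prime_eq_zero hp).2 h
      exact S7733.result k p F hF q hq x ⟨m, h0⟩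
    · exact ((S7732.result k p h).out 2 0 rfl rfl).1
        (H05EGA4.EtCl.Fields.normSurj_of_isCi k hk p) F hF q hq x ⟨m, h0⟩

theorem isCi_ratFunc (Ω : Type u) [Field Ω] [IsAlgClosed Ω] : Curves.IsCi (RatFunc Ω) 1 := by
  haveI : Algebra.IsAlgebraic (Polynomial Ω) (RatFunc Ω) :=
    IsLocalization.isAlgebraic (R := Polynomial Ω) (RatFunc Ω) (nonZeroDivisors (Polynomial Ω))
  haveI : FaithfulSMul (Polynomial Ω) (RatFunc Ω) :=
    (faithfulSMul_iff_algebraMap_injective _ _).2 (IsFractionRing.injective (Polynomial Ω) (RatFunc Ω))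
  let x : PUnit.{u + 1} → Polynomial Ω := fun _ => Polynomial.X
  have hx : IsTranscendenceBasis Ω x := by
    have h2 := (MvPolynomial.uniqueAlgEquiv Ω PUnit.{u + 1}).isTranscendenceBasis
      (IsTranscendenceBasis.mvPolynomial PUnit.{u + 1} Ω)
    refine (congrArg (IsTranscendenceBasis Ω) (funext fun i => ?_)).mp h2
    simp [x]
  have h3 : IsTranscendenceBasis Ω (algebraMap (Polynomial Ω) (RatFunc Ω) ∘ x) := hx.algebraMap_comp
  exact H29Ci.isCi_mono (show 0 + Fintype.card PUnit.{u + 1} ≤ 1 by simp)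
    (H29Ci.isCi_of_transcendenceBasis (H29Ci.isCi_of_isAlgClosed Ω) _ h3)

open Polynomial in
/-- Extending the constants of a field of rational functions to an algebraic closed extension. -/
theorem isCi_tensor_ratFunc (K Ω : Type u) [Field K] [Field Ω] [IsAlgClosed Ω] [Algebra K Ω]
    [Algebra.IsAlgebraic K Ω] :
    EtCoh.CohDimLE (Spec (CommRingCat.of (RatFunc K ⊗[K] Ω))) 1 := by
  let L := RatFunc K
  let A := L ⊗[K] Ω
  let ι₁ : L →ₐ[K] A := Algebra.TensorProduct.includeLeft
  let ι₂ : Ω →ₐ[K] A := Algebra.TensorProduct.includeRight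
  let ψ : (Polynomial Ω) →+* A := Polynomial.eval₂RingHom ι₂.toRingHom (ι₁ RatFunc.X)
  let emb : (Polynomial K) →+* (Polynomial Ω) := Polynomial.mapRingHom (algebraMap K Ω)
  have hψ : ∀ d : (Polynomial K), ψ (emb d) = ι₁ (algebraMap (Polynomial K) L d) := fun d => by
    refine RingHom.congr_fun (f := ψ.comp emb) (g := ι₁.toRingHom.comp (algebraMap (Polynomial K) L))
      (Polynomial.ringHom_ext (fun a => ?_) ?_) d
    · have h : algebraMap (Polynomial K) L (C a) = algebraMap K L a :=
        (IsScalarTower.algebraMap_apply K (Polynomial K) L a).symm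
      simp only [RingHom.comp_apply, ψ, emb, coe_mapRingHom, map_C, coe_eval₂RingHom, eval₂_C]
      show ι₂ (algebraMap K Ω a) = ι₁ (algebraMap (Polynomial K) L (C a))
      rw [h, AlgHom.commutes, AlgHom.commutes]
    · simp only [RingHom.comp_apply, ψ, emb, coe_mapRingHom, map_X, coe_eval₂RingHom, eval₂_X]
      exact congrArg ι₁ RatFunc.algebraMap_X.symm
  have hrep : ∀ a : A, ∃ d : (Polynomial K), d ≠ 0 ∧ ∃ g : (Polynomial Ω), ι₁ (algebraMap (Polynomial K) L d) * a = ψ g := fun a => by
    induction a using TensorProduct.induction_on with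
    | zero => exact ⟨1, one_ne_zero, 0, by simp⟩
    | tmul l w =>
      obtain ⟨p, d, hd, rfl⟩ := IsFractionRing.div_surjective (A := (Polynomial K)) l
      have hd0 : d ≠ 0 := nonZeroDivisors.ne_zero hd
      refine ⟨d, hd0, emb p * C w, ?_⟩
      have hw : ψ (C w) = ι₂ w := by simp [ψ]
      rw [map_mul, hψ, hw]
      show ((algebraMap (Polynomial K) L d) ⊗ₜ[K] (1 : Ω)) * _ = ((algebraMap (Polynomial K) L p) ⊗ₜ[K] (1 : Ω)) * ((1 : L) ⊗ₜ[K] w)
      rw [Algebra.TensorProduct.tmul_mul_tmul, Algebra.TensorProduct.tmul_mul_tmul, one_mul, mul_one,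
        mul_div_cancel₀ _ ((map_ne_zero_iff _ (RatFunc.algebraMap_injective K)).2 hd0)]
    | add x y hx hy =>
      obtain ⟨d, hd, g, hg⟩ := hx
      obtain ⟨d', hd', g', hg'⟩ := hy
      refine ⟨d * d', mul_ne_zero hd hd', emb d' * g + emb d * g', ?_⟩
      rw [map_add ψ, map_mul ψ, map_mul ψ, hψ, hψ, ← hg, ← hg', map_mul, map_mul]
      ring
  let f₂ : Ω →ₐ[K] RatFunc Ω := IsScalarTower.toAlgHom K Ω (RatFunc Ω)
  have hg₁ : Function.Injective ((algebraMap (Polynomial Ω) (RatFunc Ω)).comp emb) :=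
    (IsFractionRing.injective (Polynomial Ω) (RatFunc Ω)).comp (Polynomial.map_injective _ (algebraMap K Ω).injective)
  let f₁ : L →ₐ[K] RatFunc Ω :=
    { IsFractionRing.lift (A := (Polynomial K)) (K := L) hg₁ with
      commutes' := fun a => by
        show IsFractionRing.lift _ (algebraMap K L a) = _
        rw [IsScalarTower.algebraMap_apply K (Polynomial K) L, IsFractionRing.lift_algebraMap]
        simp [emb, IsScalarTower.algebraMap_apply K Ω (RatFunc Ω),
          IsScalarTower.algebraMap_apply Ω (Polynomial Ω) (RatFunc Ω)] }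
  let φ : A →ₐ[K] RatFunc Ω := Algebra.TensorProduct.productMap f₁ f₂
  have hφ : φ.toRingHom.comp ψ = algebraMap (Polynomial Ω) (RatFunc Ω) := by
    refine Polynomial.ringHom_ext (fun w => ?_) ?_
    · show φ (ψ (C w)) = _
      rw [show ψ (C w) = (1 : L) ⊗ₜ[K] w from eval₂_C _ _, Algebra.TensorProduct.productMap_apply_tmul, map_one, one_mul]
      exact IsScalarTower.algebraMap_apply Ω (Polynomial Ω) (RatFunc Ω) w
    · have h : f₁ RatFunc.X = RatFunc.X := by
        refine (congrArg f₁ RatFunc.algebraMap_X.symm).trans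
          ((IsFractionRing.lift_algebraMap hg₁ Polynomial.X).trans ?_)
        simp [emb, RatFunc.algebraMap_X]
      show φ (ψ Polynomial.X) = _
      rw [show ψ Polynomial.X = RatFunc.X ⊗ₜ[K] (1 : Ω) from eval₂_X _ _, Algebra.TensorProduct.productMap_apply_tmul,
        map_one, mul_one, h, RatFunc.algebraMap_X]
  have hu : ∀ d : (Polynomial K), d ≠ 0 → IsUnit (ι₁ (algebraMap (Polynomial K) L d)) := fun d hd =>
    (isUnit_iff_ne_zero.2 ((map_ne_zero_iff _ (RatFunc.algebraMap_injective K)).2 hd)).map ι₁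
  have hinj : Function.Injective φ := (injective_iff_map_eq_zero _).2 fun a ha => by
    obtain ⟨d, hd, g, hg⟩ := hrep a
    have hg0 : algebraMap (Polynomial Ω) (RatFunc Ω) g = 0 := by
      rw [← hφ, RingHom.comp_apply, ← hg]
      show φ (_ * a) = 0
      rw [map_mul, ha, mul_zero]
    rw [(map_eq_zero_iff _ (IsFractionRing.injective (Polynomial Ω) (RatFunc Ω))).1 hg0, map_zero] at hg
    exact (hu d hd).mul_right_eq_zero.1 hg
  haveI : IsDomain A := hinj.isDomain φ.toRingHom
  haveI : Algebra.IsIntegral L A := inferInstance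
  have hA : IsField A := isField_of_isIntegral_of_isField' (Field.toIsField L)
  letI := hA.toField
  have hsurj : Function.Surjective φ := fun r => by
    obtain ⟨p, s, hs, rfl⟩ := IsFractionRing.div_surjective (A := (Polynomial Ω)) r
    refine ⟨ψ p / ψ s, ?_⟩
    rw [show φ (ψ p / ψ s) = φ.toRingHom (ψ p) / φ.toRingHom (ψ s) from map_div₀ φ.toRingHom _ _, ← hφ]
    rfl
  let e := RingEquiv.ofBijective φ.toRingHom ⟨hinj, hsurj⟩
  haveI : IsIntegralHom (Spec.map (CommRingCat.ofHom e.symm.toRingHom)) :=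
    IsIntegralHom.SpecMap_iff.2 (RingHom.isIntegral_of_surjective _ e.symm.surjective)
  exact cohDimLE_of_isIntegralHom (Spec.map (CommRingCat.ofHom e.symm.toRingHom))
    (cohDimLE_one_of_isCi _ (isCi_ratFunc Ω))

end Groth.Agent.H1DFun
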