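import Groth.Agent.H18Et.ConstHom
import Groth.Prelude.Def_EtCore

/-!
# Adjuncts of morphisms out of constant sheaves into direct images
-/

set_option autoImplicit false
set_option backward.isDefEq.respectTransparency false
set_option backward.isDefEq.respectTransparency.types false

universe u

open CategoryTheory CategoryTheory.Limits AlgebraicGeometry Opposite
open Groth.Agent.H18Et
open scoped Groth.Agent.H18Et

namespace Groth.Agent.H1DFun

variable {X Y : Scheme.{u}} (f : X ⟶ Y) {M : AddCommGrpCat.{u + 1}} {F : EtCoh.Ab X}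

theorem homEquiv_const_apply {F : EtCoh.Ab X}
    (β : (constantSheaf X.smallEtaleTopology AddCommGrpCat.{u + 1}).obj M ⟶ F) (m : M) :
    (EtCore.constAdj X).homEquiv _ _ β m = β.hom.app (op (EtCoh.top X)) (ConstSheaf.unitTop M m) := by
  rw [Adjunction.homEquiv_unit]
  rfl

theorem homConst_top {F : EtCoh.Ab X} (φ : M ⟶ F.obj.obj (op (EtCoh.top X))) (m : M) :
    (ConstSheaf.homConst F φ).hom.app (op (EtCoh.top X)) (ConstSheaf.unitTop M m) = φ m := by
  have h := ConstSheaf.homConst_rest F φ (EtCoh.top X) m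
  rwa [ConstSheaf.rest, ConstSheaf.rest, (EtCore.topIsTerminal X).hom_ext
    ((EtCore.topIsTerminal X).from (EtCoh.top X)) (𝟙 _), op_id, CategoryTheory.Functor.map_id,
    CategoryTheory.Functor.map_id, ConcreteCategory.id_apply, ConcreteCategory.id_apply] at h

/-- The adjunct on `X` has the transported values on global sections. -/
theorem adjunct_top (β : (constantSheaf Y.smallEtaleTopology AddCommGrpCat.{u + 1}).obj M ⟶ (EtCoh.push f).obj F)
    (m : M) :
    ((EtCore.pullConstIso f).inv.app M ≫ ((EtCoh.pullPushAdj f).homEquiv _ _).symm β).hom.app (op (EtCoh.top X))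
        (ConstSheaf.unitTop M m) =
      F.obj.map (EtCore.bcTopIso f).inv.op (β.hom.app (op (EtCoh.top Y)) (ConstSheaf.unitTop M m)) := by
  rw [← homEquiv_const_apply, ← homEquiv_const_apply]
  let adj₁ := ((EtCore.constAdj Y).comp (EtCoh.pullPushAdj f)).ofNatIsoRight (EtCore.pushGsecIso f)
  let h : (EtCoh.pull f).obj ((constantSheaf Y.smallEtaleTopology AddCommGrpCat.{u + 1}).obj M) ⟶ F :=
    ((EtCoh.pullPushAdj f).homEquiv _ _).symm β
  have e1 : (EtCore.constAdj X).homEquiv _ _ ((EtCore.pullConstIso f).inv.app M ≫ h) =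
      adj₁.homEquiv M F h := by
    rw [EtCore.pullConstIso, Adjunction.leftAdjointUniq_inv_app, Adjunction.homEquiv_naturality_right,
      Adjunction.homEquiv_leftAdjointUniq_hom_app]
    exact (adj₁.homEquiv_unit M F h).symm
  have e2 : adj₁.homEquiv M F h = (EtCore.constAdj Y).homEquiv M _ β ≫ (EtCore.pushGsecIso f).hom.app F := by
    rw [Adjunction.homEquiv_ofNatIsoRight_apply, Adjunction.comp_homEquiv]
    show (EtCore.constAdj Y).homEquiv _ _ ((EtCoh.pullPushAdj f).homEquiv _ _ h) ≫ _ = _
    rw [Equiv.apply_symm_apply]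
  rw [show (EtCore.constAdj X).homEquiv _ _ ((EtCore.pullConstIso f).inv.app M ≫
    ((EtCoh.pullPushAdj f).homEquiv _ _).symm β) = _ from e1.trans e2]
  rfl

end Groth.Agent.H1DFun
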