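import Groth.Agent.H1DFun.ConstGlue
import Groth.Agent.H18Et.ConstHom
import Groth.Agent.H1Lim.Sections

/-!
# Comparison of direct images of constant sheaves along a factorisation
-/

set_option autoImplicit false
set_option backward.isDefEq.respectTransparency false
set_option backward.isDefEq.respectTransparency.types false

universe u

open CategoryTheory CategoryTheory.Limits AlgebraicGeometry Opposite Topology
open Groth.Agent.H18Et
open scoped Groth.Agent.H18Et

namespace Groth.Agent.H1DFun

/-- The constant sheaf is constant. -/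
theorem isConstant_const (X : Scheme.{u}) (M : Type) [AddCommGroup M] :
    ConstSheaf.IsConstant (EtCoh.const X M) (ConstSheaf.unitTop (X := X) (AddCommGrpCat.of (ULift.{u + 1} M))) :=
  ConstSheaf.isConstant_unitTop _

variable {X D D' : Scheme.{u}} (M : Type) [AddCommGroup M]

/-- The presheaf map into the sections of the direct image. -/
noncomputable def preConst (π : D' ⟶ D) :
    (Functor.const D.Etaleᵒᵖ).obj (AddCommGrpCat.of (ULift.{u + 1} M)) ⟶
      ((EtCoh.push π).obj (EtCoh.const D' M)).obj where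
  app V := (toSheafify D'.smallEtaleTopology
      ((Functor.const D'.Etaleᵒᵖ).obj (AddCommGrpCat.of (ULift.{u + 1} M)))).app (op ((EtCoh.bc π).obj V.unop))
  naturality V W g :=
    (toSheafify D'.smallEtaleTopology
      ((Functor.const D'.Etaleᵒᵖ).obj (AddCommGrpCat.of (ULift.{u + 1} M)))).naturality ((EtCoh.bc π).map g.unop).op

/-- The constant sheaf maps to the direct image of the constant sheaf. -/
noncomputable def beta (π : D' ⟶ D) : EtCoh.const D M ⟶ (EtCoh.push π).obj (EtCoh.const D' M) :=
  ⟨sheafifyLift D.smallEtaleTopology (preConst M π) ((EtCoh.push π).obj (EtCoh.const D' M)).property⟩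

theorem beta_rest (π : D' ⟶ D) (V : D.Etale) (m : ULift.{u + 1} M) :
    (beta M π).hom.app (op V) (ConstSheaf.rest (EtCoh.const D M) V (ConstSheaf.unitTop _ m)) =
      ConstSheaf.rest (EtCoh.const D' M) ((EtCoh.bc π).obj V) (ConstSheaf.unitTop _ m) := by
  rw [ConstSheaf.rest_unitTop, ConstSheaf.rest_unitTop]
  exact ConcreteCategory.congr_hom (congrArg (fun k => NatTrans.app k (op V))
    (toSheafify_sheafifyLift D.smallEtaleTopology (preConst M π)
      ((EtCoh.push π).obj (EtCoh.const D' M)).property)) m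

variable (π : D' ⟶ D) (ν : D ⟶ X) (ν' : D' ⟶ X) (w : π ≫ ν = ν')

/-- The induced map of base changes. -/
noncomputable def bcHom (U : X.Etale) : ((EtCoh.bc ν').obj U).left ⟶ ((EtCoh.bc ν).obj U).left :=
  pullback.lift (pullback.fst U.hom ν') (pullback.snd U.hom ν' ≫ π) (by
    rw [Category.assoc, w]; exact pullback.condition)

/-- The comparison of the two base changes. -/
noncomputable def bcTo (U : X.Etale) : (EtCoh.bc ν').obj U ⟶ (EtCoh.bc π).obj ((EtCoh.bc ν).obj U) :=
  MorphismProperty.Over.homMk (pullback.lift (bcHom π ν ν' w U) (pullback.snd U.hom ν')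
    (pullback.lift_snd _ _ _)) (pullback.lift_snd _ _ _) trivial

theorem bcTo_fst (U : X.Etale) :
    (bcTo π ν ν' w U).left ≫ pullback.fst ((EtCoh.bc ν).obj U).hom π = bcHom π ν ν' w U :=
  pullback.lift_fst _ _ _

theorem bcTo_nat {U V : X.Etale} (g : V ⟶ U) :
    bcTo π ν ν' w V ≫ (EtCoh.bc π).map ((EtCoh.bc ν).map g) = (EtCoh.bc ν').map g ≫ bcTo π ν ν' w U := by
  refine (Scheme.Etale.forget _).map_injective (Over.OverMorphism.ext ?_)
  have e1 : ∀ {A B : Scheme.{u}} (f : A ⟶ B) {U V : B.Etale} (g : V ⟶ U),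
      ((EtCoh.bc f).map g).left ≫ pullback.fst U.hom f = pullback.fst V.hom f ≫ g.left :=
    fun f _ _ g => (EtCoh.isPullback_bc_map f g).w
  have e2 : ∀ {A B : Scheme.{u}} (f : A ⟶ B) {U V : B.Etale} (g : V ⟶ U),
      ((EtCoh.bc f).map g).left ≫ pullback.snd U.hom f = pullback.snd V.hom f :=
    fun f _ _ g => Over.w ((EtCoh.bc f).map g).hom
  refine pullback.hom_ext ?_ ?_
  · show ((bcTo π ν ν' w V).left ≫ ((EtCoh.bc π).map ((EtCoh.bc ν).map g)).left) ≫ _ =
      (((EtCoh.bc ν').map g).left ≫ (bcTo π ν ν' w U).left) ≫ _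
    rw [Category.assoc, Category.assoc, e1, bcTo_fst, ← Category.assoc, bcTo_fst]
    refine pullback.hom_ext ?_ ?_
    · rw [Category.assoc, Category.assoc, e1, bcHom, bcHom, pullback.lift_fst, pullback.lift_fst_assoc, e1]
    · rw [Category.assoc, Category.assoc, e2, bcHom, bcHom, pullback.lift_snd, pullback.lift_snd,
        ← Category.assoc, e2]
  · show ((bcTo π ν ν' w V).left ≫ ((EtCoh.bc π).map ((EtCoh.bc ν).map g)).left) ≫ _ =
      (((EtCoh.bc ν').map g).left ≫ (bcTo π ν ν' w U).left) ≫ _
    rw [Category.assoc, Category.assoc, e2]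
    erw [pullback.lift_snd, pullback.lift_snd, e2]

/-- The comparison of direct images. -/
noncomputable def cmp : (EtCoh.push ν).obj (EtCoh.const D M) ⟶ (EtCoh.push ν').obj (EtCoh.const D' M) :=
  ⟨{ app := fun U => (beta M π).hom.app (op ((EtCoh.bc ν).obj U.unop)) ≫
        (EtCoh.const D' M).obj.map (bcTo π ν ν' w U.unop).op
     naturality := fun U V g => by
      show (EtCoh.const D M).obj.map ((EtCoh.bc ν).map g.unop).op ≫ (_ ≫ _) =
        (_ ≫ _) ≫ (EtCoh.const D' M).obj.map ((EtCoh.bc ν').map g.unop).op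
      rw [(beta M π).hom.naturality_assoc, Category.assoc]
      refine congrArg ((beta M π).hom.app _ ≫ ·) ?_
      show (EtCoh.const D' M).obj.map ((EtCoh.bc π).map ((EtCoh.bc ν).map g.unop)).op ≫ _ = _
      rw [← Functor.map_comp, ← Functor.map_comp, ← op_comp, ← op_comp, bcTo_nat] }⟩

theorem cmp_app (U : X.Etale) (s : EtCoh.sect (EtCoh.const D M) ((EtCoh.bc ν).obj U)) :
    (cmp M π ν ν' w).hom.app (op U) s = (EtCoh.const D' M).obj.map (bcTo π ν ν' w U).op
      ((beta M π).hom.app (op ((EtCoh.bc ν).obj U)) s) :=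
  ConcreteCategory.comp_apply _ _ _

/-- The comparison respects loci. -/
theorem mem_locus_cmp (U : X.Etale) (s : EtCoh.sect (EtCoh.const D M) ((EtCoh.bc ν).obj U))
    (z : ((EtCoh.bc ν').obj U).left) (m : ULift.{u + 1} M)
    (hz : bcHom π ν ν' w U z ∈ ConstSheaf.locus (isConstant_const D M) s m) :
    z ∈ ConstSheaf.locus (isConstant_const D' M) (U := (EtCoh.bc ν').obj U)
      ((cmp M π ν ν' w).hom.app (op U) s) m := by
  obtain ⟨V, g, hv, e⟩ := hz
  obtain ⟨z', hz'⟩ := H1Lim.mem_range_bc_map π g ((bcTo π ν ν' w U).left z) (by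
    exact Set.mem_of_eq_of_mem ((Scheme.Hom.comp_apply (bcTo π ν ν' w U).left _ z).symm.trans
      (congrArg (fun t : ((EtCoh.bc ν').obj U).left ⟶ ((EtCoh.bc ν).obj U).left => t z) (bcTo_fst π ν ν' w U))) hv)
  let μ : (EtCoh.bc π).obj ((EtCoh.bc ν).obj U) ⟶ (EtCoh.bc ν').obj U :=
    MorphismProperty.Over.homMk (pullback.lift (pullback.fst _ _ ≫ pullback.fst U.hom ν)
      (pullback.snd _ _) (by
        rw [Category.assoc, pullback.condition, ← w, ← Category.assoc]
        erw [pullback.condition]
        rw [Category.assoc])) (pullback.lift_snd _ _ _) trivial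
  have h1 : (bcTo π ν ν' w U).left ≫ μ.left = 𝟙 _ := by
    refine pullback.hom_ext ?_ ?_
    · erw [Category.assoc, pullback.lift_fst, pullback.lift_fst_assoc, bcHom, pullback.lift_fst, Category.id_comp]
    · erw [Category.assoc, pullback.lift_snd, pullback.lift_snd, Category.id_comp]
  have h2 : μ.left ≫ (bcTo π ν ν' w U).left = 𝟙 _ := by
    refine pullback.hom_ext (pullback.hom_ext ?_ ?_) ?_
    · erw [Category.assoc, Category.assoc, pullback.lift_fst_assoc, bcHom, pullback.lift_fst, pullback.lift_fst,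
        Category.id_comp]
    · erw [Category.assoc, Category.assoc, pullback.lift_fst_assoc, bcHom, pullback.lift_snd,
        pullback.lift_snd_assoc, Category.id_comp]
      exact pullback.condition.symm
    · erw [Category.assoc, pullback.lift_snd, pullback.lift_snd, Category.id_comp]
  refine ⟨(EtCoh.bc π).obj V, (EtCoh.bc π).map g ≫ μ, ⟨z', ?_⟩, ?_⟩
  · show (((EtCoh.bc π).map g).left ≫ μ.left) z' = z
    rw [Scheme.Hom.comp_apply, hz', ← Scheme.Hom.comp_apply, h1]
    rfl
  · rw [cmp_app, ← ConcreteCategory.comp_apply, ← Functor.map_comp, ← op_comp, Category.assoc,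
      show μ ≫ bcTo π ν ν' w U = 𝟙 _ from (Scheme.Etale.forget _).map_injective (Over.OverMorphism.ext h2),
      Category.comp_id]
    refine (NatTrans.naturality_apply (beta M π).hom g.op s).symm.trans ?_
    rw [e]
    exact beta_rest M π V m

end Groth.Agent.H1DFun
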