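import Groth.Agent.H18Et.ConstSheaf
import Groth.Agent.H18Et.Support

/-!
# Sections of constant sheaves from their loci
-/

set_option autoImplicit false
set_option backward.isDefEq.respectTransparency false
set_option backward.isDefEq.respectTransparency.types false

universe u

open CategoryTheory CategoryTheory.Limits AlgebraicGeometry Opposite Topology
open Groth.Agent.H18Et

namespace Groth.Agent.H1DFun

variable {X : Scheme.{u}} {F : EtCoh.Ab X} {M : Type*} {c : M → EtCoh.sect F (EtCoh.top X)}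
  (h : ConstSheaf.IsConstant F c)

/-- The germ of a section over a point of the locus of `m` is the germ of `m`. -/
theorem germ_eq_of_mem_locus {U : X.Etale} (s : EtCoh.sect F U) {m : M} {Ω : Type u} [Field Ω]
    [IsSepClosed Ω] {ξ : Spec (CommRingCat.of Ω) ⟶ X} (y : (Scheme.pointSmallEtale ξ).fiber.obj U)
    (hy : ptOf y ∈ ConstSheaf.locus h s m) :
    germ ξ F U y s = germ ξ F U y (ConstSheaf.rest F U (c m)) := by
  obtain ⟨V, g, ⟨v, hv⟩, e⟩ := hy
  obtain ⟨y', hy'⟩ := exists_fiber_lift g y v hv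
  rw [← hy']
  refine (ConstSheaf.germ_map ξ F g y' s).symm.trans ?_
  refine Eq.trans ?_ (ConstSheaf.germ_map ξ F g y' _)
  rw [ConstSheaf.map_rest]
  exact congrArg (germ ξ F V y') e

/-- Two sections with the same loci are equal. -/
theorem eq_of_locus {U : X.Etale} (a b : EtCoh.sect F U)
    (hab : ∀ z : U.left, ∃ m, z ∈ ConstSheaf.locus h a m ∧ z ∈ ConstSheaf.locus h b m) : a = b := by
  refine sect_ext a b fun Ω _ _ ξ y => ?_
  obtain ⟨m, ha, hb⟩ := hab (ptOf y)
  exact (germ_eq_of_mem_locus h a y ha).trans (germ_eq_of_mem_locus h b y hb).symm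

/-- A partition into opens is the family of loci of a section. -/
theorem exists_of_locus (U : X.Etale) {κ : Type u} (val : κ → M) (C : κ → U.left.Opens)
    (hcov : ∀ z : U.left, ∃ k, z ∈ C k) (hdisj : ∀ k l z, z ∈ C k → z ∈ C l → k = l) :
    ∃ s : EtCoh.sect F U, ∀ k z, z ∈ C k → z ∈ ConstSheaf.locus h s (val k) := by
  haveI : Etale U.hom := U.prop
  let W : κ → X.Etale := fun k => MorphismProperty.Over.mk ⊤ ((C k).ι ≫ U.hom) (inferInstanceAs (Etale _))
  let π : ∀ k, W k ⟶ U := fun k => MorphismProperty.Over.homMk (C k).ι rfl trivial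
  have hgen : Sieve.generate (Presieve.ofArrows W π) ∈ X.smallEtaleTopology U := by
    refine mem_topology_of_forall_point _ fun x => ?_
    obtain ⟨k, hk⟩ := hcov x
    exact ⟨W k, π k, ⟨x, hk⟩, ⟨_, 𝟙 _, π k, Presieve.ofArrows.mk k, Category.id_comp _⟩, rfl⟩
  have hsheaf : Presieve.IsSheafFor (F.obj ⋙ CategoryTheory.forget _) (Presieve.ofArrows W π) := by
    rw [Presieve.isSheafFor_iff_generate]
    exact ((isSheaf_iff_isSheaf_of_type _ _).1
      ((sheafCompose _ (CategoryTheory.forget _)).obj F).property) _ hgen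
  let r : ∀ k, ToType (F.obj.obj (op (W k))) := fun k => ConstSheaf.rest F (W k) (c (val k))
  have hcomp : Presieve.Arrows.Compatible (F.obj ⋙ CategoryTheory.forget _) π r := by
    intro a b Z ga gb hZ
    change F.obj.map ga.op (r a) = F.obj.map gb.op (r b)
    rw [ConstSheaf.map_rest, ConstSheaf.map_rest]
    refine sect_ext _ _ fun Ω _ _ ξ y => ?_
    have e := congrArg (fun q : Z ⟶ U => q.left (ptOf y)) hZ
    have e' : (C a).ι (ga.left (ptOf y)) = (C b).ι (gb.left (ptOf y)) :=
      ((Scheme.Hom.comp_apply ga.left (C a).ι _).symm.trans e).trans (Scheme.Hom.comp_apply _ _ _)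
    have hb : (C a).ι (ga.left (ptOf y)) ∈ C b := e'.symm ▸ (gb.left (ptOf y)).2
    rw [hdisj a b _ (ga.left (ptOf y)).2 hb]
  obtain ⟨s, hs, -⟩ := (Presieve.isSheafFor_arrows_iff _ _).1 hsheaf r hcomp
  exact ⟨s, fun k z hz => ⟨W k, π k, ⟨⟨z, hz⟩, rfl⟩, hs k⟩⟩

end Groth.Agent.H1DFun
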