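import Groth.Agent.H18Et.MuConst

/-!
# The comparison of roots of unity with a constant sheaf, with its value
-/

set_option backward.isDefEq.respectTransparency false
set_option backward.isDefEq.respectTransparency.types false

universe u

open CategoryTheory CategoryTheory.Limits AlgebraicGeometry Opposite Polynomial
open Groth.Agent.H18Et Groth.Agent.H18Et.MuConst
open scoped Groth.Agent.H18Et

namespace Groth.Agent.H1DFun

variable {S : Scheme.{u}}

/-- Multiples of a root of unity, as global units. -/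
noncomputable def muPhi {n : ℕ} (z : Γ(S, ⊤)ˣ) (hz : n • (sec (U := EtCoh.top S) z) = 0) :
    AddCommGrpCat.of (ULift.{u + 1} (ZMod n)) ⟶ (EtCoh.Gm S).obj.obj (op (EtCoh.top S)) :=
  AddCommGrpCat.ofHom ((ZMod.lift n ⟨zmultiplesHom _ (sec (U := EtCoh.top S) z), by
      simpa using hz⟩).comp AddEquiv.ulift.toAddMonoidHom)

theorem muPhi_apply {n : ℕ} [NeZero n] (z : Γ(S, ⊤)ˣ) (hz : n • (sec (U := EtCoh.top S) z) = 0)
    (j : ℕ) : muPhi z hz (ULift.up (j : ZMod n)) = sec (U := EtCoh.top S) (z ^ j) := by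
  let L : {f : ℤ →+ EtCoh.sect (EtCoh.Gm S) (EtCoh.top S) // f n = 0} :=
    ⟨zmultiplesHom _ (sec (U := EtCoh.top S) z), by simpa using hz⟩
  change ZMod.lift n L ((j : ℕ) : ZMod n) = _
  refine ((congrArg (ZMod.lift n L) (Int.cast_natCast j).symm).trans (ZMod.lift_coe _ _ _)).trans ?_
  change (j : ℤ) • sec (U := EtCoh.top S) z = _
  rw [natCast_zsmul, nsmul_sec]

/-- The comparison sends `1` to the chosen root. -/
theorem exists_iso_homConst {n : ℕ} (hn : 1 ≤ n) (hu : IsUnit (n : Γ(S, ⊤))) (z : Γ(S, ⊤)ˣ)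
    (hζ : aeval (z : Γ(S, ⊤)) (cyclotomic n ℤ) = 0) (hz : n • (sec (U := EtCoh.top S) z) = 0) :
    ∃ e : EtCoh.const S (ZMod n) ≅ EtCoh.mu S n,
      e.hom ≫ EtCoh.muι S n = ConstSheaf.homConst (EtCoh.Gm S) (muPhi z hz) := by
  haveI : NeZero n := ⟨by omega⟩
  let φ := muPhi z hz
  have hφ : ∀ (U : S.Etale) (m : ULift.{u + 1} (ZMod n)),
      ConstSheaf.rest (EtCoh.Gm S) U (φ m) =
        sec (Units.map (((EtCore.topIsTerminal S).from U).left.appTop).hom.toMonoidHom z ^ m.down.val) :=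
    fun U m => by
      rw [show φ m = m.down.val • sec (U := EtCoh.top S) z from ?_, nsmul_sec, ConstSheaf.rest, map_sec,
        map_pow]
      obtain ⟨k⟩ := m
      obtain ⟨j, rfl⟩ : ∃ j : ℕ, (j : ZMod n) = k := ⟨k.val, ZMod.natCast_zmod_val k⟩
      let L : {f : ℤ →+ EtCoh.sect (EtCoh.Gm S) (EtCoh.top S) // f n = 0} :=
        ⟨zmultiplesHom _ (sec (U := EtCoh.top S) z), by simpa using hz⟩
      change ZMod.lift n L ((j : ℕ) : ZMod n) = (j : ZMod n).val • _
      refine ((congrArg (ZMod.lift n L) (Int.cast_natCast j).symm).trans (ZMod.lift_coe _ _ _)).trans ?_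
      change (j : ℤ) • sec (U := EtCoh.top S) z = _
      rw [natCast_zsmul, ZMod.val_natCast]
      conv_lhs => rw [← Nat.mod_add_div j n, add_nsmul, mul_comm, mul_nsmul]
      rw [show n • (j / n) • sec (U := EtCoh.top S) z = (j / n) • n • sec (U := EtCoh.top S) z from
        smul_comm _ _ _, hz, smul_zero, add_zero]
  have h0 : ConstSheaf.homConst (EtCoh.Gm S) φ ≫ EtCoh.powMap S n = 0 := by
    rw [EtCoh.powMap, Preadditive.comp_nsmul, Category.comp_id]
    refine ConstSheaf.constHom_ext fun U m => ?_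
    haveI : ((sheafSections S.smallEtaleTopology AddCommGrpCat.{u + 1}).obj (op U)).Additive := ⟨rfl⟩
    have h' := ConcreteCategory.congr_hom
      ((((sheafSections S.smallEtaleTopology AddCommGrpCat.{u + 1}).obj (op U))).map_nsmul
      (f := ConstSheaf.homConst (EtCoh.Gm S) φ) (n := n))
      (ConstSheaf.rest _ U (ConstSheaf.unitTop _ m))
    refine h'.trans ?_
    change n • (ConstSheaf.homConst (EtCoh.Gm S) φ).hom.app (op U) _ = 0
    rw [ConstSheaf.homConst_rest, hφ, nsmul_sec, ← pow_mul, mul_comm, pow_mul, ← map_pow,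
      show z ^ n = 1 from sec_injective (U := EtCoh.top S) (by rw [← nsmul_sec, hz]; rfl),
      map_one, one_pow]
    rfl
  let α : EtCoh.const S (ZMod n) ⟶ EtCoh.mu S n := kernel.lift _ _ h0
  have hα : ∀ (U : S.Etale) (m : ULift.{u + 1} (ZMod n)),
      (EtCoh.muι S n).hom.app (op U) (ConstSheaf.rest (EtCoh.mu S n) U
        (α.hom.app (op (EtCoh.top S)) (ConstSheaf.unitTop _ m))) =
        ConstSheaf.rest (EtCoh.Gm S) U (φ m) := by
    intro U m
    refine (congrArg _ (NatTrans.naturality_apply α.hom ((EtCore.topIsTerminal S).from U).op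
      (ConstSheaf.unitTop _ m)).symm).trans ?_
    rw [← ConstSheaf.homConst_rest]
    exact (ConcreteCategory.comp_apply _ _ _).symm.trans (ConcreteCategory.congr_hom
      (congrArg (fun k => k.hom.app (op U)) (kernel.lift_ι _ _ h0)) _)
  suffices IsIso α from ⟨asIso α, kernel.lift_ι _ _ h0⟩
  refine ConstSheaf.isIso_of_isConstant α (ConstSheaf.isConstant_unitTop _) ?_
  intro Ω _ _ ξ U x
  refine ⟨fun m m' e => ?_, fun p => ?_⟩
  · obtain ⟨V, g, y, -, e'⟩ := (germ_eq_iff ξ _ U x _ _).1 e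
    rw [ConstSheaf.map_rest, ConstSheaf.map_rest] at e'
    have e'' := congrArg ((EtCoh.muι S n).hom.app (op V)) e'
    rw [hα, hα, hφ, hφ] at e''
    let f := ((V.left.evaluation ⊤ (ptOf y) trivial).hom.comp
      ((EtCore.topIsTerminal S).from V).left.appTop.hom)
    have e3 : (f z.val) ^ m.down.val = (f z.val) ^ m'.down.val := by
      have := congrArg (fun v => (V.left.evaluation ⊤ (ptOf y) trivial).hom v.val) (sec_injective e'')
      simpa [Units.val_pow_eq_pow_val, map_pow, f] using this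
    exact ULift.ext _ _ (ZMod.val_injective n
      ((isPrimitiveRoot_map f hu hζ).pow_inj (ZMod.val_lt _) (ZMod.val_lt _) e3))
  · obtain ⟨W, y, s, rfl⟩ := germ_surjective ξ _ p
    obtain ⟨v, hv⟩ := sec_surjective ((EtCoh.muι S n).hom.app (op W) s)
    have hvn : v ^ n = 1 := sec_injective (U := W) (by
      rw [← nsmul_sec, hv, nsmul_muι]
      rfl)
    let r := ((EtCore.topIsTerminal S).from W).left.appTop.hom
    let γ := (W.left.presheaf.germ ⊤ (ptOf y) trivial).hom
    obtain ⟨i, hi, e⟩ := exists_eq_pow_of_isLocalRing (ζ := γ (r z.val)) hn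
      (by simpa using hu.map (γ.comp r))
      (by simpa using (map_aeval (γ.comp r) hζ))
      (show γ v.val ^ n = 1 by rw [← map_pow, ← Units.val_pow_eq_pow_val, hvn, Units.val_one, map_one])
    rw [← map_pow, ← map_pow] at e
    obtain ⟨O, hO, i₁, i₂, hO'⟩ := W.left.presheaf.germ_eq (U := ⊤) (V := ⊤) (ptOf y) trivial trivial _ _ e
    haveI : Etale W.hom := W.prop
    let W₁ : S.Etale := MorphismProperty.Over.mk ⊤ (Scheme.Opens.ι O ≫ W.hom) (inferInstanceAs (Etale _))
    let g₁ : W₁ ⟶ W := MorphismProperty.Over.homMk (Scheme.Opens.ι O) rfl trivial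
    obtain ⟨y₁, hy₁⟩ := exists_fiber_lift g₁ y (⟨ptOf y, hO⟩ : (Scheme.Opens.toScheme O)) rfl
    refine ⟨ULift.up (i : ZMod n), ?_⟩
    have hs : (EtCoh.mu S n).obj.map g₁.op s =
        ConstSheaf.rest (EtCoh.mu S n) W₁
          (α.hom.app (op (EtCoh.top S)) (ConstSheaf.unitTop _ (ULift.up (i : ZMod n)))) := by
      refine muι_injective n W₁ ?_
      rw [NatTrans.naturality_apply, hα, hφ, ← hv, map_sec]
      refine congrArg sec (Units.ext ?_)
      rw [Units.val_pow_eq_pow_val]
      change g₁.left.appTop v.val =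
        (((EtCore.topIsTerminal S).from W₁).left.appTop z.val) ^ (i : ZMod n).val
      rw [ZMod.val_natCast_of_lt hi, ← (EtCore.topIsTerminal S).hom_ext
        (g₁ ≫ (EtCore.topIsTerminal S).from W) ((EtCore.topIsTerminal S).from W₁)]
      change g₁.left.appTop v.val =
        ((g₁.left ≫ ((EtCore.topIsTerminal S).from W).left).appTop z.val) ^ i
      rw [Scheme.Hom.comp_appTop, CommRingCat.comp_apply, ← map_pow]
      refine (restrict_eq O i₁ i₂ ?_).symm
      rw [map_pow r] at hO'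
      exact hO'
    refine (ConstSheaf.germ_rest ξ _ U x _).trans ?_
    refine Eq.trans ?_ (congrArg (fun w => germ ξ (EtCoh.mu S n) W w s) hy₁)
    refine Eq.trans ?_ (ConstSheaf.germ_map ξ _ g₁ y₁ s)
    refine Eq.trans ?_ (congrArg (germ ξ (EtCoh.mu S n) W₁ y₁) hs.symm)
    refine Eq.trans ?_ (ConstSheaf.germ_rest ξ _ W₁ y₁ _).symm
    exact congrArg (fun w => germ ξ (EtCoh.mu S n) (EtCoh.top S) w _) (fiber_top_ext ξ _ _)


end Groth.Agent.H1DFun
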