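import Groth.Agent.H1DFun.GmLiftSurj
import Groth.Agent.H1DFun.MuConstSec
import Groth.Agent.H1DFun.ConstAdjunct
import Groth.Agent.H1DFun.PushClass
import Groth.Agent.H1DFun.EfaceClosed
import Groth.Agent.H1Lim.NatPull
import Groth.Agent.S0108

/-!
# Lifting classes of degree two with coefficients invertible on the base
-/

set_option autoImplicit false
set_option linter.style.haveILetI false
set_option backward.isDefEq.respectTransparency false
set_option backward.isDefEq.respectTransparency.types false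

universe u

open CategoryTheory CategoryTheory.Limits AlgebraicGeometry Opposite Abelian Polynomial
open Groth.Agent.H18Et Groth.Agent.H1Lim
open Groth.Agent.H18Et.MuConst (sec)
open scoped Groth.Agent.H18Et Groth.Agent.H18Et.CohColim

namespace Groth.Agent.H1DFun

attribute [local instance] Groth.Agent.H18Et.pull_preservesFiniteLimits

variable {Y Z : Scheme.{u}} (i : Z ⟶ Y)

/-- The adjunct of a class with coefficients in a direct image. -/
noncomputable abbrev adjClass (G : EtCoh.Ab Z) (q : ℕ) (x : Sheaf.H ((EtCoh.push i).obj G) q) : Sheaf.H G q :=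
  Sheaf.H.map ((EtCoh.pull i).map (𝟙 ((EtCoh.push i).obj G)) ≫ (EtCoh.pullPushAdj i).counit.app G) q
    (hpull i ((EtCoh.push i).obj G) q x)

theorem adjClass_map {G G' : EtCoh.Ab Z} (φ : G ⟶ G') (q : ℕ) (x : Sheaf.H ((EtCoh.push i).obj G) q) :
    adjClass i G' q (Sheaf.H.map ((EtCoh.push i).map φ) q x) = Sheaf.H.map φ q (adjClass i G q x) := by
  show Sheaf.H.map _ q (hpull i _ q (Sheaf.H.map _ q x)) = Sheaf.H.map _ q (Sheaf.H.map _ q (hpull i _ q x))
  rw [Hpull_map]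
  refine (H_map_map _ _ q _).trans (Eq.trans ?_ (H_map_map _ _ q _).symm)
  refine congrArg (fun k => Sheaf.H.map k q _) ?_
  rw [CategoryTheory.Functor.map_id, CategoryTheory.Functor.map_id, Category.id_comp, Category.id_comp]
  exact (EtCoh.pullPushAdj i).counit.naturality φ

theorem adjClass_unit (F : EtCoh.Ab Y) (q : ℕ) (y : Sheaf.H F q) :
    adjClass i ((EtCoh.pull i).obj F) q (Sheaf.H.map ((EtCoh.pullPushAdj i).unit.app F) q y) =
      hpull i F q y := by
  show Sheaf.H.map _ q (hpull i _ q (Sheaf.H.map _ q y)) = _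
  rw [Hpull_map]
  refine (H_map_map _ _ q _).trans ?_
  rw [CategoryTheory.Functor.map_id, Category.id_comp]
  erw [(EtCoh.pullPushAdj i).left_triangle_components F]
  rw [Sheaf.H.map_apply]
  exact Ext.comp_mk₀_id _

theorem nsmul_map {X : Scheme.{u}} {F : EtCoh.Ab X} (n : ℕ) (q : ℕ) (x : Sheaf.H F q) :
    Sheaf.H.map (n • 𝟙 F) q x = n • x := by
  rw [Sheaf.H.map_apply]
  rw [show Ext.mk₀ (n • 𝟙 F) = n • Ext.mk₀ (𝟙 F) from map_nsmul Ext.addEquiv₀.symm _ _,
    ← Ext.bilinearComp_apply_apply (h := add_zero q), map_nsmul, Ext.bilinearComp_apply_apply, Ext.comp_mk₀_id]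

theorem kummer_shortExact (X : Scheme.{u}) (n : ℕ) (hu : IsUnit (n : Γ(X, ⊤))) :
    (ShortComplex.mk (EtCoh.muι X n) (EtCoh.powMap X n) (kernel.condition _)).ShortExact := by
  haveI : Epi (EtCoh.powMap X n) := Groth.Agent.S0108.result X n hu
  exact { exact := ShortComplex.exact_of_f_is_kernel _ (kernelIsKernel _)
          mono_f := inferInstanceAs (Mono (kernel.ι _))
          epi_g := inferInstanceAs (Epi (EtCoh.powMap X n)) }

theorem GmPush_powMap (n : ℕ) :
    EtCoh.powMap Y n ≫ EtLim.GmPush i = EtLim.GmPush i ≫ (EtCoh.push i).map (EtCoh.powMap Z n) := by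
  rw [EtCoh.powMap, EtCoh.powMap, Functor.map_nsmul, CategoryTheory.Functor.map_id, Preadditive.nsmul_comp,
    Preadditive.comp_nsmul, Category.id_comp, Category.comp_id]

variable {A : Type u} [CommRing A] [HenselianLocalRing A] (p : Y ⟶ Spec (CommRingCat.of A)) [IsProper p]
  [IsClosedImmersion i] [AlgebraicGeometry.IsNoetherian Z] {LY : Y.Modules}

include p in
/-- Classes of degree two with values in `Z/n` lift from the closed fibre. -/
theorem exists_hpull_two_zmod (hA : CohB1.IsAmple LY) (hdim : topologicalKrullDim Z ≤ 1)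
    (hfib : ∀ y : Y, p.base y = IsLocalRing.closedPoint A → y ∈ Set.range i.base)
    {n : ℕ} (hn : 1 ≤ n) (hu : IsUnit (n : Γ(Y, ⊤))) (z : Γ(Y, ⊤)ˣ)
    (hζ : aeval (z : Γ(Y, ⊤)) (cyclotomic n ℤ) = 0)
    (htors : ∀ ξ : Sheaf.H (EtCoh.Gm Z) 2, n • ξ = 0 → ξ = 0)
    (ξ : Sheaf.H ((EtCoh.pull i).obj (EtCoh.const Y (ZMod n))) 2) :
    ∃ y : Sheaf.H (EtCoh.const Y (ZMod n)) 2, hpull i (EtCoh.const Y (ZMod n)) 2 y = ξ := by
  haveI : NeZero n := ⟨by omega⟩
  let ρ := (Scheme.Hom.appTop i).hom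
  have huZ : IsUnit (n : Γ(Z, ⊤)) := by simpa using hu.map ρ
  let zZ : Γ(Z, ⊤)ˣ := Units.map ρ.toMonoidHom z
  have hζZ : aeval (zZ : Γ(Z, ⊤)) (cyclotomic n ℤ) = 0 := MuConst.map_aeval ρ hζ
  have hpow : ∀ {S : Scheme.{u}} (w : Γ(S, ⊤)ˣ), aeval (w : Γ(S, ⊤)) (cyclotomic n ℤ) = 0 →
      n • sec (U := EtCoh.top S) w = 0 := fun {S} w hw => by
    rw [MuConst.nsmul_sec, show w ^ n = 1 from Units.ext (by
      rw [Units.val_pow_eq_pow_val, MuConst.pow_eq_one hw, Units.val_one])]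
    rfl
  obtain ⟨eY, heY⟩ := exists_iso_homConst hn hu z hζ (hpow z hζ)
  obtain ⟨eZ, heZ⟩ := exists_iso_homConst hn huZ zZ hζZ (hpow zZ hζZ)
  -- the comparison of roots of unity
  have hw : (EtCoh.muι Y n ≫ EtLim.GmPush i) ≫ (EtCoh.push i).map (EtCoh.powMap Z n) = 0 := by
    rw [Category.assoc, ← GmPush_powMap, ← Category.assoc]
    exact (congrArg (· ≫ EtLim.GmPush i) (kernel.condition (EtCoh.powMap Y n))).trans zero_comp
  haveI := H18Et.push_preservesFiniteColimits_of_isIntegralHom i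
  haveI := H05EGA4.EtTors.preservesFiniteLimits_push i
  haveI : (EtCoh.push i).Additive := inferInstance
  have hKY := kummer_shortExact Y n hu
  have hKZ := (kummer_shortExact Z n huZ).map_of_exact (EtCoh.push i)
  haveI : Mono ((EtCoh.push i).map (EtCoh.muι Z n)) := hKZ.mono_f
  haveI : Mono ((ShortComplex.mk (EtCoh.muι Z n) (EtCoh.powMap Z n) (kernel.condition _)).map (EtCoh.push i)).f :=
    hKZ.mono_f
  haveI : Mono (EtCoh.muι Z n) := inferInstanceAs (Mono (kernel.ι _))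
  obtain ⟨m, hm⟩ : ∃ m : EtCoh.mu Y n ⟶ (EtCoh.push i).obj (EtCoh.mu Z n),
      m ≫ (EtCoh.push i).map (EtCoh.muι Z n) = EtCoh.muι Y n ≫ EtLim.GmPush i :=
    ⟨hKZ.exact.lift _ hw, hKZ.exact.lift_f _ hw⟩
  -- the adjunct on the closed subscheme is the comparison there
  let g : EtCoh.const Y (ZMod n) ⟶ (EtCoh.push i).obj (EtCoh.mu Z n) := eY.hom ≫ m
  let g' : (EtCoh.pull i).obj (EtCoh.const Y (ZMod n)) ⟶ EtCoh.mu Z n :=
    ((EtCoh.pullPushAdj i).homEquiv _ _).symm g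
  have hg' : g' = (EtCore.pullConst i (ZMod n)).hom ≫ eZ.hom := by
    rw [← Iso.inv_comp_eq, ← cancel_mono (EtCoh.muι Z n), heZ, Category.assoc,
      ← Adjunction.homEquiv_naturality_right_symm]
    have hg : g ≫ (EtCoh.push i).map (EtCoh.muι Z n) =
        ConstSheaf.homConst (EtCoh.Gm Y) (muPhi z (hpow z hζ)) ≫ EtLim.GmPush i := by
      rw [Category.assoc, hm, ← Category.assoc, heY]
    rw [hg]
    refine (EtCore.constAdj Z).homEquiv _ _ |>.injective (ConcreteCategory.hom_ext _ _ fun x => ?_)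
    obtain ⟨k⟩ := x
    obtain ⟨j, rfl⟩ : ∃ j : ℕ, (j : ZMod n) = k := ⟨k.val, ZMod.natCast_zmod_val k⟩
    erw [homEquiv_const_apply, homEquiv_const_apply]
    refine (adjunct_top i _ _).trans ?_
    erw [homConst_top]
    change (EtCoh.Gm Z).obj.map (EtCore.bcTopIso i).inv.op
      ((EtLim.GmPush i).hom.app (op (EtCoh.top Y))
        ((ConstSheaf.homConst (EtCoh.Gm Y) (muPhi z (hpow z hζ))).hom.app (op (EtCoh.top Y))
          (ConstSheaf.unitTop _ (ULift.up (j : ZMod n))))) = _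
    rw [homConst_top]
    rw [muPhi_apply, muPhi_apply, GmPush_sec, MuConst.map_sec]
    refine congrArg sec (Units.ext ?_)
    show (EtCore.bcTopIso i).inv.left.appTop ((pullback.fst (𝟙 Y) i).appTop ((z ^ j : Γ(Y, ⊤)ˣ) : Γ(Y, ⊤))) =
      ((zZ ^ j : Γ(Z, ⊤)ˣ) : Γ(Z, ⊤))
    have h2 : (EtCore.bcTopIso i).inv.left ≫ pullback.snd (𝟙 Y) i = 𝟙 Z := Over.w (EtCore.bcTopIso i).inv.hom
    have h3 : pullback.fst (𝟙 Y) i = pullback.snd (𝟙 Y) i ≫ i :=
      (Category.comp_id _).symm.trans pullback.condition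
    have h4 : (EtCore.bcTopIso i).inv.left ≫ pullback.fst (𝟙 Y) i = i := by
      exact ((congrArg (_ ≫ ·) h3).trans ((Category.assoc _ _ _).symm.trans (congrArg (· ≫ i) h2))).trans (Category.id_comp i)
    have h5 := congrArg (fun f => Scheme.Hom.appTop f ((z ^ j : Γ(Y, ⊤)ˣ) : Γ(Y, ⊤))) h4
    erw [Scheme.Hom.comp_appTop, CommRingCat.comp_apply] at h5
    refine h5.trans ?_
    rw [show zZ ^ j = Units.map ρ.toMonoidHom (z ^ j) from (map_pow _ _ _).symm]
    rfl
  haveI : IsIso g' := hg' ▸ inferInstance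
  have hunit : (EtCoh.pullPushAdj i).unit.app _ ≫ (EtCoh.push i).map g' = g := by
    exact ((EtCoh.pullPushAdj i).homEquiv_unit _ _ g').symm.trans (Equiv.apply_symm_apply _ g)
  -- lift
  let w := Sheaf.H.map g' 2 ξ
  obtain ⟨w', hw'⟩ := (hpull_map_bijective i (𝟙 ((EtCoh.push i).obj (EtCoh.mu Z n))) 2).2 w
  have h0 : Sheaf.H.map ((EtCoh.push i).map (EtCoh.muι Z n)) 2 w' = 0 := by
    refine (hpull_map_bijective i (𝟙 ((EtCoh.push i).obj (EtCoh.Gm Z))) 2).1 ?_
    show adjClass i _ 2 _ = adjClass i _ 2 0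
    rw [show adjClass i (EtCoh.Gm Z) 2 0 = 0 from (congrArg _ (map_zero _)).trans (map_zero _)]
    refine htors _ ?_
    rw [adjClass_map, ← nsmul_map, H_map_map]
    erw [kernel.condition (EtCoh.powMap Z n)]
    rw [Sheaf.H.map_apply, Ext.mk₀_zero, Ext.comp_zero]
  rw [Sheaf.H.map_apply] at h0
  obtain ⟨c, hc⟩ := Ext.covariant_sequence_exact₁ _ hKZ w' h0 (by norm_num : 1 + 1 = 2)
  obtain ⟨x, hx⟩ := exists_H1_Gm_lift i p hA hdim hfib c
  let θ : ShortComplex.mk (EtCoh.muι Y n) (EtCoh.powMap Y n) (kernel.condition _) ⟶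
      (ShortComplex.mk (EtCoh.muι Z n) (EtCoh.powMap Z n) (kernel.condition _)).map (EtCoh.push i) :=
    { τ₁ := m, τ₂ := EtLim.GmPush i, τ₃ := EtLim.GmPush i, comm₁₂ := hm, comm₂₃ := (GmPush_powMap i n).symm }
  have hn' := ShortComplex.ShortExact.extClass_naturality hKY hKZ θ
  have hy : Sheaf.H.map m 2 (x.comp hKY.extClass (by norm_num : 1 + 1 = 2)) = w' := by
    rw [← hc, ← hx, Sheaf.H.map_apply, Sheaf.H.map_apply]
    erw [Ext.comp_assoc_of_third_deg_zero, hn', ← Ext.comp_assoc_of_second_deg_zero]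
  refine ⟨Sheaf.H.map eY.inv 2 (x.comp hKY.extClass (by norm_num : 1 + 1 = 2)), ?_⟩
  apply (ConcreteCategory.bijective_of_isIso
    ((EtCoh.HF Z 2).map g')).1
  show Sheaf.H.map g' 2 _ = Sheaf.H.map g' 2 ξ
  rw [← adjClass_unit, ← adjClass_map]
  refine (congrArg (adjClass i (EtCoh.mu Z n) 2) ?_).trans hw'
  refine (H_map_map _ _ 2 _).trans ((H_map_map _ _ 2 _).trans (Eq.trans ?_ hy))
  refine congrArg (fun k => Sheaf.H.map k 2 _) ?_
  erw [hunit]
  exact Iso.inv_hom_id_assoc eY m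

end Groth.Agent.H1DFun
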