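import Groth.Agent.S0158
import Groth.Agent.S14622
import Groth.Agent.H17.FLI.CompDeg

/-!
# Acyclicity of injective sheaves and composition of proper morphisms
-/

set_option autoImplicit false
set_option backward.isDefEq.respectTransparency false
set_option backward.isDefEq.respectTransparency.types false

universe u

open CategoryTheory CategoryTheory.Limits AlgebraicGeometry Opposite
open Groth.Agent.H18Et

namespace Groth.Agent.H1DFun

attribute [local instance] Groth.Agent.H18Et.pull_preservesFiniteLimits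

variable {X Y Z : Scheme.{u}}

theorem killedBy_push (f : X ⟶ Y) {ℓ : ℕ} {I : EtCoh.Ab X} (hI : EtCoh.KilledBy ℓ I) :
    EtCoh.KilledBy ℓ ((EtCoh.push f).obj I) :=
  fun U s => hI ((EtCoh.bc f).obj U) s

theorem killedBy_pull (f : X ⟶ Y) {ℓ : ℕ} {G : EtCoh.Ab Y} (hG : EtCoh.KilledBy ℓ G) :
    EtCoh.KilledBy ℓ ((EtCoh.pull f).obj G) := by
  haveI : (EtCoh.pull f).Additive := inferInstance
  rw [killedBy_iff_nsmul_id] at hG ⊢
  rw [← CategoryTheory.Functor.map_id, ← Functor.map_nsmul, hG, Functor.map_zero]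

theorem lInj_push (f : X ⟶ Y) {ℓ : ℕ} {I : EtCoh.Ab X} (hI : LInj ℓ I) : LInj ℓ ((EtCoh.push f).obj I) := by
  intro G hG a G' m hG' hm
  obtain ⟨b, hb⟩ := hI _ (killedBy_pull f hG) (((EtCoh.pullPushAdj f).homEquiv _ _).symm a)
    ((EtCoh.pull f).map m) (killedBy_pull f hG') inferInstance
  refine ⟨(EtCoh.pullPushAdj f).homEquiv _ _ b, ?_⟩
  rw [← Adjunction.homEquiv_naturality_left, hb, Equiv.apply_symm_apply]

/-- Killed sheaves embed in injective ones killed by the same integer. -/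
theorem exists_mono_lInj {ℓ : ℕ} {F : EtCoh.Ab X} (hF : EtCoh.KilledBy ℓ F) :
    ∃ (J : EtCoh.Ab X) (ι : F ⟶ J), Mono ι ∧ EtCoh.KilledBy ℓ J ∧ LInj ℓ J :=
  ⟨kernel (ℓ • 𝟙 (Injective.under F)), kernel.lift _ (Injective.ι F) (comp_eq_zero_of_killedBy hF _),
    mono_of_mono_fac (kernel.lift_ι _ _ _), killedBy_kernel _ _, lInj_kernel _ _⟩

/-- Vanishing along a composite from acyclicity along the first map. -/
theorem isZero_Rpush_comp_iff (f : X ⟶ Y) (g : Y ⟶ Z) (F : EtCoh.Ab X)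
    (h : ∀ q : ℕ, 0 < q → IsZero ((EtCoh.Rpush f q).obj F)) (q : ℕ) :
    IsZero ((EtCoh.Rpush (f ≫ g) q).obj F) ↔ IsZero ((EtCoh.Rpush g q).obj ((EtCoh.push f).obj F)) := by
  obtain ⟨e⟩ := H17.FLI.CompDeg.nonempty_rightDerived_comp (EtCoh.push f) (EtCoh.push g)
    (fun I hI => by
      haveI := hI
      exact Injective.injective_of_adjoint (EtCoh.pullPushAdj f) I)
    F 0 (fun q hq => h q (Nat.pos_of_ne_zero hq)) q
  let e' := ((RDer.rightDerivedIso (EtCoh.pushComp g f) q).app F).symm ≪≫ e ≪≫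
    (EtCoh.Rpush g q).mapIso ((EtCoh.push f).rightDerivedZeroIsoSelf.app F)
  exact ⟨fun hz => hz.of_iso e'.symm, fun hz => hz.of_iso e'⟩

/-- Vanishing for injective sheaves along all base changes. -/
abbrev Acyc (f : X ⟶ Y) : Prop :=
  ∀ (ℓ : ℕ), ℓ.Prime → ∀ (I : EtCoh.Ab X), EtCoh.KilledBy ℓ I → LInj ℓ I →
    ∀ ⦃X' Y' : Scheme.{u}⦄ (f' : X' ⟶ Y') (g' : X' ⟶ X) (g : Y' ⟶ Y),
      IsPullback g' f' f g → ∀ q : ℕ, 0 < q → IsZero ((EtCoh.Rpush f' q).obj ((EtCoh.pull g').obj I))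

theorem cohCommutes_iff_acyc (f : X ⟶ Y) [IsProper f] : EtPBC.CohCommutesWithBC f ↔ Acyc f := by
  rw [S0158.result f]
  exact ⟨fun H ℓ hℓ I h1 h2 X' Y' f' g' g sq q hq => H ℓ hℓ I h1 h2 f' g' g sq q hq,
    fun H ℓ hℓ I h1 h2 X' Y' f' g' g _ _ sq q hq => H ℓ hℓ I h1 h2 f' g' g sq q hq⟩

variable {f : X ⟶ Y} {g : Y ⟶ Z}

theorem isZero_comp_iff [IsProper f] {X' Y' Z' : Scheme.{u}} (f' : X' ⟶ Y') (g' : Y' ⟶ Z')
    (eX : X' ⟶ X) (eY : Y' ⟶ Y) (sq : IsPullback eX f' f eY) (I : EtCoh.Ab X)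
    (h : ∀ q : ℕ, 0 < q → IsZero ((EtCoh.Rpush f' q).obj ((EtCoh.pull eX).obj I))) (q : ℕ) :
    IsZero ((EtCoh.Rpush (f' ≫ g') q).obj ((EtCoh.pull eX).obj I)) ↔
      IsZero ((EtCoh.Rpush g' q).obj ((EtCoh.pull eY).obj ((EtCoh.push f).obj I))) := by
  haveI := S0157.result f f' eX eY sq I
  let i := (EtCoh.Rpush g' q).mapIso (asIso (EtCoh.baseChange0 f eY f' eX sq.w I))
  rw [isZero_Rpush_comp_iff f' g' _ h q]
  exact ⟨fun hz => hz.of_iso i, fun hz => hz.of_iso i.symm⟩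

theorem acyc_comp [IsProper f] (hf : Acyc f) (hg : Acyc g) : Acyc (f ≫ g) := by
  intro ℓ hℓ I hI hinj X' Z' f'' eX eZ sq q hq
  let eY := pullback.fst g eZ
  let g' := pullback.snd g eZ
  have sY : IsPullback eY g' g eZ := IsPullback.of_hasPullback g eZ
  let f' : X' ⟶ pullback g eZ := pullback.lift (eX ≫ f) f'' (by rw [Category.assoc]; exact sq.w)
  have hf' : f' ≫ g' = f'' := pullback.lift_snd _ _ _
  have sX : IsPullback eX f' f eY := by
    refine IsPullback.of_bot ?_ (pullback.lift_fst _ _ _).symm sY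
    rw [show f' ≫ g' = f'' from hf']
    exact sq
  rw [← hf']
  exact (isZero_comp_iff f' g' eX eY sX I (fun j hj => hf ℓ hℓ I hI hinj f' eX eY sX j hj) q).2
    (hg ℓ hℓ _ (killedBy_push f hI) (lInj_push f hinj) g' eY eZ sY q hq)

theorem acyc_of_comp [IsProper f] [Surjective f] (hf : Acyc f) (hgf : Acyc (f ≫ g)) : Acyc g := by
  intro ℓ hℓ I hI hinj Y' Z' g' eY eZ sY q hq
  obtain ⟨J, ι, hι, hJ, hJinj⟩ := exists_mono_lInj (killedBy_pull f hI)
  let a : I ⟶ (EtCoh.push f).obj J := (EtCoh.pullPushAdj f).unit.app I ≫ (EtCoh.push f).map ι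
  haveI := S14622.result f I
  haveI : Mono ((EtCoh.push f).map ι) := inferInstance
  obtain ⟨r, hr⟩ := hinj I hI (𝟙 I) a (killedBy_push f hJ) inferInstance
  let eX := pullback.fst f eY
  let f' := pullback.snd f eY
  have sX : IsPullback eX f' f eY := IsPullback.of_hasPullback f eY
  have hz := (isZero_comp_iff f' g' eX eY sX J (fun j hj => hf ℓ hℓ J hJ hJinj f' eX eY sX j hj) q).1
    (hgf ℓ hℓ J hJ hJinj (f' ≫ g') eX eZ (sX.paste_vert sY) q hq)
  rw [IsZero.iff_id_eq_zero, ← CategoryTheory.Functor.map_id, ← CategoryTheory.Functor.map_id, ← hr,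
    Functor.map_comp, Functor.map_comp, hz.eq_zero_of_tgt ((EtCoh.Rpush g' q).map ((EtCoh.pull eY).map a)),
    zero_comp]

end Groth.Agent.H1DFun
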