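import Groth.Agent.H1DFun.CurveField
import Groth.Agent.H1DFun.BCStalk
import Groth.Agent.H1DFun.PBCComp
import Groth.Agent.H1DFun.GmLiftKummer

/-!
# Proper curves are acyclic for sheaves killed by a prime
-/

set_option autoImplicit false
set_option linter.style.haveILetI false
set_option backward.isDefEq.respectTransparency false
set_option backward.isDefEq.respectTransparency.types false

universe u

open CategoryTheory CategoryTheory.Limits AlgebraicGeometry Opposite Abelian
open Groth.Agent.H18Et Groth.Agent.H1Lim Groth.Agent.H12AlgSp.EtStrictHens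
open scoped Groth.Agent.H18Et Groth.Agent.H18Et.CohColim

namespace Groth.Agent.H1DFun

attribute [local instance] Groth.Agent.H18Et.pull_preservesFiniteLimits

variable {X S : Scheme.{u}} {f : X ⟶ S}

theorem cM_nsmul_id {T V : Scheme.{u}} (J : EtCoh.Ab T) (n q : ℕ) (a : V ⟶ T) (x : CL J q a) :
    cM (n • 𝟙 J) q a x = n • x := by
  show Sheaf.H.map ((EtCoh.pull a).map (n • 𝟙 J)) q x = n • x
  haveI : (EtCoh.pull a).Additive := inferInstance
  rw [Functor.map_nsmul, CategoryTheory.Functor.map_id, nsmul_map]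

section Strict

variable [QuasiCompact f] [QuasiSeparated f] {Ω : Type u} [Field Ω] [IsSepClosed Ω]
  (η : Spec (CommRingCat.of Ω) ⟶ S)

/-- Injective sheaves have no higher classes over strict localisations. -/
theorem van_strictBase_injective (J : EtCoh.Ab X) [Injective J] (n : ℕ) :
    Van f J (n + 1) (strictBase η) :=
  subsingleton_H η f (strictBase η) (Iso.refl _) (Category.id_comp _) J n

/-- Kernels of multiplication on injective sheaves have no higher classes over strict localisations. -/
theorem van_strictBase_kernel (J : EtCoh.Ab X) [Injective J] (ℓ : ℕ) (hℓ : ℓ ≠ 0) (n : ℕ) :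
    Van f (kernel (ℓ • 𝟙 J)) (n + 1) (strictBase η) := by
  haveI := epi_nsmul_injective J ℓ hℓ
  let Sh := ShortComplex.mk (kernel.ι (ℓ • 𝟙 J)) (ℓ • 𝟙 J) (kernel.condition _)
  have hSh : Sh.ShortExact :=
    { exact := ShortComplex.exact_of_f_is_kernel _ (kernelIsKernel _)
      mono_f := inferInstanceAs (Mono (kernel.ι _))
      epi_g := inferInstanceAs (Epi (ℓ • 𝟙 J)) }
  let a := pullback.fst f (strictBase η)
  refine subsingleton_of_forall_eq 0 fun x => ?_
  haveI := van_strictBase_injective (f := f) η J n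
  obtain ⟨z, rfl⟩ := exists_cD hSh a x (Subsingleton.elim (α := CL J (n + 1) a) _ _)
  suffices h : ∃ w : CL J n a, ℓ • w = z by
    obtain ⟨w, hw⟩ := h
    rw [← hw, ← cM_nsmul_id J ℓ n a w]
    exact cD_cM hSh a w
  cases n with
  | succ n =>
    haveI := van_strictBase_injective (f := f) η J n
    exact ⟨0, Subsingleton.elim (α := CL J (n + 1) a) _ _⟩
  | zero =>
    obtain ⟨g, hg⟩ := (theta_bijective η f (strictBase η) (Iso.refl _) (Category.id_comp _) J).2 z
    obtain ⟨j, s, rfl⟩ := germ_surjective η f J g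
    obtain ⟨t, ht⟩ := exists_sect_zsmul J ℓ (by exact_mod_cast hℓ) (bcNbhd η f j) s
    refine ⟨val η f (strictBase η) (Iso.refl _) (Category.id_comp _) J j t, ?_⟩
    rw [← hg, germ_theta]
    refine (map_nsmul (val η f (strictBase η) (Iso.refl _) (Category.id_comp _) J j).hom ℓ t).symm.trans ?_
    exact congrArg _ ((nsmul_hom_app ℓ (bcNbhd η f j) t).symm.trans (by rw [← ht, natCast_zsmul]))

/-- Sheaves injective among those killed by `ℓ` have no higher classes over strict localisations. -/
theorem van_strictBase_lInj {ℓ : ℕ} (hℓ : ℓ ≠ 0) {I : EtCoh.Ab X} (hI : EtCoh.KilledBy ℓ I) (hinj : LInj ℓ I)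
    (n : ℕ) : Van f I (n + 1) (strictBase η) := by
  let J := Injective.under I
  let ι : I ⟶ kernel (ℓ • 𝟙 J) := kernel.lift _ (Injective.ι I) (comp_eq_zero_of_killedBy hI _)
  obtain ⟨r, hr⟩ := hinj I hI (𝟙 I) ι (killedBy_kernel _ _) (mono_of_mono_fac (kernel.lift_ι _ _ _))
  haveI := van_strictBase_kernel (f := f) η J ℓ hℓ n
  let a := pullback.fst f (strictBase η)
  refine subsingleton_of_forall_eq 0 fun x => ?_
  have h : cM r (n + 1) a (cM ι (n + 1) a x) = x := by
    refine (Sheaf.H.map_comp_apply _ _ _).symm.trans ?_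
    rw [← Functor.map_comp, hr, CategoryTheory.Functor.map_id, Sheaf.H.map_apply]
    exact Ext.comp_mk₀_id x
  rw [← h, Subsingleton.elim (α := CL (kernel (ℓ • 𝟙 J)) (n + 1) a) (cM ι (n + 1) a x) 0, map_zero]

end Strict

/-- Proper curves are acyclic. -/
theorem acyc_of_curveLike (hf : IsCurveLike f) : Acyc f := by
  intro ℓ hℓ I hI hinj X' Y' f' g' g sq q hq
  haveI := hf.proper
  haveI : IsProper f' := MorphismProperty.of_isPullback sq inferInstance
  obtain ⟨n, rfl⟩ : ∃ n, q = n + 1 := ⟨q - 1, by omega⟩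
  have hIT : EtCoh.IsTorsion I := isTorsion_of_nsmul_id hℓ.pos ((killedBy_iff_nsmul_id ℓ I).1 hI)
  rw [H18Et.isZero_iff_stalk]
  intro Ω _ _ ξ
  obtain ⟨i⟩ := nonempty_Rpush_stalk_iso ξ f' (strictBase ξ) (Iso.refl _) (Category.id_comp _) (n + 1)
  refine IsZero.of_iso ?_ (i.app _)
  let b := pullback.fst f' (strictBase ξ)
  refine @AddCommGrpCat.isZero_of_subsingleton _ ?_
  show Subsingleton (Sheaf.H ((EtCoh.pull b).obj ((EtCoh.pull g').obj I)) (n + 1))
  suffices hs : Subsingleton (CL I (n + 1) (b ≫ g')) by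
    refine subsingleton_of_forall_eq 0 fun x => ?_
    apply H_map_injective ((viaIso b g' (b ≫ g') rfl).app I) (n + 1)
    exact Subsingleton.elim (α := CL I (n + 1) (b ≫ g')) _ _
  rw [← van_iff_of_isPullback f I (n + 1) ((IsPullback.of_hasPullback f' (strictBase ξ)).paste_horiz sq)]
  let A := ↥(EtBase.etaleLocalRing ξ)
  haveI := isSepClosed_residueField ξ
  refine (van_closed_iff hf I hIT (n + 1) A _).1 ?_
  letI : Field (A ⧸ IsLocalRing.maximalIdeal A) := Ideal.Quotient.field _
  haveI : IsSepClosed (A ⧸ IsLocalRing.maximalIdeal A) := ‹IsSepClosed (IsLocalRing.ResidueField A)›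
  -- the geometric point of the base
  let η : Spec (CommRingCat.of (A ⧸ IsLocalRing.maximalIdeal A)) ⟶ S := closedIncl A ≫ strictBase ξ ≫ g
  let B := ↥(EtBase.etaleLocalRing η)
  haveI := isSepClosed_residueField η
  letI : Field (B ⧸ IsLocalRing.maximalIdeal B) := Ideal.Quotient.field _
  haveI : IsSepClosed (B ⧸ IsLocalRing.maximalIdeal B) := ‹IsSepClosed (IsLocalRing.ResidueField B)›
  let r : (B ⧸ IsLocalRing.maximalIdeal B) →+* (A ⧸ IsLocalRing.maximalIdeal A) :=
    IsLocalRing.ResidueField.lift (valueHom η).hom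
  letI := r.toAlgebra
  have h1 : Van f I (n + 1) (closedIncl B ≫ strictBase η) :=
    (van_closed_iff hf I hIT (n + 1) B (strictBase η)).2 (van_strictBase_lInj η hℓ.ne_zero hI hinj n)
  have h2 := van_of_sepClosed hf I hIT (n + 1) (L := A ⧸ IsLocalRing.maximalIdeal A) _ h1
  have e : Spec.map (CommRingCat.ofHom r) ≫ closedIncl B ≫ strictBase η = η := by
    rw [← Category.assoc]
    exact (congrArg (· ≫ strictBase η) (show _ = Spec.map (valueHom η) from (Spec.map_comp _ _).symm)).trans
      (valueHom_fac η)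
  have key : ∀ {η' : Spec (CommRingCat.of (A ⧸ IsLocalRing.maximalIdeal A)) ⟶ S}, η' = η →
      Van f I (n + 1) η' → Van f I (n + 1) η := by
    intro η' h hv
    subst h
    exact hv
  exact key e h2

end Groth.Agent.H1DFun
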