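import Groth.Agent.H18RelCd.Main
import Groth.Agent.S0148
import Groth.Agent.H05EGA4.EtCl.CurveTorsApps
import Groth.Agent.H05EGA4.EtCl.SepPoints

/-!
# Curves over separably closed fields
-/

set_option autoImplicit false
set_option linter.style.haveILetI false
set_option backward.isDefEq.respectTransparency false
set_option backward.isDefEq.respectTransparency.types false

universe u

open CategoryTheory CategoryTheory.Limits AlgebraicGeometry Opposite
open Groth.Agent.H05EGA4.EtCl
open scoped Groth.Agent.H18Et

namespace Groth.Agent.H1DFun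

variable {k : Type u} [Field k] [IsSepClosed k] {Z : Scheme.{u}} (f : Z ⟶ Spec (CommRingCat.of k))
  [LocallyOfFiniteType f] [QuasiCompact f]

include f in
/-- The units of a curve have no torsion prime to the characteristic in degree two. -/
theorem eq_zero_of_nsmul_Gm_two (hdim : topologicalKrullDim Z ≤ 1) :
    ∀ {n : ℕ}, (n : k) ≠ 0 → ∀ ξ : EtCoh.H Z (EtCoh.Gm Z) 2, n • ξ = 0 → ξ = 0 := by
  haveI : IsLocallyNoetherian Z := LocallyOfFiniteType.isLocallyNoetherian f
  haveI : CompactSpace Z := QuasiCompact.compactSpace_of_compactSpace f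
  haveI : AlgebraicGeometry.IsNoetherian Z := {}
  intro n
  induction n using Nat.recOnPrimePow with
  | zero => intro h; simp at h
  | one => intro _ ξ h; rwa [one_smul] at h
  | prime_pow_mul a p m hp hpa hm ih =>
    intro h ξ hξ
    have hpk : (p : k) ≠ 0 := fun h0 => h (by simp [h0, hm.ne'])
    have ha : (a : k) ≠ 0 := fun h0 => h (by simp [h0])
    refine ih ha ξ (eq_zero_of_pow_nsmul hdim (fun x hx => isSepClosed_residueField_of_isClosed f x hx) p hp
      ?_ ?_ m 2 le_rfl _ (by rw [← mul_smul, hξ]))
    · intro x h0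
      obtain ⟨φ, -⟩ : ∃ φ : CommRingCat.of k ⟶ CommRingCat.of (Z.residueField x),
          Z.fromSpecResidueField x ≫ f = Spec.map φ :=
        ⟨Spec.preimage (Z.fromSpecResidueField x ≫ f), (Spec.map_preimage _).symm⟩
      exact hpk (φ.hom.injective (by rw [map_natCast, map_zero, h0]))
    · intro x _
      letI := (toResidue f x).toAlgebra
      have hle : delta f x ≤ 1 := delta_le f (n := 1) (by exact_mod_cast hdim) x
      exact cohDimLEAt_of_cohDimLE hp (Groth.Agent.S0148.result k (Z.residueField x) 0 1
        (Groth.Agent.H18RelCd.cohDimLE_sepClosed k) (by rw [trdeg_eq_delta f x]; exact_mod_cast hle))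

include f in
/-- Curves have cohomological dimension at most two. -/
theorem cohDimLE_curve (hdim : topologicalKrullDim Z ≤ 1) : EtCoh.CohDimLE Z 2 :=
  Groth.Agent.H18RelCd.cohDimLE_of_dim_le f (n := 1) (by exact_mod_cast hdim)

end Groth.Agent.H1DFun
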