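import Groth.Agent.H12AlgSp.EtStrictHens
import Groth.Agent.H9Hens.StrictHens
import Groth.Prelude.Def_Hens2
import Mathlib.CategoryTheory.Filtered.Final
import Mathlib.CategoryTheory.EssentiallySmall
import Mathlib.CategoryTheory.Limits.Opposites
import Mathlib.AlgebraicGeometry.GammaSpecAdjunction

/-!
# The strict localisation as a limit of affine etale neighbourhoods
-/

set_option autoImplicit false
set_option backward.isDefEq.respectTransparency false
set_option backward.isDefEq.respectTransparency.types false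

universe u

open CategoryTheory CategoryTheory.Limits AlgebraicGeometry Opposite TopologicalSpace
open Groth.Agent.H18Et Groth.Agent.H12AlgSp.EtStrictHens

namespace Groth.Agent.H1DFun

variable {S : Scheme.{u}} {Ω : Type u} [Field Ω] [IsSepClosed Ω] (ξ : Spec (CommRingCat.of Ω) ⟶ S)

/-- The map from the spectrum of the etale local ring to an affine neighbourhood. -/
noncomputable def leg (U : S.Etale) (z : (Scheme.pointSmallEtale ξ).fiber.obj U) [IsAffine U.left] :
    Spec (EtBase.etaleLocalRing ξ) ⟶ U.left :=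
  Spec.map (funGerm ξ U z) ≫ (isAffineOpen_top U.left).fromSpec

theorem leg_map {U V : S.Etale} [IsAffine U.left] [IsAffine V.left] (g : V ⟶ U)
    (z : (Scheme.pointSmallEtale ξ).fiber.obj V) :
    leg ξ V z ≫ g.left = leg ξ U ((Scheme.pointSmallEtale ξ).fiber.map g z) := by
  have h : g.left.appLE ⊤ ⊤ le_top ≫ funGerm ξ V z =
      funGerm ξ U ((Scheme.pointSmallEtale ξ).fiber.map g z) := by
    rw [show g.left.appLE ⊤ ⊤ le_top = g.left.appTop from (Scheme.Hom.appLE_eq_app ..)]
    exact (Scheme.pointSmallEtale ξ).toPresheafFiber_w g z (EtBase.OO S)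
  refine (Category.assoc _ _ _).trans ?_
  rw [← IsAffineOpen.SpecMap_appLE_fromSpec g.left (isAffineOpen_top U.left) (isAffineOpen_top V.left)
    le_top, ← Spec.map_comp_assoc, h]
  rfl

theorem leg_hom (U : S.Etale) (z : (Scheme.pointSmallEtale ξ).fiber.obj U) [IsAffine U.left] :
    leg ξ U z ≫ U.hom = Spec.map (stalkHom ξ) ≫ S.fromSpecStalk (imagePt ξ) := by
  obtain ⟨W, hW, hx, -⟩ := TopologicalSpace.Opens.isBasis_iff_nbhd.mp S.isBasis_affineOpens
    (TopologicalSpace.Opens.mem_top (imagePt ξ))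
  obtain ⟨V, g, z', rfl, hV, hVW⟩ := exists_affine_refinement ξ U z W hx
  rw [← leg_map, Category.assoc, MorphismProperty.Over.w g]
  refine (Category.assoc _ _ _).trans ?_
  rw [← IsAffineOpen.SpecMap_appLE_fromSpec V.hom hW (isAffineOpen_top V.left) hVW, ← Spec.map_comp_assoc]
  have h : V.hom.appLE W ⊤ hVW ≫ funGerm ξ V z' = S.presheaf.germ W (imagePt ξ) hx ≫ stalkHom ξ := by
    ext a
    exact (funGerm_appLE ξ V z' W hx hVW a).trans (stalkHom_germ ξ W hx a).symm
  rw [h, Spec.map_comp, Category.assoc]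
  refine congrArg (Spec.map (stalkHom ξ) ≫ ·) ?_
  exact hW.fromSpecStalk_eq_fromSpecStalk hx

/-- The fibre functor on affine etale schemes. -/
noncomputable abbrev affFiber : S.AffineEtale ⥤ Type u :=
  Scheme.AffineEtale.Spec S ⋙ (Scheme.pointSmallEtale ξ).fiber

/-- Affine neighbourhoods among all neighbourhoods. -/
noncomputable abbrev affIncl : (affFiber ξ).Elements ⥤ (Scheme.pointSmallEtale ξ).fiber.Elements :=
  Functor.Elements.precomp (Scheme.AffineEtale.Spec S) (Scheme.pointSmallEtale ξ).fiber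

instance : (affIncl ξ).Faithful where
  map_injective h := Subtype.ext ((Scheme.AffineEtale.Spec S).map_injective (congrArg Subtype.val h))

instance : (affIncl ξ).Full where
  map_surjective f := by
    obtain ⟨g, hg⟩ := (Scheme.AffineEtale.Spec S).map_surjective f.1
    refine ⟨⟨g, ?_⟩, Subtype.ext hg⟩
    refine (congrArg (fun k => (Scheme.pointSmallEtale ξ).fiber.map k _) hg).trans f.2

theorem exists_affIncl (d : (Scheme.pointSmallEtale ξ).fiber.Elements) :
    ∃ c, Nonempty ((affIncl ξ).obj c ⟶ d) := by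
  obtain ⟨U, z⟩ := d
  obtain ⟨V, g, z', hz, hV, -⟩ := exists_affine_refinement ξ U z ⊤ trivial
  haveI : Etale V.hom := V.prop
  let A : S.AffineEtale := Scheme.AffineEtale.mk (V.left.isoSpec.inv ≫ V.hom)
  let h : (Scheme.AffineEtale.Spec S).obj A ⟶ V :=
    MorphismProperty.Over.homMk V.left.isoSpec.inv rfl trivial
  let l : Spec (CommRingCat.of Ω) ⟶ V.left := z'.left
  let w : (affFiber ξ).obj A := Over.homMk (l ≫ V.left.isoSpec.hom) (by
    show (l ≫ V.left.isoSpec.hom) ≫ V.left.isoSpec.inv ≫ V.hom = ξ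
    rw [Category.assoc, Iso.hom_inv_id_assoc]
    exact Over.w z')
  refine ⟨Functor.elementsMk _ A w, ⟨⟨h ≫ g, ?_⟩⟩⟩
  show (Scheme.pointSmallEtale ξ).fiber.map (h ≫ g) w = z
  rw [← hz]
  refine Over.OverMorphism.ext ?_
  show (l ≫ V.left.isoSpec.hom) ≫ V.left.isoSpec.inv ≫ g.left = l ≫ g.left
  rw [Category.assoc, Iso.hom_inv_id_assoc]

instance : IsCofiltered (affFiber ξ).Elements :=
  IsCofiltered.of_exists_of_isCofiltered_of_fullyFaithful (affIncl ξ) (exists_affIncl ξ)

instance : (affIncl ξ).Initial :=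
  Functor.initial_of_exists_of_isCofiltered_of_fullyFaithful (affIncl ξ) (exists_affIncl ξ)

/-- A small category of affine neighbourhoods. -/
abbrev Idx : Type u := SmallModel.{u} (affFiber ξ).Elements

instance : IsCofiltered (Idx ξ) := IsCofiltered.of_equivalence (equivSmallModel.{u} (affFiber ξ).Elements)

/-- The inclusion of the small category. -/
noncomputable def incl : Idx ξ ⥤ (Scheme.pointSmallEtale ξ).fiber.Elements :=
  (equivSmallModel.{u} (affFiber ξ).Elements).inverse ⋙ affIncl ξ

instance : (incl ξ).Initial :=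
  inferInstanceAs ((equivSmallModel.{u} (affFiber ξ).Elements).inverse ⋙ affIncl ξ).Initial

/-- The neighbourhood of an index. -/
noncomputable abbrev nbhd (j : Idx ξ) : S.Etale := ((incl ξ).obj j).1

/-- Its point. -/
noncomputable abbrev nbhdPt (j : Idx ξ) : (Scheme.pointSmallEtale ξ).fiber.obj (nbhd ξ j) :=
  ((incl ξ).obj j).2

instance isAffine_nbhd (j : Idx ξ) : IsAffine (nbhd ξ j).left :=
  inferInstanceAs (IsAffine (Spec ((equivSmallModel.{u} (affFiber ξ).Elements).inverse.obj j).1.left.unop))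

/-- The neighbourhoods as a diagram. -/
noncomputable abbrev nbhdFun : Idx ξ ⥤ S.Etale := incl ξ ⋙ CategoryOfElements.π _

/-- Their schemes. -/
noncomputable abbrev diag : Idx ξ ⥤ Scheme.{u} :=
  nbhdFun ξ ⋙ Scheme.Etale.forget S ⋙ Over.forget S

theorem leg_nat {i j : Idx ξ} (a : i ⟶ j) :
    leg ξ (nbhd ξ i) (nbhdPt ξ i) ≫ (((incl ξ).map a).1 : nbhd ξ i ⟶ nbhd ξ j).left =
      leg ξ (nbhd ξ j) (nbhdPt ξ j) := by
  refine (leg_map ξ (U := nbhd ξ j) (V := nbhd ξ i) _ _).trans ?_
  exact congrArg (fun z => leg ξ (nbhd ξ j) z) ((incl ξ).map a).2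

/-- The cone of the strict localisation. -/
@[simps]
noncomputable def cone : Cone (diag ξ) where
  pt := Spec (EtBase.etaleLocalRing ξ)
  π :=
    { app := fun j => leg ξ (nbhd ξ j) (nbhdPt ξ j)
      naturality := fun i j a => (Category.id_comp _).trans (leg_nat ξ a).symm }

/-- The functions on the neighbourhoods. -/
noncomputable abbrev rings : (Idx ξ)ᵒᵖ ⥤ CommRingCat.{u} :=
  (incl ξ).op ⋙ (CategoryOfElements.π _).op ⋙ EtBase.OO S

/-- Their colimit cocone. -/
noncomputable def ringCocone : Cocone (rings ξ) :=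
  ((Scheme.pointSmallEtale ξ).presheafFiberCocone (EtBase.OO S)).whisker (incl ξ).op

/-- It is a colimit. -/
noncomputable def isColimitRingCocone : IsColimit (ringCocone ξ) :=
  (Functor.Final.isColimitWhiskerEquiv (incl ξ).op _).symm
    ((Scheme.pointSmallEtale ξ).isColimitPresheafFiberCocone (EtBase.OO S))

/-- The spectra of the rings of functions are the neighbourhoods. -/
noncomputable def specIso : (rings ξ).rightOp ⋙ Scheme.Spec ≅ diag ξ :=
  NatIso.ofComponents (fun j => (nbhd ξ j).left.isoSpec.symm) fun {i j} a => by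
    show Spec.map ((((incl ξ).map a).1 : nbhd ξ i ⟶ nbhd ξ j).left.appTop) ≫ (nbhd ξ j).left.isoSpec.inv =
      (nbhd ξ i).left.isoSpec.inv ≫ (((incl ξ).map a).1 : nbhd ξ i ⟶ nbhd ξ j).left
    exact Scheme.isoSpec_inv_naturality _

/-- The strict localisation is the limit of the affine neighbourhoods. -/
noncomputable def isLimitCone : IsLimit (cone ξ) := by
  refine IsLimit.ofIsoLimit ((IsLimit.postcomposeHomEquiv (specIso ξ) _).symm
    (isLimitOfPreserves Scheme.Spec (isLimitConeRightOpOfCocone _ (isColimitRingCocone ξ))))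
    (Cone.ext (Iso.refl _) fun j => ?_)
  show Spec.map (funGerm ξ (nbhd ξ j) (nbhdPt ξ j)) ≫ (nbhd ξ j).left.isoSpec.inv = 𝟙 _ ≫ leg ξ _ _
  rw [Category.id_comp, ← IsAffineOpen.fromSpec_top]
  rfl

section StrictHens

variable (R : Type u) [CommRing R] [IsLocalRing R]

/-- Any strict henselization at the image gives the same scheme over the base. -/
theorem exists_iso_specOf (x : S) (hx : imagePt ξ = x) [Algebra (S.presheaf.stalk x) R]
    [IsLocalHom (algebraMap (S.presheaf.stalk x) R)] [Hensel.IsStrictHenselization (S.presheaf.stalk x) R] :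
    ∃ e : Spec (CommRingCat.of R) ≅ Spec (EtBase.etaleLocalRing ξ),
      e.hom ≫ Spec.map (stalkHom ξ) ≫ S.fromSpecStalk (imagePt ξ) = Hens2.specOf S x R := by
  subst hx
  haveI := isStrictHenselization ξ
  obtain ⟨e⟩ := H9Hens.strictHenselization_algEquiv (R := ↥(S.presheaf.stalk (imagePt ξ)))
    ↥(EtBase.etaleLocalRing ξ) R
  refine ⟨Scheme.Spec.mapIso (e.toRingEquiv.toCommRingCatIso.op), ?_⟩
  show Spec.map (CommRingCat.ofHom e.toRingEquiv.toRingHom) ≫ Spec.map (stalkHom ξ) ≫ _ = _
  rw [← Category.assoc, ← Spec.map_comp]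
  refine congrArg (fun k => Spec.map k ≫ S.fromSpecStalk (imagePt ξ)) ?_
  ext a
  exact e.commutes a

end StrictHens

theorem imagePt_geomPt (s : S) (R : Type u) [CommRing R] [IsLocalRing R] [Algebra (S.presheaf.stalk s) R]
    [IsLocalHom (algebraMap (S.presheaf.stalk s) R)] :
    imagePt (Hens2.geomPt S s R) = s := by
  show S.fromSpecStalk s ((Spec.map (CommRingCat.ofHom (algebraMap (S.presheaf.stalk s) R)))
    ((Spec.map (CommRingCat.ofHom (IsLocalRing.residue R))) default)) = s
  have h1 : (Spec.map (CommRingCat.ofHom (IsLocalRing.residue R))) default = IsLocalRing.closedPoint R := by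
    haveI : IsLocalHom (CommRingCat.ofHom (IsLocalRing.residue R)).hom :=
      inferInstanceAs (IsLocalHom (IsLocalRing.residue R))
    rw [Subsingleton.elim (α := ↥(Spec (CommRingCat.of (IsLocalRing.ResidueField R)))) default
      (IsLocalRing.closedPoint (IsLocalRing.ResidueField R))]
    exact Spec_closedPoint
  haveI : IsLocalHom (CommRingCat.ofHom (algebraMap (S.presheaf.stalk s) R)).hom := ‹_›
  rw [h1, Spec_closedPoint]
  exact Scheme.fromSpecStalk_closedPoint

end Groth.Agent.H1DFun
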