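import Groth.Agent.H1DFun.CurveVan
import Groth.Agent.H1DFun.StrictLoc
import Groth.Agent.H1DFun.Datum
import Groth.Agent.H1DFun.LimPb
import Groth.Agent.H18PBC.SubalgSystem
import Groth.Agent.H18PBC.FieldExt
import Groth.Agent.H7Lim.GeomConnFinite
import Mathlib.FieldTheory.PurelyInseparable.Basic

/-!
# Invariance of vanishing under extensions of separably closed fields
-/

set_option autoImplicit false
set_option linter.style.haveILetI false
set_option backward.isDefEq.respectTransparency false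
set_option backward.isDefEq.respectTransparency.types false

universe u

open CategoryTheory CategoryTheory.Limits AlgebraicGeometry Opposite Abelian
open Groth.Agent.H18Et Groth.Agent.H1Lim Groth.Agent.H12AlgSp.EtStrictHens
open scoped Groth.Agent.H18Et Groth.Agent.H18Et.CohColim

namespace Groth.Agent.H1DFun

attribute [local instance] Groth.Agent.H18Et.pull_preservesFiniteLimits

variable {X S : Scheme.{u}} {f : X ⟶ S} (hf : IsCurveLike f) (F : EtCoh.Ab X) (hF : EtCoh.IsTorsion F) (q : ℕ)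

/-- Maps of base changes compose. -/
theorem pbMap_comp {T₀ T₁ T₂ : Scheme.{u}} {t₀ : T₀ ⟶ S} {t₁ : T₁ ⟶ S} {t₂ : T₂ ⟶ S} (n : T₂ ⟶ T₁) (m : T₁ ⟶ T₀)
    (wn : n ≫ t₁ = t₂) (wm : m ≫ t₀ = t₁) (k : T₂ ⟶ T₀) (hk : n ≫ m = k) (wk : k ≫ t₀ = t₂) :
    pbMap f n wn ≫ pbMap f m wm = pbMap f k wk := by
  refine pullback.hom_ext ?_ ?_
  · rw [Category.assoc, pbMap_fst, pbMap_fst, pbMap_fst]
  · rw [Category.assoc, pullback.lift_snd, pullback.lift_snd_assoc, pullback.lift_snd, Category.assoc, hk]

include hf hF in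
/-- Vanishing over a strictly henselian base is vanishing over its closed point. -/
theorem van_closed_iff (A : Type u) [CommRing A] [HenselianLocalRing A]
    [IsSepClosed (IsLocalRing.ResidueField A)] (t : Spec (CommRingCat.of A) ⟶ S) :
    Van f F q (closedIncl A ≫ t) ↔ Van f F q t := by
  haveI := hf.proper
  let p := pullback.snd f t
  let i := pullback.fst p (closedIncl A)
  have sq : IsPullback i (pullback.snd p (closedIncl A)) p (closedIncl A) := IsPullback.of_hasPullback _ _
  have sq' : IsPullback (i ≫ pullback.fst f t) (pullback.snd p (closedIncl A)) f (closedIncl A ≫ t) :=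
    sq.paste_horiz (IsPullback.of_hasPullback f t)
  obtain ⟨L, hL⟩ := hf.ample A t
  have hdim : topologicalKrullDim ↥(pullback p (closedIncl A)) ≤ 1 := by
    letI : Field (A ⧸ IsLocalRing.maximalIdeal A) := Ideal.Quotient.field _
    refine le_of_eq_of_le ?_ (hf.dim _ (closedIncl A ≫ t))
    exact IsHomeomorph.topologicalKrullDim_eq _ (Scheme.homeoOfIso sq'.isoPullback).isHomeomorph
  have hb := bijective_cR_of_hpull F q (a := pullback.fst f t) i rfl
    (bijective_hpull_closed p i _ sq hL hdim _ (H18Et.Coh.isTorsion_pull _ _ hF) q)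
  rw [van_iff_of_isPullback f F q sq']
  exact (Equiv.ofBijective _ hb).subsingleton_congr.symm

/-- The map from the spectrum of the etale local ring to the scheme. -/
noncomputable abbrev strictBase {T : Scheme.{u}} {Ω : Type u} [Field Ω] [IsSepClosed Ω]
    (η : Spec (CommRingCat.of Ω) ⟶ T) : Spec (EtBase.etaleLocalRing η) ⟶ T :=
  Spec.map (stalkHom η) ≫ T.fromSpecStalk (imagePt η)

instance henselianLocalRing_etaleLocalRing {T : Scheme.{u}} {Ω : Type u} [Field Ω] [IsSepClosed Ω]
    (η : Spec (CommRingCat.of Ω) ⟶ T) : HenselianLocalRing ↥(EtBase.etaleLocalRing η) :=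
  (isStrictlyHenselian_etaleLocalRing η).choose

theorem isSepClosed_residueField {T : Scheme.{u}} {Ω : Type u} [Field Ω] [IsSepClosed Ω]
    (η : Spec (CommRingCat.of Ω) ⟶ T) : IsSepClosed (IsLocalRing.ResidueField ↥(EtBase.etaleLocalRing η)) :=
  (isStrictlyHenselian_etaleLocalRing η).choose_spec

include hf hF in
/-- Vanishing at a geometric point with surjective value map gives it on the strict localisation. -/
theorem van_strictBase {T : Scheme.{u}} {Ω : Type u} [Field Ω] [IsSepClosed Ω]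
    (η : Spec (CommRingCat.of Ω) ⟶ T) (t : T ⟶ S) (hs : Function.Surjective (valueHom η).hom)
    (h : Van f F q (η ≫ t)) : Van f F q (strictBase η ≫ t) := by
  let A := ↥(EtBase.etaleLocalRing η)
  haveI := isSepClosed_residueField η
  letI : Field (A ⧸ IsLocalRing.maximalIdeal A) := Ideal.Quotient.field _
  let r : (A ⧸ IsLocalRing.maximalIdeal A) →+* Ω := IsLocalRing.ResidueField.lift (valueHom η).hom
  have hr : Function.Bijective r := ⟨r.injective, fun x => by
    obtain ⟨a, ha⟩ := hs x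
    exact ⟨Ideal.Quotient.mk _ a, ha⟩⟩
  haveI : IsIso (CommRingCat.ofHom r) := (ConcreteCategory.isIso_iff_bijective _).2 hr
  let m : Spec (CommRingCat.of Ω) ⟶ Spec (CommRingCat.of (A ⧸ IsLocalRing.maximalIdeal A)) :=
    Spec.map (CommRingCat.ofHom r)
  have hm : m ≫ closedIncl A ≫ strictBase η ≫ t = η ≫ t := by
    have : m ≫ closedIncl A = Spec.map (valueHom η) := (Spec.map_comp _ _).symm
    rw [← Category.assoc, this, ← Category.assoc, valueHom_fac]
  exact (van_closed_iff hf F hF q A _).1 ((van_iff_of_uhomeo f F q m hm).2 h)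

section Sys

variable {I : Type u} [SmallCategory I] [IsCofiltered I] (T : I ⥤ Scheme.{u})
  [∀ ⦃a b : I⦄ (m : a ⟶ b), IsAffineHom (T.map m)] [∀ i, CompactSpace (T.obj i)]
  [∀ i, QuasiSeparatedSpace (T.obj i)] (c : Cone T) (hc : IsLimit c) (τ : ∀ i, T.obj i ⟶ S)
  (hτ : ∀ {i k : I} (m : k ⟶ i), T.map m ≫ τ i = τ k) (τ' : c.pt ⟶ S) (hτ' : ∀ i, c.π.app i ≫ τ i = τ')

include hc hτ in
/-- Classes on the base change to a limit come from the stages, and die at stages. -/
theorem cR_pb_lim [QuasiCompact f] [QuasiSeparated f] :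
    (∀ x : CL F q (pullback.fst f τ'), ∃ (k : I) (y : CL F q (pullback.fst f (τ k))),
        cR F q (pbMap f (c.π.app k) (hτ' k)) (pbMap_fst f _ _) y = x) ∧
      ∀ (i : I) (y : CL F q (pullback.fst f (τ i))),
        cR F q (pbMap f (c.π.app i) (hτ' i)) (pbMap_fst f _ _) y = 0 →
          ∃ (k : I) (m : k ⟶ i), cR F q (pbMap f (T.map m) (hτ m)) (pbMap_fst f _ _) y = 0 := by
  let D : I ⥤ Scheme.{u} :=
    { obj := fun k => pullback f (τ k)
      map := fun {k l} m => pbMap f (T.map m) (hτ m)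
      map_id := fun k => by
        refine pullback.hom_ext ((pbMap_fst f _ _).trans (Category.id_comp _).symm) ?_
        rw [pullback.lift_snd, Category.id_comp, T.map_id, Category.comp_id]
      map_comp := fun m n => (pbMap_comp (T.map m) (T.map n) _ _ _ (T.map_comp m n).symm _).symm }
  haveI : ∀ ⦃a b : I⦄ (m : a ⟶ b), IsAffineHom (D.map m) := fun a b m =>
    MorphismProperty.of_isPullback (isPullback_pbMap f (T.map m) (hτ m)).flip inferInstance
  haveI : ∀ k, CompactSpace (D.obj k) := fun k => QuasiCompact.compactSpace_of_compactSpace (pullback.snd f (τ k))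
  haveI : ∀ k, QuasiSeparatedSpace (D.obj k) := fun k =>
    quasiSeparatedSpace_of_quasiSeparated (pullback.snd f (τ k))
  let cD : Cone D :=
    { pt := pullback f τ'
      π :=
        { app := fun k => pbMap f (c.π.app k) (hτ' k)
          naturality := fun k l m => (Category.id_comp _).trans (by
            show pbMap f (c.π.app l) (hτ' l) = pbMap f (c.π.app k) (hτ' k) ≫ pbMap f (T.map m) (hτ m)
            exact (pbMap_comp _ _ _ _ _ (c.w m) _).symm) } }
  let pT : D ⟶ T :=
    { app := fun k => pullback.snd f (τ k), naturality := fun k l m => pullback.lift_snd _ _ _ }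
  obtain ⟨hD⟩ := isLimit_of_pullbacks c hc pT cD (pullback.snd f τ') (fun k => pullback.lift_snd _ _ _) f
    (fun k => pullback.fst f (τ k)) (fun m => pbMap_fst f _ (hτ m)) τ
    (fun k => IsPullback.of_hasPullback f (τ k)) (pullback.fst f τ') (fun k => pbMap_fst f _ (hτ' k)) τ' hτ'
    (IsPullback.of_hasPullback f τ')
  exact cR_lim D cD hD F (fun k => pullback.fst f (τ k)) (fun {k l} m => pbMap_fst f _ (hτ m))
    (pullback.fst f τ') (fun k => pbMap_fst f _ (hτ' k)) q

end Sys

include hf hF in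
/-- A class vanishing at a geometric point dies on an affine etale neighbourhood. -/
theorem exists_nbhd_cR_eq_zero {T : Scheme.{u}} {Ω : Type u} [Field Ω] [IsSepClosed Ω]
    (η : Spec (CommRingCat.of Ω) ⟶ T) (t : T ⟶ S) (hs : Function.Surjective (valueHom η).hom)
    (h : Van f F q (η ≫ t)) (y : CL F q (pullback.fst f t)) :
    ∃ j : Idx η, cR F q (pbMap f (nbhd η j).hom rfl) (pbMap_fst f _ _) y = 0 := by
  haveI := hf.proper
  let τ : ∀ j : Idx η, (diag η).obj j ⟶ S := fun j => (nbhd η j).hom ≫ t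
  have hτ : ∀ {i k : Idx η} (m : k ⟶ i), (diag η).map m ≫ τ i = τ k := fun {i k} m =>
    (Category.assoc _ _ _).symm.trans
      (congrArg (· ≫ t) (MorphismProperty.Over.w (((incl η).map m).1 : nbhd η k ⟶ nbhd η i)))
  have hτ' : ∀ j, (cone η).π.app j ≫ τ j = strictBase η ≫ t := fun j =>
    (Category.assoc _ _ _).symm.trans (congrArg (· ≫ t) (leg_hom η (nbhd η j) (nbhdPt η j)))
  haveI : ∀ ⦃a b : Idx η⦄ (m : a ⟶ b), IsAffineHom ((diag η).map m) := fun a b m =>
    haveI : IsAffine ((diag η).obj a) := inferInstanceAs (IsAffine (nbhd η a).left)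
    haveI : IsAffine ((diag η).obj b) := inferInstanceAs (IsAffine (nbhd η b).left)
    inferInstance
  haveI : ∀ j, CompactSpace ((diag η).obj j) := fun j => inferInstanceAs (CompactSpace (nbhd η j).left)
  haveI : ∀ j, QuasiSeparatedSpace ((diag η).obj j) := fun j => inferInstanceAs (QuasiSeparatedSpace (nbhd η j).left)
  obtain ⟨i⟩ := (IsCofiltered.nonempty : Nonempty (Idx η))
  let y₁ := cR F q (a' := pullback.fst f (τ i)) (pbMap f (nbhd η i).hom rfl) (pbMap_fst f _ _) y
  haveI := van_strictBase hf F hF q η t hs h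
  obtain ⟨k, m, hm⟩ := (cR_pb_lim F q (diag η) (cone η) (isLimitCone η) τ hτ _ hτ').2 i y₁
    (Subsingleton.elim (α := CL F q (pullback.fst f (strictBase η ≫ t))) _ _)
  exact ⟨k, (cR_cR _ _ _ (pbMap_fst f _ (hτ m)) _
    (pbMap_comp _ _ (hτ m) rfl _ (MorphismProperty.Over.w (((incl η).map m).1 : nbhd η k ⟶ nbhd η i)) rfl) y).symm.trans hm⟩

set_option maxHeartbeats 1000000 in
include hf hF in
/-- Vanishing is inherited by extensions of separably closed fields. -/
theorem van_of_sepClosed {K L : Type u} [Field K] [IsSepClosed K] [Field L] [IsSepClosed L] [Algebra K L]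
    (t : Spec (CommRingCat.of K) ⟶ S) (h : Van f F q t) :
    Van f F q (Spec.map (CommRingCat.ofHom (algebraMap K L)) ≫ t) := by
  classical
  haveI := hf.proper
  let T := H18PBC.SubalgSystem.specSystem K L
  let c := H18PBC.SubalgSystem.specCone K L
  let τ : ∀ s, T.obj s ⟶ S := fun s =>
    Spec.map (CommRingCat.ofHom (algebraMap K ↥(Algebra.adjoin K ((s.unop : Finset L) : Set L)))) ≫ t
  have hτ : ∀ {i k : (Finset L)ᵒᵖ} (m : k ⟶ i), T.map m ≫ τ i = τ k := fun {i k} m => by
    refine (Category.assoc _ _ _).symm.trans (congrArg (· ≫ t) ((Spec.map_comp _ _).symm.trans ?_))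
    rfl
  have hτ' : ∀ s, c.π.app s ≫ τ s = Spec.map (CommRingCat.ofHom (algebraMap K L)) ≫ t := fun s => by
    refine (Category.assoc _ _ _).symm.trans (congrArg (· ≫ t) ((Spec.map_comp _ _).symm.trans ?_))
    rfl
  haveI : ∀ s, CompactSpace (T.obj s) := fun s =>
    inferInstanceAs (CompactSpace ↥(Spec ((H18PBC.SubalgSystem.subalgFunctor K L).obj s.unop)))
  haveI : ∀ s, QuasiSeparatedSpace (T.obj s) := fun s =>
    inferInstanceAs (QuasiSeparatedSpace ↥(Spec ((H18PBC.SubalgSystem.subalgFunctor K L).obj s.unop)))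
  haveI : ∀ ⦃a b : (Finset L)ᵒᵖ⦄ (m : a ⟶ b), IsAffineHom (T.map m) := fun a b m =>
    inferInstanceAs (IsAffineHom (Spec.map _))
  refine subsingleton_of_forall_eq 0 fun x => ?_
  obtain ⟨s, y, rfl⟩ := (cR_pb_lim F q T c (H18PBC.SubalgSystem.isLimitSpecCone K L) τ hτ _ hτ').1 x
  let R := ↥(Algebra.adjoin K ((s.unop : Finset L) : Set L))
  haveI : Algebra.FiniteType K R :=
    (Algebra.adjoin K ((s.unop : Finset L) : Set L)).fg_iff_finiteType.1 ⟨s.unop, rfl⟩
  obtain ⟨J, hJ⟩ := Ideal.exists_maximal R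
  letI := Ideal.Quotient.field J
  haveI : Algebra.FiniteType K (R ⧸ J) := Algebra.FiniteType.of_surjective (Ideal.Quotient.mkₐ K J)
    Ideal.Quotient.mk_surjective
  haveI : Module.Finite K (R ⧸ J) := finite_of_finite_type_of_isJacobsonRing K (R ⧸ J)
  haveI : Algebra.IsAlgebraic K (R ⧸ J) := Algebra.IsAlgebraic.of_finite K _
  haveI : IsSepClosed (R ⧸ J) := Algebra.IsAlgebraic.isSepClosed (F := K)
  haveI : IsPurelyInseparable K (R ⧸ J) := inferInstance
  let η : Spec (CommRingCat.of (R ⧸ J)) ⟶ T.obj s := Spec.map (CommRingCat.ofHom (Ideal.Quotient.mk J))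
  let k₀ := Spec.map (CommRingCat.ofHom (algebraMap K (R ⧸ J)))
  haveI : IsIntegralHom k₀ :=
    IsIntegralHom.SpecMap_iff.mpr (RingHom.Finite.to_isIntegral (RingHom.finite_algebraMap.mpr inferInstance))
  haveI := H7Lim.GeomConnFinite.universallyInjective_SpecMap K (R ⧸ J)
  haveI : Surjective k₀ := H18PBC.surjective_fieldExt (algebraMap K (R ⧸ J))
  have hη : k₀ ≫ t = η ≫ τ s := by
    refine (congrArg (· ≫ t) ?_).trans (Category.assoc _ _ _)
    refine Eq.trans ?_ (Spec.map_comp (CommRingCat.ofHom (algebraMap K R)) (CommRingCat.ofHom (Ideal.Quotient.mk J)))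
    rfl
  have hs : Function.Surjective (valueHom η).hom := fun z => by
    obtain ⟨r, rfl⟩ := Ideal.Quotient.mk_surjective z
    have e := valueHom_fac η
    obtain ⟨φ, hφ⟩ := Spec.map_surjective (strictBase η)
    refine ⟨φ.hom r, ?_⟩
    have e2 : φ ≫ valueHom η = CommRingCat.ofHom (Ideal.Quotient.mk J) :=
      Spec.map_injective ((Spec.map_comp _ _).trans ((congrArg (_ ≫ ·) hφ).trans e))
    exact ConcreteCategory.congr_hom e2 r
  have hvan : Van f F q (η ≫ τ s) := (van_iff_of_uhomeo f F q k₀ hη).1 h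
  obtain ⟨j, hj⟩ := exists_nbhd_cR_eq_zero hf F hF q η (τ s) hs hvan y
  let U := nbhd η j
  haveI : Etale U.hom := U.prop
  have hne : Nonempty ↥U.left := ⟨ptOf (nbhdPt η j)⟩
  have hopen : IsOpen (Set.range U.hom.base) := U.hom.isOpenMap.isOpen_range
  let γ : PrimeSpectrum R := ⟨⊥, Ideal.isPrime_bot⟩
  obtain ⟨u₀, hu₀⟩ : γ ∈ Set.range U.hom.base := by
    obtain ⟨u⟩ := hne
    exact (PrimeSpectrum.le_iff_specializes γ (U.hom.base u)).1 (OrderBot.bot_le _) |>.mem_open hopen ⟨u, rfl⟩
  let δ : PrimeSpectrum L := default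
  have hgen : (Spec.map (CommRingCat.ofHom (Algebra.adjoin K ((s.unop : Finset L) : Set L)).val.toRingHom)).base δ = γ := by
    refine PrimeSpectrum.ext (le_bot_iff.1 fun a ha => ?_)
    have h0 : (Algebra.adjoin K ((s.unop : Finset L) : Set L)).val a ∈ δ.asIdeal := ha
    rw [Ideal.eq_bot_of_prime δ.asIdeal, Ideal.mem_bot] at h0
    exact Ideal.mem_bot.2 (Subtype.ext h0)
  obtain ⟨l, hl, -⟩ := Scheme.exists_fac_of_etale_of_isSepClosed U.hom
    (Spec.map (CommRingCat.ofHom (Algebra.adjoin K ((s.unop : Finset L) : Set L)).val.toRingHom)) u₀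
    (hu₀.trans (hgen.symm.trans (congrArg _ (Subsingleton.elim (α := PrimeSpectrum L) δ _))))
  refine (cR_congr _ _ (f₁ := pbMap f l (show l ≫ U.hom ≫ τ s = _ from (Category.assoc _ _ _).symm.trans ((congrArg (· ≫ τ s) hl).trans (hτ' s))) ≫
    pbMap f U.hom rfl) ?_ y).trans ?_
  · exact (pbMap_comp _ _ _ _ _ hl _).symm
  · exact cR_eq_zero_of_factor F q (pbMap f U.hom rfl) (pbMap_fst f _ _) _ (pbMap_fst f _ _) _ _ rfl y hj

end Groth.Agent.H1DFun
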