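import Groth.Prelude.Def_FEt
import Mathlib.CategoryTheory.MorphismProperty.OverAdjunction

/-!
# Restriction of finite etale covers along isomorphic maps
-/

set_option autoImplicit false
set_option backward.isDefEq.respectTransparency false
set_option backward.isDefEq.respectTransparency.types false

universe u

open CategoryTheory CategoryTheory.Limits AlgebraicGeometry

namespace Groth.Agent.H1DFun

/-- Essential surjectivity of the restriction is invariant under isomorphisms of the source. -/
theorem essSurj_restrict_of_iso {Y P Z : Scheme.{u}} (j : P ⟶ Y) (i : Z ⟶ Y) (e : Z ≅ P) (he : e.hom ≫ j = i)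
    [(FEt.restrict j).EssSurj] : (FEt.restrict i).EssSurj := by
  subst he
  refine ⟨fun T => ?_⟩
  let T' : FEt.Cat P := MorphismProperty.Over.mk ⊤ (T.hom ≫ e.hom)
    ((MorphismProperty.cancel_right_of_respectsIso FEt.prop.{u} T.hom e.hom).2 T.prop)
  obtain ⟨W, ⟨φ⟩⟩ := Functor.EssSurj.mem_essImage (F := FEt.restrict j) T'
  refine ⟨W, ⟨(MorphismProperty.Over.pullbackComp (P := FEt.prop.{u}) (Q := ⊤) e.hom j).app W ≪≫
    (FEt.restrict e.hom).mapIso φ ≪≫ ?_⟩⟩
  have sq : IsPullback (pullback.fst T'.hom e.hom) (pullback.snd T'.hom e.hom) T'.hom e.hom :=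
    IsPullback.of_hasPullback _ _
  have sq' : IsPullback (𝟙 T.left) T.hom T'.hom e.hom :=
    IsPullback.of_horiz_isIso ⟨Category.id_comp _⟩
  exact MorphismProperty.Over.isoMk (sq.isoIsPullback _ _ sq') (sq.isoIsPullback_hom_snd _ _ sq')

end Groth.Agent.H1DFun
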