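import Mathlib.RingTheory.Henselian
import Mathlib.RingTheory.Polynomial.Cyclotomic.Roots
import Mathlib.FieldTheory.IsSepClosed
import Mathlib.RingTheory.LocalRing.ResidueField.Basic

/-!
# Roots of unity in strictly henselian local rings
-/

set_option autoImplicit false

universe u

open Polynomial IsLocalRing

namespace Groth.Agent.H1DFun

/-- Strictly henselian local rings contain the roots of unity of invertible order. -/
theorem exists_cyclotomic_root (A : Type u) [CommRing A] [HenselianLocalRing A] [IsSepClosed (ResidueField A)]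
    {n : ℕ} (hn : 0 < n) (hu : IsUnit (n : A)) :
    ∃ z : Aˣ, aeval (z : A) (cyclotomic n ℤ) = 0 := by
  haveI : NeZero (n : ResidueField A) := ⟨by
    rw [← map_natCast (residue A) n]
    exact (hu.map (residue A)).ne_zero⟩
  obtain ⟨a₀, ha₀⟩ := IsSepClosed.exists_root (cyclotomic n (ResidueField A))
    (degree_cyclotomic_pos n _ hn).ne' (separable_cyclotomic n _)
  obtain ⟨a₁, rfl⟩ := residue_surjective a₀
  have h0 : (cyclotomic n A).eval a₁ ∈ maximalIdeal A := by
    rw [← residue_eq_zero_iff, ← eval₂_hom, ← eval_map, map_cyclotomic]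
    exact ha₀
  have h1 : IsUnit ((cyclotomic n A).derivative.eval a₁) := by
    rw [← residue_ne_zero_iff_isUnit, ← eval₂_hom, ← eval_map, ← derivative_map, map_cyclotomic]
    exact (separable_cyclotomic n (ResidueField A)).eval₂_derivative_ne_zero (RingHom.id _) (by simpa using ha₀)
  obtain ⟨a, ha, -⟩ := HenselianLocalRing.is_henselian _ (cyclotomic.monic n A) a₁ h0 h1
  have hpow : a ^ n = 1 := by
    have hd : cyclotomic n A ∣ X ^ n - 1 := cyclotomic.dvd_X_pow_sub_one n A
    have := eval_dvd (x := a) hd
    rw [ha.eq_zero, zero_dvd_iff] at this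
    simpa [sub_eq_zero] using this
  refine ⟨(IsUnit.of_pow_eq_one hpow hn.ne').unit, ?_⟩
  rw [IsUnit.unit_spec, aeval_def, ← eval_map, map_cyclotomic]
  exact ha

end Groth.Agent.H1DFun
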