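import Groth.Agent.H1DFun.KillH1
import Groth.Agent.H1DFun.GmLiftKummer
import Groth.Agent.H1DFun.CurveFacts
import Groth.Agent.H1DFun.CharPTwo
import Groth.Agent.H1DFun.RootsUnity
import Groth.Agent.H1DFun.FEtIso
import Groth.Agent.H1DFun.TorsionAcyclic
import Groth.Agent.H11Ample.AmpleOn
import Groth.Agent.H12AlgSp.LqfDim
import Groth.Agent.S0241

/-!
# Effacement on the closed fibre of a proper curve over a strictly henselian local ring
-/

set_option autoImplicit false
set_option linter.style.haveILetI false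
set_option backward.isDefEq.respectTransparency false
set_option backward.isDefEq.respectTransparency.types false

universe u

open CategoryTheory CategoryTheory.Limits AlgebraicGeometry Opposite Abelian Polynomial
open Groth.Agent.H18Et Groth.Agent.H1Lim
open scoped Groth.Agent.H18Et Groth.Agent.H18Et.CohColim DirectSum

namespace Groth.Agent.H1DFun

attribute [local instance] Groth.Agent.H18Et.pull_preservesFiniteLimits

/-- A finite abelian group splits the identity through cyclic groups of prime power order. -/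
theorem exists_cyclic_splitting (M : Type) [AddCommGroup M] [Finite M] :
    ∃ (ι : Type) (_ : Fintype ι) (ℓ e : ι → ℕ) (_ : ∀ j, (ℓ j).Prime)
      (m : ∀ j, M →+ ZMod (ℓ j ^ e j)) (n : ∀ j, ZMod (ℓ j ^ e j) →+ M),
      ∀ x, ∑ j, n j (m j x) = x := by
  classical
  obtain ⟨ι, hι, ℓ, hℓ, e, ⟨E⟩⟩ := AddCommGroup.equiv_directSum_zmod_of_finite M
  refine ⟨ι, hι, ℓ, e, hℓ, fun j => (DFinsupp.evalAddMonoidHom j).comp E.toAddMonoidHom,
    fun j => E.symm.toAddMonoidHom.comp (DirectSum.of (fun j => ZMod (ℓ j ^ e j)) j), fun x => ?_⟩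
  show ∑ j, E.symm (DirectSum.of (fun j => ZMod (ℓ j ^ e j)) j ((E x) j)) = x
  rw [← map_sum, DirectSum.sum_univ_of, AddEquiv.symm_apply_apply]

/-- A homomorphism of groups on constant sheaves. -/
noncomputable abbrev constMap (Y : Scheme.{u}) {M N : Type} [AddCommGroup M] [AddCommGroup N] (m : M →+ N) :
    EtCoh.const Y M ⟶ EtCoh.const Y N :=
  (constantSheaf Y.smallEtaleTopology AddCommGrpCat.{u + 1}).map
    (AddCommGrpCat.ofHom ((AddEquiv.ulift.symm.toAddMonoidHom.comp m).comp AddEquiv.ulift.toAddMonoidHom))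

theorem additive_constantSheaf (Y : Scheme.{u}) :
    (constantSheaf Y.smallEtaleTopology AddCommGrpCat.{u + 1}).Additive :=
  haveI : PreservesFiniteLimits (constantSheaf Y.smallEtaleTopology AddCommGrpCat.{u + 1}) :=
    inferInstanceAs (PreservesFiniteLimits (Functor.const Y.Etaleᵒᵖ ⋙ presheafToSheaf _ _))
  Functor.additive_of_preserves_binary_products _

/-- Lifting in the cyclic case gives lifting for all finite groups. -/
theorem exists_hpull_of_cyclic {Y Z : Scheme.{u}} (i : Z ⟶ Y) (q : ℕ) (M : Type) [AddCommGroup M] [Finite M]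
    (h : ∀ (ℓ e : ℕ), ℓ.Prime → ∀ ξ : Sheaf.H ((EtCoh.pull i).obj (EtCoh.const Y (ZMod (ℓ ^ e)))) q,
      ∃ y, hpull i (EtCoh.const Y (ZMod (ℓ ^ e))) q y = ξ)
    (ξ : Sheaf.H ((EtCoh.pull i).obj (EtCoh.const Y M)) q) :
    ∃ y, hpull i (EtCoh.const Y M) q y = ξ := by
  classical
  obtain ⟨ι, hι, ℓ, e, hℓ, m, n, hmn⟩ := exists_cyclic_splitting M
  haveI := additive_constantSheaf Y
  choose y hy using fun j => h (ℓ j) (e j) (hℓ j) (Sheaf.H.map ((EtCoh.pull i).map (constMap Y (m j))) q ξ)
  refine ⟨∑ j, Sheaf.H.map (constMap Y (n j)) q (y j), ?_⟩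
  rw [map_sum]
  have hid : ∑ j, (EtCoh.pull i).map (constMap Y (m j) ≫ constMap Y (n j)) = 𝟙 _ := by
    rw [← Functor.map_sum]
    refine Eq.trans (congrArg _ ?_) ((EtCoh.pull i).map_id _)
    simp only [← Functor.map_comp]
    rw [← Functor.map_sum, ← CategoryTheory.Functor.map_id]
    refine congrArg _ (AddCommGrpCat.hom_ext (AddMonoidHom.ext fun x => ULift.ext _ _ ?_))
    refine (congrArg (fun f : ULift.{u + 1} M →+ ULift.{u + 1} M => (f x).down) (map_sum
      (AddMonoidHom.mk' (fun f : AddCommGrpCat.of (ULift.{u + 1} M) ⟶ AddCommGrpCat.of (ULift.{u + 1} M) => f.hom)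
        fun _ _ => rfl) _ _)).trans ?_
    simp only [AddMonoidHom.finsetSum_apply]
    refine (map_sum (AddEquiv.ulift (α := M) : ULift.{u + 1} M ≃+ M) _ _).trans ?_
    exact hmn x.down
  conv_rhs => rw [← Ext.comp_mk₀_id ξ, ← hid, Ext.mk₀_sum, Ext.comp_sum]
  refine Finset.sum_congr rfl fun j _ => ?_
  rw [Hpull_map, hy, Functor.map_comp, ← Sheaf.H.map_apply]
  exact H_map_map _ _ q ξ

variable {A : Type u} [CommRing A] [HenselianLocalRing A] [IsSepClosed (IsLocalRing.ResidueField A)]

/-- The closed point of the spectrum. -/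
noncomputable abbrev closedIncl (A : Type u) [CommRing A] [IsLocalRing A] :
    Spec (CommRingCat.of (A ⧸ IsLocalRing.maximalIdeal A)) ⟶ Spec (CommRingCat.of A) :=
  Spec.map (CommRingCat.ofHom (Ideal.Quotient.mk (IsLocalRing.maximalIdeal A)))

theorem mem_range_closedIncl (A : Type u) [CommRing A] [IsLocalRing A] :
    Set.range (closedIncl A).base = {IsLocalRing.closedPoint A} := by
  haveI : (IsLocalRing.maximalIdeal A).IsMaximal := inferInstance
  haveI : Nonempty (Spec (CommRingCat.of (A ⧸ IsLocalRing.maximalIdeal A))) :=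
    inferInstanceAs (Nonempty (PrimeSpectrum (A ⧸ IsLocalRing.maximalIdeal A)))
  refine Set.eq_singleton_iff_nonempty_unique_mem.2 ⟨Set.range_nonempty _, ?_⟩
  rintro _ ⟨y, rfl⟩
  refine PrimeSpectrum.ext (((IsLocalRing.maximalIdeal.isMaximal A).eq_of_le
    ((closedIncl A).base y).2.ne_top fun a ha => ?_).symm)
  show Ideal.Quotient.mk (IsLocalRing.maximalIdeal A) a ∈ y.asIdeal
  rw [Ideal.Quotient.eq_zero_iff_mem.2 ha]
  exact Ideal.zero_mem _

variable {X X₀ : Scheme.{u}} (p : X ⟶ Spec (CommRingCat.of A)) [IsProper p] (i : X₀ ⟶ X)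
  (s : X₀ ⟶ Spec (CommRingCat.of (A ⧸ IsLocalRing.maximalIdeal A)))

/-- Effacement of constant sheaves on a proper curve over a strictly henselian local ring. -/
theorem killConst_of_curve (sq : IsPullback i s p (closedIncl A)) {LX : X.Modules} (hA : CohB1.IsAmple LX)
    (hdim : topologicalKrullDim X₀ ≤ 1) : KillConst i := by
  intro Y ν hν hνp M _ _ q hq ξ
  haveI := hν
  let κ := A ⧸ IsLocalRing.maximalIdeal A
  letI : Field κ := Ideal.Quotient.field _
  haveI : IsSepClosed κ := ‹IsSepClosed (IsLocalRing.ResidueField A)›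
  let i' := pullback.fst ν i
  let t : pullback ν i ⟶ Spec (CommRingCat.of κ) := pullback.snd ν i ≫ s
  have sq' : IsPullback i' t (ν ≫ p) (closedIncl A) :=
    ((IsPullback.of_hasPullback ν i).flip.paste_horiz sq.flip).flip
  haveI : IsClosedImmersion (closedIncl A) :=
    IsClosedImmersion.spec_of_surjective _ Ideal.Quotient.mk_surjective
  haveI : IsClosedImmersion i := MorphismProperty.of_isPullback sq.flip inferInstance
  haveI : IsProper s := MorphismProperty.of_isPullback sq inferInstance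
  haveI : IsFinite (pullback.snd ν i) := MorphismProperty.pullback_snd _ _ hν
  haveI : IsProper t := inferInstance
  haveI : IsLocallyNoetherian (pullback ν i) := LocallyOfFiniteType.isLocallyNoetherian t
  haveI : CompactSpace ↥(pullback ν i) := QuasiCompact.compactSpace_of_compactSpace t
  haveI : AlgebraicGeometry.IsNoetherian (pullback ν i) := {}
  haveI : CompactSpace Y := QuasiCompact.compactSpace_of_compactSpace (ν ≫ p)
  haveI : QuasiSeparatedSpace Y := quasiSeparatedSpace_of_quasiSeparated (ν ≫ p)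
  have hdimZ : topologicalKrullDim ↥(pullback ν i) ≤ 1 :=
    (H12AlgSp.topologicalKrullDim_le_of_lqf (pullback.snd ν i)).trans hdim
  have hfib : ∀ y : Y, (ν ≫ p).base y = IsLocalRing.closedPoint A → y ∈ Set.range i'.base := fun y hy => by
    have : y ∈ (ν ≫ p).base ⁻¹' Set.range (closedIncl A).base := by
      rw [mem_range_closedIncl]; exact hy
    rw [← Scheme.Pullback.range_fst] at this
    obtain ⟨z, hz⟩ := this
    refine ⟨sq'.isoPullback.inv.base z, ?_⟩
    rw [← hz, ← Scheme.Hom.comp_apply, sq'.isoPullback_inv_fst]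
  have hMT : EtCoh.IsTorsion (EtCoh.const Y M) := isTorsion_of_nsmul_id Nat.card_pos
    (killedBy_const (Z := Y) M (Nat.card M) fun x => card_nsmul_eq_zero')
  obtain rfl | rfl | hq3 : q = 1 ∨ q = 2 ∨ 3 ≤ q := by omega
  · haveI : HenselianRing A (IsLocalRing.maximalIdeal A) := H9Hens.henselianRing_maximalIdeal A
    haveI := Groth.Agent.S0241.result A (IsLocalRing.maximalIdeal A) (ν ≫ p)
    refine exists_kill_one i' (essSurj_restrict_of_iso _ i' sq'.isoPullback sq'.isoPullback_hom_fst) ?_ M ξ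
    intro C hC hne
    obtain ⟨y, hy, hy'⟩ := exists_mem_closedFibre (ν ≫ p) hC hne
    exact ⟨y, hy, hfib y hy'⟩
  · suffices h : ∃ y, hpull i' (EtCoh.const Y M) 2 y = ξ by
      obtain ⟨y, rfl⟩ := h
      obtain ⟨G, hG, a, ha, hz⟩ := exists_mono_kill_self (EtCoh.const Y M) hMT 2 two_pos y
      exact ⟨G, hG, a, ha, by rw [← Hpull_map, hz, map_zero]⟩
    refine exists_hpull_of_cyclic i' 2 M (fun ℓ e hℓ ξ' => ?_) ξ
    by_cases hu : IsUnit (ℓ : A)
    · have hn : IsUnit ((ℓ ^ e : ℕ) : A) := by rw [Nat.cast_pow]; exact hu.pow e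
      obtain ⟨z, hz⟩ := exists_cyclotomic_root A (pow_pos hℓ.pos e) hn
      let φ : A →+* Γ(Y, ⊤) := (ν ≫ p).appTop.hom.comp (Scheme.ΓSpecIso (CommRingCat.of A)).inv.hom
      refine exists_hpull_two_zmod (LY := (Scheme.Modules.pullback ν).obj LX) i' (ν ≫ p)
        (H11Ample.isAmple_pullback_of_isAffineHom ν hA) hdimZ hfib (pow_pos hℓ.pos e)
        (by simpa using hn.map φ) (Units.map φ.toMonoidHom z) (MuConst.map_aeval φ hz)
        (eq_zero_of_nsmul_Gm_two t hdimZ ?_) ξ'
      rw [← map_natCast (Ideal.Quotient.mk (IsLocalRing.maximalIdeal A)), Ne, Ideal.Quotient.eq_zero_iff_mem]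
      exact fun hm => (IsLocalRing.mem_maximalIdeal _).1 hm hn
    · haveI : Fact ℓ.Prime := ⟨hℓ⟩
      haveI : CharP κ ℓ := (CharP.charP_iff_prime_eq_zero hℓ).2 (by
        rw [← map_natCast (Ideal.Quotient.mk (IsLocalRing.maximalIdeal A)), Ideal.Quotient.eq_zero_iff_mem]
        exact (IsLocalRing.mem_maximalIdeal _).2 hu)
      haveI := subsingleton_H_two_pgroup ℓ t hdimZ e
      exact ⟨0, (H_map_injective (EtCore.pullConst i' (ZMod (ℓ ^ e))) 2)
        (Subsingleton.elim (α := EtCoh.H (pullback ν i) (EtCoh.const _ (ZMod (ℓ ^ e))) 2) _ _)⟩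
  · haveI := cohDimLE_curve t hdimZ _ (H18Et.Coh.isTorsion_pull i' _ hMT) q hq3
    exact ⟨_, hMT, 𝟙 _, inferInstance, Subsingleton.elim (α := EtCoh.H (pullback ν i)
      ((EtCoh.pull i').obj (EtCoh.const Y M)) q) _ _⟩

end Groth.Agent.H1DFun
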