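import Groth.Agent.H1DFun.CurveKill
import Groth.Agent.H1DFun.LimCls
import Groth.Agent.H1DFun.LimTop
import Groth.Agent.H18Et.TopInvLocal
import Groth.Agent.H18Et.TopInvSheaf
import Groth.Agent.S0167

/-!
# Vanishing of classes on proper curves over strictly henselian bases
-/

set_option autoImplicit false
set_option linter.style.haveILetI false
set_option backward.isDefEq.respectTransparency false
set_option backward.isDefEq.respectTransparency.types false

universe u

open CategoryTheory CategoryTheory.Limits AlgebraicGeometry Opposite Abelian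
open Groth.Agent.H18Et Groth.Agent.H1Lim
open scoped Groth.Agent.H18Et Groth.Agent.H18Et.CohColim

namespace Groth.Agent.H1DFun

attribute [local instance] Groth.Agent.H18Et.pull_preservesFiniteLimits

section Restrict

variable {T V V' : Scheme.{u}} (F : EtCoh.Ab T) (q : ℕ) {a : V ⟶ T} {a' : V' ⟶ T} (m : V' ⟶ V) (w : m ≫ a = a')

theorem bijective_cR_of_hpull (h : Function.Bijective (hpull m ((EtCoh.pull a).obj F) q)) :
    Function.Bijective (cR F q m w) := by
  have b : Function.Bijective (Sheaf.H.map ((viaIso m a a' w).app F).hom q) :=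
    ⟨H_map_injective _ q, fun y => ⟨_, H_map_inv_hom _ q y⟩⟩
  exact (congrArg Function.Bijective (funext fun x => (HpullVia_def m a a' w F q x).symm)).mp (b.comp h)

theorem bijective_cR_of_uhomeo [IsIntegralHom m] [UniversallyInjective m] [Surjective m] :
    Function.Bijective (cR F q m w) := by
  haveI := TopInvLocal.bc_isEquivalence m
  exact bijective_cR_of_hpull F q m w (TopInvSheaf.bijective_Hpull m _ q)

theorem bijective_cR_of_isIso [IsIso m] : Function.Bijective (cR F q m w) :=
  bijective_cR_of_uhomeo F q m w

theorem cR_eq_zero_of_factor {V'' : Scheme.{u}} {a'' : V'' ⟶ T} (f' : V'' ⟶ V') (w' : f' ≫ a' = a'')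
    (fc : V'' ⟶ V) (wc : fc ≫ a = a'') (hc : f' ≫ m = fc) (x : CL F q a) (hx : cR F q m w x = 0) :
    cR F q fc wc x = 0 :=
  (cR_cR m w f' w' fc hc x).symm.trans ((congrArg _ hx).trans (map_zero _))

end Restrict

section Van

variable {X S : Scheme.{u}} (f : X ⟶ S) (F : EtCoh.Ab X) (q : ℕ)

/-- Classes vanish on the base change. -/
abbrev Van {T : Scheme.{u}} (t : T ⟶ S) : Prop := Subsingleton (CL F q (pullback.fst f t))

theorem van_iff_of_isPullback {P T : Scheme.{u}} {a : P ⟶ X} {b : P ⟶ T} {t : T ⟶ S}
    (sq : IsPullback a b f t) : Van f F q t ↔ Subsingleton (CL F q a) := by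
  let e := bijective_cR_of_isIso F q (a := pullback.fst f t) sq.isoPullback.hom sq.isoPullback_hom_fst
  exact (Equiv.ofBijective _ e).subsingleton_congr

/-- The map of base changes. -/
noncomputable abbrev pbMap {T T' : Scheme.{u}} {t : T ⟶ S} {t' : T' ⟶ S} (m : T' ⟶ T) (w : m ≫ t = t') :
    pullback f t' ⟶ pullback f t :=
  pullback.lift (pullback.fst f t') (pullback.snd f t' ≫ m)
    (by rw [Category.assoc, w]; exact pullback.condition)

theorem pbMap_fst {T T' : Scheme.{u}} {t : T ⟶ S} {t' : T' ⟶ S} (m : T' ⟶ T) (w : m ≫ t = t') :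
    pbMap f m w ≫ pullback.fst f t = pullback.fst f t' := pullback.lift_fst _ _ _

theorem isPullback_pbMap {T T' : Scheme.{u}} {t : T ⟶ S} {t' : T' ⟶ S} (m : T' ⟶ T) (w : m ≫ t = t') :
    IsPullback (pbMap f m w) (pullback.snd f t') (pullback.snd f t) m := by
  refine IsPullback.of_right ?_ (pullback.lift_snd _ _ _) (IsPullback.of_hasPullback f t)
  rw [pbMap_fst, w]
  exact IsPullback.of_hasPullback f t'

theorem van_iff_of_uhomeo {T T' : Scheme.{u}} {t : T ⟶ S} {t' : T' ⟶ S} (m : T' ⟶ T) (w : m ≫ t = t')
    [IsIntegralHom m] [UniversallyInjective m] [Surjective m] : Van f F q t ↔ Van f F q t' := by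
  have sq := (isPullback_pbMap f m w).flip
  haveI : IsIntegralHom (pbMap f m w) := MorphismProperty.of_isPullback sq inferInstance
  haveI : UniversallyInjective (pbMap f m w) := MorphismProperty.of_isPullback sq inferInstance
  haveI : Surjective (pbMap f m w) := MorphismProperty.of_isPullback sq inferInstance
  exact (Equiv.ofBijective _ (bijective_cR_of_uhomeo F q (pbMap f m w) (pbMap_fst f m w))).subsingleton_congr

/-- Proper, of relative dimension at most one, with an ample module over every affine base. -/
structure IsCurveLike : Prop where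
  proper : IsProper f
  ample : ∀ (A : Type u) [CommRing A] (t : Spec (CommRingCat.of A) ⟶ S),
    ∃ L : (pullback f t).Modules, CohB1.IsAmple L
  dim : ∀ (K : Type u) [Field K] (t : Spec (CommRingCat.of K) ⟶ S), topologicalKrullDim ↥(pullback f t) ≤ 1

end Van

section Closed

variable {A : Type u} [CommRing A] [HenselianLocalRing A] [IsSepClosed (IsLocalRing.ResidueField A)]
  {X X₀ : Scheme.{u}} (p : X ⟶ Spec (CommRingCat.of A)) [IsProper p] (i : X₀ ⟶ X)
  (s : X₀ ⟶ Spec (CommRingCat.of (A ⧸ IsLocalRing.maximalIdeal A)))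

/-- Cohomology of torsion sheaves on a proper curve restricts bijectively to the closed fibre. -/
theorem bijective_hpull_closed (sq : IsPullback i s p (closedIncl A)) {LX : X.Modules} (hA : CohB1.IsAmple LX)
    (hdim : topologicalKrullDim X₀ ≤ 1) (F : EtCoh.Ab X) (hF : EtCoh.IsTorsion F) (q : ℕ) :
    Function.Bijective (hpull i F q) := by
  haveI : IsClosedImmersion (closedIncl A) :=
    IsClosedImmersion.spec_of_surjective _ Ideal.Quotient.mk_surjective
  let j := pullback.fst p (closedIncl A)
  let σ := sq.isoPullback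
  have hσ : σ.hom ≫ j = i := sq.isoPullback_hom_fst
  haveI : CompactSpace X := QuasiCompact.compactSpace_of_compactSpace p
  haveI : QuasiSeparatedSpace X := quasiSeparatedSpace_of_quasiSeparated p
  haveI : IsClosedImmersion j := MorphismProperty.pullback_fst _ _ inferInstance
  have hdim' : topologicalKrullDim ↥(pullback p (closedIncl A)) ≤ 1 := by
    rwa [← IsHomeomorph.topologicalKrullDim_eq _ (Scheme.homeoOfIso σ).isHomeomorph]
  have hK := killOn_of_killConst j (killConst_of_curve p j _ (IsPullback.of_hasPullback p _) hA hdim')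
  have hu := bijective_H_map_unit_of_kill j hK (fun G => Groth.Agent.S0167.result A X p G) q F hF
  have hb := hpull_map_bijective j (𝟙 ((EtCoh.push j).obj ((EtCoh.pull j).obj F))) q
  have hj : Function.Bijective (hpull j F q) :=
    (congrArg Function.Bijective (funext fun y => adjClass_unit j F q y)).mp (hb.comp hu)
  have hs : Function.Bijective (hpull σ.hom ((EtCoh.pull j).obj F) q) := by
    haveI := TopInvLocal.bc_isEquivalence σ.hom
    exact TopInvSheaf.bijective_Hpull σ.hom _ q
  have b : Function.Bijective (Sheaf.H.map ((viaIso σ.hom j i hσ).app F).hom q) :=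
    ⟨H_map_injective _ q, fun y => ⟨_, H_map_inv_hom _ q y⟩⟩
  exact (congrArg Function.Bijective (funext fun y => hpull_via σ.hom j i hσ F q y)).mp (b.comp (hs.comp hj))

end Closed

end Groth.Agent.H1DFun
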