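import Groth.Agent.H1DFun.HenselianBC
import Groth.Agent.H1DFun.CurveField

/-!
# Cohomology of proper schemes under extensions of separably closed fields, restriction maps
-/

set_option autoImplicit false
set_option linter.style.haveILetI false
set_option backward.isDefEq.respectTransparency false
set_option backward.isDefEq.respectTransparency.types false

universe u

open CategoryTheory CategoryTheory.Limits AlgebraicGeometry Opposite Abelian
open Groth.Agent.H18Et Groth.Agent.H1Lim Groth.Agent.H12AlgSp.EtStrictHens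
open scoped Groth.Agent.H18Et Groth.Agent.H18Et.CohColim

namespace Groth.Agent.H1DFun

attribute [local instance] Groth.Agent.H18Et.pull_preservesFiniteLimits

variable {X S : Scheme.{u}} (f : X ⟶ S) [IsProper f] (F : EtCoh.Ab X) (hF : EtCoh.IsTorsion F) (q : ℕ)

include hF in
/-- Restriction from a henselian base to its closed point is bijective on torsion classes. -/
theorem bijective_cR_residue (A : Type u) [CommRing A] [HenselianLocalRing A]
    (t : Spec (CommRingCat.of A) ⟶ S) {t' : Spec (CommRingCat.of (IsLocalRing.ResidueField A)) ⟶ S}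
    (w : Spec.map (CommRingCat.ofHom (IsLocalRing.residue A)) ≫ t = t') :
    Function.Bijective (cR F q (pbMap f _ w) (pbMap_fst f _ w)) := by
  let r := Spec.map (CommRingCat.ofHom (IsLocalRing.residue A))
  let p := pullback.snd f t
  let i := pullback.fst p r
  have hi := bijective_hpull_closedFibre A p ((EtCoh.pull (pullback.fst f t)).obj F)
    (H18Et.Coh.isTorsion_pull _ F hF) q
  have b1 := bijective_cR_of_hpull F q (a := pullback.fst f t) i rfl hi
  let σ := (isPullback_pbMap f r w).isoPullback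
  have hσ : σ.hom ≫ i = pbMap f r w := (isPullback_pbMap f r w).isoPullback_hom_fst
  have b2 := bijective_cR_of_isIso F q σ.hom (a := i ≫ pullback.fst f t) (a' := pullback.fst f t')
    (by rw [← Category.assoc, hσ, pbMap_fst])
  exact (congrArg Function.Bijective (funext fun x => cR_cR (a'' := pullback.fst f t') i rfl σ.hom
    (by rw [← Category.assoc, hσ, pbMap_fst]) _ hσ x)).mp (b2.comp b1)

include hF in
/-- A class dying at a geometric point with surjective value map dies near it. -/
theorem exists_nbhd_of_dies {T : Scheme.{u}} {Ω : Type u} [Field Ω] [IsSepClosed Ω]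
    (η : Spec (CommRingCat.of Ω) ⟶ T) (t : T ⟶ S) (hs : Function.Surjective (valueHom η).hom)
    (y : CL F q (pullback.fst f t))
    (h : cR F q (pbMap f η rfl) (pbMap_fst f _ _) y = 0) :
    ∃ j : Idx η, cR F q (pbMap f (nbhd η j).hom rfl) (pbMap_fst f _ _) y = 0 := by
  let A := ↥(EtBase.etaleLocalRing η)
  let k := IsLocalRing.ResidueField A
  let r : k →+* Ω := IsLocalRing.ResidueField.lift (valueHom η).hom
  have hr : Function.Bijective r := ⟨r.injective, fun x => by
    obtain ⟨a, ha⟩ := hs x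
    exact ⟨IsLocalRing.residue A a, ha⟩⟩
  haveI : IsIso (CommRingCat.ofHom r) := (ConcreteCategory.isIso_iff_bijective _).2 hr
  let m : Spec (CommRingCat.of Ω) ⟶ Spec (CommRingCat.of k) := Spec.map (CommRingCat.ofHom r)
  let c := Spec.map (CommRingCat.ofHom (IsLocalRing.residue A))
  have hm : m ≫ c ≫ strictBase η = η := by
    rw [← Category.assoc, show m ≫ c = Spec.map (valueHom η) from (Spec.map_comp _ _).symm, valueHom_fac]
  haveI : Surjective m := inferInstance
  have hmt : m ≫ c ≫ strictBase η ≫ t = η ≫ t := by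
    refine Eq.trans ?_ (congrArg (· ≫ t) hm)
    simp only [Category.assoc]
  have sq := (isPullback_pbMap f m hmt).flip
  haveI : IsIso (pbMap f m hmt) :=
    MorphismProperty.of_isPullback (P := MorphismProperty.isomorphisms Scheme) sq (inferInstanceAs (IsIso m))
  have hA : cR F q (pbMap f (strictBase η) rfl) (pbMap_fst f _ _) y = 0 := by
    apply (bijective_cR_residue f F hF q A (strictBase η ≫ t) rfl).1
    apply (bijective_cR_of_isIso F q (a := pullback.fst f (c ≫ strictBase η ≫ t))
      (pbMap f m hmt) (pbMap_fst f _ _)).1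
    rw [map_zero, map_zero]
    refine Eq.trans ?_ h
    refine (congrArg _ (cR_cR _ _ _ _ _ (pbMap_comp c (strictBase η) rfl rfl (c ≫ strictBase η) rfl
      (Category.assoc _ _ _)) y)).trans ?_
    exact cR_cR _ _ _ _ _ (pbMap_comp _ _ _ _ _ hm _) y
  let τ : ∀ j : Idx η, (diag η).obj j ⟶ S := fun j => (nbhd η j).hom ≫ t
  have hτ : ∀ {i k : Idx η} (m : k ⟶ i), (diag η).map m ≫ τ i = τ k := fun {i k} m =>
    (Category.assoc _ _ _).symm.trans
      (congrArg (· ≫ t) (MorphismProperty.Over.w (((incl η).map m).1 : nbhd η k ⟶ nbhd η i)))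
  have hτ' : ∀ j, (cone η).π.app j ≫ τ j = strictBase η ≫ t := fun j =>
    (Category.assoc _ _ _).symm.trans (congrArg (· ≫ t) (leg_hom η (nbhd η j) (nbhdPt η j)))
  haveI : ∀ ⦃a b : Idx η⦄ (m : a ⟶ b), IsAffineHom ((diag η).map m) := fun a b m =>
    haveI : IsAffine ((diag η).obj a) := inferInstanceAs (IsAffine (nbhd η a).left)
    haveI : IsAffine ((diag η).obj b) := inferInstanceAs (IsAffine (nbhd η b).left)
    inferInstance
  haveI : ∀ j, CompactSpace ((diag η).obj j) := fun j => inferInstanceAs (CompactSpace (nbhd η j).left)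
  haveI : ∀ j, QuasiSeparatedSpace ((diag η).obj j) := fun j => inferInstanceAs (QuasiSeparatedSpace (nbhd η j).left)
  obtain ⟨i⟩ := (IsCofiltered.nonempty : Nonempty (Idx η))
  obtain ⟨k', μ, hμ⟩ := (cR_pb_lim F q (diag η) (cone η) (isLimitCone η) τ hτ _ hτ').2 i
    (cR F q (pbMap f (nbhd η i).hom rfl) (pbMap_fst f _ _) y)
    ((cR_cR _ _ _ _ _ (pbMap_comp _ _ _ _ _ (leg_hom η (nbhd η i) (nbhdPt η i)) _) y).trans hA)
  exact ⟨k', (cR_cR _ _ _ (pbMap_fst f _ (hτ μ)) _
    (pbMap_comp _ _ (hτ μ) rfl _ (MorphismProperty.Over.w (((incl η).map μ).1 : nbhd η k' ⟶ nbhd η i)) rfl) y).symm.trans hμ⟩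

set_option maxHeartbeats 1000000 in
include hF in
/-- Restriction along an extension of separably closed fields is bijective on torsion classes. -/
theorem bijective_cR_fieldExt {K L : Type u} [Field K] [IsSepClosed K] [Field L] [IsSepClosed L] [Algebra K L]
    (t : Spec (CommRingCat.of K) ⟶ S) {tL : Spec (CommRingCat.of L) ⟶ S}
    (w : Spec.map (CommRingCat.ofHom (algebraMap K L)) ≫ t = tL) :
    Function.Bijective (cR F q (pbMap f _ w) (pbMap_fst f _ w)) := by
  classical
  subst w
  let T := H18PBC.SubalgSystem.specSystem K L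
  let c := H18PBC.SubalgSystem.specCone K L
  let ρ : ∀ s, T.obj s ⟶ Spec (CommRingCat.of K) := fun s =>
    Spec.map (CommRingCat.ofHom (algebraMap K ↥(Algebra.adjoin K ((s.unop : Finset L) : Set L))))
  let τ : ∀ s, T.obj s ⟶ S := fun s => ρ s ≫ t
  have hρ : ∀ s, c.π.app s ≫ ρ s = Spec.map (CommRingCat.ofHom (algebraMap K L)) := fun s => by
    refine (Spec.map_comp _ _).symm.trans ?_
    rfl
  have hτ : ∀ {i k : (Finset L)ᵒᵖ} (m : k ⟶ i), T.map m ≫ τ i = τ k := fun {i k} m => by
    refine (Category.assoc _ _ _).symm.trans (congrArg (· ≫ t) ((Spec.map_comp _ _).symm.trans ?_))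
    rfl
  have hτ' : ∀ s, c.π.app s ≫ τ s = Spec.map (CommRingCat.ofHom (algebraMap K L)) ≫ t := fun s =>
    (Category.assoc _ _ _).symm.trans (congrArg (· ≫ t) (hρ s))
  haveI : ∀ s, CompactSpace (T.obj s) := fun s =>
    inferInstanceAs (CompactSpace ↥(Spec ((H18PBC.SubalgSystem.subalgFunctor K L).obj s.unop)))
  haveI : ∀ s, QuasiSeparatedSpace (T.obj s) := fun s =>
    inferInstanceAs (QuasiSeparatedSpace ↥(Spec ((H18PBC.SubalgSystem.subalgFunctor K L).obj s.unop)))
  haveI : ∀ ⦃a b : (Finset L)ᵒᵖ⦄ (m : a ⟶ b), IsAffineHom (T.map m) := fun a b m =>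
    inferInstanceAs (IsAffineHom (Spec.map _))
  obtain ⟨hlim₁, hlim₂⟩ := cR_pb_lim (f := f) F q T c (H18PBC.SubalgSystem.isLimitSpecCone K L) τ hτ _ hτ'
  -- one stage: the class over the algebra, its restriction to a closed point and to the generic point
  have stage : ∀ (s : (Finset L)ᵒᵖ) (y : CL F q (pullback.fst f (τ s))), ∃ x : CL F q (pullback.fst f t),
      cR F q (pbMap f (c.π.app s) (hτ' s)) (pbMap_fst f _ _) y =
        cR F q (pbMap f (Spec.map (CommRingCat.ofHom (algebraMap K L))) rfl) (pbMap_fst f _ _) x ∧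
      ∀ x' : CL F q (pullback.fst f t), cR F q (pbMap f (ρ s) rfl) (pbMap_fst f _ _) x' = y → x' = x := by
    intro s y
    let R := ↥(Algebra.adjoin K ((s.unop : Finset L) : Set L))
    haveI : Algebra.FiniteType K R :=
      (Algebra.adjoin K ((s.unop : Finset L) : Set L)).fg_iff_finiteType.1 ⟨s.unop, rfl⟩
    obtain ⟨J, hJ⟩ := Ideal.exists_maximal R
    letI := Ideal.Quotient.field J
    haveI : Algebra.FiniteType K (R ⧸ J) := Algebra.FiniteType.of_surjective (Ideal.Quotient.mkₐ K J)
      Ideal.Quotient.mk_surjective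
    haveI : Module.Finite K (R ⧸ J) := finite_of_finite_type_of_isJacobsonRing K (R ⧸ J)
    haveI : Algebra.IsAlgebraic K (R ⧸ J) := Algebra.IsAlgebraic.of_finite K _
    haveI : IsSepClosed (R ⧸ J) := Algebra.IsAlgebraic.isSepClosed (F := K)
    haveI : IsPurelyInseparable K (R ⧸ J) := inferInstance
    let η : Spec (CommRingCat.of (R ⧸ J)) ⟶ T.obj s := Spec.map (CommRingCat.ofHom (Ideal.Quotient.mk J))
    let k₀ := Spec.map (CommRingCat.ofHom (algebraMap K (R ⧸ J)))
    haveI : IsIntegralHom k₀ :=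
      IsIntegralHom.SpecMap_iff.mpr (RingHom.Finite.to_isIntegral (RingHom.finite_algebraMap.mpr inferInstance))
    haveI := H7Lim.GeomConnFinite.universallyInjective_SpecMap K (R ⧸ J)
    haveI : Surjective k₀ := H18PBC.surjective_fieldExt (algebraMap K (R ⧸ J))
    have hk₀ : η ≫ ρ s = k₀ := by
      refine (Spec.map_comp (CommRingCat.ofHom (algebraMap K R)) (CommRingCat.ofHom (Ideal.Quotient.mk J))).symm.trans ?_
      rfl
    have hη : k₀ ≫ t = η ≫ τ s := (congrArg (· ≫ t) hk₀.symm).trans (Category.assoc _ _ _)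
    have hs : Function.Surjective (valueHom η).hom := fun z => by
      obtain ⟨r, rfl⟩ := Ideal.Quotient.mk_surjective z
      obtain ⟨φ, hφ⟩ := Spec.map_surjective (strictBase η)
      refine ⟨φ.hom r, ?_⟩
      have e2 : φ ≫ valueHom η = CommRingCat.ofHom (Ideal.Quotient.mk J) :=
        Spec.map_injective ((Spec.map_comp _ _).trans ((congrArg (_ ≫ ·) hφ).trans (valueHom_fac η)))
      exact ConcreteCategory.congr_hom e2 r
    have sq := (isPullback_pbMap f k₀ hη).flip
    haveI : IsIntegralHom (pbMap f k₀ hη) := MorphismProperty.of_isPullback sq inferInstance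
    haveI : UniversallyInjective (pbMap f k₀ hη) := MorphismProperty.of_isPullback sq inferInstance
    haveI : Surjective (pbMap f k₀ hη) := MorphismProperty.of_isPullback sq inferInstance
    have hb := bijective_cR_of_uhomeo F q (a := pullback.fst f t) (pbMap f k₀ hη) (pbMap_fst f _ _)
    obtain ⟨x, hx⟩ := hb.2 (cR F q (pbMap f η rfl) (pbMap_fst f _ _) y)
    refine ⟨x, ?_, fun x' hx' => hb.1 ?_⟩
    swap
    · rw [hx, ← hx']
      exact (cR_cR _ _ _ _ _ (pbMap_comp η (ρ s) rfl rfl k₀ hk₀ hη) x').symm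
    let y' := y - cR F q (pbMap f (ρ s) rfl) (pbMap_fst f _ _) x
    have hy' : cR F q (pbMap f η rfl) (pbMap_fst f _ _) y' = 0 := by
      rw [map_sub, sub_eq_zero, ← hx]
      exact (cR_cR _ _ _ _ _ (pbMap_comp η (ρ s) rfl rfl k₀ hk₀ hη) x).symm
    obtain ⟨j, hj⟩ := exists_nbhd_of_dies f F hF q η (τ s) hs y' hy'
    let U := nbhd η j
    haveI : Etale U.hom := U.prop
    have hne : Nonempty ↥U.left := ⟨ptOf (nbhdPt η j)⟩
    have hopen : IsOpen (Set.range U.hom.base) := U.hom.isOpenMap.isOpen_range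
    let γ : PrimeSpectrum R := ⟨⊥, Ideal.isPrime_bot⟩
    obtain ⟨u₀, hu₀⟩ : γ ∈ Set.range U.hom.base := by
      obtain ⟨u⟩ := hne
      exact (PrimeSpectrum.le_iff_specializes γ (U.hom.base u)).1 (OrderBot.bot_le _) |>.mem_open hopen ⟨u, rfl⟩
    let δ : PrimeSpectrum L := default
    let π : Spec (CommRingCat.of L) ⟶ T.obj s :=
      Spec.map (CommRingCat.ofHom (Algebra.adjoin K ((s.unop : Finset L) : Set L)).val.toRingHom)
    have hgen : π.base δ = γ := by
      refine PrimeSpectrum.ext (le_bot_iff.1 fun a ha => ?_)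
      have h0 : (Algebra.adjoin K ((s.unop : Finset L) : Set L)).val a ∈ δ.asIdeal := ha
      rw [Ideal.eq_bot_of_prime δ.asIdeal, Ideal.mem_bot] at h0
      exact Ideal.mem_bot.2 (Subtype.ext h0)
    obtain ⟨l, hl, -⟩ := Scheme.exists_fac_of_etale_of_isSepClosed U.hom π u₀
      (hu₀.trans (hgen.symm.trans (congrArg _ (Subsingleton.elim (α := PrimeSpectrum L) δ _))))
    have h0 : cR F q (pbMap f (c.π.app s) (hτ' s)) (pbMap_fst f _ _) y' = 0 :=
      cR_eq_zero_of_factor F q (pbMap f U.hom rfl) (pbMap_fst f _ _) _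
        (pbMap_fst f l ((Category.assoc _ _ _).symm.trans ((congrArg (· ≫ τ s) hl).trans (hτ' s)))) _ _
        (pbMap_comp _ _ _ _ _ hl _) y' hj
    rw [map_sub, sub_eq_zero] at h0
    exact h0.trans (cR_cR _ _ _ _ _ (pbMap_comp _ _ _ _ _ (hρ s) _) x)
  refine ⟨(injective_iff_map_eq_zero _).2 fun x hx => ?_, fun z => ?_⟩
  · obtain ⟨i⟩ := (IsCofiltered.nonempty : Nonempty (Finset L)ᵒᵖ)
    obtain ⟨s, m, hm⟩ := hlim₂ i (cR F q (pbMap f (ρ i) rfl) (pbMap_fst f _ _) x)
      ((cR_cR _ _ _ _ _ (pbMap_comp _ _ _ _ _ (hρ i) _) x).trans hx)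
    have hm' : cR F q (pbMap f (ρ s) rfl) (pbMap_fst f _ _) x = 0 := by
      refine Eq.trans ?_ hm
      refine (cR_cR _ _ _ _ _ (pbMap_comp _ _ _ _ _ ?_ _) x).symm
      refine (Spec.map_comp _ _).symm.trans ?_
      rfl
    obtain ⟨x₀, -, hu⟩ := stage s 0
    exact (hu x hm').trans (hu 0 (map_zero _)).symm
  · obtain ⟨s, y, rfl⟩ := hlim₁ z
    obtain ⟨x, hx, -⟩ := stage s y
    exact ⟨x, hx.symm⟩

/-- Pullback to a larger separably closed field is bijective on torsion cohomology of proper schemes. -/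
theorem bijective_hpull_fieldExt {k K : Type u} [Field k] [IsSepClosed k] [Field K] [IsSepClosed K] (i : k →+* K)
    {Z : Scheme.{u}} (a : Z ⟶ Spec (CommRingCat.of k)) [IsProper a] (G : EtCoh.Ab Z) (hG : EtCoh.IsTorsion G)
    (n : ℕ) : Function.Bijective (hpull (pullback.fst a (Spec.map (CommRingCat.ofHom i))) G n) := by
  letI := i.toAlgebra
  let s := Spec.map (CommRingCat.ofHom i)
  let m := pullback.fst a (𝟙 (Spec (CommRingCat.of k)))
  have h1 := bijective_cR_fieldExt a G hG n (L := K) (𝟙 _) (show s ≫ 𝟙 _ = s from Category.comp_id _)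
  haveI := TopInvLocal.bc_isEquivalence m
  refine (congrArg Function.Bijective (funext fun y => ?_)).mp (h1.comp (TopInvSheaf.bijective_Hpull m G n))
  refine (HpullVia_def _ _ _ _ _ _ _).trans ?_
  exact hpull_via (pbMap a s (Category.comp_id s)) m _ (pbMap_fst a s _) G n y

end Groth.Agent.H1DFun
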