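import Groth.Agent.H05EGA4.EtH90.Opens
import Groth.Agent.H05EGA4.EtH90.Class

/-!
# Lifting classes of degree one along a map of coefficients by two opens
-/

set_option autoImplicit false
set_option backward.isDefEq.respectTransparency false
set_option backward.isDefEq.respectTransparency.types false

universe u

open CategoryTheory CategoryTheory.Limits AlgebraicGeometry Opposite Abelian
open Groth.Agent.H05EGA4.EtH90
open Groth.Agent.H18Et.Subterminal (ofOpen)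
open scoped Groth.Agent.H18Et

namespace Groth.Agent.H1DFun

variable {Y : Scheme.{u}}

/-- Restriction of a global section to an open. -/
noncomputable abbrev topRes (F : EtCoh.Ab Y) (U : Y.Opens) : EtCoh.sect F (EtCoh.top Y) →+ osect F U :=
  res F ((EtCore.topIsTerminal Y).from (ofOpen U))

theorem topRes_app {F G : EtCoh.Ab Y} (φ : F ⟶ G) (U : Y.Opens) (s : EtCoh.sect F (EtCoh.top Y)) :
    φ.hom.app (op (ofOpen U)) (topRes F U s) = topRes G U (φ.hom.app (op (EtCoh.top Y)) s) :=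
  res_app φ _ s

theorem ores_topRes (F : EtCoh.Ab Y) {U V : Y.Opens} (h : V ≤ U) (s : EtCoh.sect F (EtCoh.top Y)) :
    ores F h (topRes F U s) = topRes F V s :=
  (res_res F _ _ s).trans (res_congr F ((EtCore.topIsTerminal Y).hom_ext _ _) s)

/-- Sections over the whole space glue. -/
theorem exists_glue_top (F : EtCoh.Ab Y) {J : Type*} (V : J → Y.Opens) (hcov : ∀ x : Y, ∃ a, x ∈ V a)
    (s : ∀ a, osect F (V a))
    (h : ∀ a b, ores F (inf_le_left : V a ⊓ V b ≤ V a) (s a) = ores F inf_le_right (s b)) :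
    ∃ t : EtCoh.sect F (EtCoh.top Y), ∀ a, topRes F (V a) t = s a := by
  obtain ⟨t, ht⟩ := exists_glue F V (W := ⊤) (fun _ => le_top) (fun x _ => hcov x) s h
  obtain ⟨e⟩ := (Groth.Agent.H18Et.Subterminal.nonempty_hom_iff (⊤ : Y.Opens) (EtCoh.top Y)).2
    (fun _ => trivial)
  refine ⟨res F e t, fun a => ?_⟩
  rw [← ht a]
  exact (res_res F e _ t).trans (res_congr F (Subsingleton.elim _ _) t)

theorem top_ext (F : EtCoh.Ab Y) {J : Type*} (V : J → Y.Opens) (hcov : ∀ x : Y, ∃ a, x ∈ V a)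
    (s s' : EtCoh.sect F (EtCoh.top Y)) (h : ∀ a, topRes F (V a) s = topRes F (V a) s') : s = s' := by
  let c : ofOpen (⊤ : Y.Opens) ⟶ EtCoh.top Y := (EtCore.topIsTerminal Y).from _
  obtain ⟨e⟩ := (Groth.Agent.H18Et.Subterminal.nonempty_hom_iff (⊤ : Y.Opens) (EtCoh.top Y)).2
    (fun _ => trivial)
  have key : ∀ z : EtCoh.sect F (EtCoh.top Y), res F e (res F c z) = z := fun z =>
    (res_res F c e z).trans ((res_congr F ((EtCore.topIsTerminal Y).hom_ext _ (𝟙 _)) z).trans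
      (by rw [res, op_id, F.obj.map_id]; rfl))
  rw [← key s, ← key s']
  refine congrArg _ (eq_of_locally F V (fun _ => le_top) (fun x _ => hcov x) _ _ fun a => ?_)
  exact (ores_topRes F le_top s).trans ((h a).trans (ores_topRes F le_top s').symm)

/-- A class given on two opens by a difference lifting along a map of coefficients is in the image. -/
theorem exists_delta_lift {A B J QA I QB : EtCoh.Ab Y} (ψ : A ⟶ B)
    {iA : A ⟶ J} {qA : J ⟶ QA} {wA : iA ≫ qA = 0} (hA : (ShortComplex.mk iA qA wA).ShortExact) [Injective J]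
    {iB : B ⟶ I} {qB : I ⟶ QB} {wB : iB ≫ qB = 0} (hB : (ShortComplex.mk iB qB wB).ShortExact) [Injective I]
    (t : EtCoh.sect QB (EtCoh.top Y)) (W₁ W₂ : Y.Opens) (hc : ∀ y : Y, y ∈ W₁ ∨ y ∈ W₂)
    (s₁ : osect I W₁) (s₂ : osect I W₂)
    (h₁ : qB.hom.app (op (ofOpen W₁)) s₁ = topRes QB W₁ t)
    (h₂ : qB.hom.app (op (ofOpen W₂)) s₂ = topRes QB W₂ t)
    (a : osect A (W₁ ⊓ W₂))
    (ha : iB.hom.app (op (ofOpen (W₁ ⊓ W₂))) (ψ.hom.app (op (ofOpen (W₁ ⊓ W₂))) a) =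
      ores I inf_le_left s₁ - ores I inf_le_right s₂) :
    ∃ t' : EtCoh.sect QA (EtCoh.top Y), Sheaf.H.map ψ 1 (delta hA t') = delta hB t := by
  haveI : Mono iA := hA.mono_f
  haveI : Epi qA := hA.epi_g
  let φ : J ⟶ I := Injective.factorThru (ψ ≫ iB) iA
  have hφ : iA ≫ φ = ψ ≫ iB := Injective.comp_factorThru _ _
  obtain ⟨χ, hχ⟩ : ∃ χ : QA ⟶ QB, qA ≫ χ = φ ≫ qB :=
    ⟨hA.exact.desc (φ ≫ qB) (show iA ≫ φ ≫ qB = 0 by
      rw [← Category.assoc, hφ, Category.assoc, wB, comp_zero]), hA.exact.g_desc _ _⟩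
  let aJ : osect J (W₁ ⊓ W₂) := iA.hom.app (op (ofOpen (W₁ ⊓ W₂))) a
  obtain ⟨b₁, hb₁⟩ := ores_surjective J (inf_le_left : W₁ ⊓ W₂ ≤ W₁) aJ
  have hq : qA.hom.app (op (ofOpen (W₁ ⊓ W₂))) aJ = 0 :=
    ConcreteCategory.congr_hom (congrArg (fun k : A ⟶ QA => k.hom.app (op (ofOpen (W₁ ⊓ W₂)))) wA) a
  let V : Bool → Y.Opens := fun c => bif c then W₁ else W₂
  have hV : ∀ x : Y, ∃ c, x ∈ V c := fun x => (hc x).elim (fun h => ⟨true, h⟩) fun h => ⟨false, h⟩
  let sb : ∀ c, osect QA (V c) := fun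
    | true => qA.hom.app (op (ofOpen W₁)) b₁
    | false => 0
  obtain ⟨t', ht'⟩ := exists_glue_top QA V hV sb (by
    have h12 : ores QA (inf_le_left : W₁ ⊓ W₂ ≤ W₁) (qA.hom.app (op (ofOpen W₁)) b₁) = 0 := by
      rw [← ores_app, hb₁, hq]
    rintro (_ | _) (_ | _)
    · rfl
    · show ores QA _ 0 = ores QA _ (qA.hom.app (op (ofOpen W₁)) b₁)
      exact (map_zero _).trans (((ores_ores QA (inf_le_left : W₁ ⊓ W₂ ≤ W₁) (le_inf inf_le_right inf_le_left :
        W₂ ⊓ W₁ ≤ W₁ ⊓ W₂) _).symm.trans ((congrArg _ h12).trans (map_zero _))).symm)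
    · exact h12.trans (map_zero _).symm
    · rfl)
  refine ⟨t', ?_⟩
  let θ : ShortComplex.mk iA qA wA ⟶ ShortComplex.mk iB qB wB :=
    { τ₁ := ψ, τ₂ := φ, τ₃ := χ, comm₁₂ := hφ.symm, comm₂₃ := hχ.symm }
  have hn := ShortComplex.ShortExact.extClass_naturality hA hB θ
  have hd : Sheaf.H.map ψ 1 (delta hA t') = delta hB (χ.hom.app (op (EtCoh.top Y)) t') := by
    rw [Sheaf.H.map_apply]
    show (((Sheaf.H.equiv₀ QA (EtCore.topIsTerminal Y)).symm t').comp hA.extClass (zero_add 1)).comp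
      (Ext.mk₀ ψ) (add_zero 1) = _
    rw [Ext.comp_assoc_of_third_deg_zero]
    erw [hn]
    rw [← Ext.comp_assoc_of_second_deg_zero]
    refine congrArg (fun z => Ext.comp z hB.extClass (zero_add 1)) ?_
    apply (Sheaf.H.equiv₀ QB (EtCore.topIsTerminal Y)).injective
    rw [← Sheaf.H.map_apply, ← Sheaf.H.equiv₀_naturality, AddEquiv.apply_symm_apply, AddEquiv.apply_symm_apply]
  rw [hd, ← sub_eq_zero, ← map_sub, delta_eq_zero_iff]
  let r : ∀ c, osect I (V c) := fun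
    | true => φ.hom.app (op (ofOpen W₁)) b₁ - s₁
    | false => -s₂
  have h12 : ores I (inf_le_left : W₁ ⊓ W₂ ≤ W₁) (φ.hom.app (op (ofOpen W₁)) b₁ - s₁) =
      ores I (inf_le_right : W₁ ⊓ W₂ ≤ W₂) (-s₂) := by
    rw [map_sub, map_neg, ← ores_app, hb₁,
      show φ.hom.app (op (ofOpen (W₁ ⊓ W₂))) aJ = _ from
        (ConcreteCategory.congr_hom (congrArg (fun k : A ⟶ I => k.hom.app (op (ofOpen (W₁ ⊓ W₂)))) hφ) a).trans ha]
    abel
  obtain ⟨e, he⟩ := exists_glue_top I V hV r (by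
    rintro (_ | _) (_ | _)
    · rfl
    · exact ((ores_ores I (inf_le_right : W₁ ⊓ W₂ ≤ W₂) (le_inf inf_le_right inf_le_left) _).symm.trans
        ((congrArg _ h12.symm).trans (ores_ores I (inf_le_left : W₁ ⊓ W₂ ≤ W₁) _ _)))
    · exact h12
    · rfl)
  refine ⟨e, top_ext QB V hV _ _ fun c => ?_⟩
  rw [map_sub, ← topRes_app, ← topRes_app, he, ht']
  cases c
  · show qB.hom.app _ (-s₂) = χ.hom.app _ 0 - _
    rw [map_neg, h₂, map_zero, zero_sub]
    rfl
  · show qB.hom.app _ (φ.hom.app _ b₁ - s₁) = χ.hom.app _ (qA.hom.app _ b₁) - _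
    rw [map_sub, h₁]
    exact congrArg (· - topRes QB W₁ t)
      (ConcreteCategory.congr_hom (congrArg (fun k : J ⟶ QB => k.hom.app (op (ofOpen W₁))) hχ) b₁).symm

end Groth.Agent.H1DFun
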