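import Groth.Agent.H05EGA4.EtDiv.Rone
import Groth.Agent.H05EGA4.EtCl.Max
import Groth.Agent.H25Euler.Sections
import Groth.Agent.H11Proj.SecChart
import Groth.Agent.H11Ample.Ample
import Mathlib.Topology.NoetherianSpace

/-!
# Two affine opens trivialising an invertible module on a closed curve
-/

set_option autoImplicit false
set_option linter.style.haveILetI false

universe u

open CategoryTheory AlgebraicGeometry Opposite TopologicalSpace
open Groth.Agent.H11Tilde Groth.Agent.H11Ample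
open Groth.Agent.H05EGA4.EtCl (IsMaxPt)

namespace Groth.Agent.H1DFun

/-- Points of a scheme of dimension at most one are maximal or have no proper specialisations. -/
theorem isMaxPt_or_eq {Z : Scheme.{u}} (hdim : topologicalKrullDim Z ≤ 1) (z z' : Z) (h : z ⤳ z') :
    IsMaxPt z ∨ z = z' := by
  by_cases hz : IsMaxPt z
  · exact Or.inl hz
  refine Or.inr ?_
  simp only [IsMaxPt, not_forall] at hz
  obtain ⟨w, hw, hne⟩ := hz
  by_contra hne'
  let C : Z → IrreducibleCloseds Z := fun x => ⟨closure {x}, isIrreducible_singleton.closure, isClosed_closure⟩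
  have hlt : ∀ {a b : Z}, b ⤳ a → b ≠ a → C a < C b := fun {a b} hab hne => by
    refine lt_of_le_of_ne (specializes_iff_closure_subset.1 hab) fun heq => hne ?_
    have : closure ({a} : Set Z) = closure {b} := congrArg (fun S : IrreducibleCloseds Z => (S : Set Z)) heq
    exact (inseparable_iff_closure_eq.2 this).symm.eq
  let s : LTSeries (IrreducibleCloseds Z) :=
    LTSeries.mk 2 ![C z', C z, C w] (Fin.strictMono_iff_lt_succ.2 fun k => by
      fin_cases k
      · exact hlt h hne'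
      · exact hlt hw hne)
  have h2 : s.length = 2 := rfl
  have := (Order.LTSeries.length_le_krullDim s).trans hdim
  rw [h2] at this
  exact absurd this (by norm_num)

/-- A closed subset without maximal points of a noetherian scheme of dimension at most one is finite. -/
theorem finite_of_no_maxPt {Z : Scheme.{u}} [AlgebraicGeometry.IsNoetherian Z]
    (hdim : topologicalKrullDim Z ≤ 1) {C : Set Z} (hC : IsClosed C) (h : ∀ z ∈ C, ¬ IsMaxPt z) : C.Finite := by
  obtain ⟨S, hSf, hSc, hSi, hS⟩ := NoetherianSpace.exists_finite_set_isClosed_irreducible hC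
  rw [hS]
  refine hSf.sUnion fun T hT => Set.Subsingleton.finite ?_
  obtain ⟨η, hη⟩ := QuasiSober.sober (hSi T hT) (hSc T hT)
  have hηC : η ∈ C := hS ▸ ⟨T, hT, hη.mem⟩
  intro a ha b hb
  rw [← (isMaxPt_or_eq hdim η a (hη.specializes ha)).resolve_left (h η hηC),
    ← (isMaxPt_or_eq hdim η b (hη.specializes hb)).resolve_left (h η hηC)]

variable {Y Z : Scheme.{u}} (i : Z ⟶ Y) [IsClosedImmersion i] {LY : Y.Modules}

/-- An incomparable finite set has a neighbourhood with a generator, coming from an affine open. -/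
theorem exists_affine_gen [CompactSpace Y] [QuasiSeparatedSpace Y] (hA : CohB1.IsAmple LY) {L : Z.Modules}
    (hL : PicF.IsInvertible L) {S : Set Z} (hS : S.Finite) (hanti : ∀ z ∈ S, ∀ z' ∈ S, z ⤳ z' → z = z') :
    ∃ (W : Y.Opens) (U : Z.Opens) (e : Γ(L, U)), IsAffineOpen W ∧ S ⊆ i ⁻¹ᵁ W ∧ i ⁻¹ᵁ W ≤ U ∧ IsGen L e := by
  obtain ⟨k, s, -, hSs, -, hs⟩ := exists_affine_gen_nhd_finite hA (hS.image i.base) (U := ⊤) (fun _ _ => trivial)
  have hSV : S ⊆ i ⁻¹ᵁ gen _ s := fun z hz => hSs ⟨z, hz, rfl⟩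
  obtain ⟨e, he⟩ := Groth.Agent.H25Euler.exists_gen_affine hL (hs.preimage i) hS hSV hanti
  let U := Groth.Agent.H11Proj.genAt L e
  have hSU : S ⊆ U := fun z hz => by
    obtain ⟨W, hW, hzW, hg⟩ := he z hz
    exact Groth.Agent.H11Proj.le_genAt e hW hg hzW
  let O : Y.Opens := ⟨(i.base '' (U : Set Z)ᶜ)ᶜ, (i.isClosedMap _ U.2.isClosed_compl).isOpen_compl⟩
  have hSO : i.base '' S ⊆ O := by
    rintro _ ⟨z, hz, rfl⟩ ⟨z', hz', he'⟩
    exact hz' (i.isClosedEmbedding.injective he' ▸ hSU hz)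
  obtain ⟨k', s', -, hSs', hs'O, hs'⟩ := exists_affine_gen_nhd_finite hA (hS.image i.base) hSO
  exact ⟨_, U, _, hs', fun z hz => hSs' ⟨z, hz, rfl⟩,
    fun z hz => by_contra fun hzU => hs'O hz ⟨z, hzU, rfl⟩, Groth.Agent.H11Proj.isGen_genAt e⟩

/-- Two affine opens trivialising an invertible module on a closed subscheme of dimension at most one. -/
theorem exists_two_affine_gen [CompactSpace Y] [QuasiSeparatedSpace Y] (hA : CohB1.IsAmple LY)
    [AlgebraicGeometry.IsNoetherian Z] (hdim : topologicalKrullDim Z ≤ 1) {L : Z.Modules}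
    (hL : PicF.IsInvertible L) :
    ∃ (W₁ W₂ : Y.Opens) (U₁ U₂ : Z.Opens) (e₁ : Γ(L, U₁)) (e₂ : Γ(L, U₂)),
      IsAffineOpen W₁ ∧ IsAffineOpen W₂ ∧ i ⁻¹ᵁ W₁ ≤ U₁ ∧ i ⁻¹ᵁ W₂ ≤ U₂ ∧ IsGen L e₁ ∧ IsGen L e₂ ∧
      ∀ z : Z, i.base z ∈ W₁ ∨ i.base z ∈ W₂ := by
  obtain ⟨W₁, U₁, e₁, hW₁, hS₁, hle₁, he₁⟩ := exists_affine_gen i hA hL
    (S := {z | IsMaxPt z}) (@Set.toFinite _ _ (Groth.Agent.H05EGA4.EtCl.finite_isMaxPt Z)) fun z hz z' hz' h => hz' z h
  have hC : IsClosed ((i ⁻¹ᵁ W₁ : Z.Opens) : Set Z)ᶜ := (i ⁻¹ᵁ W₁).2.isClosed_compl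
  have hno : ∀ z ∈ ((i ⁻¹ᵁ W₁ : Z.Opens) : Set Z)ᶜ, ¬ IsMaxPt z := fun z hz hm => hz (hS₁ hm)
  obtain ⟨W₂, U₂, e₂, hW₂, hS₂, hle₂, he₂⟩ := exists_affine_gen i hA hL (finite_of_no_maxPt hdim hC hno)
    fun z hz z' _ h => (isMaxPt_or_eq hdim z z' h).resolve_left (hno z hz)
  refine ⟨W₁, W₂, U₁, U₂, e₁, e₂, hW₁, hW₂, hle₁, hle₂, he₁, he₂, fun z => ?_⟩
  by_cases hz : i.base z ∈ W₁
  · exact Or.inl hz
  · exact Or.inr (hS₂ hz)

end Groth.Agent.H1DFun
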