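import Groth.Agent.H9Hens.ProperPair
import Groth.Agent.H9Hens.FinitePartScheme
import Mathlib.AlgebraicGeometry.IdealSheaf.Subscheme

/-!
# Shrinking two opens covering a proper scheme over a henselian local ring
-/

set_option autoImplicit false

universe u

open CategoryTheory AlgebraicGeometry Opposite TopologicalSpace

namespace Groth.Agent.H1DFun

variable {A : Type u} [CommRing A] [HenselianLocalRing A] {Y : Scheme.{u}} (p : Y ⟶ Spec (CommRingCat.of A))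
  [IsProper p]

theorem exists_mem_closedFibre {C : Set Y} (hC : IsClosed C) (hne : C.Nonempty) :
    ∃ y ∈ C, p.base y = IsLocalRing.closedPoint A := by
  obtain ⟨w, hw⟩ := hne
  obtain ⟨y, hy, hpy⟩ := ((IsLocalRing.specializes_closedPoint (p.base w)).mem_closed
    (p.isClosedMap _ hC) ⟨w, hw, rfl⟩ : IsLocalRing.closedPoint A ∈ p.base '' C)
  exact ⟨y, hy, hpy⟩

omit [HenselianLocalRing A] in
theorem mem_zeroLocus_maximalIdeal [IsLocalRing A] (x : PrimeSpectrum A) :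
    x ∈ PrimeSpectrum.zeroLocus (IsLocalRing.maximalIdeal A : Set A) ↔ x = IsLocalRing.closedPoint A := by
  rw [PrimeSpectrum.mem_zeroLocus, SetLike.coe_subset_coe]
  exact ⟨fun h => PrimeSpectrum.ext ((IsLocalRing.maximalIdeal.isMaximal A).eq_of_le x.2.ne_top h).symm,
    fun h => h ▸ le_refl _⟩

/-- An overlap can be shrunk into the open where a function is invertible. -/
theorem exists_opens_basicOpen (W₁ W₂ : Y.Opens)
    (hcov : ∀ y : Y, p.base y = IsLocalRing.closedPoint A → y ∈ W₁ ∨ y ∈ W₂) (a : Γ(Y, W₁ ⊓ W₂))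
    (ha : ∀ y ∈ W₁ ⊓ W₂, p.base y = IsLocalRing.closedPoint A → y ∈ Y.basicOpen a) :
    ∃ W₁' W₂' : Y.Opens, W₁' ≤ W₁ ∧ W₂' ≤ W₂ ∧ (∀ y : Y, y ∈ W₁' ∨ y ∈ W₂') ∧
      W₁' ⊓ W₂' ≤ Y.basicOpen a := by
  haveI := H9Hens.henselianRing_maximalIdeal A
  let C₀ : Set Y := {y | y ∈ W₁ ⊓ W₂ ∧ y ∉ Y.basicOpen a}
  let C : Closeds Y := ⟨closure C₀, isClosed_closure⟩
  let I := Scheme.IdealSheafData.vanishingIdeal C
  let ι := I.subschemeι
  have hr : Set.range ι.base = closure C₀ := by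
    show Set.range I.subschemeι = _
    rw [Scheme.IdealSheafData.range_subschemeι, Scheme.IdealSheafData.coe_support_vanishingIdeal]
    rfl
  have hC₀ : ∀ y ∈ closure C₀, y ∈ W₁ ⊓ W₂ → y ∉ Y.basicOpen a := by
    intro y hy hyW hya
    obtain ⟨z, hza, hzC⟩ := mem_closure_iff.1 hy (Y.basicOpen a : Set Y) (Y.basicOpen a).2 hya
    exact hzC.2 hza
  let V : Set ↥((ι ≫ p) ⁻¹' PrimeSpectrum.zeroLocus (IsLocalRing.maximalIdeal A : Set A)) :=
    {z | ι.base z.1 ∉ W₁}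
  have hfib : ∀ z : ↥((ι ≫ p) ⁻¹' PrimeSpectrum.zeroLocus (IsLocalRing.maximalIdeal A : Set A)),
      p.base (ι.base z.1) = IsLocalRing.closedPoint A := fun z => by
    exact (mem_zeroLocus_maximalIdeal ((ι ≫ p).base z.1)).1 z.2
  have hsplit : ∀ z : ↥((ι ≫ p) ⁻¹' PrimeSpectrum.zeroLocus (IsLocalRing.maximalIdeal A : Set A)),
      ι.base z.1 ∈ W₁ ↔ ι.base z.1 ∉ W₂ := fun z => by
    refine ⟨fun h₁ h₂ => hC₀ _ (hr ▸ ⟨z.1, rfl⟩) ⟨h₁, h₂⟩ (ha _ ⟨h₁, h₂⟩ (hfib z)), fun h₂ => ?_⟩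
    exact (hcov _ (hfib z)).resolve_right h₂
  have hV : IsClopen V := by
    refine ⟨(W₁.2.isClosed_compl.preimage ι.continuous).preimage continuous_subtype_val, ?_⟩
    rw [show V = {z | ι.base z.1 ∈ W₂} from Set.ext fun z => by
      simp only [V, Set.mem_ofPred_eq, hsplit z, not_not]]
    exact (W₂.2.preimage ι.continuous).preimage continuous_subtype_val
  obtain ⟨U, ⟨hU, hUV⟩, -⟩ := H9Hens.ProperPair.uniqueLift_proper (IsLocalRing.maximalIdeal A) (ι ≫ p) V hV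
  have hcl : ∀ S : Set I.subscheme, IsClosed S → IsClosed (ι.base '' S) := fun S hS => ι.isClosedMap S hS
  let W₁' : Y.Opens := W₁ ⊓ ⟨(ι.base '' U)ᶜ, (hcl _ hU.1).isOpen_compl⟩
  let W₂' : Y.Opens := W₂ ⊓ ⟨(ι.base '' Uᶜ)ᶜ, (hcl _ hU.compl.1).isOpen_compl⟩
  refine ⟨W₁', W₂', inf_le_left, inf_le_left, fun y => ?_, fun y ⟨⟨h₁, h₁'⟩, h₂, h₂'⟩ => ?_⟩
  · by_contra hy
    obtain ⟨z, hz, hpz⟩ := exists_mem_closedFibre p (W₁' ⊔ W₂').2.isClosed_compl ⟨y, hy⟩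
    refine hz ?_
    by_cases h₁ : z ∈ W₁
    · refine Or.inl ⟨h₁, ?_⟩
      rintro ⟨w, hwU, rfl⟩
      have hw : w ∈ (ι ≫ p) ⁻¹' PrimeSpectrum.zeroLocus (IsLocalRing.maximalIdeal A : Set A) :=
        (mem_zeroLocus_maximalIdeal ((ι ≫ p).base w)).2 hpz
      have : (⟨w, hw⟩ : ↥((ι ≫ p) ⁻¹' _)) ∈ V := hUV ▸ hwU
      exact this h₁
    · refine Or.inr ⟨(hcov z hpz).resolve_left h₁, ?_⟩
      rintro ⟨w, hwU, rfl⟩
      have hw : w ∈ (ι ≫ p) ⁻¹' PrimeSpectrum.zeroLocus (IsLocalRing.maximalIdeal A : Set A) :=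
        (mem_zeroLocus_maximalIdeal ((ι ≫ p).base w)).2 hpz
      exact hwU (show w ∈ U from (Set.ext_iff.1 hUV ⟨w, hw⟩).2 h₁)
  · by_contra hya
    have hyC : y ∈ Set.range ι.base := hr ▸ subset_closure ⟨⟨h₁, h₂⟩, hya⟩
    obtain ⟨w, rfl⟩ := hyC
    by_cases hw : w ∈ U
    · exact h₁' ⟨w, hw, rfl⟩
    · exact h₂' ⟨w, hw, rfl⟩

end Groth.Agent.H1DFun
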