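import Groth.Agent.H1DFun.GmLiftCoh
import Groth.Agent.H1DFun.GmLiftGeom
import Groth.Agent.H1DFun.TwoOpens
import Groth.Agent.H05EGA4.EtTors.HofPush
import Groth.Agent.H18Et.PushIntegral

/-!
# Lifting classes of `G_m` in degree one from the closed fibre
-/

set_option autoImplicit false
set_option linter.style.haveILetI false
set_option backward.isDefEq.respectTransparency false
set_option backward.isDefEq.respectTransparency.types false

universe u

open CategoryTheory CategoryTheory.Limits AlgebraicGeometry Opposite Abelian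
open Groth.Agent.H05EGA4.EtH90
open Groth.Agent.H18Et.Subterminal (ofOpen)
open Groth.Agent.H18Et.MuConst (sec sec_surjective map_sec)
open scoped Groth.Agent.H18Et

namespace Groth.Agent.H1DFun

variable {Y Z : Scheme.{u}} (i : Z ⟶ Y)

/-- The base change of an open. -/
noncomputable abbrev bcOpen (W : Y.Opens) : Z.Etale := (EtCoh.bc i).obj (ofOpen W)

/-- The projection of the base change of an open. -/
noncomputable abbrev bcFst (W : Y.Opens) : (bcOpen i W).left ⟶ W.toScheme := pullback.fst W.ι i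

theorem nonempty_hom_bcOpen (W : Y.Opens) (U : Z.Opens) (h : i ⁻¹ᵁ W ≤ U) :
    Nonempty (bcOpen i W ⟶ ofOpen U) := by
  refine (Groth.Agent.H18Et.Subterminal.nonempty_hom_iff U _).2 fun x => h ?_
  show i.base ((pullback.snd W.ι i).base x) ∈ W
  rw [← Scheme.Hom.comp_apply, ← pullback.condition, Scheme.Hom.comp_apply]
  exact ((pullback.fst W.ι i).base x).2

theorem GmPush_sec (V : Y.Etale) (v : Γ(V.left, ⊤)ˣ) :
    (EtLim.GmPush i).hom.app (op V) (sec v) = sec (U := (EtCoh.bc i).obj V)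
      (Units.map ((pullback.fst V.hom i : ((EtCoh.bc i).obj V).left ⟶ V.left).appTop).hom.toMonoidHom v) := rfl

/-- A global section of the direct image lifts over an open whose preimage carries a lift. -/
theorem exists_lift_push {I Q : EtCoh.Ab Z} (q : I ⟶ Q) (W : Y.Opens) (U : Z.Opens) (hWU : i ⁻¹ᵁ W ≤ U)
    (t : EtCoh.sect ((EtCoh.push i).obj Q) (EtCoh.top Y)) (r : osect I U)
    (hr : gq q U r = gs U (res (U := (EtCoh.bc i).obj (EtCoh.top Y)) Q (EtCore.bcTopIso i).inv t)) :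
    ∃ s : osect ((EtCoh.push i).obj I) W,
      ((EtCoh.push i).map q).hom.app (op (ofOpen W)) s = topRes ((EtCoh.push i).obj Q) W t := by
  obtain ⟨h⟩ := nonempty_hom_bcOpen i W U hWU
  refine ⟨res I h r, ?_⟩
  show q.hom.app (op (bcOpen i W)) (res I h r) =
    res Q ((EtCoh.bc i).map ((EtCore.topIsTerminal Y).from (ofOpen W))) t
  rw [res_app q h r]
  refine (congrArg (res Q h) hr).trans ?_
  refine ((congrArg (res Q h) (res_res Q _ _ t)).trans (res_res Q _ _ t)).trans ?_
  exact res_congr Q ((EtCore.bcTopIsTerminal i).hom_ext _ _) t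

variable {A : Type u} [CommRing A] [HenselianLocalRing A] (p : Y ⟶ Spec (CommRingCat.of A)) [IsProper p]
  [IsClosedImmersion i] [AlgebraicGeometry.IsNoetherian Z] {LY : Y.Modules}

/-- Classes of the units of the closed fibre lift. -/
theorem exists_H1_Gm_lift (hA : CohB1.IsAmple LY) (hdim : topologicalKrullDim Z ≤ 1)
    (hfib : ∀ y : Y, p.base y = IsLocalRing.closedPoint A → y ∈ Set.range i.base)
    (z : Sheaf.H ((EtCoh.push i).obj (EtCoh.Gm Z)) 1) :
    ∃ x : Sheaf.H (EtCoh.Gm Y) 1, Sheaf.H.map (EtLim.GmPush i) 1 x = z := by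
  haveI : CompactSpace Y := QuasiCompact.compactSpace_of_compactSpace p
  haveI : QuasiSeparatedSpace Y := quasiSeparatedSpace_of_quasiSeparated p
  haveI : Y.IsSeparated := ⟨by rw [← terminal.comp_from p]; infer_instance⟩
  obtain ⟨I₀, Q₀, i₀, q₀, w₀, hI₀, hS₀⟩ := exists_seq Z
  obtain ⟨J, QY, iY, qY, wY, hJ, hSY⟩ := exists_seq Y
  haveI := H18Et.push_preservesFiniteColimits_of_isIntegralHom i
  haveI := H18Et.pull_preservesFiniteLimits i
  haveI := H05EGA4.EtTors.preservesFiniteLimits_push i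
  haveI : (EtCoh.push i).Additive := inferInstance
  haveI := H05EGA4.EtTors.injective_push i I₀
  have wB : (EtCoh.push i).map i₀ ≫ (EtCoh.push i).map q₀ = 0 := by
    rw [← Functor.map_comp, w₀, Functor.map_zero]
  have hB : (ShortComplex.mk ((EtCoh.push i).map i₀) ((EtCoh.push i).map q₀) wB).ShortExact :=
    hS₀.map_of_exact (EtCoh.push i)
  obtain ⟨t, rfl⟩ := delta_surjective hB z
  obtain ⟨L, hL, hrep⟩ := exists_rep (i := i₀) (q := q₀) hS₀
    (res (U := (EtCoh.bc i).obj (EtCoh.top Y)) Q₀ (EtCore.bcTopIso i).inv t)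
  obtain ⟨W₁, W₂, U₁, U₂, e₁, e₂, hW₁, hW₂, hle₁, hle₂, he₁, he₂, hcovZ⟩ :=
    exists_two_affine_gen i hA hdim hL
  obtain ⟨r₁, hr₁⟩ := H05EGA4.EtDiv.exists_lift_of_gen hS₀ hrep he₁
  obtain ⟨r₂, hr₂⟩ := H05EGA4.EtDiv.exists_lift_of_gen hS₀ hrep he₂
  obtain ⟨s₁, hs₁⟩ := exists_lift_push i q₀ W₁ U₁ hle₁ t r₁ hr₁
  obtain ⟨s₂, hs₂⟩ := exists_lift_push i q₀ W₂ U₂ hle₂ t r₂ hr₂
  let W := W₁ ⊓ W₂
  let BI := (EtCoh.push i).obj I₀
  let BQ := (EtCoh.push i).obj Q₀
  let πq : BI ⟶ BQ := (EtCoh.push i).map q₀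
  let d : osect BI W := ores BI inf_le_left s₁ - ores BI inf_le_right s₂
  have hd : πq.hom.app (op (ofOpen W)) d = 0 := by
    refine (map_sub _ _ _).trans ?_
    rw [ores_app, ores_app]
    erw [hs₁, hs₂]
    rw [ores_topRes, ores_topRes, sub_self]
  obtain ⟨v, hb⟩ := (sections_exact i₀ q₀ w₀ hS₀ (bcOpen i W)).2 d hd
  have hW : IsAffineOpen W := hW₁.inf hW₂
  haveI : IsAffine W.toScheme := hW
  haveI : IsClosedImmersion (bcFst i W) := inferInstance
  obtain ⟨a₀, ha₀⟩ := (bcFst i W).app_surjective ⊤ (isAffineOpen_top _) (v : Γ((bcOpen i W).left, ⊤))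
  let a : Γ(Y, W) := W.topIso.hom a₀
  have hcov : ∀ y : Y, p.base y = IsLocalRing.closedPoint A → y ∈ W₁ ∨ y ∈ W₂ := fun y hy => by
    obtain ⟨z, rfl⟩ := hfib y hy
    exact hcovZ z
  obtain ⟨W₁', W₂', h₁, h₂, hc, hle⟩ := exists_opens_basicOpen p W₁ W₂ hcov a fun y hy hpy => by
    obtain ⟨z, hz⟩ := hfib y hpy
    obtain ⟨P, hP, -⟩ := Scheme.Pullback.exists_preimage_pullback (f := W.ι) (g := i) ⟨y, hy⟩ z hz.symm
    have hmem : (bcFst i W).base P ∈ W.toScheme.basicOpen a₀ := by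
      have h : P ∈ (bcFst i W) ⁻¹ᵁ W.toScheme.basicOpen a₀ := by
        rw [Scheme.preimage_basicOpen, show (bcFst i W).app ⊤ a₀ = (v : Γ((bcOpen i W).left, ⊤)) from ha₀,
          Scheme.basicOpen_of_isUnit _ v.isUnit]
        trivial
      exact h
    rw [show a₀ = W.topIso.inv a from (CommRingCat.inv_hom_apply W.topIso a₀).symm] at hmem
    have himg : W.ι.base ((bcFst i W).base P) ∈ W.ι ''ᵁ W.toScheme.basicOpen (W.topIso.inv a) :=
      ⟨_, hmem, rfl⟩
    rw [Scheme.Opens.ι_image_basicOpen_topIso_inv] at himg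
    rw [show (bcFst i W).base P = ⟨y, hy⟩ from hP] at himg
    exact himg
  let W' := W₁' ⊓ W₂'
  have hW'W : W' ≤ W := inf_le_inf h₁ h₂
  have hu : IsUnit (Y.presheaf.map (homOfLE hW'W).op a) := by
    have h : IsUnit (Y.presheaf.map (homOfLE (Y.basicOpen_le a)).op a) :=
      Y.toRingedSpace.isUnit_res_basicOpen a
    have := h.map (Y.presheaf.map (homOfLE hle).op).hom
    rw [show homOfLE hW'W = homOfLE hle ≫ homOfLE (Y.basicOpen_le a) from rfl, op_comp, Functor.map_comp]
    exact this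
  let a' : Γ(W'.toScheme, ⊤)ˣ := Units.map W'.topIso.inv.hom.toMonoidHom hu.unit
  have key : ((EtCoh.push i).map i₀).hom.app (op (ofOpen W'))
      ((EtLim.GmPush i).hom.app (op (ofOpen W')) (sec a')) =
      ores BI inf_le_left (ores BI h₁ s₁) - ores BI inf_le_right (ores BI h₂ s₂) := by
    have hh : (EtLim.GmPush i).hom.app (op (ofOpen W')) (sec a') =
        res (EtCoh.Gm Z) ((EtCoh.bc i).map (opHom hW'W)) (sec v) := by
      rw [GmPush_sec]
      refine Eq.trans (congrArg sec (Units.ext ?_)) (map_sec _ _).symm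
      show (bcFst i W').appTop (W'.topIso.inv (Y.presheaf.map (homOfLE hW'W).op a)) =
        ((EtCoh.bc i).map (opHom hW'W)).left.appTop (v : Γ((bcOpen i W).left, ⊤))
      rw [← ha₀]
      have hw : ((EtCoh.bc i).map (opHom hW'W)).left ≫ bcFst i W = bcFst i W' ≫ Y.homOfLE hW'W :=
        (EtCoh.isPullback_bc_map i (opHom hW'W)).w
      have hw' := congrArg (fun f => Scheme.Hom.appTop f a₀) hw
      rw [Scheme.Hom.comp_appTop, Scheme.Hom.comp_appTop, CommRingCat.comp_apply, CommRingCat.comp_apply] at hw'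
      refine Eq.trans (congrArg _ ?_) hw'.symm
      show _ = (Y.homOfLE hW'W).appTop a₀
      rw [Scheme.homOfLE_appTop]
      show W'.topIso.inv (Y.presheaf.map (homOfLE hW'W).op (W.topIso.hom a₀)) = _
      rw [Scheme.Opens.topIso_hom, Scheme.Opens.topIso_inv, ← CommRingCat.comp_apply, ← CommRingCat.comp_apply,
        ← Y.presheaf.map_comp, ← Y.presheaf.map_comp]
      rfl
    rw [hh]
    show i₀.hom.app _ _ = _
    refine (res_app i₀ _ _).trans ((congrArg (res I₀ _) hb).trans ?_)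
    show ores BI hW'W (ores BI inf_le_left s₁ - ores BI inf_le_right s₂) = _
    rw [map_sub, ores_ores, ores_ores, ores_ores, ores_ores]
  obtain ⟨t', ht'⟩ := exists_delta_lift (EtLim.GmPush i) hSY hB t W₁' W₂' hc (ores BI h₁ s₁) (ores BI h₂ s₂)
    ((ores_app πq h₁ s₁).trans ((congrArg (ores BQ h₁) hs₁).trans (ores_topRes BQ h₁ t)))
    ((ores_app πq h₂ s₂).trans ((congrArg (ores BQ h₂) hs₂).trans (ores_topRes BQ h₂ t)))
    (sec a') key
  exact ⟨_, ht'⟩

end Groth.Agent.H1DFun
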