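import Groth.Agent.H1DFun.ProperAcyc
import Groth.Agent.H15Site.Shriek.RpushAcyclic
import Groth.Agent.H1DFun.CohDimBasic
import Groth.Agent.S3073

/-!
# Cohomology on proper schemes over henselian local rings
-/

set_option autoImplicit false
set_option linter.style.haveILetI false
set_option backward.isDefEq.respectTransparency false
set_option backward.isDefEq.respectTransparency.types false

universe u

open CategoryTheory CategoryTheory.Limits AlgebraicGeometry Opposite Abelian
open Groth.Agent.H18Et Groth.Agent.H1Lim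
open scoped Groth.Agent.H18Et Groth.Agent.H18Et.CohColim

namespace Groth.Agent.H1DFun

attribute [local instance] Groth.Agent.H18Et.pull_preservesFiniteLimits

/-- Torsion sheaves embed in torsion sheaves acyclic for sections and for direct images. -/
theorem exists_mono_torsion_acyclic_push {X Y : Scheme.{u}} [CompactSpace X] [QuasiSeparatedSpace X]
    (f : X ⟶ Y) [QuasiCompact f] [QuasiSeparated f] (F : EtCoh.Ab X) (hF : EtCoh.IsTorsion F) :
    ∃ (G : EtCoh.Ab X) (ι : F ⟶ G), Mono ι ∧ EtCoh.IsTorsion G ∧
      (∀ q, 0 < q → Subsingleton (Sheaf.H G q)) ∧ ∀ q, 0 < q → IsZero ((EtCoh.Rpush f q).obj G) := by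
  let J := Injective.under F
  haveI := isIso_desc_torSys F hF
  let d : colimit (torSys F) ⟶ F := colimit.desc (torSys F) (torCocone F)
  haveI : IsIso d := this
  let a : colimit (torSys F) ⟶ colimit (torSys J) := colimMap (torSysMap (Injective.ι F))
  have ha : a ≫ colimit.desc (torSys J) (torCocone J) = d ≫ Injective.ι F := colimit.hom_ext fun j => by
    simp only [a, d, ι_colimMap_assoc, colimit.ι_desc, colimit.ι_desc_assoc]
    exact kernel.lift_ι _ _ _
  haveI : Mono (a ≫ colimit.desc (torSys J) (torCocone J)) := by rw [ha]; infer_instance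
  haveI : Mono a := mono_of_mono a (colimit.desc (torSys J) (torCocone J))
  refine ⟨colimit (torSys J), inv d ≫ a, inferInstance, isTorsion_colimit_torSys J, fun q hq => ?_,
    fun q hq => H15Site.Shriek.isZero_Rpush_colimit_torSys f J q hq⟩
  obtain ⟨q, rfl⟩ := Nat.exists_eq_succ_of_ne_zero hq.ne'
  refine subsingleton_of_forall_eq 0 fun x => ?_
  obtain ⟨j, y, hy⟩ := (CohColim.hSurj_hInj (q + 1) (torSys J)).1 x
  haveI : Subsingleton (Sheaf.H ((torSys J).obj j) (q + 1)) :=
    subsingleton_H_kernel_nsmul J _ (Nat.factorial_pos _).ne' q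
  rw [← hy, Subsingleton.elim y 0, map_zero]

theorem subsingleton_ext_of_pullConst {X Y : Scheme.{u}} (f : X ⟶ Y) (G : EtCoh.Ab X) (n : ℕ) :
    Subsingleton (Sheaf.H G n) ↔ Subsingleton (Ext ((EtCoh.pull f).obj (EtCoh.const Y ℤ)) G n) := by
  refine Equiv.subsingleton_congr
    ⟨fun x => (Ext.mk₀ (EtCore.pullConst f ℤ).hom).comp x (zero_add n),
      fun x => (Ext.mk₀ (EtCore.pullConst f ℤ).inv).comp x (zero_add n), fun x => ?_, fun x => ?_⟩
  · simp
  · simp

/-- The global sections of the direct image of an acyclic sheaf are acyclic. -/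
theorem subsingleton_H_push_acyclic {X Y : Scheme.{u}} (f : X ⟶ Y) (G : EtCoh.Ab X) (p : ℕ)
    (hf : ∀ q, 0 < q → IsZero ((EtCoh.Rpush f q).obj G)) (h : Subsingleton (Sheaf.H G p)) :
    Subsingleton (Sheaf.H ((EtCoh.push f).obj G) p) := by
  haveI := (subsingleton_ext_of_pullConst f G p).1 h
  exact ((edge_of_vanishing (EtCoh.pullPushAdj f) (EtCoh.const Y ℤ) p G
    (fun q h1 _ => hf q h1)).1 p le_rfl).1.subsingleton

variable (A : Type u) [CommRing A] [HenselianLocalRing A] {X : Scheme.{u}} (f : X ⟶ Spec (CommRingCat.of A))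
  [IsProper f]

/-- Torsion classes on the closed fibre are effaceable. -/
theorem killOn_closedFibre :
    haveI : IsClosedImmersion (Spec.map (CommRingCat.ofHom (IsLocalRing.residue A))) :=
      IsClosedImmersion.spec_of_surjective _ IsLocalRing.residue_surjective
    haveI : CompactSpace X := QuasiCompact.compactSpace_of_compactSpace f
    haveI : QuasiSeparatedSpace X := quasiSeparatedSpace_of_quasiSeparated f
    KillOn (pullback.fst f (Spec.map (CommRingCat.ofHom (IsLocalRing.residue A)))) := by
  intro F hF q hq ξ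
  let g := Spec.map (CommRingCat.ofHom (IsLocalRing.residue A))
  let i := pullback.fst f g
  let f₀ := pullback.snd f g
  haveI : CompactSpace X := QuasiCompact.compactSpace_of_compactSpace f
  haveI : QuasiSeparatedSpace X := quasiSeparatedSpace_of_quasiSeparated f
  obtain ⟨G, ι, hι, hG, hH, hR⟩ := exists_mono_torsion_acyclic_push f F hF
  refine ⟨G, hG, ι, hι, ?_⟩
  suffices h : Subsingleton (Sheaf.H ((EtCoh.pull i).obj G) q) from Subsingleton.elim _ _
  rw [subsingleton_ext_of_pullConst f₀]
  refine subsingleton_ext_of_rows (EtCoh.pullPushAdj f₀) (EtCoh.const _ ℤ) q _ fun p j hpj => ?_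
  have sq : IsPullback i f₀ f g := IsPullback.of_hasPullback f g
  rcases Nat.eq_zero_or_pos j with rfl | hj
  · have hp : 0 < p := by omega
    haveI := subsingleton_H_push_acyclic f G p hR (hH p hp)
    haveI : Subsingleton (Sheaf.H ((EtCoh.pull g).obj ((EtCoh.push f).obj G)) p) :=
      (Groth.Agent.S3073.result A ((EtCoh.push f).obj G) p).2.subsingleton
    haveI := S0157.result f f₀ i g sq G
    exact subsingleton_ext_of_iso _
      (asIso (EtCoh.baseChange0 f g f₀ i sq.w G) ≪≫
        ((EtCoh.push f₀).rightDerivedZeroIsoSelf.app ((EtCoh.pull i).obj G)).symm) p ‹_›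
  · haveI := isIso_bcQ_of_isProper g f f₀ i sq j G hG
    have hz : IsZero ((EtCoh.Rpush f₀ j).obj ((EtCoh.pull i).obj G)) :=
      (Functor.map_isZero _ (hR j hj)).of_iso (asIso (EtBC.bcQ f g f₀ i sq.w j G)).symm
    exact subsingleton_of_forall_eq 0 fun x => by
      rw [← Ext.comp_mk₀_id x, hz.eq_of_src (𝟙 _) 0, Ext.mk₀_zero, Ext.comp_zero]

/-- Torsion cohomology restricts bijectively to the closed fibre. -/
theorem bijective_hpull_closedFibre (F : EtCoh.Ab X) (hF : EtCoh.IsTorsion F) (q : ℕ) :
    Function.Bijective (hpull (pullback.fst f (Spec.map (CommRingCat.ofHom (IsLocalRing.residue A)))) F q) := by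
  haveI : IsClosedImmersion (Spec.map (CommRingCat.ofHom (IsLocalRing.residue A))) :=
    IsClosedImmersion.spec_of_surjective _ IsLocalRing.residue_surjective
  let i := pullback.fst f (Spec.map (CommRingCat.ofHom (IsLocalRing.residue A)))
  haveI : CompactSpace X := QuasiCompact.compactSpace_of_compactSpace f
  haveI : QuasiSeparatedSpace X := quasiSeparatedSpace_of_quasiSeparated f
  haveI : IsClosedImmersion i := MorphismProperty.pullback_fst _ _ inferInstance
  have hu := bijective_H_map_unit_of_kill i (killOn_closedFibre A f)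
    (fun G => Groth.Agent.S0167.result A X f G) q F hF
  have hb := hpull_map_bijective i (𝟙 ((EtCoh.push i).obj ((EtCoh.pull i).obj F))) q
  exact (congrArg Function.Bijective (funext fun y => adjClass_unit i F q y)).mp (hb.comp hu)

end Groth.Agent.H1DFun
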