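import Groth.Agent.H18Et.UnitConst
import Mathlib.RingTheory.Smooth.IntegralClosure
import Mathlib.AlgebraicGeometry.Morphisms.Etale
import Mathlib.RingTheory.Spectrum.Prime.Topology

/-!
# Affine morphisms with integrally closed structure are unibranch
-/

set_option autoImplicit false
set_option backward.isDefEq.respectTransparency false
set_option backward.isDefEq.respectTransparency.types false

universe u

open CategoryTheory CategoryTheory.Limits AlgebraicGeometry Opposite Topology TensorProduct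
open Groth.Agent.H18Et

namespace Groth.Agent.H1DFun

/-- Idempotents descend along smooth base change of an integrally closed extension. -/
theorem exists_idempotent_tensor (B C R : Type u) [CommRing B] [CommRing C] [CommRing R] [Algebra B C]
    [Algebra B R] [Algebra.Smooth B C] (hinj : Function.Injective (algebraMap B R))
    (hic : ∀ s : R, IsIntegral B s → ∃ b, algebraMap B R b = s) (e : C ⊗[B] R) (he : IsIdempotentElem e) :
    ∃ c : C, IsIdempotentElem c ∧ c ⊗ₜ[B] (1 : R) = e := by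
  have he' : IsIntegral C e := ⟨Polynomial.X ^ 2 - Polynomial.X, Polynomial.monic_X_pow_sub (lt_of_le_of_lt Polynomial.degree_X_le (by norm_num)), by
    simp only [Polynomial.eval₂_sub, Polynomial.eval₂_X_pow, Polynomial.eval₂_X]
    rw [pow_two, he, sub_self]⟩
  obtain ⟨t, ht⟩ := (TensorProduct.toIntegralClosure_bijective_of_smooth (R := B) (S := C) (B := R)).2 ⟨e, he'⟩
  replace ht := congrArg Subtype.val ht
  have key : ∀ t : C ⊗[B] integralClosure B R,
      ∃ c : C, c ⊗ₜ[B] (1 : R) = Algebra.TensorProduct.map (.id C C) (integralClosure B R).val t := by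
    intro t
    induction t with
    | zero => exact ⟨0, by simp⟩
    | add x y hx hy =>
      obtain ⟨a, ha⟩ := hx
      obtain ⟨b, hb⟩ := hy
      exact ⟨a + b, by rw [add_tmul, ha, hb, map_add]⟩
    | tmul x y =>
      obtain ⟨b, hb⟩ := hic y y.2
      refine ⟨b • x, ?_⟩
      rw [Algebra.TensorProduct.map_tmul, AlgHom.id_apply, TensorProduct.smul_tmul,
        ← Algebra.algebraMap_eq_smul_one, hb]
      rfl
  obtain ⟨c, hc⟩ := key t
  have hce : c ⊗ₜ[B] (1 : R) = e := hc.trans ht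
  refine ⟨c, Algebra.TensorProduct.includeLeft_injective (S := B) (R := B) (A := C) hinj ?_, hce⟩
  show (c * c) ⊗ₜ[B] (1 : R) = c ⊗ₜ[B] (1 : R)
  conv_lhs => rw [← mul_one (1 : R), ← Algebra.TensorProduct.tmul_mul_tmul, hce, he.eq]
  exact hce.symm

theorem exists_idempotent_of_isPushout {B C R T : CommRingCat.{u}} {φ : B ⟶ C} {ψ : B ⟶ R} {a : C ⟶ T}
    {b : R ⟶ T} (h : IsPushout φ ψ a b) (hφ : φ.hom.Etale) (hinj : Function.Injective ψ)
    (hic : ∀ s : R, ψ.hom.IsIntegralElem s → ∃ r, ψ r = s) (e : T) (he : IsIdempotentElem e) :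
    ∃ c : C, IsIdempotentElem c ∧ a c = e := by
  algebraize [φ.hom, ψ.hom]
  haveI : Algebra.Smooth B C := {}
  let E := (CommRingCat.isPushout_tensorProduct B C R).isoIsPushout _ _ h
  obtain ⟨c, hc, hce⟩ := exists_idempotent_tensor B C R hinj hic (E.inv e) (he.map E.inv.hom)
  refine ⟨c, hc, ?_⟩
  have h1 : E.hom (c ⊗ₜ[B] (1 : R)) = a c :=
    ConcreteCategory.congr_hom ((CommRingCat.isPushout_tensorProduct B C R).inl_isoIsPushout_hom _ _ h) c
  rw [← h1, hce, ← CommRingCat.comp_apply, E.inv_hom_id]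
  rfl

/-- Clopen subsets of an affine scheme are given by idempotents. -/
theorem exists_idempotent_of_isClopen {P : Scheme.{u}} [IsAffine P] {C : Set P} (hC : IsClopen C) :
    ∃ e : Γ(P, ⊤), IsIdempotentElem e ∧ C = (P.basicOpen e : Set P) := by
  let θ : P ≃ₜ Spec Γ(P, ⊤) := TopCat.homeoOfIso (asIso P.toSpecΓ.base)
  obtain ⟨e, he, heq⟩ := PrimeSpectrum.isClopen_iff.1 (show IsClopen (θ '' C) from
    ⟨θ.isClosed_image.2 hC.1, θ.isOpen_image.2 hC.2⟩)
  refine ⟨e, he, ?_⟩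
  rw [← Scheme.toSpecΓ_preimage_basicOpen]
  exact (Set.preimage_image_eq C θ.injective).symm.trans (congrArg (θ ⁻¹' ·) heq)

/-- An affine morphism which is dominant and, locally on the target, given by integrally closed
extensions is unibranch. -/
theorem unibranchAlong_of_integrallyClosed {X Z : Scheme.{u}} (f : Z ⟶ X) [IsAffineHom f]
    (hd : DenseRange f.base)
    (h : ∀ x : X, ∃ U : X.Opens, x ∈ U ∧ IsAffineOpen U ∧ Function.Injective (f.app U) ∧
      ∀ s : Γ(Z, f ⁻¹ᵁ U), (f.app U).hom.IsIntegralElem s → ∃ r, f.app U r = s) :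
    ConstSheaf.UnibranchAlong f := by
  suffices H : ∀ (W : Scheme.{u}) (g : W ⟶ X) [Etale g] (w : W),
      ∃ c₀ : ↥(pullback g _), ∀ C, IsClopen C → c₀ ∈ C → w ∉ closure ((pullback.fst g _).base '' Cᶜ) from
    fun W _ w => @H W.left W.hom W.prop w
  intro W g _ w
  obtain ⟨U, hwU, hU, hinj, hic⟩ := h (g w)
  obtain ⟨O, hO, hwO, hOU⟩ := exists_isAffineOpen_mem_and_subset (X := W) (x := w) (U := g ⁻¹ᵁ U) hwU
  let V : Z.Opens := f ⁻¹ᵁ U
  haveI : IsAffine U.toScheme := hU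
  haveI : IsAffine O.toScheme := hO
  haveI : IsAffine V.toScheme := hU.preimage f
  let g' : O.toScheme ⟶ U.toScheme := g.resLE U O hOU
  haveI : Etale g' := by
    haveI : Etale (g' ≫ U.ι) := by rw [Scheme.Hom.resLE_comp_ι]; infer_instance
    exact Etale.of_comp g' U.ι
  let p := pullback.fst g f
  let P : (pullback g f).Opens := p ⁻¹ᵁ O
  have hP : IsPullback (P.ι ≫ pullback.snd g f) (p ∣_ O) f (O.ι ≫ g) :=
    (isPullback_morphismRestrict p O).flip.paste_horiz (IsPullback.of_hasPullback g f).flip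
  have hPV : P ≤ pullback.snd g f ⁻¹ᵁ V := fun z hz => by
    show f (pullback.snd g f z) ∈ U
    rw [← Scheme.Hom.comp_apply, ← pullback.condition, Scheme.Hom.comp_apply]
    exact hOU hz
  let q : P.toScheme ⟶ V.toScheme := (pullback.snd g f).resLE V P hPV
  have hqV : q ≫ V.ι = P.ι ≫ pullback.snd g f := Scheme.Hom.resLE_comp_ι _ _
  have hg' : g' ≫ U.ι = O.ι ≫ g := Scheme.Hom.resLE_comp_ι _ _
  have hq : IsPullback (p ∣_ O) q g' (f ∣_ U) := by
    refine (IsPullback.of_right (h₁₂ := V.ι) ?_ ?_ (isPullback_morphismRestrict f U).flip).flip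
    · rw [hqV, hg']
      exact hP
    · rw [← cancel_mono U.ι, Category.assoc, Category.assoc, morphismRestrict_ι, reassoc_of% hqV, hg']
      exact (Category.assoc _ _ _).symm.trans hP.w
  haveI : IsAffine P.toScheme := IsAffine.of_isPullback hq
  have hpo := isPushout_appTop_of_isPullback hq
  have happ : ∀ U' : X.Opens, U' = U → Function.Injective (f.app U') ∧
      ∀ s, (f.app U').hom.IsIntegralElem s → ∃ r, f.app U' r = s := by rintro _ rfl; exact ⟨hinj, hic⟩
  obtain ⟨hinj₁, hic₁⟩ := happ (U.ι ''ᵁ ⊤) U.ι_image_top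
  let θ := Z.presheaf.map (eqToHom (image_morphismRestrict_preimage f U ⊤)).op
  have hθ : Function.Bijective θ := ConcreteCategory.bijective_of_isIso θ
  have hinj' : Function.Injective (f ∣_ U).appTop := by
    rw [morphismRestrict_appTop]
    exact hθ.1.comp hinj₁
  have hic' : ∀ s, (f ∣_ U).appTop.hom.IsIntegralElem s → ∃ r, (f ∣_ U).appTop r = s := by
    rw [morphismRestrict_appTop]
    intro s hs
    obtain ⟨s, rfl⟩ := hθ.2 s
    obtain ⟨P₀, hm, h0⟩ := hs
    obtain ⟨r, hr⟩ := hic₁ s ⟨P₀, hm, hθ.1 (by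
      rw [map_zero]
      exact (Polynomial.hom_eval₂ P₀ _ θ.hom s).trans h0)⟩
    exact ⟨r, congrArg θ hr⟩
  have key : ∀ C : Set P.toScheme, IsClopen C → ∃ D : Set O.toScheme, IsClopen D ∧ C = (p ∣_ O) ⁻¹' D := by
    intro C hC
    obtain ⟨e, he, rfl⟩ := exists_idempotent_of_isClopen hC
    obtain ⟨c, hc, rfl⟩ := exists_idempotent_of_isPushout hpo
      (HasRingHomProperty.appTop (P := @Etale) g' ‹_›) hinj' hic' e he
    refine ⟨O.toScheme.basicOpen c, ⟨?_, (O.toScheme.basicOpen c).isOpen⟩, ?_⟩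
    · rw [← isOpen_compl_iff]
      have h1 : (O.toScheme.basicOpen c : Set O.toScheme) =
          O.toScheme.toSpecΓ.base ⁻¹' (PrimeSpectrum.basicOpen c : Set (PrimeSpectrum Γ(O.toScheme, ⊤))) := by
        rw [← Scheme.toSpecΓ_preimage_basicOpen]
        rfl
      rw [h1]
      exact ((PrimeSpectrum.isClopen_iff.2 ⟨c, hc, rfl⟩).1.preimage O.toScheme.toSpecΓ.continuous).isOpen_compl
    · rw [← Scheme.preimage_basicOpen_top]
      rfl
  let w' : O.toScheme := ⟨w, hwO⟩
  obtain ⟨c₁, hc₁⟩ : ∃ c₁ : P.toScheme, ∀ D : Set O.toScheme, IsClopen D → w' ∈ D → (p ∣_ O) c₁ ∈ D := by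
    let K := {D : Set O.toScheme // IsClopen D ∧ w' ∈ D}
    obtain ⟨c, hc⟩ := CompactSpace.iInter_nonempty (t := fun D : K => (p ∣_ O) ⁻¹' D.1)
      (fun D => D.2.1.1.preimage (p ∣_ O).continuous) fun s => by
        let D₀ : Set O.toScheme := ⋂ D ∈ s, D.1
        have h0 : IsOpen D₀ := isOpen_biInter_finset fun D _ => D.2.1.2
        obtain ⟨_, ⟨d, hd', rfl⟩, hd''⟩ : ((O.ι '' D₀) ∩ Set.range p).Nonempty := by
          obtain ⟨z, hz⟩ := ConstSheaf.exists_fst f hd (MorphismProperty.Over.mk ⊤ g ‹_›) w (O.ι '' D₀)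
            (O.ι.isOpenEmbedding.isOpenMap _ h0) ⟨w', Set.mem_iInter₂.2 fun D _ => D.2.2, rfl⟩
          exact ⟨_, hz, z, rfl⟩
        obtain ⟨z, hz⟩ := hd''
        refine ⟨⟨z, show p z ∈ O from hz ▸ d.2⟩, Set.mem_iInter₂.2 fun D hD => ?_⟩
        show (p ∣_ O) ⟨z, _⟩ ∈ D.1
        rw [show (p ∣_ O) ⟨z, _⟩ = d from Subtype.ext ((morphismRestrict_base_coe p O _).trans hz)]
        exact Set.mem_iInter₂.1 hd' D hD
    exact ⟨c, fun D hD hw => Set.mem_iInter.1 hc ⟨D, hD, hw⟩⟩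
  refine ⟨P.ι c₁, fun C hC hc₀ hw => ?_⟩
  obtain ⟨D, hD, hCD⟩ := key (P.ι ⁻¹' C) (hC.preimage P.ι.continuous)
  have hwD : w' ∈ D := by
    by_contra hn
    exact hc₁ Dᶜ hD.compl hn ((Set.ext_iff.1 hCD c₁).1 hc₀)
  obtain ⟨_, ⟨o, ho, rfl⟩, ⟨z, hz, hz'⟩⟩ := mem_closure_iff.1 hw (O.ι '' D)
    (O.ι.isOpenEmbedding.isOpenMap _ hD.2) ⟨w', hwD, rfl⟩
  refine hz ((Set.ext_iff.1 hCD ⟨z, show p z ∈ O from hz'.symm ▸ o.2⟩).2 ?_)
  show (p ∣_ O) ⟨z, _⟩ ∈ D
  rwa [show (p ∣_ O) ⟨z, _⟩ = o from Subtype.ext ((morphismRestrict_base_coe p O _).trans hz')]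

end Groth.Agent.H1DFun
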