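import Groth.Agent.H1DFun.ConstFlasque
import Groth.Agent.H1DFun.PullConst
import Groth.Agent.H18Et.Cons.Apply
import Groth.Agent.H28Top.Spectral

/-!
# Constructible sheaves on zero dimensional schemes with separably closed residue fields
-/

set_option autoImplicit false
set_option backward.isDefEq.respectTransparency false
set_option backward.isDefEq.respectTransparency.types false

universe u

open CategoryTheory CategoryTheory.Limits AlgebraicGeometry Opposite Topology
open Groth.Agent.H18Et
open scoped Groth.Agent.H18Et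

namespace Groth.Agent.H1DFun

variable {X : Scheme.{u}}

/-- Over a strictly henselian point, an etale morphism has a section through each point above it. -/
theorem exists_open_section_of_etale {W : Scheme.{u}} (j : W ⟶ X) [Etale j] (v : W)
    (hX : EtCoh.IsStrictlyHenselianLocalRing (X.presheaf.stalk (j v))) :
    ∃ (U : X.Opens) (σ : U.toScheme ⟶ W), σ ≫ j = U.ι ∧ j v ∈ U := by
  obtain ⟨_, hk⟩ := hX
  let R := X.presheaf.stalk (j v)
  obtain ⟨l, hl, -⟩ := Scheme.exists_fac_of_etale_of_isSepClosed j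
    (H18Et.closedGeomPt R ≫ X.fromSpecStalk (j v)) v (by
      haveI : IsLocalHom (CommRingCat.ofHom (IsLocalRing.residue R)).hom :=
        inferInstanceAs (IsLocalHom (IsLocalRing.residue R))
      rw [Scheme.Hom.comp_apply, Subsingleton.elim (α := ↥(Spec (CommRingCat.of (IsLocalRing.ResidueField R))))
        default (IsLocalRing.closedPoint (IsLocalRing.ResidueField R))]
      erw [Spec_closedPoint]
      exact Scheme.fromSpecStalk_closedPoint.symm)
  obtain ⟨σ₀, hσ₀, -⟩ := H18Et.exists_section_of_etale R (pullback.snd j (X.fromSpecStalk (j v)))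
    (pullback.lift l (H18Et.closedGeomPt R) hl) (pullback.lift_snd _ _ _)
  obtain ⟨U, hU, σ, hσj, -⟩ := exists_nhd_lift_of_stalk' j (j v)
    (σ₀ ≫ pullback.fst j (X.fromSpecStalk (j v))) (by
      rw [Category.assoc, pullback.condition, ← Category.assoc]
      exact (congrArg (· ≫ X.fromSpecStalk (j v)) hσ₀).trans (Category.id_comp _))
  exact ⟨U, σ, hσj, hU⟩

variable [IsReduced X] (h0 : ∀ x : X, IsClosed ({x} : Set X))

include h0 in
theorem isField_stalk (x : X) : IsField (X.presheaf.stalk x) := by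
  haveI : Subsingleton (PrimeSpectrum (X.presheaf.stalk x)) := by
    refine ⟨fun p q => (X.fromSpecStalk x).isEmbedding.injective ?_⟩
    have h : ∀ p : PrimeSpectrum (X.presheaf.stalk x), X.fromSpecStalk x p = x := fun p =>
      (((Set.ext_iff.1 (Scheme.range_fromSpecStalk (X := X) (x := x)) _).1 ⟨p, rfl⟩ :
        X.fromSpecStalk x p ⤳ x).mem_closed (h0 _) rfl).symm
    rw [h p, h q]
  refine IsLocalRing.isField_iff_maximalIdeal_eq.2 (eq_bot_iff.2 fun a ha => ?_)
  rw [Ideal.mem_bot]
  refine IsNilpotent.eq_zero (nilpotent_iff_mem_prime.2 fun J hJ => ?_)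
  have := congrArg PrimeSpectrum.asIdeal (Subsingleton.elim (⟨J, hJ⟩ : PrimeSpectrum (X.presheaf.stalk x))
    (IsLocalRing.closedPoint _))
  rw [show J = IsLocalRing.maximalIdeal (X.presheaf.stalk x) from this]
  exact ha

include h0 in
theorem strictlyHenselian_stalk_of_zeroDim (hs : ∀ x : X, IsSepClosed (X.residueField x)) (x : X) :
    EtCoh.IsStrictlyHenselianLocalRing (X.presheaf.stalk x) := by
  letI := (isField_stalk h0 x).toField
  exact ⟨inferInstance, hs x⟩

include h0 in
theorem isClopen_of_isConstructible [CompactSpace X] [QuasiSeparatedSpace X] {E : Set X}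
    (hE : IsConstructible E) : IsClopen E := by
  have key : ∀ E : Set X, IsConstructible E → IsClosed E := fun E hE => by
    refine isClosed_of_closure_subset fun x hx => ?_
    haveI : SpectralSpace X := {}
    obtain ⟨e, he, hex⟩ := H28Top.exists_specializes_of_mem_closure
      (H28Top.isClosed_constr_of_isConstructible hE) hx
    exact (hex.mem_closed (h0 e) rfl : x = e) ▸ he
  exact ⟨key E hE, isClosed_compl_iff.1 (key _ hE.compl)⟩

include h0 in
/-- Near every point a constructible sheaf is constant with finite value. -/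
theorem exists_const_nbhd [CompactSpace X] [QuasiSeparatedSpace X]
    (hs : ∀ x : X, IsSepClosed (X.residueField x)) {F : EtCoh.Ab X} (hF : EtPBC.IsConstructible F) (x : X) :
    ∃ (V : X.Opens), x ∈ V ∧ ∃ (M : Type) (_ : AddCommGroup M) (_ : Finite M),
      Nonempty ((EtCoh.pull V.ι).obj F ≅ EtCoh.const V.toScheme M) := by
  obtain ⟨n, S, k, hk, hc, hu, hq⟩ := ((Cons.isConstructible_iff F).1 hF).covered (Cons.flc_precomp _) (𝟙 X)
  obtain ⟨i, s, rfl⟩ := Set.mem_iUnion.1 (hu.symm ▸ Set.mem_univ x : x ∈ ⋃ i, Set.range (k i))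
  haveI := hk i
  have hcl := isClopen_of_isConstructible h0 (hc i)
  let U : X.Opens := ⟨Set.range (k i), hcl.isOpen⟩
  haveI : IsClosedImmersion (k i) := IsClosedImmersion.of_isPreimmersion _ hcl.isClosed
  let k' : S i ⟶ U.toScheme := IsOpenImmersion.lift U.ι (k i) (by rw [Scheme.Opens.range_ι]; exact subset_rfl)
  have hk' : k' ≫ U.ι = k i := IsOpenImmersion.lift_fac _ _ _
  haveI : IsClosedImmersion (k' ≫ U.ι) := hk'.symm ▸ inferInstance
  haveI : IsClosedImmersion k' := IsClosedImmersion.of_comp k' U.ι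
  haveI : Surjective k' := ⟨fun ⟨u, a, ha⟩ => ⟨a, Subtype.ext (((Scheme.Hom.comp_apply k' U.ι a).symm.trans
    (congrArg (fun t => t a) hk')).trans ha)⟩⟩
  haveI : IsReduced U.toScheme := isReduced_of_isOpenImmersion U.ι
  haveI : IsIso k' := isIso_of_isClosedImmersion_of_surjective k'
  haveI : IsOpenImmersion (k i) := hk' ▸ inferInstance
  have hflc : EtCoh.IsFiniteLocallyConstant ((EtCoh.pull (k i)).obj F) := by
    have := hq i
    rwa [Category.comp_id] at this
  obtain ⟨ι, W, hW, hc'⟩ := (LC.isFiniteLocallyConstant_iff _).1 hflc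
  obtain ⟨j, w, hw⟩ := hW s
  obtain ⟨M, hM, c, hconst⟩ := hc' j
  haveI : Etale (W j).hom := (W j).prop
  obtain ⟨e₁⟩ := nonempty_pull_iso_const_of_isConstOn (W j) hconst
  obtain ⟨V, σ, hσ, hxV⟩ := exists_open_section_of_etale ((W j).hom ≫ k i) w
    (strictlyHenselian_stalk_of_zeroDim h0 hs _)
  obtain ⟨M₀, i₁, i₂, ⟨e⟩⟩ := LC.exists_small_iso M
  refine ⟨V, ?_, M₀, i₁, i₂, ⟨?_⟩⟩
  · rw [Scheme.Hom.comp_apply, hw] at hxV
    exact hxV
  · exact (EtCore.pullCongr hσ.symm).app F ≪≫ (EtCore.pullComp σ ((W j).hom ≫ k i)).app F ≪≫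
      (EtCoh.pull σ).mapIso ((EtCore.pullComp (W j).hom (k i)).app F ≪≫ e₁ ≪≫
        (constantSheaf (W j).left.smallEtaleTopology AddCommGrpCat.{u + 1}).mapIso e.symm) ≪≫
      EtCore.pullConst σ M₀

end Groth.Agent.H1DFun
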