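import Groth.Agent.H1DFun.ProdFields
import Groth.Agent.H1DFun.UnibranchIC
import Groth.Agent.H1DFun.ZeroDimConst
import Groth.Agent.H18Et.StalkSets
import Mathlib.AlgebraicGeometry.Normalization

/-!
# Constructible sheaves embed in integral direct images of constant sheaves
-/

set_option autoImplicit false
set_option backward.isDefEq.respectTransparency false
set_option backward.isDefEq.respectTransparency.types false

universe u

open CategoryTheory CategoryTheory.Limits AlgebraicGeometry Opposite Topology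
open Groth.Agent.H18Et
open scoped Groth.Agent.H18Et

namespace Groth.Agent.H1DFun

variable {X : Scheme.{u}}

/-- The units along a jointly surjective finite family form a monomorphism. -/
theorem mono_biproduct_lift_unit {n : ℕ} {T : Fin n → Scheme.{u}} (f : ∀ i, T i ⟶ X)
    (hf : ∀ x : X, ∃ i t, f i t = x) (F : EtCoh.Ab X) :
    Mono (biproduct.lift fun i => (EtCoh.pullPushAdj (f i)).unit.app F) := by
  refine mono_of_stalk _ fun x => ?_
  obtain ⟨i, t, rfl⟩ := hf x
  refine ⟨_, inferInstance, SeparableClosure.isSepClosed _, geomPt t ≫ f i, ?_, ?_⟩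
  · rw [Scheme.Hom.comp_apply, geomPt_base]
  · refine Function.Injective.of_comp
      (f := (EtCoh.stalk (geomPt t ≫ f i)).map (biproduct.π (fun i => (EtCoh.push (f i)).obj ((EtCoh.pull (f i)).obj F)) i)) ?_
    refine (congrArg Function.Injective (funext fun z => ?_)).mpr
      (?_ : Function.Injective ((EtCoh.stalk (geomPt t ≫ f i)).map ((EtCoh.pullPushAdj (f i)).unit.app F)))
    · have e := congrArg (EtCoh.stalk (geomPt t ≫ f i)).map
        (biproduct.lift_π (fun i => (EtCoh.pullPushAdj (f i)).unit.app F) i)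
      erw [Functor.map_comp] at e
      exact (ConcreteCategory.comp_apply _ _ z).symm.trans (ConcreteCategory.congr_hom e z)
    have : Mono ((EtCoh.pull (f i)).map ((EtCoh.pullPushAdj (f i)).unit.app F)) :=
      (⟨_, (EtCoh.pullPushAdj (f i)).left_triangle_components F⟩ : SplitMono _).mono
    exact (AddCommGrpCat.mono_iff_injective _).1
      ((pull_map_stalk_iff _ (f i) (MorphismProperty.monomorphisms _) _).1 ((mono_iff_stalk _).1 this _ _))

section Zero

variable {T : Scheme.{u}} [IsAffine T] [IsReduced T] (h0 : ∀ t : T, IsClosed ({t} : Set T))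

include h0 in
theorem isAffineOpen_of_compact (U : T.Opens) (hU : IsCompact (U : Set T)) : IsAffineOpen U := by
  obtain ⟨e, -, he⟩ := exists_idempotent_of_isClopen
    (isClopen_of_isConstructible h0 (hU.isConstructible U.2))
  rw [TopologicalSpace.Opens.ext he]
  exact (isAffineOpen_top T).basicOpen e

include h0 in
theorem isAffineHom_of_zeroDim {Y : Scheme.{u}} (η : T ⟶ Y) [QuasiCompact η] : IsAffineHom η :=
  ⟨fun _U hU => isAffineOpen_of_compact h0 _ (η.isCompact_preimage hU.isCompact)⟩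

end Zero

/-- The relative normalisation receives a morphism along which constant sheaves are direct images. -/
theorem isIso_unit_toNormalization {T : Scheme.{u}} (f : T ⟶ X) [QuasiCompact f] [QuasiSeparated f]
    [IsAffineHom f.toNormalization] {G : EtCoh.Ab f.normalization} {M : Type*}
    {c : M → EtCoh.sect G (EtCoh.top f.normalization)} (h : ConstSheaf.IsConstant G c) :
    IsIso ((EtCoh.pullPushAdj f.toNormalization).unit.app G) := by
  refine ConstSheaf.isIso_unit _ f.toNormalization.denseRange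
    (unibranchAlong_of_integrallyClosed _ f.toNormalization.denseRange fun y => ?_) h
  obtain ⟨_, ⟨U, hU, rfl⟩, hyU, -⟩ :=
    X.isBasis_affineOpens.exists_subset_of_mem_open (Set.mem_univ (f.fromNormalization y)) isOpen_univ
  refine ⟨f.fromNormalization ⁻¹ᵁ U, hyU, hU.preimage _, ?_⟩
  letI := (f.app U).hom.toAlgebra
  let e₁ := f.normalizationObjIso hU
  let v : CommRingCat.of (integralClosure Γ(X, U) Γ(T, f ⁻¹ᵁ U)) ⟶ Γ(T, f ⁻¹ᵁ U) :=
    CommRingCat.ofHom (integralClosure Γ(X, U) Γ(T, f ⁻¹ᵁ U)).val.toRingHom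
  have key := f.toNormalization_app_preimage ⟨U, hU⟩
  dsimp only at key
  rw [key]
  generalize hθ : T.presheaf.map (eqToHom _).op = θ
  have hθb : Function.Bijective θ := by
    subst hθ
    exact ConcreteCategory.bijective_of_isIso _
  refine ⟨hθb.1.comp (Subtype.val_injective.comp (ConcreteCategory.bijective_of_isIso e₁.hom).1), fun s hs => ?_⟩
  obtain ⟨t, rfl⟩ := hθb.2 s
  obtain ⟨P, hP, h0⟩ := hs
  have h1 : v.hom.IsIntegralElem t := ⟨P.map e₁.hom.hom, hP.map _, hθb.1 (by
    rw [Polynomial.eval₂_map, map_zero]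
    exact (Polynomial.hom_eval₂ P _ θ.hom t).trans h0)⟩
  have h2 : IsIntegral Γ(X, U) t := isIntegral_trans (R := Γ(X, U))
    (A := integralClosure Γ(X, U) Γ(T, f ⁻¹ᵁ U)) t h1
  obtain ⟨r, hr⟩ := (ConcreteCategory.bijective_of_isIso e₁.hom).2 (⟨t, h2⟩ : integralClosure Γ(X, U) Γ(T, f ⁻¹ᵁ U))
  exact ⟨r, congrArg θ (congrArg Subtype.val hr)⟩

/-- A constructible sheaf on a qcqs scheme embeds in a finite sum of direct images of finite constant
sheaves along integral morphisms. -/
theorem exists_mono_integral_const [CompactSpace X] [QuasiSeparatedSpace X] (F : EtCoh.Ab X)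
    (hF : EtPBC.IsConstructible F) :
    ∃ (n : ℕ) (D : Fin n → Scheme.{u}) (ν : ∀ i, D i ⟶ X) (_ : ∀ i, IsIntegralHom (ν i))
      (M : Fin n → Type) (_ : ∀ i, AddCommGroup (M i)) (_ : ∀ i, Finite (M i))
      (ι : F ⟶ ⨁ fun i => (EtCoh.push (ν i)).obj (EtCoh.const (D i) (M i))), Mono ι := by
  classical
  obtain ⟨s, hs⟩ := isCompact_univ.elim_finite_subcover (fun U : X.affineOpens => (U.1 : Set X))
    (fun U => U.1.2) (by rw [← TopologicalSpace.Opens.coe_iSup, iSup_affineOpens_eq_top]; rfl)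
  have hU : ∀ U : X.affineOpens, IsAffine U.1.toScheme := fun U => U.2
  choose T g hTa hTr hgs h0 hsep using fun U : X.affineOpens => exists_zeroDim_cover U.1.toScheme
  have hloc : ∀ (U : X.affineOpens), ∀ t : T U, ∃ V : (T U).Opens, t ∈ V ∧ IsAffineOpen V ∧
      ∃ (M : Type) (_ : AddCommGroup M) (_ : Finite M),
        Nonempty ((EtCoh.pull (V.ι ≫ g U ≫ U.1.ι)).obj F ≅ EtCoh.const V.toScheme M) := fun U t => by
    obtain ⟨V, htV, M, i₁, i₂, ⟨e⟩⟩ := exists_const_nbhd (h0 U) (hsep U)
      (Cons.isConstructible_pull (g U ≫ U.1.ι) F hF) t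
    obtain ⟨_, ⟨V', hV', rfl⟩, htV', hVV⟩ :=
      (T U).isBasis_affineOpens.exists_subset_of_mem_open htV V.2
    refine ⟨(V' : (T U).Opens), htV', hV', M, i₁, i₂, ⟨?_⟩⟩
    let V₁ : (T U).Opens := V'
    let j := (T U).homOfLE (show V₁ ≤ V from hVV)
    exact (EtCore.pullCongr (show V₁.ι ≫ g U ≫ U.1.ι = (j ≫ V.ι) ≫ g U ≫ U.1.ι by
        rw [Scheme.homOfLE_ι])).app F ≪≫
      (EtCore.pullCongr (Category.assoc j V.ι (g U ≫ U.1.ι))).app F ≪≫
      (EtCore.pullComp j (V.ι ≫ g U ≫ U.1.ι)).app F ≪≫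
      (EtCoh.pull j).mapIso ((EtCore.pullComp V.ι (g U ≫ U.1.ι)).app F ≪≫ e) ≪≫ EtCore.pullConst j M
  choose V htV hVa M iM₁ iM₂ hiso using hloc
  have hfin : ∀ U, ∃ t : Finset (T U), Set.univ ⊆ ⋃ x ∈ t, (V U x : Set (T U)) := fun U =>
    isCompact_univ.elim_finite_subcover _ (fun x => (V U x).2) fun x _ => Set.mem_iUnion.2 ⟨x, htV U x⟩
  choose t ht using hfin
  let I := Σ U : s, (t U.1 : Finset (T U.1))
  let e := (Fintype.equivFin I).symm
  let T' : Fin (Fintype.card I) → Scheme.{u} := fun k => (V (e k).1.1 (e k).2.1).toScheme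
  let f' : ∀ k, T' k ⟶ X := fun k => (V (e k).1.1 (e k).2.1).ι ≫ g (e k).1.1 ≫ (e k).1.1.1.ι
  have hsurj : ∀ x : X, ∃ k y, f' k y = x := fun x => by
    obtain ⟨U, hUs, hxU⟩ := Set.mem_iUnion₂.1 (hs (Set.mem_univ x))
    haveI := hgs U
    obtain ⟨a, ha⟩ := (g U).surjective (⟨x, hxU⟩ : U.1.toScheme)
    obtain ⟨b, hb, hab⟩ := Set.mem_iUnion₂.1 (ht U (Set.mem_univ a))
    have key : ∀ p : I, p = ⟨⟨U, hUs⟩, ⟨b, hb⟩⟩ →
        ∃ y, ((V p.1.1 p.2.1).ι ≫ g p.1.1 ≫ p.1.1.1.ι) y = x := fun p hp => by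
      subst hp
      refine ⟨⟨a, hab⟩, ?_⟩
      rw [Scheme.Hom.comp_apply, Scheme.Hom.comp_apply]
      exact (congrArg (fun z => U.1.ι z) ha).trans rfl
    exact ⟨e.symm ⟨⟨U, hUs⟩, ⟨b, hb⟩⟩, key _ (e.apply_symm_apply _)⟩
  have hqc : ∀ k, QuasiCompact (f' k) ∧ QuasiSeparated (f' k) := fun k => by
    haveI : IsAffine (T' k) := hVa _ _
    haveI : QuasiSeparated (X := X) (terminal.from X) := (quasiSeparatedSpace_iff_quasiSeparated X).1 inferInstance
    haveI : QuasiCompact (f' k ≫ terminal.from X) := inferInstance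
    haveI : QuasiSeparated (f' k ≫ terminal.from X) := inferInstance
    exact ⟨QuasiCompact.of_comp (f' k) (terminal.from X), QuasiSeparated.of_comp (f' k) (terminal.from X)⟩
  have hq1 := fun k => (hqc k).1
  have hq2 := fun k => (hqc k).2
  let M' : Fin (Fintype.card I) → Type := fun k => M (e k).1.1 (e k).2.1
  letI iM' : ∀ k, AddCommGroup (M' k) := fun k => iM₁ (e k).1.1 (e k).2.1
  have hmap : ∀ k, ∃ φ : (EtCoh.push (f' k)).obj ((EtCoh.pull (f' k)).obj F) ⟶
      (EtCoh.push (f' k).fromNormalization).obj (EtCoh.const (f' k).normalization (M' k)), IsIso φ := fun k => by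
    haveI : IsAffine (T' k) := hVa _ _
    haveI := hTr (e k).1.1
    haveI : IsReduced (T' k) := isReduced_of_isOpenImmersion (V (e k).1.1 (e k).2.1).ι
    have hz : ∀ z : T' k, IsClosed ({z} : Set (T' k)) := fun z => by
      let j := (V (e k).1.1 (e k).2.1).ι
      have := (h0 (e k).1.1 (j z)).preimage j.continuous
      rwa [show (j ⁻¹' {j z} : Set (T' k)) = {z} from
        Set.ext fun w => ⟨fun h => j.isOpenEmbedding.injective h, fun h => congrArg (fun y => j y) h⟩] at this
    haveI := isAffineHom_of_zeroDim hz (f' k).toNormalization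
    obtain ⟨iso⟩ := hiso (e k).1.1 (e k).2.1
    let η := (f' k).toNormalization
    haveI := isIso_unit_toNormalization (f' k) (G := EtCoh.const (f' k).normalization (M' k))
      (ConstSheaf.isConstant_unitTop _)
    let a : (EtCoh.push η).obj ((EtCoh.pull (f' k)).obj F) ≅ EtCoh.const (f' k).normalization (M' k) :=
      (EtCoh.push η).mapIso (iso ≪≫ (EtCore.pullConst η (M' k)).symm) ≪≫
        (asIso ((EtCoh.pullPushAdj η).unit.app (EtCoh.const (f' k).normalization (M' k)))).symm
    refine ⟨((eqToIso (by rw [(f' k).toNormalization_fromNormalization]) : EtCoh.push (f' k) ≅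
      EtCoh.push (η ≫ (f' k).fromNormalization)) ≪≫
        (EtCoh.pushComp (f' k).fromNormalization η).symm).hom.app _ ≫
      (EtCoh.push (f' k).fromNormalization).map a.hom, ?_⟩
    infer_instance
  choose φ hφ using hmap
  refine ⟨_, fun k => (f' k).normalization, fun k => (f' k).fromNormalization, fun k => inferInstance, M', iM',
    fun k => iM₂ (e k).1.1 (e k).2.1,
    biproduct.lift (fun k => (EtCoh.pullPushAdj (f' k)).unit.app F) ≫ biproduct.map φ, ?_⟩
  have this_mono := mono_biproduct_lift_unit f' hsurj F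
  haveI : IsIso (biproduct.map φ) := inferInstanceAs (IsIso (biproduct.mapIso fun k => asIso (φ k)).hom)
  exact @mono_comp _ _ _ _ _ _ this_mono _ inferInstance

end Groth.Agent.H1DFun
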