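import Groth.Agent.H1DFun.KillConst
import Groth.Agent.S14381
import Groth.Agent.S14622
import Groth.Agent.H7Lim.Components
import Groth.Agent.H18Et.Cons.ExtZeroConst

/-!
# Effacing classes of degree one by finite etale covers
-/

set_option autoImplicit false
set_option backward.isDefEq.respectTransparency false
set_option backward.isDefEq.respectTransparency.types false

universe u

open CategoryTheory CategoryTheory.Limits AlgebraicGeometry Opposite Abelian
open Groth.Agent.H18Et Groth.Agent.H1Lim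
open scoped Groth.Agent.H18Et Groth.Agent.H18Et.CohColim

namespace Groth.Agent.H1DFun

attribute [local instance] Groth.Agent.H18Et.pull_preservesFiniteLimits

theorem finite_connectedComponents_of_noetherian (Y : Scheme.{u}) [AlgebraicGeometry.IsNoetherian Y] :
    Finite (_root_.ConnectedComponents Y) := by
  haveI : Finite (Set.range (connectedComponent : Y → Set Y)) := (H7Lim.finite_connectedComponents (X := Y)).1
  refine Finite.of_injective
    (Quotient.lift (fun y : Y => (⟨connectedComponent y, y, rfl⟩ : Set.range (connectedComponent : Y → Set Y)))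
      fun a b h => Subtype.ext h) ?_
  rintro ⟨a⟩ ⟨b⟩ h
  exact Quotient.sound (congrArg Subtype.val h)

/-- A class dying on a finite surjective cover is killed by an injective map of torsion sheaves. -/
theorem kill_of_cover {Y Z W : Scheme.{u}} (i : Z ⟶ Y) (M : Type) [AddCommGroup M] [Finite M] (π : W ⟶ Y)
    [IsFinite π] [Surjective π] (q : ℕ) (ξ : Sheaf.H ((EtCoh.pull i).obj (EtCoh.const Y M)) q)
    (hz : hpull (pullback.snd π i) ((EtCoh.pull i).obj (EtCoh.const Y M)) q ξ = 0) :
    ∃ (G : EtCoh.Ab Y) (_ : EtCoh.IsTorsion G) (a : EtCoh.const Y M ⟶ G) (_ : Mono a),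
      Sheaf.H.map ((EtCoh.pull i).map a) q ξ = 0 := by
  have hMT : EtCoh.IsTorsion (EtCoh.const Y M) := isTorsion_of_nsmul_id Nat.card_pos
    (killedBy_const (Z := Y) M (Nat.card M) fun x => card_nsmul_eq_zero')
  let η := (EtCoh.pullPushAdj π).unit.app (EtCoh.const Y M)
  refine ⟨_, H1Lim.isTorsion_push π _ (H18Et.Coh.isTorsion_pull π _ hMT), η, S14622.result π _, ?_⟩
  let π₀ := pullback.snd π i
  let j := pullback.fst π i
  haveI : IsIntegralHom π₀ := MorphismProperty.pullback_snd (P := @IsIntegralHom) _ _ inferInstance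
  have sq : IsPullback j π₀ π i := IsPullback.of_hasPullback π i
  haveI := isIso_baseChange0_of_isIntegralHom π i π₀ j sq ((EtCoh.pull π).obj (EtCoh.const Y M))
  refine (hpull_map_bijective π₀ (EtCoh.baseChange0 π i π₀ j sq.w ((EtCoh.pull π).obj (EtCoh.const Y M))) q).1 ?_
  show Sheaf.H.map _ q (hpull π₀ _ q (Sheaf.H.map _ q ξ)) = Sheaf.H.map _ q (hpull π₀ _ q 0)
  rw [Hpull_map, hz, map_zero, map_zero, map_zero]
  exact (map_zero _).symm

/-- Classes of degree one with finite constant coefficients are killed by direct images along finite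
etale covers, when the covers of the closed subscheme extend. -/
theorem exists_kill_one {Y Z : Scheme.{u}} (i : Z ⟶ Y) [CompactSpace Y] [QuasiSeparatedSpace Y]
    [IsClosedImmersion i] [AlgebraicGeometry.IsNoetherian Z]
    (hlift : (FEt.restrict i).EssSurj)
    (hmeet : ∀ C : Set Y, IsClosed C → C.Nonempty → (C ∩ Set.range i.base).Nonempty)
    (M : Type) [AddCommGroup M] [Finite M] (ξ : Sheaf.H ((EtCoh.pull i).obj (EtCoh.const Y M)) 1) :
    ∃ (G : EtCoh.Ab Y) (_ : EtCoh.IsTorsion G) (a : EtCoh.const Y M ⟶ G) (_ : Mono a),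
      Sheaf.H.map ((EtCoh.pull i).map a) 1 ξ = 0 := by
  let M' : AddCommGrpCat.{u + 1} := AddCommGrpCat.of (ULift.{u + 1} M)
  have hk : Nat.card M • 𝟙 (EtCoh.const Y M) = 0 := killedBy_const (Z := Y) M _ fun x => card_nsmul_eq_zero'
  have hMT : EtCoh.IsTorsion (EtCoh.const Y M) := isTorsion_of_nsmul_id Nat.card_pos hk
  have hflc : EtCoh.IsFiniteLocallyConstant ((EtCoh.pull i).obj (EtCoh.const Y M)) :=
    H18Et.LC.isFiniteLocallyConstant_of_iso (EtCore.pullConst i M).symm
      (H18Et.LC.isFiniteLocallyConstant_const M')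
  haveI : (EtCoh.pull i).Additive := inferInstance
  have hkill : EtCoh.KilledBy (Nat.card M) ((EtCoh.pull i).obj (EtCoh.const Y M)) := by
    rw [killedBy_iff_nsmul_id, ← CategoryTheory.Functor.map_id, ← Functor.map_nsmul, hk, Functor.map_zero]
  obtain ⟨T, g, hgf, hge, hgs, hg⟩ := S14381.result Z (finite_connectedComponents_of_noetherian Z) _ hflc
    ⟨_, Nat.card_pos, hkill⟩ ξ
  obtain ⟨W, ⟨e⟩⟩ := hlift.mem_essImage (MorphismProperty.Over.mk ⊤ g ⟨hgf, hge⟩)
  let π : W.left ⟶ Y := W.hom
  haveI : IsFinite π := W.prop.1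
  haveI : Etale π := W.prop.2
  let π₀ := pullback.snd π i
  let j := pullback.fst π i
  haveI : IsIntegralHom π₀ := MorphismProperty.pullback_snd (P := @IsIntegralHom) _ _ inferInstance
  let k : pullback π i ⟶ T := e.hom.left
  have hk' : k ≫ g = π₀ := MorphismProperty.Over.w e.hom
  have hz : hpull π₀ ((EtCoh.pull i).obj (EtCoh.const Y M)) 1 ξ = 0 :=
    hpull_eq_zero_of_comp k g π₀ hk' _ 1 ξ ((congrArg _ (hg : hpull g _ 1 ξ = 0)).trans (map_zero _))
  haveI : Surjective π := by
    refine ⟨fun y => ?_⟩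
    by_contra hy
    have hopen : IsOpen (Set.range π.base) := π.isOpenMap.isOpen_range
    obtain ⟨z, hz₁, z₀, hz₀⟩ := hmeet (Set.range π.base)ᶜ hopen.isClosed_compl ⟨y, hy⟩
    obtain ⟨t, ht⟩ := hgs.surj z₀
    refine hz₁ ⟨j.base (e.inv.left.base t), ?_⟩
    have hw : e.inv.left ≫ π₀ = g := MorphismProperty.Over.w e.inv
    have h1 : (e.inv.left ≫ j) ≫ π = g ≫ i := by
      rw [Category.assoc, pullback.condition, ← Category.assoc, hw]
    rw [← hz₀, ← ht]
    exact congrArg (fun φ : T ⟶ Y => φ.base t) h1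
  exact kill_of_cover i M π 1 ξ hz

end Groth.Agent.H1DFun
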