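import Groth.Agent.H18Et.Coh.TorsionRpush
import Groth.Prelude.Def_EtAcyc
import Groth.Agent.H1DFun.RDAdd

/-!
# Higher direct images of `L`-torsion sheaves
-/

set_option autoImplicit false
set_option backward.isDefEq.respectTransparency false
set_option backward.isDefEq.respectTransparency.types false

universe u

open CategoryTheory CategoryTheory.Limits AlgebraicGeometry Opposite

namespace Groth.Agent.H1DFun

open scoped Groth.Agent.H18Et
open Groth.Agent.H18Et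

variable {X Y : Scheme.{u}}

theorem nsmul_hom_app {F : EtCoh.Ab X} (k : ℕ) (U : X.Etale) (s : F.obj.obj (op U)) :
    (k • 𝟙 F : F ⟶ F).hom.app (op U) s = k • s :=
  ((AddMonoidHom.map_nsmul
    (AddMonoidHom.mk' (fun φ : F ⟶ F => φ.hom.app (op U) s) (fun _ _ => rfl)) k (𝟙 F)).trans rfl)

theorem stalk_map_nsmul {F : EtCoh.Ab X} {Ω : Type u} [Field Ω] [IsSepClosed Ω]
    (ξ : Spec (CommRingCat.of Ω) ⟶ X) (k : ℕ) (p : (EtCoh.stalk ξ).obj F) :
    (EtCoh.stalk ξ).map (k • 𝟙 F) p = k • p := by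
  obtain ⟨U, z, s, rfl⟩ := germ_surjective ξ F p
  exact ((germ_naturality ξ (k • 𝟙 F) U z s)).trans ((congrArg _ (nsmul_hom_app k U s)).trans (map_nsmul _ k s))

/-- A sheaf with `L`-torsion has multiplication by the primes outside `L` invertible. -/
theorem isIso_nsmul_of_isLTorsion (L : Set ℕ) (F : EtCoh.Ab X) (hF : EtAcyc.IsLTorsion L F) (ℓ : ℕ)
    (hℓ : ℓ.Prime) (hL : ℓ ∉ L) : IsIso (ℓ • 𝟙 F : F ⟶ F) := by
  rw [isIso_iff_stalk]
  intro Ω _ _ ξ
  rw [ConcreteCategory.isIso_iff_bijective]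
  have key : ∀ p : (EtCoh.stalk ξ).obj F, ∃ m : ℕ, m.Coprime ℓ ∧ m • p = 0 := by
    intro p
    obtain ⟨U, z, s, rfl⟩ := germ_surjective ξ F p
    obtain ⟨V, g, m, ⟨v, hv⟩, hm, hms⟩ := hF U s (ptOf z)
    obtain ⟨y, hy⟩ := exists_fiber_lift g z v hv
    refine ⟨m, ((hℓ.coprime_iff_not_dvd).2 fun h => hL (hm.2 ℓ hℓ h)).symm, ?_⟩
    have h1 : germ ξ F V y (F.obj.map g.op s) = germ ξ F U z s := by
      rw [← hy]
      exact (Scheme.pointSmallEtale ξ).toPresheafFiber_w_apply g y F.obj s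
    rw [← h1, ← map_nsmul, hms, map_zero]
  refine ⟨(injective_iff_map_eq_zero _).2 fun p hp => ?_, fun p => ?_⟩
  · rw [stalk_map_nsmul] at hp
    obtain ⟨m, hc, hmp⟩ := key p
    have h1 : addOrderOf p ∣ Nat.gcd m ℓ :=
      Nat.dvd_gcd (addOrderOf_dvd_of_nsmul_eq_zero hmp) (addOrderOf_dvd_of_nsmul_eq_zero hp)
    rw [hc.gcd_eq_one] at h1
    exact AddMonoid.addOrderOf_eq_one_iff.1 (Nat.dvd_one.1 h1)
  · obtain ⟨m, hc, hmp⟩ := key p
    obtain ⟨a, b, hab⟩ : ∃ a b : ℤ, a * m + b * ℓ = 1 :=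
      Int.isCoprime_iff_gcd_eq_one.2 (by simpa [Int.gcd_natCast_natCast] using hc)
    refine ⟨b • p, ?_⟩
    rw [stalk_map_nsmul]
    have h2 := congrArg (fun k : ℤ => k • p) hab
    simp only [add_smul, mul_smul, natCast_zsmul, hmp, smul_zero, zero_add, one_zsmul] at h2
    rw [smul_comm]
    exact h2

/-- Higher direct images of `L`-torsion sheaves are `L`-torsion. -/
theorem isLTorsion_Rpush (f : X ⟶ Y) [QuasiCompact f] [QuasiSeparated f] [EtCoh.BCCont f] (L : Set ℕ)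
    (F : EtCoh.Ab X) (hF : EtAcyc.IsLTorsion L F) (q : ℕ) :
    EtAcyc.IsLTorsion L ((EtCoh.Rpush f q).obj F) := by
  have hT : EtCoh.IsTorsion F := fun U s x => by
    obtain ⟨V, g, m, hv, hm, hms⟩ := hF U s x
    exact ⟨V, g, hv, isOfFinAddOrder_iff_nsmul_eq_zero.2 ⟨m, hm.1, hms⟩⟩
  intro U s x
  obtain ⟨V, g, hv, hfin⟩ := Coh.isTorsion_Rpush f F hT q U s x
  obtain ⟨m, hm, hms⟩ := hfin.exists_nsmul_eq_zero
  let R := (EtCoh.Rpush f q).obj F
  have hinj : ∀ ℓ : ℕ, ℓ.Prime → ℓ ∉ L → ∀ t : EtCoh.sect R V, ℓ • t = 0 → t = 0 := fun ℓ hℓ hL t ht => by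
    haveI := isIso_nsmul_of_isLTorsion L F hF ℓ hℓ hL
    haveI : IsIso (ℓ • 𝟙 R) := by
      have h1 : (EtCoh.Rpush f q).map (ℓ • 𝟙 F) = ℓ • 𝟙 R := by
        haveI := rightDerived_additive (EtCoh.push f) q
        rw [Functor.map_nsmul, CategoryTheory.Functor.map_id]
      rw [← h1]; infer_instance
    haveI : IsIso ((ℓ • 𝟙 R : R ⟶ R).hom.app (op V)) :=
      inferInstanceAs (IsIso (((sheafToPresheaf _ _).map (ℓ • 𝟙 R)).app (op V)))
    refine (ConcreteCategory.bijective_of_isIso ((ℓ • 𝟙 R : R ⟶ R).hom.app (op V))).1 ?_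
    rw [map_zero]
    exact (nsmul_hom_app ℓ V t).trans ht
  suffices h : ∀ m : ℕ, 0 < m → ∀ t : EtCoh.sect R V, m • t = 0 → ∃ k, EtAcyc.PrimesIn L k ∧ k • t = 0 by
    obtain ⟨k, hk, hks⟩ := h m hm _ hms
    exact ⟨V, g, k, hv, hk, hks⟩
  intro m
  induction m using Nat.strong_induction_on with
  | _ m ih =>
    intro hm t ht
    by_cases hall : ∀ p : ℕ, p.Prime → p ∣ m → p ∈ L
    · exact ⟨m, ⟨hm, hall⟩, ht⟩
    push Not at hall
    obtain ⟨p, hp, ⟨r, rfl⟩, hpL⟩ := hall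
    have hr : 0 < r := Nat.pos_of_mul_pos_left hm
    refine ih r (by nlinarith [hp.two_le]) hr t (hinj p hp hpL _ ?_)
    rw [← mul_smul]
    exact ht

end Groth.Agent.H1DFun
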