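import Groth.Agent.H1DFun.EdgeExt

/-!
# Vanishing from the rows of the Grothendieck spectral sequence
-/

set_option autoImplicit false
set_option backward.isDefEq.respectTransparency false

universe w₁ w₂ v₁ v₂ u₁ u₂

open CategoryTheory CategoryTheory.Limits Abelian Groth.Agent.H10Coh

namespace Groth.Agent.H1DFun

variable {C : Type u₁} [Category.{v₁} C] [Abelian C] [HasExt.{w₁} C]
variable {D : Type u₂} [Category.{v₂} D] [Abelian D] [HasExt.{w₂} D] [EnoughInjectives D]

theorem subsingleton_ext_of_iso (A : C) {B B' : C} (e : B ≅ B') (n : ℕ) (h : Subsingleton (Ext.{w₁} A B n)) :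
    Subsingleton (Ext.{w₁} A B' n) :=
  subsingleton_of_forall_eq 0 fun x => by
    have h1 : x.comp (Ext.mk₀ e.inv) (add_zero n) = 0 := h.elim _ _
    have h2 := congrArg (fun z => Ext.comp z (Ext.mk₀ e.hom) (add_zero n)) h1
    simpa using h2

variable {L : C ⥤ D} {R : D ⥤ C} (adj : L ⊣ R) [L.Additive] [PreservesFiniteLimits L]
  [PreservesFiniteColimits L] [R.Additive] [PreservesFiniteLimits R]

include adj in
/-- If all terms of total degree `n` vanish, the abutment vanishes in degree `n`. -/
theorem subsingleton_ext_of_rows [EnoughInjectives C] (A : C) : ∀ (n : ℕ) (B : D),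
    (∀ p q, p + q = n → Subsingleton (Ext.{w₁} A ((R.rightDerived q).obj B) p)) →
      Subsingleton (Ext.{w₂} (L.obj A) B n) := by
  intro n
  induction n with
  | zero =>
    intro B h
    haveI := subsingleton_ext_of_iso A (R.rightDerivedZeroIsoSelf.app B) 0 (h 0 0 rfl)
    exact (edge_bijective_zero adj A B).surjective.subsingleton
  | succ n ih =>
    intro B h
    have hS := injSeq_shortExact B
    haveI hI : Injective (imSeq (R := R) B).X₂ := Injective.injective_of_adjoint adj (injSeq B).X₂
    haveI := mono_imι (R := R) B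
    obtain ⟨e₁⟩ := nonempty_rightDerived_one R hS
      (H16Derived.AcyclicLES.isAcyclic_of_injective R (injSeq B).X₂)
    have hB0 : Subsingleton (Ext.{w₁} A (R.obj B) (n + 1)) :=
      subsingleton_ext_of_iso A (R.rightDerivedZeroIsoSelf.app B) _ (h (n + 1) 0 rfl)
    have hB1 : Subsingleton (Ext.{w₁} A (cokernel (R.map (injSeq B).g)) n) :=
      subsingleton_ext_of_iso A e₁ _ (h n 1 rfl)
    let T : ShortComplex C := ShortComplex.mk (imι (R := R) B) (cokernel.π (R.map (injSeq B).g)) (by
      rw [← cancel_epi (cokernel.π (R.map (injSeq B).f)), ← Category.assoc, cokernel.π_desc, cokernel.condition,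
        comp_zero])
    have hT : T.ShortExact :=
      { exact := ShortComplex.exact_of_g_is_cokernel _ (CokernelCofork.IsColimit.ofπ _ _
          (fun g hg => cokernel.desc _ g (by
            rw [← cokernel.π_desc (R.map (injSeq B).f) (R.map (injSeq B).g) (by
              rw [← R.map_comp, (injSeq B).zero, R.map_zero]), Category.assoc]
            exact (congrArg _ hg).trans comp_zero))
          (fun g hg => cokernel.π_desc _ _ _) (fun g hg m hm => by
            rw [← cancel_epi (cokernel.π (R.map (injSeq B).g)), cokernel.π_desc]; exact hm))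
        mono_f := inferInstanceAs (Mono (imι (R := R) B))
        epi_g := inferInstanceAs (Epi (cokernel.π _)) }
    cases n with
    | zero =>
      refine subsingleton_of_forall_eq 0 fun x => ?_
      obtain ⟨v, rfl⟩ : ∃ v : Ext (L.obj A) (injSeq B).X₃ 0, Ext.comp v hS.extClass rfl = x :=
        Ext.covariant_sequence_exact₁ (L.obj A) hS x (Ext.eq_zero_of_injective _) rfl
      obtain ⟨v, rfl⟩ := (Ext.mk₀_bijective _ _).2 v
      obtain ⟨z, hz⟩ := Ext.covariant_sequence_exact₂ A hT (Ext.mk₀ (adj.homEquiv A _ v)) (hB1.elim _ _)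
      obtain ⟨z, rfl⟩ := (Ext.mk₀_bijective _ _).2 z
      have h1 := edge_imClass adj A B z
      rw [hB0.elim ((Ext.mk₀ z).comp (imSeq_shortExact (R := R) B).extClass (zero_add 1)) 0, map_zero] at h1
      rw [Ext.mk₀_comp_mk₀] at hz
      have h2 : z ≫ imι B = adj.homEquiv A _ v := (Ext.mk₀_bijective _ _).1 hz
      rw [h2, Equiv.symm_apply_apply] at h1
      exact h1.symm
    | succ n =>
      have hC : Subsingleton (Ext.{w₁} A (imSeq (R := R) B).X₃ (n + 1)) := subsingleton_of_forall_eq 0 fun y => by
        obtain ⟨w, hw⟩ := Ext.covariant_sequence_exact₃ A (imSeq_shortExact (R := R) B) y rfl (hB0.elim _ _)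
        rw [← hw, Ext.eq_zero_of_injective w, Ext.zero_comp]
      have hQ : Subsingleton (Ext.{w₁} A (R.obj (injSeq B).X₃) (n + 1)) := subsingleton_of_forall_eq 0 fun y => by
        obtain ⟨w, hw⟩ := Ext.covariant_sequence_exact₂ A hT y (hB1.elim _ _)
        rw [← hw, hC.elim w 0, Ext.zero_comp]
      haveI := ih (injSeq B).X₃ fun p q hpq => by
        match q, hpq with
        | 0, hpq =>
          obtain rfl : p = n + 1 := by omega
          exact subsingleton_ext_of_iso A (R.rightDerivedZeroIsoSelf.app _).symm _ hQ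
        | q + 1, hpq =>
          exact subsingleton_ext_of_iso A (nonempty_shift B q).some _ (h p (q + 2) (by omega))
      refine subsingleton_of_forall_eq 0 fun x => ?_
      obtain ⟨w, rfl⟩ : ∃ w : Ext (L.obj A) (injSeq B).X₃ (n + 1), Ext.comp w hS.extClass rfl = x :=
        Ext.covariant_sequence_exact₁ (L.obj A) hS x (Ext.eq_zero_of_injective _) rfl
      rw [Subsingleton.elim w 0, Ext.zero_comp]

end Groth.Agent.H1DFun
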