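import Groth.Agent.H1DFun.LimCls

/-!
# Cohomology of a limit with coefficients in a system of sheaves
-/

set_option autoImplicit false
set_option backward.isDefEq.respectTransparency false
set_option backward.isDefEq.respectTransparency.types false

universe u

open CategoryTheory CategoryTheory.Limits AlgebraicGeometry Opposite
open Groth.Agent.H18Et Groth.Agent.H1Lim

namespace Groth.Agent.H1DFun

attribute [local instance] Groth.Agent.H18Et.pull_preservesFiniteLimits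

theorem cT_bijective {T T' V : Scheme.{u}} {F : EtCoh.Ab T} {F' : EtCoh.Ab T'} (u : T' ⟶ T)
    (γ : (EtCoh.pull u).obj F ⟶ F') [IsIso γ] (q : ℕ) (b : V ⟶ T') (c : V ⟶ T) (hc : b ≫ u = c) :
    Function.Bijective (cT u γ q b c hc) :=
  have e := asIso (((viaIso b u c hc).app F).inv ≫ (EtCoh.pull b).map γ)
  ⟨H_map_injective (asIso (((viaIso b u c hc).app F).inv ≫ (EtCoh.pull b).map γ)) q,
    fun y => ⟨_, H_map_inv_hom (asIso (((viaIso b u c hc).app F).inv ≫ (EtCoh.pull b).map γ)) q y⟩⟩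

variable {ι : Type u} [Preorder ι] [IsDirected ι (· ≤ ·)] (Ts : ιᵒᵖ ⥤ Scheme.{u}) (cT₀ : Cone Ts)
  (F : ∀ i : ι, EtCoh.Ab (Ts.obj (op i)))
  (φ : ∀ ⦃i j : ι⦄ (hij : i ≤ j), (EtCoh.pull (Ts.map (homOfLE hij).op)).obj (F i) ⟶ F j)
  (hφ : ∀ ⦃i j k : ι⦄ (hij : i ≤ j) (hjk : j ≤ k),
    φ (hij.trans hjk) = (EtLim.pullTrans Ts hij hjk).hom.app (F i) ≫
      (EtCoh.pull (Ts.map (homOfLE hjk).op)).map (φ hij) ≫ φ hjk)
  (G : ι ⥤ EtCoh.Ab cT₀.pt) (ψ : ∀ i : ι, (EtCoh.pull (cT₀.π.app (op i))).obj (F i) ≅ G.obj i)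
  (hψ : ∀ ⦃i j : ι⦄ (hij : i ≤ j), (ψ i).hom ≫ G.map (homOfLE hij) =
    (EtLim.pullTransCone Ts cT₀ hij).hom.app (F i) ≫ (EtCoh.pull (cT₀.π.app (op j))).map (φ hij) ≫ (ψ j).hom)
  (q : ℕ) {V : Scheme.{u}} (b : V ⟶ cT₀.pt)

include hψ in
/-- Change of stage before passing to the colimit of coefficients. -/
theorem cM_map_stage {k l : ι} (hkl : k ≤ l) {Vk Vl : Scheme.{u}} (ak : Vk ⟶ Ts.obj (op k))
    (al : Vl ⟶ Ts.obj (op l)) (p : Vl ⟶ Vk) (hp : p ≫ ak = al ≫ Ts.map (homOfLE hkl).op) (pl : V ⟶ Vl)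
    (pk : V ⟶ Vk) (hl : pl ≫ al = b ≫ cT₀.π.app (op l))
    (hk : pk ≫ ak = b ≫ cT₀.π.app (op k)) (hpp : pl ≫ p = pk) (x : CL (F k) q ak) :
    cM (G.map (homOfLE hkl)) q b (cT (cT₀.π.app (op k)) (ψ k).hom q b _ rfl (cR (F k) q pk hk x)) =
      cT (cT₀.π.app (op l)) (ψ l).hom q b _ rfl (cR (F l) q pl hl (toStage Ts F φ q hkl ak al p hp x)) := by
  have h0 : pl ≫ al ≫ Ts.map (homOfLE hkl).op = b ≫ cT₀.π.app (op k) := by
    rw [← Category.assoc, hl, Category.assoc, cT₀.w (homOfLE hkl).op]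
  refine (cM_cT _ _ q _ b _ rfl _).trans ?_
  refine Eq.trans ?_ (congrArg (cT _ _ q b _ rfl) (cR_cT _ (φ hkl) q al _ pl hl _ _ rfl rfl _)).symm
  refine Eq.trans ?_ (cT_cT (Ts.map (homOfLE hkl).op) (φ hkl) q (cT₀.π.app (op l)) _ (cT₀.π.app (op k))
    (cT₀.w (homOfLE hkl).op) b _ _ rfl rfl _).symm
  have hcomp : (b ≫ cT₀.π.app (op l)) ≫ Ts.map (homOfLE hkl).op = b ≫ cT₀.π.app (op k) := by
    rw [Category.assoc, cT₀.w (homOfLE hkl).op]
  refine Eq.trans ?_ (cT_congr (F' := G.obj l) _ _ q b _ _ (γ₁ := (ψ k).hom ≫ G.map (homOfLE hkl)) ?_ _).symm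
  · exact ((congrArg _ (cR_cR p hp pl _ pk hpp x)).trans (cT_cR_eq _ _ q b _ _ hcomp _ pk _ x)).symm
  · rw [hψ hkl, pullTransCone_app Ts cT₀ F hkl]

theorem toLim_eq (k : ι) {Vk : Scheme.{u}} (ak : Vk ⟶ Ts.obj (op k)) (p : V ⟶ Vk)
    (hp : p ≫ ak = b ≫ cT₀.π.app (op k)) (x : CL (F k) q ak) :
    toLim Ts cT₀ F G ψ q k ak p b hp x =
      cM (colimit.ι G k) q b (cT (cT₀.π.app (op k)) (ψ k).hom q b _ rfl (cR (F k) q p hp x)) :=
  (cM_cT _ _ q _ b _ rfl _).symm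

variable {i₁ : ι} (D : Over (op i₁) ⥤ Scheme.{u}) [∀ ⦃a b : Over (op i₁)⦄ (m : a ⟶ b), IsAffineHom (D.map m)]
  [∀ k, CompactSpace (D.obj k)] [∀ k, QuasiSeparatedSpace (D.obj k)] (c : Cone D) (hc : IsLimit c)
  (a : ∀ k : Over (op i₁), D.obj k ⟶ Ts.obj (op k.left.unop))
  (ha : ∀ {i k : Over (op i₁)} (m : k ⟶ i), D.map m ≫ a i = a k ≫ Ts.map (homOfLE m.left.unop.le).op)
  (a' : c.pt ⟶ cT₀.pt)
  (ha' : ∀ k, c.π.app k ≫ a k = a' ≫ cT₀.π.app (op k.left.unop))

include hc ha ha' in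
theorem fixed_stage (k : Over (op i₁)) :
    (∀ z : CL (F k.left.unop) q (a' ≫ cT₀.π.app (op k.left.unop)),
      ∃ (l : Over k) (y : CL (F k.left.unop) q (a l.left ≫ Ts.map (homOfLE l.hom.left.unop.le).op)),
        cR (F k.left.unop) q (c.π.app l.left)
          (by rw [← Category.assoc, ha' l.left, Category.assoc, cT₀.w (homOfLE l.hom.left.unop.le).op]) y = z) ∧
      ∀ (y : CL (F k.left.unop) q (a k)), cR (F k.left.unop) q (c.π.app k) (ha' k) y = 0 →
        ∃ (l : Over k), cR (F k.left.unop) q (D.map l.hom) (ha l.hom) y = 0 := by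
  haveI : IsFiltered ι := by
    haveI : Nonempty ι := ⟨i₁⟩
    infer_instance
  let D' : Over k ⥤ Scheme.{u} := Over.forget k ⋙ D
  haveI : ∀ ⦃x y : Over k⦄ (m : x ⟶ y), IsAffineHom (D'.map m) := fun x y m =>
    inferInstanceAs (IsAffineHom (D.map m.left))
  haveI : ∀ x, CompactSpace (D'.obj x) := fun x => inferInstanceAs (CompactSpace (D.obj x.left))
  haveI : ∀ x, QuasiSeparatedSpace (D'.obj x) := fun x => inferInstanceAs (QuasiSeparatedSpace (D.obj x.left))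
  let c' : Cone D' := c.whisker (Over.forget k)
  have hc' : IsLimit c' := (Functor.Initial.isLimitWhiskerEquiv (Over.forget k) c).symm hc
  obtain ⟨hs, hi⟩ := cR_lim D' c' hc' (F k.left.unop)
    (fun l => a l.left ≫ Ts.map (homOfLE l.hom.left.unop.le).op)
    (fun {i l} m => by
      show D.map m.left ≫ a i.left ≫ _ = _
      rw [← Category.assoc, ha m.left, Category.assoc, ← Functor.map_comp]
      rfl)
    (a' ≫ cT₀.π.app (op k.left.unop))
    (fun l => by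
      show c.π.app l.left ≫ a l.left ≫ _ = _
      rw [← Category.assoc, ha' l.left, Category.assoc, cT₀.w (homOfLE l.hom.left.unop.le).op]) q
  refine ⟨hs, fun y hy => ?_⟩
  have hk : 𝟙 _ ≫ a k = a k ≫ Ts.map (homOfLE ((𝟙 k : k ⟶ k).left.unop.le)).op := by
    rw [Category.id_comp, show (homOfLE ((𝟙 k : k ⟶ k).left.unop.le)).op = 𝟙 (op k.left.unop) from rfl,
      CategoryTheory.Functor.map_id, Category.comp_id]
  obtain ⟨l, m, hm⟩ := hi (Over.mk (𝟙 k)) (cR (F k.left.unop) q (𝟙 _) hk y) (by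
    refine (cR_cR _ _ _ _ (c.π.app k) (Category.comp_id _) y).trans ?_
    exact hy)
  refine ⟨l, ?_⟩
  have e : D.map m.left = D.map l.hom := congrArg (fun t => D.map t) ((Category.comp_id _).symm.trans (Over.w m))
  refine Eq.trans ?_ hm
  exact ((cR_cR _ hk (D.map m.left) _ (D.map l.hom) ((Category.comp_id _).trans e) y)).symm

include hc ha ha' hψ in
/-- Every class on the limit with coefficients in the colimit comes from a stage. -/
theorem sys_surj (s : CL (colimit G) q a') :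
    ∃ (l : Over (op i₁)) (y : CL (F l.left.unop) q (a l)),
      toLim Ts cT₀ F G ψ q l.left.unop (a l) (c.π.app l) a' (ha' l) y = s := by
  haveI : IsFiltered ι := by
    haveI : Nonempty ι := ⟨i₁⟩
    infer_instance
  haveI : CompactSpace c.pt := Scheme.compactSpace_of_isLimit D c hc
  haveI : QuasiSeparatedSpace c.pt := by
    haveI := isAffineHom_π_app D c hc (Over.mk (𝟙 _))
    exact quasiSeparatedSpace_of_quasiSeparated (c.π.app (Over.mk (𝟙 _)))
  obtain ⟨j, t, rfl⟩ := (cM_colim a' q G).1 s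
  obtain ⟨j', hj, hj'⟩ := exists_ge_ge j i₁
  let k : Over (op i₁) := Over.mk (homOfLE hj').op
  obtain ⟨z, hz⟩ := (cT_bijective (cT₀.π.app (op j')) (ψ j').hom q a' _ rfl).2 (cM (G.map (homOfLE hj)) q a' t)
  obtain ⟨l, y, hy⟩ := (fixed_stage Ts cT₀ F q D c hc a ha a' ha' k).1 z
  refine ⟨l.left, toStage Ts F φ q l.hom.left.unop.le _ (a l.left) (𝟙 _) (Category.id_comp _) y, ?_⟩
  refine (toLim_toStage Ts cT₀ F φ G ψ q hψ l.hom.left.unop.le _ (a l.left) (𝟙 _) (Category.id_comp _)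
    (c.π.app l.left) (c.π.app l.left) a' (ha' l.left)
    (by rw [← Category.assoc, ha' l.left, Category.assoc, cT₀.w (homOfLE l.hom.left.unop.le).op])
    (Category.comp_id _) y).trans ?_
  refine (toLim_eq Ts cT₀ F G ψ q a' j' _ (c.π.app l.left) _ y).trans ?_
  refine (congrArg (fun w => cM (colimit.ι G j') q a' (cT _ _ q a' _ rfl w)) hy).trans ?_
  refine (congrArg (cM (colimit.ι G j') q a') hz).trans ?_
  refine (Sheaf.H.map_comp_apply _ _ _).symm.trans ?_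
  rw [← Functor.map_comp, colimit.w]
  rfl

include hc ha ha' hψ hφ in
/-- A class vanishing on the limit vanishes at a later stage. -/
theorem sys_inj (i : Over (op i₁)) (y : CL (F i.left.unop) q (a i))
    (hy : toLim Ts cT₀ F G ψ q i.left.unop (a i) (c.π.app i) a' (ha' i) y = 0) :
    ∃ (l : Over (op i₁)) (m : l ⟶ i),
      toStage Ts F φ q m.left.unop.le (a i) (a l) (D.map m) (ha m) y = 0 := by
  haveI : IsFiltered ι := by
    haveI : Nonempty ι := ⟨i₁⟩
    infer_instance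
  haveI : CompactSpace c.pt := Scheme.compactSpace_of_isLimit D c hc
  haveI : QuasiSeparatedSpace c.pt := by
    haveI := isAffineHom_π_app D c hc (Over.mk (𝟙 _))
    exact quasiSeparatedSpace_of_quasiSeparated (c.π.app (Over.mk (𝟙 _)))
  rw [toLim_eq] at hy
  obtain ⟨j, f, hf⟩ := (cM_colim a' q G).2 i.left.unop _ hy
  let k : Over (op i₁) := Over.mk (homOfLE (i.hom.unop.le.trans f.le)).op
  let mk : k ⟶ i := Over.homMk (homOfLE f.le).op (Subsingleton.elim _ _)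
  have h1 := cM_map_stage Ts cT₀ F φ G ψ hψ q a' (k := i.left.unop) (l := j) f.le (a i) (a k) (D.map mk) (ha mk)
    (c.π.app k) (c.π.app i) (ha' k) (ha' i) (c.w mk) y
  have h2 : cR (F j) q (c.π.app k) (ha' k) (toStage Ts F φ q f.le (a i) (a k) (D.map mk) (ha mk) y) = 0 := by
    apply (cT_bijective (cT₀.π.app (op j)) (ψ j).hom q a' _ rfl).1
    refine (h1.symm.trans ?_).trans (map_zero _).symm
    exact hf
  obtain ⟨l, hl⟩ := (fixed_stage Ts cT₀ F q D c hc a ha a' ha' k).2 _ h2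
  refine ⟨l.left, l.hom ≫ mk, ?_⟩
  refine (toStage_toStage Ts F φ q hφ f.le l.hom.left.unop.le (a i) (a k) (a l.left) (D.map mk) (D.map l.hom)
    (D.map (l.hom ≫ mk)) (ha mk) (ha l.hom) (ha (l.hom ≫ mk)) (D.map_comp _ _).symm y).symm.trans ?_
  exact (congrArg (cT (Ts.map (homOfLE l.hom.left.unop.le).op) (φ l.hom.left.unop.le) q (a l.left) _ rfl) hl).trans
    (map_zero (cT (Ts.map (homOfLE l.hom.left.unop.le).op) (φ l.hom.left.unop.le) q (a l.left) _ rfl))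

end Groth.Agent.H1DFun
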