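import Groth.Agent.H1DFun.ConstFlasque
import Groth.Agent.H18Et.PushClosed
import Groth.Agent.H18Et.Support

/-!
# Constant sheaves on normal schemes with separably closed function field
-/

set_option autoImplicit false
set_option backward.isDefEq.respectTransparency false
set_option backward.isDefEq.respectTransparency.types false

universe u

open CategoryTheory CategoryTheory.Limits AlgebraicGeometry Opposite TopologicalSpace
open Groth.Agent.H18Et

namespace Groth.Agent.H1DFun

variable {X : Scheme.{u}}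

/-- Sections of a constant sheaf over a connected object are the constants. -/
theorem bijective_rest {F : EtCoh.Ab X} {M : Type*} {c : M → EtCoh.sect F (EtCoh.top X)}
    (h : ConstSheaf.IsConstant F c) (U : X.Etale) [Nonempty U.left] [PreconnectedSpace U.left] :
    Function.Bijective fun m => ConstSheaf.rest F U (c m) := by
  obtain ⟨x⟩ := ‹Nonempty U.left›
  refine ⟨fun m m' e => ConstSheaf.eq_of_rest_eq h x e, fun s => ?_⟩
  obtain ⟨m, hm⟩ := ConstSheaf.exists_mem_locus h s x
  have he := (ConstSheaf.isClopen_locus h s m).eq_univ ⟨x, hm⟩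
  exact ⟨m, (ConstSheaf.eq_rest h s m fun z => he.symm ▸ Set.mem_univ z).symm⟩

/-- Every geometric point of an etale object has an irreducible neighbourhood. -/
theorem exists_irreducible_nbhd [PreirreducibleSpace X]
    (hX : ∀ x : X, EtCoh.IsStrictlyHenselianLocalRing (X.presheaf.stalk x))
    {Ω : Type u} [Field Ω] [IsSepClosed Ω] (ξ : Spec (CommRingCat.of Ω) ⟶ X) (P : X.Etale)
    (z : (Scheme.pointSmallEtale ξ).fiber.obj P) :
    ∃ (Q : X.Etale) (g : Q ⟶ P) (y : (Scheme.pointSmallEtale ξ).fiber.obj Q),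
      (Scheme.pointSmallEtale ξ).fiber.map g y = z ∧ PreirreducibleSpace Q.left := by
  haveI : Etale P.hom := P.prop
  obtain ⟨U, σ, _, hv⟩ := exists_open_iso_of_etale hX P.hom (ptOf z)
  let Q : X.Etale := MorphismProperty.Over.mk ⊤ (σ ≫ P.hom) (inferInstanceAs (Etale (σ ≫ P.hom)))
  let g : Q ⟶ P := MorphismProperty.Over.homMk σ rfl trivial
  obtain ⟨v, hv⟩ := hv
  obtain ⟨y, hy⟩ := exists_fiber_lift g z v hv
  exact ⟨Q, g, y, hy, Subtype.preirreducibleSpace
    ((PreirreducibleSpace.isPreirreducible_univ (X := X)).open_subset U.isOpen (Set.subset_univ _))⟩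

/-- A constant sheaf on an irreducible scheme with strictly henselian local rings is the direct image
of its restriction to a nonempty open. -/
theorem isIso_unit_open_const [PreirreducibleSpace X]
    (hX : ∀ x : X, EtCoh.IsStrictlyHenselianLocalRing (X.presheaf.stalk x)) {F : EtCoh.Ab X} {M : Type*}
    {c : M → EtCoh.sect F (EtCoh.top X)} (hc : ConstSheaf.IsConstant F c) (W : X.Opens) (hW : (W : Set X).Nonempty) :
    IsIso ((EtCoh.pullPushAdj W.ι).unit.app F) := by
  let u := (EtCoh.pullPushAdj W.ι).unit.app F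
  have hc' := ConstSheaf.isConstant_pullSec W.ι hc
  have key : ∀ (Q : X.Etale), PreirreducibleSpace Q.left → Nonempty Q.left →
      Function.Bijective (u.hom.app (op Q)) := fun Q hQ hne => by
    haveI : Etale Q.hom := Q.prop
    haveI : PreconnectedSpace Q.left := inferInstance
    obtain ⟨w, -, hwW, q, rfl⟩ := (PreirreducibleSpace.isPreirreducible_univ (X := X)) (W : Set X)
      (Set.range Q.hom) W.isOpen Q.hom.isOpenMap.isOpen_range (hW.mono fun a ha => ⟨trivial, ha⟩)
      (by obtain ⟨a⟩ := hne; exact ⟨Q.hom a, trivial, a, rfl⟩)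
    let p : ((EtCoh.bc W.ι).obj Q).left ⟶ Q.left := pullback.fst Q.hom W.ι
    haveI : IsOpenImmersion p := inferInstanceAs (IsOpenImmersion (pullback.fst Q.hom W.ι))
    obtain ⟨r, hr, -⟩ := Scheme.Pullback.exists_preimage_pullback (f := Q.hom) (g := W.ι) q ⟨_, hwW⟩ rfl
    haveI : Nonempty ((EtCoh.bc W.ι).obj Q).left := ⟨r⟩
    haveI : PreirreducibleSpace ((EtCoh.bc W.ι).obj Q).left := by
      refine ⟨?_⟩
      have h := (PreirreducibleSpace.isPreirreducible_univ (X := Q.left)).preimage p.isOpenEmbedding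
      rwa [Set.preimage_univ] at h
    haveI : PreconnectedSpace ((EtCoh.bc W.ι).obj Q).left := inferInstance
    have h1 := bijective_rest hc Q
    refine (Function.Bijective.of_comp_iff _ h1).1 ?_
    rw [show ⇑(u.hom.app (op Q)) ∘ (fun m => ConstSheaf.rest F Q (c m)) = fun m =>
      ConstSheaf.rest ((EtCoh.pull W.ι).obj F) ((EtCoh.bc W.ι).obj Q) (ConstSheaf.pullSec W.ι F (c m)) from
      funext fun m => ConstSheaf.unit_rest W.ι F Q (c m)]
    exact bijective_rest hc' _
  refine isIso_of_stalk _ fun x => ⟨_, _, SeparableClosure.isSepClosed _, geomPt x, geomPt_base x, ?_, fun p => ?_⟩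
  · refine (injective_iff_map_eq_zero _).2 fun p hp => ?_
    obtain ⟨P, z, s, rfl⟩ := germ_surjective _ F p
    let G := (EtCoh.push W.ι).obj ((EtCoh.pull W.ι).obj F)
    have hp' : germ (geomPt x) G P z (u.hom.app (op P) s) = germ (geomPt x) G P z 0 :=
      (germ_naturality (geomPt x) u P z s).symm.trans (hp.trans (map_zero (ConcreteCategory.hom (germ (geomPt x) G P z))).symm)
    obtain ⟨R, g, y, hy', hy⟩ := (germ_eq_iff _ _ P z _ _).1 hp'
    obtain ⟨Q, g', y', hy'', hQ⟩ := exists_irreducible_nbhd hX _ R y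
    have h0 : F.obj.map (g' ≫ g).op s = 0 := by
      refine (key Q hQ ⟨ptOf y'⟩).1 ?_
      refine (NatTrans.naturality_apply u.hom (g' ≫ g).op s).trans ?_
      rw [op_comp, Functor.map_comp_apply]
      refine (congrArg _ hy).trans ?_
      rw [map_zero, map_zero, map_zero]
    have h1 := ConstSheaf.germ_map (geomPt x) F (g' ≫ g) y' s
    rw [h0, map_zero] at h1
    refine Eq.trans ?_ h1.symm
    refine congrArg (fun w => germ (geomPt x) F P w s) ?_
    rw [Functor.map_comp, ← hy', ← hy'']
    rfl
  · obtain ⟨P, z, t, rfl⟩ := germ_surjective _ _ p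
    obtain ⟨Q, g, y, rfl, hQ⟩ := exists_irreducible_nbhd hX _ P z
    obtain ⟨s, hs⟩ := (key Q hQ ⟨ptOf y⟩).2 (((EtCoh.push W.ι).obj ((EtCoh.pull W.ι).obj F)).obj.map g.op t)
    refine ⟨germ _ F Q y s, (germ_naturality (geomPt x) u Q y s).trans ((congrArg _ hs).trans ?_)⟩
    exact ConstSheaf.germ_map (geomPt x) _ g y t

end Groth.Agent.H1DFun
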