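import Groth.Agent.S0157
import Groth.Agent.H1DFun.BCInjCoker
import Groth.Agent.H1DFun.LimCls
import Groth.Agent.H1DFun.LTorsion
import Groth.Agent.H18Et.Cons.TorsionColim

/-!
# Proper base change from acyclicity of injective sheaves of groups killed by a prime
-/

set_option autoImplicit false
set_option backward.isDefEq.respectTransparency false
set_option backward.isDefEq.respectTransparency.types false

universe u

open CategoryTheory CategoryTheory.Limits AlgebraicGeometry Opposite Abelian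
open Groth.Agent.H18Et Groth.Agent.H1Lim
open scoped Groth.Agent.H18Et.CohColim

namespace Groth.Agent.H1DFun

attribute [local instance] Groth.Agent.H18Et.pull_preservesFiniteLimits

/-- Injective among sheaves killed by `ℓ`. -/
abbrev LInj {T : Scheme.{u}} (ℓ : ℕ) (I : EtCoh.Ab T) : Prop :=
  ∀ (G : EtCoh.Ab T), EtCoh.KilledBy ℓ G → ∀ (a : G ⟶ I) {G' : EtCoh.Ab T} (m : G ⟶ G'),
    EtCoh.KilledBy ℓ G' → Mono m → ∃ b : G' ⟶ I, m ≫ b = a

section Tors

variable {T : Scheme.{u}}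

theorem killedBy_iff_nsmul_id (n : ℕ) (F : EtCoh.Ab T) : EtCoh.KilledBy n F ↔ n • 𝟙 F = 0 := by
  refine ⟨fun h => Sheaf.hom_ext (NatTrans.ext (funext fun U => ?_)), fun h U s => ?_⟩
  · ext s
    exact (nsmul_hom_app n U.unop s).trans (h U.unop s)
  · exact (nsmul_hom_app n U s).symm.trans
      (ConcreteCategory.congr_hom (congrArg (fun k => k.hom.app (op U)) h) s)

theorem killedBy_kernel (n : ℕ) (F : EtCoh.Ab T) : EtCoh.KilledBy n (kernel (n • 𝟙 F)) := by
  rw [killedBy_iff_nsmul_id, ← cancel_mono (kernel.ι (n • 𝟙 F)), zero_comp, Preadditive.nsmul_comp,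
    Category.id_comp]
  have h := kernel.condition (n • 𝟙 F)
  rwa [Preadditive.comp_nsmul, Category.comp_id] at h

theorem comp_eq_zero_of_killedBy {n : ℕ} {G F : EtCoh.Ab T} (hG : EtCoh.KilledBy n G) (a : G ⟶ F) :
    a ≫ (n • 𝟙 F) = 0 := by
  rw [Preadditive.comp_nsmul, Category.comp_id]
  have h := congrArg (· ≫ a) ((killedBy_iff_nsmul_id n G).1 hG)
  simpa only [Preadditive.nsmul_comp, Category.id_comp, zero_comp] using h

theorem lInj_kernel (n : ℕ) (J : EtCoh.Ab T) [Injective J] : LInj n (kernel (n • 𝟙 J)) := by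
  intro G _ a G' m hG' hm
  refine ⟨kernel.lift _ (Injective.factorThru (a ≫ kernel.ι _) m) (comp_eq_zero_of_killedBy hG' _), ?_⟩
  rw [← cancel_mono (kernel.ι (n • 𝟙 J)), Category.assoc, kernel.lift_ι, Injective.comp_factorThru]

theorem epi_nsmul_injective (J : EtCoh.Ab T) [Injective J] (n : ℕ) (hn : n ≠ 0) : Epi (n • 𝟙 J : J ⟶ J) := by
  refine (H18Et.epi_iff_stalk _).2 fun Ω _ _ ξ => ?_
  rw [AddCommGrpCat.epi_iff_surjective]
  intro y
  obtain ⟨U, z, s, rfl⟩ := H18Et.germ_surjective ξ J y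
  obtain ⟨t, ht⟩ := exists_sect_zsmul J n (by exact_mod_cast hn) U s
  refine ⟨H18Et.germ ξ J U z t, (H18Et.germ_naturality ξ _ U z t).trans (congrArg _ ?_)⟩
  rw [← ht, natCast_zsmul]

/-- The sequence of kernels of multiplication by a product. -/
theorem exists_shortExact_kernel (J : EtCoh.Ab T) [Injective J] (ℓ m : ℕ) (hℓ : ℓ ≠ 0) :
    ∃ (f : kernel (ℓ • 𝟙 J) ⟶ kernel ((ℓ * m) • 𝟙 J)) (g : kernel ((ℓ * m) • 𝟙 J) ⟶ kernel (m • 𝟙 J))
      (w : f ≫ g = 0), (ShortComplex.mk f g w).ShortExact := by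
  have hι : ∀ k : ℕ, k • kernel.ι (k • 𝟙 J) = 0 := fun k => by
    have h := kernel.condition (k • 𝟙 J)
    rwa [Preadditive.comp_nsmul, Category.comp_id] at h
  let f : kernel (ℓ • 𝟙 J) ⟶ kernel ((ℓ * m) • 𝟙 J) := kernel.lift _ (kernel.ι _) (by
    rw [Preadditive.comp_nsmul, Category.comp_id, mul_comm, mul_nsmul', hι, nsmul_zero])
  let g : kernel ((ℓ * m) • 𝟙 J) ⟶ kernel (m • 𝟙 J) := kernel.lift _ (ℓ • kernel.ι _) (by
    rw [Preadditive.comp_nsmul, Category.comp_id, ← mul_nsmul, hι])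
  have hg : g ≫ kernel.ι _ = ℓ • kernel.ι ((ℓ * m) • 𝟙 J) := kernel.lift_ι _ _ _
  have hf : f ≫ kernel.ι _ = kernel.ι (ℓ • 𝟙 J) := kernel.lift_ι _ _ _
  haveI := epi_nsmul_injective J ℓ hℓ
  haveI : Mono f := mono_of_mono_fac hf
  haveI : Epi g := by
    rw [epi_iff_surjective_up_to_refinements]
    intro A a
    obtain ⟨A', π, hπ, x, hx⟩ := surjective_up_to_refinements_of_epi (ℓ • 𝟙 J) (a ≫ kernel.ι _)
    rw [Preadditive.comp_nsmul, Category.comp_id] at hx
    refine ⟨A', π, hπ, kernel.lift _ x ?_, ?_⟩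
    · rw [Preadditive.comp_nsmul, Category.comp_id, mul_nsmul, ← hx,
        ← Preadditive.comp_nsmul, ← Preadditive.comp_nsmul, hι, comp_zero, comp_zero]
    · rw [← cancel_mono (kernel.ι (m • 𝟙 J)), Category.assoc, Category.assoc, hg]
      exact hx.trans (by rw [Preadditive.comp_nsmul, kernel.lift_ι])
  refine ⟨f, g, ?_, { exact := ?_ }⟩
  · rw [← cancel_mono (kernel.ι (m • 𝟙 J)), Category.assoc, hg, zero_comp, Preadditive.comp_nsmul, hf, hι]
  rw [ShortComplex.exact_iff_exact_up_to_refinements]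
  intro A x hx
  refine ⟨A, 𝟙 A, inferInstance, kernel.lift _ (x ≫ kernel.ι _) ?_, ?_⟩
  · have h := congrArg (· ≫ kernel.ι (m • 𝟙 J)) hx
    simp only [Category.assoc, hg, zero_comp] at h
    rwa [Preadditive.comp_nsmul, Category.comp_id, ← Preadditive.comp_nsmul]
  · refine (Category.id_comp x).trans (?_ : (x : A ⟶ kernel ((ℓ * m) • 𝟙 J)) = _)
    refine (cancel_mono (kernel.ι ((ℓ * m) • 𝟙 J))).1 ?_
    exact ((Category.assoc _ _ _).trans ((congrArg (_ ≫ ·) hf).trans (kernel.lift_ι _ _ _))).symm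

end Tors

variable {X S Y T : Scheme.{u}} (f : X ⟶ S) (g : T ⟶ S) (h : Y ⟶ X) (e : Y ⟶ T) (w : e ≫ g = h ≫ f)

/-- Vanishing of higher direct images passes to extensions. -/
theorem isZero_Rpush_pull_middle {Sh : ShortComplex (EtCoh.Ab T)} (hSh : Sh.ShortExact) (q : ℕ)
    (h₁ : IsZero ((EtCoh.Rpush h q).obj ((EtCoh.pull e).obj Sh.X₁)))
    (h₃ : IsZero ((EtCoh.Rpush h q).obj ((EtCoh.pull e).obj Sh.X₃))) :
    IsZero ((EtCoh.Rpush h q).obj ((EtCoh.pull e).obj Sh.X₂)) := by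
  rw [H18Et.isZero_iff_stalk] at h₁ h₃ ⊢
  intro Ω _ _ η
  have z₁ := AddCommGrpCat.subsingleton_of_isZero (h₁ Ω η)
  have z₃ := AddCommGrpCat.subsingleton_of_isZero (h₃ Ω η)
  refine @AddCommGrpCat.isZero_of_subsingleton _ (subsingleton_of_forall_eq 0 fun y => ?_)
  obtain ⟨Q, v, s, rfl⟩ := exists_germ1 h e Sh.X₂ q η y
  obtain ⟨Q₁, m, v₁, hv, h0⟩ := exists_r1_eq_zero h e Sh.X₃ q η Q v (cM Sh.g q _ s) (z₃.elim _ _)
  obtain ⟨t, ht⟩ := exists_of_cM_eq_zero hSh _ (c1 h e Sh.X₂ q m s) ((cR_cM Sh.g _ _ s).symm.trans h0)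
  obtain ⟨Q₂, k, v₂, hv₂, h1⟩ := exists_r1_eq_zero h e Sh.X₁ q η Q₁ v₁ t (z₁.elim _ _)
  rw [← germ1_map h e Sh.X₂ q η (k ≫ m) v₂ v (by rw [Functor.map_comp_apply, hv₂, hv]) s]
  refine (congrArg _ ?_).trans (map_zero _)
  show c1 h e Sh.X₂ q (k ≫ m) s = 0
  rw [← c1_c1 h e Sh.X₂ q m k _ rfl s, ← ht]
  refine (cR_cM Sh.f _ _ t).trans ((congrArg _ (show c1 h e Sh.X₁ q k t = 0 from h1)).trans (map_zero _))

variable (hA : ∀ ℓ : ℕ, ℓ.Prime → ∀ I : EtCoh.Ab T, EtCoh.KilledBy ℓ I → LInj ℓ I →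
  ∀ q : ℕ, 0 < q → IsZero ((EtCoh.Rpush h q).obj ((EtCoh.pull e).obj I)))

include hA in
theorem isZero_Rpush_kernel_nsmul (J : EtCoh.Ab T) [Injective J] (q : ℕ) :
    ∀ n : ℕ, 0 < n → IsZero ((EtCoh.Rpush h (q + 1)).obj ((EtCoh.pull e).obj (kernel (n • 𝟙 J)))) := by
  intro n
  induction n using Nat.recOnMul with
  | zero => exact fun h0 => absurd h0 (lt_irrefl 0)
  | prime p hp => exact fun _ => hA p hp _ (killedBy_kernel p J) (lInj_kernel p J) _ q.succ_pos
  | one =>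
    intro _
    have hz : IsZero (kernel (1 • 𝟙 J)) := by
      rw [IsZero.iff_id_eq_zero, ← one_nsmul (𝟙 (kernel _))]
      exact (killedBy_iff_nsmul_id 1 _).1 (killedBy_kernel 1 J)
    haveI : (EtCoh.pull e).PreservesZeroMorphisms := inferInstance
    haveI : (EtCoh.Rpush h (q + 1)).Additive := rightDerived_additive _ _
    exact Functor.map_isZero _ ((EtCoh.pull e).map_isZero hz)
  | mul a b iha ihb =>
    intro hab
    obtain ⟨f', g', w', hs⟩ := exists_shortExact_kernel J a b (Nat.pos_of_mul_pos_right hab).ne'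
    exact isZero_Rpush_pull_middle h e hs (q + 1) (iha (Nat.pos_of_mul_pos_right hab))
      (ihb (Nat.pos_of_mul_pos_left hab))

theorem isIso_bcQ_zero [IsProper g] (sq : IsPullback e h g f) (F : EtCoh.Ab T) :
    IsIso (EtBC.bcQ g f h e sq.w 0 F) := by
  haveI := S0157.result g h e f sq F
  have h1 := EtBC.bcQ_zero_compat g f h e sq.w F
  haveI : IsIso ((EtCoh.push g).toRightDerivedZero.app F) := inferInstance
  haveI : IsIso (((EtCoh.push h).toRightDerivedZero).app ((EtCoh.pull e).obj F)) := inferInstance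
  have h2 : IsIso ((EtCoh.pull f).map ((EtCoh.push g).toRightDerivedZero.app F) ≫
      EtBC.bcQ g f h e sq.w 0 F) := by
    rw [h1]; infer_instance
  exact IsIso.of_isIso_comp_left ((EtCoh.pull f).map ((EtCoh.push g).toRightDerivedZero.app F)) _

include hA in
/-- Base change in all degrees for sheaves killed by a positive integer. -/
theorem isIso_bcQ_of_killedBy [IsProper g] (sq : IsPullback e h g f) :
    ∀ (q n : ℕ), 0 < n → ∀ F : EtCoh.Ab T, EtCoh.KilledBy n F → IsIso (EtBC.bcQ g f h e sq.w q F) := by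
  intro q
  induction q with
  | zero => exact fun _ _ F _ => isIso_bcQ_zero f g h e sq F
  | succ q ih =>
    intro n hn F hF
    have hBC := ih n hn
    haveI := mono_bcQ_succ f g h e sq.w hBC F hF
    let J := Injective.under F
    let ι : F ⟶ kernel (n • 𝟙 J) := kernel.lift _ (Injective.ι F) (comp_eq_zero_of_killedBy hF _)
    haveI : Mono ι := mono_of_mono_fac (kernel.lift_ι _ _ _)
    obtain ⟨φ, hφ, -⟩ := exists_mono_cokernel_bcQ_succ f g h e sq.w hBC F _ ι (killedBy_kernel n J)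
    have hz : IsZero (cokernel (EtBC.bcQ g f h e sq.w (q + 1) (kernel (n • 𝟙 J)))) :=
      IsZero.of_epi (cokernel.π _) (isZero_Rpush_kernel_nsmul h e hA J q n hn)
    haveI : Epi (EtBC.bcQ g f h e sq.w (q + 1) F) :=
      Preadditive.epi_of_cokernel_zero ((IsZero.of_mono φ hz).eq_of_tgt _ _)
    exact isIso_of_mono_of_epi _

end Groth.Agent.H1DFun
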