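import Groth.Agent.H1DFun.StalkPoint
import Groth.Agent.H05EGA4.EtCl.Dev.FiniteVanish
import Groth.Agent.H18RelCd.Main
import Groth.Agent.H8Props.FieldDimFibre

/-!
# Consequences of proper base change
-/

set_option autoImplicit false
set_option linter.style.haveILetI false
set_option backward.isDefEq.respectTransparency false
set_option backward.isDefEq.respectTransparency.types false

universe u

open CategoryTheory CategoryTheory.Limits AlgebraicGeometry Opposite Abelian
open Groth.Agent.H18Et Groth.Agent.H1Lim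
open scoped Groth.Agent.H18Et Groth.Agent.H18Et.CohColim

namespace Groth.Agent.H1DFun

attribute [local instance] Groth.Agent.H18Et.pull_preservesFiniteLimits

/-- Higher direct images of proper morphisms vanish above twice the fibre dimension. -/
theorem isZero_Rpush_of_fibre_dim {X Y : Scheme.{u}} (f : X ⟶ Y) [IsProper f] (n : ℕ)
    (hdim : ∀ y : Y, topologicalKrullDim (f.fiber y) ≤ n) (F : EtCoh.Ab X) (hF : EtCoh.IsTorsion F) (q : ℕ)
    (hq : 2 * n < q) : IsZero ((EtCoh.Rpush f q).obj F) := by
  rw [H18Et.isZero_iff_stalk]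
  intro Ω _ _ ξ
  obtain ⟨i⟩ := nonempty_stalk_Rpush_fibre f ξ F hF q
  refine IsZero.of_iso ?_ i
  let b := pullback.fst f ξ
  let g := pullback.snd f ξ
  let y : Spec (CommRingCat.of Ω) := default
  have hd : topologicalKrullDim ↥(pullback f ξ) ≤ n := by
    have h1 := H8Props.FieldDim.dim_fiber_baseChange f (IsPullback.of_hasPullback f ξ) y
    have hb : Function.Bijective (g.fiberι y).base := ⟨(g.fiberι y).isEmbedding.injective, fun z => by
      have hz : z ∈ Set.range (g.fiberι y).base := by
        rw [Scheme.Hom.range_fiberι]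
        exact Subsingleton.elim (α := PrimeSpectrum Ω) (g.base z) y
      exact hz⟩
    have hh : IsHomeomorph (g.fiberι y).base :=
      isHomeomorph_iff_isEmbedding_surjective.2 ⟨(g.fiberι y).isEmbedding, hb.2⟩
    rw [← IsHomeomorph.topologicalKrullDim_eq _ hh]
    exact h1.trans_le (hdim _)
  haveI := H18RelCd.cohDimLE_of_dim_le g hd _ (H18Et.Coh.isTorsion_pull b F hF) q hq
  exact AddCommGrpCat.isZero_of_subsingleton _

/-- Invariance of cohomology of proper schemes under extensions of separably closed fields. -/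
theorem nonempty_H_fieldExt {k K : Type u} [Field k] [IsSepClosed k] [Field K] [IsSepClosed K] (i : k →+* K)
    {X : Scheme.{u}} (a : X ⟶ Spec (CommRingCat.of k)) [IsProper a] (F : EtCoh.Ab X) (hF : EtCoh.IsTorsion F)
    (q : ℕ) :
    Nonempty (EtCoh.H X F q ≃+ EtCoh.H (pullback a (Spec.map (CommRingCat.ofHom i)))
      ((EtCoh.pull (pullback.fst a (Spec.map (CommRingCat.ofHom i)))).obj F) q) := by
  let ξ := Spec.map (CommRingCat.ofHom i)
  obtain ⟨e₁⟩ := nonempty_stalk_Rpush_fibre a ξ F hF q
  obtain ⟨e₂⟩ := nonempty_stalk_Rpush_point a F q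
  haveI : Subsingleton ↥(Spec (CommRingCat.of k)) := inferInstanceAs (Subsingleton (PrimeSpectrum k))
  obtain ⟨s⟩ := H05EGA4.EtCl.Dev.nonempty_stalk_equiv ((EtCoh.Rpush a q).obj F) ξ (𝟙 _) (Subsingleton.elim _ _)
  exact ⟨(e₂.symm ≪≫ s.symm ≪≫ e₁).addCommGroupIsoToAddEquiv⟩

end Groth.Agent.H1DFun
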