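import Groth.Agent.H1DFun.HenselianBC
import Groth.Agent.H18PBC.AbCompare

/-!
# Cohomology of proper schemes over affine pairs
-/

set_option autoImplicit false
set_option linter.style.haveILetI false
set_option backward.isDefEq.respectTransparency false
set_option backward.isDefEq.respectTransparency.types false

universe u

open CategoryTheory CategoryTheory.Limits AlgebraicGeometry Opposite Abelian
open Groth.Agent.H18Et Groth.Agent.H1Lim
open scoped Groth.Agent.H18Et Groth.Agent.H18Et.CohColim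

namespace Groth.Agent.H1DFun

attribute [local instance] Groth.Agent.H18Et.pull_preservesFiniteLimits

/-- Functoriality of the comparison with the base kills classes. -/
theorem map_eq_zero_of_edge {Y Z : Scheme.{u}} (f₀ : Z ⟶ Y) {B B' : EtCoh.Ab Z} (φ : B ⟶ B') (q : ℕ)
    (ξ : Sheaf.H B q) (y : Sheaf.H ((EtCoh.push f₀).obj B) q)
    (hy : edge (EtCoh.pullPushAdj f₀) (EtCoh.const Y ℤ) B q y =
      (Ext.mk₀ (EtCore.pullConst f₀ ℤ).hom).comp ξ (zero_add q))
    (h : Sheaf.H.map ((EtCoh.push f₀).map φ) q y = 0) : Sheaf.H.map φ q ξ = 0 := by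
  have he := edge_naturality (EtCoh.pullPushAdj f₀) (EtCoh.const Y ℤ) φ q y
  rw [← Sheaf.H.map_apply, h, map_zero, hy] at he
  have h2 := congrArg (fun z => (Ext.mk₀ (EtCore.pullConst f₀ ℤ).inv).comp z (zero_add q)) he.symm
  simp only [Ext.comp_zero] at h2
  rw [Sheaf.H.map_apply]
  simpa using h2

theorem map_comp₃_eq_zero {Y : Scheme.{u}} {A B C D : EtCoh.Ab Y} (φ : A ⟶ B) (a : B ⟶ C) (b : C ⟶ D) (q : ℕ)
    (y : Sheaf.H A q) (h : Sheaf.H.map a q (Sheaf.H.map φ q y) = 0) : Sheaf.H.map (φ ≫ a ≫ b) q y = 0 := by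
  rw [Sheaf.H.map_comp_apply, Sheaf.H.map_comp_apply, h, map_zero]

variable {S X S₀ : Scheme.{u}} [IsAffine S] (f : X ⟶ S) [IsProper f] (g : S₀ ⟶ S) [IsClosedImmersion g]

/-- Torsion classes on the preimage of a closed subscheme of an affine base are effaceable. -/
theorem killOn_fst :
    haveI : CompactSpace X := QuasiCompact.compactSpace_of_compactSpace f
    haveI : QuasiSeparatedSpace X := quasiSeparatedSpace_of_quasiSeparated f
    KillOn (pullback.fst f g) := by
  intro F hF q hq ξ
  let i := pullback.fst f g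
  let f₀ := pullback.snd f g
  haveI : CompactSpace X := QuasiCompact.compactSpace_of_compactSpace f
  haveI : QuasiSeparatedSpace X := quasiSeparatedSpace_of_quasiSeparated f
  have sq : IsPullback i f₀ f g := IsPullback.of_hasPullback f g
  obtain ⟨G, ι, hι, hG, -, hR⟩ := exists_mono_torsion_acyclic_push f F hF
  have hR₀ : ∀ j, 0 < j → IsZero ((EtCoh.Rpush f₀ j).obj ((EtCoh.pull i).obj G)) := fun j hj => by
    haveI := isIso_bcQ_of_isProper g f f₀ i sq j G hG
    exact (Functor.map_isZero _ (hR j hj)).of_iso (asIso (EtBC.bcQ f g f₀ i sq.w j G)).symm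
  let adj := EtCoh.pullPushAdj f₀
  let c := EtCoh.const S₀ ℤ
  let ξ₁ := Sheaf.H.map ((EtCoh.pull i).map ι) q ξ
  obtain ⟨y₀, hy₀⟩ := ((edge_of_vanishing adj c q ((EtCoh.pull i).obj G) (fun j hj _ => hR₀ j hj)).1 q le_rfl).2
    ((Ext.mk₀ (EtCore.pullConst f₀ ℤ).hom).comp ξ₁ (zero_add q))
  haveI := S0157.result f f₀ i g sq G
  let bc := EtCoh.baseChange0 f g f₀ i sq.w G
  let y₁ : Sheaf.H ((EtCoh.pull g).obj ((EtCoh.push f).obj G)) q := Sheaf.H.map (inv bc) q y₀
  obtain ⟨K, hK, a, ha, hz⟩ := exists_mono_kill g ((EtCoh.push f).obj G) (H1Lim.isTorsion_push f G hG) q hq y₁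
  let ε := (EtCoh.pullPushAdj f).counit.app G
  haveI := ha
  let a' := (EtCoh.pull f).map a
  haveI : Mono a' := inferInstance
  let inl : G ⟶ pushout ε a' := pushout.inl ε a'
  have hG' : EtCoh.IsTorsion (pushout ε a') := by
    have hepi : Epi (biprod.desc (pushout.inl ε a') (pushout.inr ε a')) :=
      ⟨fun g₁ g₂ h => pushout.hom_ext (by simpa using congrArg (biprod.inl ≫ ·) h)
        (by simpa using congrArg (biprod.inr ≫ ·) h)⟩
    exact isTorsion_of_epi_biprod (biprod.desc (pushout.inl ε a') (pushout.inr ε a')) hG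
      (H18Et.Coh.isTorsion_pull f K hK)
  let b : K ⟶ (EtCoh.push f).obj (pushout ε a') := (EtCoh.pullPushAdj f).homEquiv _ _ (pushout.inr ε a')
  have hab : a ≫ b = (EtCoh.push f).map inl := by
    apply ((EtCoh.pullPushAdj f).homEquiv _ _).symm.injective
    rw [Adjunction.homEquiv_naturality_left_symm, Equiv.symm_apply_apply, Adjunction.homEquiv_counit]
    exact pushout.condition.symm.trans (((EtCoh.pullPushAdj f).counit.naturality inl).symm.trans rfl)
  have hmono : Mono inl := inferInstance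
  refine ⟨pushout ε a', hG', ι ≫ inl, @mono_comp _ _ _ _ _ _ hι _ hmono, ?_⟩
  rw [Functor.map_comp, Sheaf.H.map_comp_apply]
  refine map_eq_zero_of_edge f₀ ((EtCoh.pull i).map inl) q ξ₁ y₀ hy₀ ?_
  have hn : (EtCoh.push f₀).map ((EtCoh.pull i).map inl) =
      inv bc ≫ (EtCoh.pull g).map a ≫ (EtCoh.pull g).map b ≫ EtCoh.baseChange0 f g f₀ i sq.w (pushout ε a') := by
    rw [IsIso.eq_inv_comp, ← Category.assoc ((EtCoh.pull g).map a), ← Functor.map_comp, hab,
      baseChange0_natural]
  rw [hn]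
  exact map_comp₃_eq_zero _ _ _ q y₀ hz

variable (hCP : H18PBC.CP (pullback.fst f g))

include hCP in
/-- The unit of the preimage of the closed subscheme is bijective on torsion cohomology. -/
theorem bijective_H_map_unit_fst (F : EtCoh.Ab X) (hF : EtCoh.IsTorsion F) (q : ℕ) :
    Function.Bijective (Sheaf.H.map ((EtCoh.pullPushAdj (pullback.fst f g)).unit.app F) q) := by
  haveI : CompactSpace X := QuasiCompact.compactSpace_of_compactSpace f
  haveI : QuasiSeparatedSpace X := quasiSeparatedSpace_of_quasiSeparated f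
  haveI : IsClosedImmersion (pullback.fst f g) := MorphismProperty.pullback_fst _ _ inferInstance
  exact bijective_H_map_unit_of_kill (pullback.fst f g) (killOn_fst f g)
    (fun G => H18PBC.bijective_unit_top (pullback.fst f g) G hCP) q F hF

omit [IsAffine S] [IsProper f] [IsClosedImmersion g] in
/-- The connectedness condition from unique lifting of clopen subsets. -/
theorem cp_of_clopen {Z : Scheme.{u}} (i : Z ⟶ X)
    (hX : ∀ (Y : Scheme.{u}) (π : Y ⟶ X), IsFinite π → ∀ V : Set ↥(pullback π i), IsClopen V →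
      ∃! U : Set ↥Y, IsClopen U ∧ (pullback.fst π i).base ⁻¹' U = V) : H18PBC.CP i := fun Y π hπ hY => by
  let p := pullback.fst π i
  have hr : Set.range p.base = π.base ⁻¹' Set.range i.base := Scheme.Pullback.range_fst π i
  suffices h : ConnectedSpace ↥(pullback π i) by
    haveI := h
    exact hr ▸ isConnected_range p.continuous
  refine connectedSpace_iff_clopen.2 ⟨?_, fun V hV => ?_⟩
  · by_contra hn
    haveI : IsEmpty ↥(pullback π i) := not_nonempty_iff.1 hn
    obtain ⟨U, -, hu⟩ := hX Y π hπ ∅ isClopen_empty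
    have h1 := hu ∅ ⟨isClopen_empty, Set.preimage_empty⟩
    have h2 := hu Set.univ ⟨isClopen_univ, Set.eq_empty_of_isEmpty _⟩
    obtain ⟨y⟩ := hY.toNonempty
    exact (h1.trans h2.symm).ge (Set.mem_univ y)
  · obtain ⟨U, ⟨hU, hUV⟩, -⟩ := hX Y π hπ V hV
    rcases isClopen_iff.1 hU with rfl | rfl
    · exact Or.inl (hUV.symm.trans Set.preimage_empty)
    · exact Or.inr (hUV.symm.trans Set.preimage_univ)

end Groth.Agent.H1DFun
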