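import Mathlib.AlgebraicGeometry.ResidueField
import Mathlib.AlgebraicGeometry.AffineScheme
import Mathlib.AlgebraicGeometry.Properties
import Mathlib.FieldTheory.IsAlgClosed.AlgebraicClosure
import Mathlib.FieldTheory.IsSepClosed
import Mathlib.Algebra.Polynomial.Lifts
import Mathlib.RingTheory.LocalRing.ResidueField.Ideal

/-!
# Zero dimensional covers by spectra of products of algebraically closed fields
-/

set_option autoImplicit false
set_option backward.isDefEq.respectTransparency false
set_option backward.isDefEq.respectTransparency.types false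

universe u

open CategoryTheory CategoryTheory.Limits AlgebraicGeometry Polynomial

namespace Groth.Agent.H1DFun

variable {ι : Type u} (Ω : ι → Type u) [∀ i, Field (Ω i)]

theorem isMaximal_of_isPrime_pi (p : Ideal (∀ i, Ω i)) [hp : p.IsPrime] : p.IsMaximal := by
  refine Ideal.isMaximal_iff.2 ⟨(p.ne_top_iff_one).1 hp.ne_top, fun J a hpJ ha haJ => ?_⟩
  have h : a * (1 - a * fun i => (a i)⁻¹) = 0 := funext fun i => by
    by_cases hi : a i = 0 <;> simp [hi]
  have h1 := hpJ ((hp.mem_or_mem (h ▸ p.zero_mem)).resolve_left ha)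
  simpa using J.add_mem h1 (J.mul_mem_right (fun i => (a i)⁻¹) haJ)

theorem isAlgClosed_of_surjective [∀ i, IsAlgClosed (Ω i)] {K : Type*} [Field K] (φ : (∀ i, Ω i) →+* K)
    (hφ : Function.Surjective φ) : IsAlgClosed K := by
  refine IsAlgClosed.of_exists_root K fun P hP hirr => ?_
  obtain ⟨Q, hQ, hdeg, hQm⟩ := lifts_and_degree_eq_and_monic (f := φ)
    ((mem_lifts P).2 (Polynomial.map_surjective φ hφ P)) hP
  have hd : Q.natDegree ≠ 0 := by
    rw [natDegree_eq_of_degree_eq hdeg]
    exact hirr.natDegree_pos.ne'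
  have hr : ∀ i, ∃ r : Ω i, (Q.map (Pi.evalRingHom Ω i)).eval r = 0 := fun i => by
    refine IsAlgClosed.exists_root _ fun h0 => hd ?_
    rw [← hQm.natDegree_map (Pi.evalRingHom Ω i)]
    exact natDegree_eq_zero_iff_degree_le_zero.2 h0.le
  choose r hr using hr
  refine ⟨φ r, ?_⟩
  have h0 : Q.eval r = 0 := funext fun i => by
    have := hr i
    rw [eval_map] at this
    exact (hom_eval₂ Q (RingHom.id _) (Pi.evalRingHom Ω i) r).trans this
  rw [← hQ, eval_map]
  exact (hom_eval₂ Q (RingHom.id _) φ r).symm.trans ((congrArg φ h0).trans (map_zero φ))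

theorem isClosed_singleton_pi (x : Spec (CommRingCat.of (∀ i, Ω i))) : IsClosed ({x} : Set _) :=
  (PrimeSpectrum.isClosed_singleton_iff_isMaximal x).2
    (haveI := PrimeSpectrum.isPrime x; isMaximal_of_isPrime_pi Ω _)

theorem isSepClosed_residueField_pi [∀ i, IsAlgClosed (Ω i)] (x : Spec (CommRingCat.of (∀ i, Ω i))) :
    IsSepClosed ((Spec (CommRingCat.of (∀ i, Ω i))).residueField x) := by
  let R := CommRingCat.of (∀ i, Ω i)
  let p : Ideal (∀ i, Ω i) := PrimeSpectrum.asIdeal (R := ∀ i, Ω i) x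
  haveI : p.IsPrime := PrimeSpectrum.isPrime (R := ∀ i, Ω i) x
  haveI := isMaximal_of_isPrime_pi Ω p
  haveI : IsAlgClosed p.ResidueField := isAlgClosed_of_surjective Ω (algebraMap _ p.ResidueField)
    p.algebraMap_residueField_surjective
  haveI := IsAlgClosed.of_ringEquiv p.ResidueField _ (Scheme.Spec.residueFieldIso R x).symm.commRingCatIsoToRingEquiv
  infer_instance

theorem exists_zeroDim_cover (X : Scheme.{u}) [IsAffine X] :
    ∃ (T : Scheme.{u}) (f : T ⟶ X) (_ : IsAffine T) (_ : IsReduced T) (_ : Surjective f),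
      (∀ t : T, IsClosed ({t} : Set T)) ∧ ∀ t : T, IsSepClosed (T.residueField t) := by
  let A := Γ(X, ⊤)
  let Ω : PrimeSpectrum A → Type u := fun p => AlgebraicClosure p.asIdeal.ResidueField
  let g : A →+* ∀ p, Ω p := RingHom.pi fun p =>
    (algebraMap p.asIdeal.ResidueField (Ω p)).comp (algebraMap A p.asIdeal.ResidueField)
  let f : Spec (CommRingCat.of (∀ p, Ω p)) ⟶ X := Spec.map (CommRingCat.ofHom g) ≫ X.isoSpec.inv
  haveI : IsReduced (Spec (CommRingCat.of (∀ p, Ω p))) := by
    haveI : _root_.IsReduced (CommRingCat.of (∀ p, Ω p)) := inferInstanceAs (_root_.IsReduced (∀ p, Ω p))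
    infer_instance
  haveI : Surjective (Spec.map (CommRingCat.ofHom g)) := ⟨fun p => by
    refine ⟨PrimeSpectrum.comap (Pi.evalRingHom Ω p) default, PrimeSpectrum.ext ?_⟩
    show Ideal.comap g (Ideal.comap (Pi.evalRingHom Ω p) (default : PrimeSpectrum (Ω p)).asIdeal) = p.asIdeal
    rw [Ideal.comap_comap, show (default : PrimeSpectrum (Ω p)).asIdeal = ⊥ from
      (Ideal.eq_bot_or_top _).resolve_right (PrimeSpectrum.isPrime _).ne_top]
    show Ideal.comap ((algebraMap p.asIdeal.ResidueField (Ω p)).comp (algebraMap A p.asIdeal.ResidueField)) ⊥ = _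
    rw [← Ideal.comap_comap, Ideal.comap_bot_of_injective (algebraMap p.asIdeal.ResidueField (Ω p))
      (algebraMap p.asIdeal.ResidueField (Ω p)).injective, ← RingHom.ker_eq_comap_bot,
      Ideal.ker_algebraMap_residueField]⟩
  exact ⟨_, f, inferInstance, inferInstance, inferInstance, isClosed_singleton_pi Ω, isSepClosed_residueField_pi Ω⟩

end Groth.Agent.H1DFun
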