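import Groth.Agent.H1DFun.CurveAcyc
import Groth.Agent.H1DFun.BCLocalEt
import Groth.Agent.H1DFun.PBCTorsion
import Groth.Agent.H11P1n.Power
import Groth.Agent.H11Ample.Converse
import Groth.Agent.H22Alg.PnBC
import Groth.Agent.H27Weil.Geometry
import Groth.Agent.H7Lim.Proper.Chow
import Groth.Agent.H18Et.PushIntegral
import Groth.Agent.S10829
import Groth.Agent.LeadVA.Spread

/-!
# The proper base change theorem
-/

set_option autoImplicit false
set_option linter.style.haveILetI false
set_option backward.isDefEq.respectTransparency false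
set_option backward.isDefEq.respectTransparency.types false

universe u

open CategoryTheory CategoryTheory.Limits AlgebraicGeometry Opposite Abelian CohB1
open Groth.Agent.H18Et Groth.Agent.H1Lim
open scoped Groth.Agent.H18Et Groth.Agent.H18Et.CohColim

namespace Groth.Agent.H1DFun

attribute [local instance] Groth.Agent.H18Et.pull_preservesFiniteLimits

variable {X Y : Scheme.{u}}

/-- The projective line is a proper curve. -/
theorem isCurveLike_P1 (S : Scheme.{u}) : IsCurveLike (ProjSpaceOver.toBase 1 S) := by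
  have e : ∀ {T : Scheme.{u}} (t : T ⟶ S), ProjSpaceOver 1 T ≅ pullback (ProjSpaceOver.toBase 1 S) t := fun t =>
    (LeadVA.isPullback_projMap 1 t).isoPullback
  refine ⟨inferInstance, fun A _ t => ?_, fun K _ t => ?_⟩
  · exact ⟨_, H11Ample.isAmple_pullback_of_isAffineHom (e t).inv
      (H11Ample.isAmple_twistOver (Y := Spec (CommRingCat.of A)) 1).2⟩
  · obtain ⟨φ, -⟩ := H22Alg.PnBC.isPullback_projSpaceOver 1 K
    rw [← IsHomeomorph.topologicalKrullDim_eq _ (Scheme.homeoOfIso (φ.symm ≪≫ e t)).isHomeomorph,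
      S10829.result K 1]
    exact le_of_eq Nat.cast_one

theorem isCurveLike_of_isPullback {X' Y' : Scheme.{u}} {f : X ⟶ Y} {f' : X' ⟶ Y'} {g' : X' ⟶ X} {g : Y' ⟶ Y}
    (sq : IsPullback g' f' f g) (hf : IsCurveLike f) : IsCurveLike f' := by
  haveI := hf.proper
  have e : ∀ {T : Scheme.{u}} (t : T ⟶ Y'), pullback f' t ≅ pullback f (t ≫ g) := fun t =>
    ((IsPullback.of_hasPullback f' t).paste_horiz sq).isoPullback
  refine ⟨MorphismProperty.of_isPullback sq inferInstance, fun A _ t => ?_, fun K _ t => ?_⟩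
  · obtain ⟨L, hL⟩ := hf.ample A (t ≫ g)
    exact ⟨_, H11Ample.isAmple_pullback_of_isAffineHom (e t).hom hL⟩
  · rw [← IsHomeomorph.topologicalKrullDim_eq _ (Scheme.homeoOfIso (e t).symm).isHomeomorph]
    exact hf.dim K (t ≫ g)

theorem acyc_of_isFinite (f : X ⟶ Y) [IsFinite f] : Acyc f :=
  (cohCommutes_iff_acyc f).1 (H18Et.cohCommutesWithBC_of_isIntegralHom f)

theorem acyc_of_isIso (f : X ⟶ Y) [IsIso f] : Acyc f :=
  acyc_of_isFinite f

/-- Projective spaces are acyclic. -/
theorem acyc_projSpace (S : Scheme.{u}) : ∀ n : ℕ, Acyc (ProjSpaceOver.toBase n S) := by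
  intro n
  induction n with
  | zero =>
    haveI := LeadChow.isIso_toBase_zero S
    exact acyc_of_isIso _
  | succ n ih =>
    obtain ⟨m, hm, hs, hw⟩ := H11P1n.exists_mult_over S n
    haveI := hm
    haveI := hs
    refine acyc_of_comp (acyc_of_isFinite m) ?_
    rw [hw, pullback.condition]
    have hc := isCurveLike_of_isPullback
      (IsPullback.of_hasPullback (ProjSpaceOver.toBase 1 S) (ProjSpaceOver.toBase n S)) (isCurveLike_P1 S)
    haveI := hc.proper
    exact acyc_comp (acyc_of_curveLike hc) ih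

/-- Proper morphisms over quasi-compact quasi-separated bases are acyclic. -/
theorem acyc_of_isProper_qcqs (f : X ⟶ Y) [IsProper f] [CompactSpace Y] [QuasiSeparatedSpace Y] : Acyc f := by
  obtain ⟨n, X', π, j, hj, hw, hπ, hs⟩ := H7Lim.exists_chow_qcqs f
  haveI := hπ
  haveI := hs
  haveI := hj
  haveI : IsClosedImmersion j := by
    haveI : IsProper (j ≫ ProjSpaceOver.toBase n Y) := by rw [hw]; infer_instance
    haveI : IsProper j := IsProper.of_comp j (ProjSpaceOver.toBase n Y)
    exact IsClosedImmersion.of_isPreimmersion j j.isClosedMap.isClosed_range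
  refine acyc_of_comp (f := π) ?_ ?_
  · let i : X' ⟶ pullback f (ProjSpaceOver.toBase n Y) := pullback.lift π j hw.symm
    let b := pullback.snd f (ProjSpaceOver.toBase n Y)
    haveI : IsClosedImmersion (i ≫ b) := by rw [pullback.lift_snd]; infer_instance
    haveI : IsClosedImmersion i := IsClosedImmersion.of_comp i b
    let e := (LeadVA.isPullback_projMap n f).flip.isoPullback
    have hfst : pullback.fst f (ProjSpaceOver.toBase n Y) = e.inv ≫ ProjSpaceOver.toBase n X :=
      (LeadVA.isPullback_projMap n f).flip.isoPullback_inv_fst.symm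
    rw [show π = i ≫ pullback.fst f (ProjSpaceOver.toBase n Y) from (pullback.lift_fst _ _ _).symm]
    refine acyc_comp (acyc_of_isFinite i) ?_
    rw [hfst]
    exact acyc_comp (acyc_of_isIso e.inv) (acyc_projSpace X n)
  · rw [← hw]
    exact acyc_comp (acyc_of_isFinite j) (acyc_projSpace Y n)

/-- The base change maps of higher direct images along proper morphisms are isomorphisms. -/
theorem isIso_bcQ_of_isProper {S T X Y : Scheme.{u}} (f : X ⟶ S) (g : T ⟶ S) (h : Y ⟶ X) (e : Y ⟶ T)
    [IsProper g] (sq : IsPullback e h g f) (q : ℕ) (F : EtCoh.Ab T) (hF : EtCoh.IsTorsion F) :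
    IsIso (EtBC.bcQ g f h e sq.w q F) := by
  rw [isIso_bcQ_iff]
  intro Ω _ _ η
  obtain ⟨V₀, hV, hyV, -⟩ := TopologicalSpace.Opens.isBasis_iff_nbhd.mp S.isBasis_affineOpens
    (TopologicalSpace.Opens.mem_top (f.base (η.base default)))
  let V : S.Opens := V₀
  let U₀ := f ⁻¹ᵁ V
  let a : U₀.toScheme ⟶ V.toScheme := f ∣_ V
  have ha : a ≫ V.ι = U₀.ι ≫ f := morphismRestrict_ι f V
  have hη : Set.range η.base ⊆ Set.range U₀.ι.base := by
    rintro _ ⟨x, rfl⟩
    rw [Subsingleton.elim x default, Scheme.Opens.range_ι]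
    exact hyV
  let η' := IsOpenImmersion.lift U₀.ι η hη
  let gi := pullback.snd g V.ι
  let ti := pullback.fst g V.ι
  let hi := pullback.snd h U₀.ι
  let k := pullback.fst h U₀.ι
  let ei : pullback h U₀.ι ⟶ pullback g V.ι := pullback.lift (k ≫ e) (hi ≫ a)
    (by rw [Category.assoc, sq.w, Category.assoc, ha, ← Category.assoc, ← Category.assoc]
        exact congrArg (· ≫ f) pullback.condition)
  have w' : ei ≫ gi = hi ≫ a := pullback.lift_snd _ _ _
  have sq' : IsPullback ei hi gi a := by
    refine IsPullback.of_right ?_ w' (IsPullback.of_hasPullback g V.ι)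
    rw [show ei ≫ ti = k ≫ e from pullback.lift_fst _ _ _, ha]
    exact (IsPullback.of_hasPullback h U₀.ι).paste_horiz sq
  haveI : IsProper gi := MorphismProperty.pullback_snd _ _ inferInstance
  haveI : IsAffine V.toScheme := hV
  have hA := acyc_of_isProper_qcqs gi
  haveI := isIso_bcQ_of_acyclic a gi hi ei
    (fun ℓ hℓ I hI hinj j hj => hA ℓ hℓ I hI hinj hi ei a sq' j hj) sq' q ((EtCoh.pull ti).obj F)
    (H18Et.Coh.isTorsion_pull ti F hF)
  rw [← IsOpenImmersion.lift_fac U₀.ι η hη]
  exact BCBij.of_etale f g h e sq.w U₀.ι V.ι a ha gi ti (IsPullback.of_hasPullback g V.ι) hi ei w' k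
    (IsPullback.of_hasPullback h U₀.ι) (pullback.lift_fst _ _ _).symm F q η'
    ((isIso_bcQ_iff a gi hi ei w' ((EtCoh.pull ti).obj F) q).1 ‹_› Ω η')

/-- Cohomology commutes with base change for proper morphisms. -/
theorem cohCommutesWithBC_of_isProper (f : X ⟶ Y) [IsProper f] : EtPBC.CohCommutesWithBC f := by
  intro X' Y' f' g' g _ _ _ sq F hF q
  haveI := isIso_bcQ_of_isProper g f f' g' sq q F hF
  exact ⟨asIso (EtBC.bcQ f g f' g' sq.w q F)⟩

/-- Proper morphisms are acyclic. -/
theorem acyc_of_isProper (f : X ⟶ Y) [IsProper f] : Acyc f :=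
  (cohCommutes_iff_acyc f).1 (cohCommutesWithBC_of_isProper f)

end Groth.Agent.H1DFun
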