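import Groth.Agent.S0089
import Groth.Agent.H9Hens.EtaleQuotLift
import Mathlib.AlgebraicGeometry.Morphisms.Finite
import Mathlib.AlgebraicGeometry.Morphisms.Etale
import Mathlib.AlgebraicGeometry.Morphisms.ClosedImmersion

/-!
# Finite etale covers of closed subschemes of normal schemes with separably closed function field
-/

set_option autoImplicit false
set_option backward.isDefEq.respectTransparency false
set_option backward.isDefEq.respectTransparency.types false

universe u

open CategoryTheory CategoryTheory.Limits AlgebraicGeometry Opposite TensorProduct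

namespace Groth.Agent.H1DFun

variable {X Z Y : Scheme.{u}}

/-- A finite etale scheme over a closed subscheme of an affine scheme embeds into an etale affine scheme. -/
theorem exists_etale_mono [IsAffine X] (i : Z ⟶ X) [IsClosedImmersion i] (p : Y ⟶ Z) [IsFinite p] [Etale p] :
    ∃ (W : Scheme.{u}) (g : W ⟶ X) (j : Y ⟶ W), Etale g ∧ IsSeparated g ∧ Mono j ∧ j ≫ g = p ≫ i := by
  haveI : IsAffine Z := isAffine_of_isAffineHom i
  haveI : IsAffine Y := isAffine_of_isAffineHom p
  let A := Γ(X, ⊤)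
  let B := Γ(Z, ⊤)
  let C := Γ(Y, ⊤)
  let φ : A →+* B := i.appTop.hom
  have hφ : Function.Surjective φ := (IsClosedImmersion.isAffine_surjective_of_isAffine i).2
  let ψ : B →+* C := p.appTop.hom
  have hψ : ψ.Etale := HasRingHomProperty.appTop @Etale p inferInstance
  let I := RingHom.ker φ
  let θ : A ⧸ I →+* C := ψ.comp (RingHom.quotientKerEquivOfSurjective hφ).toRingHom
  letI : Algebra (A ⧸ I) C := θ.toAlgebra
  haveI : Algebra.Etale (A ⧸ I) C := by
    have h : θ.Etale :=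
      RingHom.Etale.stableUnderComposition _ _
        (RingHom.Etale.of_bijective (RingHom.quotientKerEquivOfSurjective hφ).bijective) hψ
    exact h.toAlgebra
  obtain ⟨S, _, _, hS, ⟨e⟩⟩ := H9Hens.exists_etale_lift_quotient A I C
  let π : S →+* C := e.toRingEquiv.toRingHom.comp
    (Algebra.TensorProduct.includeRight : S →ₐ[A] (A ⧸ I) ⊗[A] S).toRingHom
  have hπ : Function.Surjective π := fun c => by
    obtain ⟨t, rfl⟩ := e.surjective c
    induction t using TensorProduct.induction_on with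
    | zero => exact ⟨0, by simp [π]⟩
    | tmul a s =>
      obtain ⟨a, rfl⟩ := Ideal.Quotient.mk_surjective a
      refine ⟨a • s, congrArg e ?_⟩
      show (1 : A ⧸ I) ⊗ₜ[A] (a • s) = (Ideal.Quotient.mk I a) ⊗ₜ[A] s
      rw [TensorProduct.tmul_smul, TensorProduct.smul_tmul', Algebra.smul_def, mul_one]
      rfl
    | add x y hx hy =>
      obtain ⟨a, ha⟩ := hx
      obtain ⟨b, hb⟩ := hy
      exact ⟨a + b, by rw [map_add, map_add, ha, hb]⟩
  have hcomp : π.comp (algebraMap A S) = ψ.comp φ := RingHom.ext fun a => by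
    show e ((1 : A ⧸ I) ⊗ₜ[A] algebraMap A S a) = ψ (φ a)
    rw [Algebra.algebraMap_eq_smul_one, TensorProduct.tmul_smul, TensorProduct.smul_tmul']
    have h1 : a • (1 : A ⧸ I) = Ideal.Quotient.mk I a := by
      rw [Algebra.smul_def, mul_one]; rfl
    rw [h1]
    exact (e.commutes (Ideal.Quotient.mk I a)).trans
      (congrArg ψ (RingHom.quotientKerEquivOfSurjective_apply_mk hφ a))
  let g₀ : Spec (CommRingCat.of S) ⟶ Spec A := Spec.map (CommRingCat.ofHom (algebraMap A S))
  haveI : Etale g₀ := (HasRingHomProperty.Spec_iff (P := @Etale)).2 (RingHom.etale_algebraMap.2 hS)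
  haveI : Surjective (𝟙 X) := inferInstance
  haveI : IsClosedImmersion (Spec.map (CommRingCat.ofHom π)) := IsClosedImmersion.spec_of_surjective _ hπ
  refine ⟨Spec (CommRingCat.of S), g₀ ≫ X.isoSpec.inv, Y.isoSpec.hom ≫ Spec.map (CommRingCat.ofHom π),
    inferInstance, inferInstance, inferInstance, ?_⟩
  have h2 : Spec.map (CommRingCat.ofHom π) ≫ g₀ = Spec.map p.appTop ≫ Spec.map i.appTop := by
    rw [← Spec.map_comp, ← Spec.map_comp, ← CommRingCat.ofHom_comp, hcomp]
    rfl
  rw [Category.assoc, ← Category.assoc (Spec.map _), h2]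
  simp only [Category.assoc]
  rw [Scheme.isoSpec_inv_naturality, Scheme.isoSpec_inv_naturality_assoc, Iso.hom_inv_id_assoc]

/-- Every finite etale surjection onto a closed subscheme has a section. -/
theorem exists_section_of_finite_etale [IsAffine X] [IsIntegral X]
    (hN : ∀ x : X, IsIntegrallyClosed (X.presheaf.stalk x)) [IsSepClosed X.functionField]
    (i : Z ⟶ X) [IsClosedImmersion i] (p : Y ⟶ Z) [IsFinite p] [Etale p] [Surjective p] :
    ∃ s : Z ⟶ Y, s ≫ p = 𝟙 Z := by
  classical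
  obtain ⟨W, g, j, hg, hsep, hj, hjg⟩ := exists_etale_mono i p
  obtain ⟨κ, V, e, he⟩ := S0089.result hN g
  haveI : IsAffine Z := isAffine_of_isAffineHom i
  let σ : ∀ k, (V k : Scheme.{u}) ⟶ W := fun k => Sigma.ι (fun k => (V k : Scheme.{u})) k ≫ e.hom
  let Wk : κ → W.Opens := fun k => (σ k).opensRange
  have hcover : ∀ w : W, ∃ k, w ∈ Wk k := fun w => by
    obtain ⟨v, rfl⟩ := e.hom.surjective w
    obtain ⟨k, x, hx⟩ := (sigmaOpenCover (fun k => (V k : Scheme.{u}))).exists_eq v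
    exact ⟨k, x, (congrArg e.hom hx)⟩
  have hdisj : ∀ k l, k ≠ l → ∀ w, w ∈ Wk k → w ∉ Wk l := fun k l hkl w ⟨x, hx⟩ ⟨y, hy⟩ => by
    have h := e.hom.injective ((Scheme.Hom.comp_apply _ _ x).symm.trans (hx.trans (hy.symm.trans
      (Scheme.Hom.comp_apply _ _ y))))
    exact (disjoint_iff_inf_le.mp (disjoint_opensRange_sigmaι (fun k => (V k : Scheme.{u})) k l hkl))
      (show Sigma.ι (fun k => (V k : Scheme.{u})) k x ∈ _ from ⟨⟨x, rfl⟩, ⟨y, h.symm⟩⟩)
  let P : κ → Y.Opens := fun k => j ⁻¹ᵁ Wk k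
  have hPclosed : ∀ k, IsClosed (P k : Set Y) := fun k => by
    have h : (P k : Set Y)ᶜ = ⋃ l ∈ {l | l ≠ k}, (P l : Set Y) := by
      ext y
      simp only [Set.mem_compl_iff, Set.mem_iUnion, Set.mem_setOf_eq, exists_prop]
      refine ⟨fun hy => ?_, fun ⟨l, hl, hy⟩ hy' => hdisj l k hl _ hy hy'⟩
      obtain ⟨l, hl⟩ := hcover (j y)
      exact ⟨l, fun e => hy (e ▸ hl), hl⟩
    rw [← isOpen_compl_iff, h]
    exact isOpen_biUnion fun l _ => (P l).isOpen
  have hmono : ∀ k, Mono ((P k).ι ≫ p) := fun k => by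
    haveI : IsOpenImmersion ((Wk k).ι ≫ g) := by
      have hσ : σ k ≫ g = (V k).ι := (Category.assoc _ _ _).trans (he k)
      have h1 : (σ k).isoOpensRange.hom ≫ (Wk k).ι ≫ g = (V k).ι := by
        rw [← Category.assoc, Scheme.Hom.isoOpensRange_hom_ι, hσ]
      rw [show (Wk k).ι ≫ g = (σ k).isoOpensRange.inv ≫ (V k).ι by rw [← h1, Iso.inv_hom_id_assoc]]
      infer_instance
    refine ⟨fun {Q} a b hab => (cancel_mono ((P k).ι)).1 ((cancel_mono j).1 ?_)⟩
    have hr : ∀ c : Q ⟶ (P k).toScheme, c ≫ (P k).ι ≫ j = (c ≫ (j ∣_ Wk k)) ≫ (Wk k).ι := fun c => by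
      rw [Category.assoc]
      exact congrArg (c ≫ ·) (morphismRestrict_ι j (Wk k)).symm
    rw [Category.assoc, Category.assoc, hr, hr]
    refine congrArg (· ≫ (Wk k).ι) ((cancel_mono ((Wk k).ι ≫ g)).1 ?_)
    simp only [Category.assoc, morphismRestrict_ι_assoc, hjg]
    have hab' := congrArg (· ≫ i) hab
    simp only [Category.assoc] at hab'
    exact hab'
  haveI : ∀ k, IsOpenImmersion ((P k).ι ≫ p) := fun k => by
    haveI := hmono k
    exact IsOpenImmersion.of_flat_of_mono _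
  let T : κ → Z.Opens := fun k => ((P k).ι ≫ p).opensRange
  have hT : ∀ k, (T k : Set Z) = p '' (P k : Set Y) := fun k => by
    show Set.range ((P k).ι ≫ p) = _
    rw [Scheme.Hom.comp_base, TopCat.coe_comp, Set.range_comp, Scheme.Opens.range_ι]
  have hTclosed : ∀ k, IsClosed (T k : Set Z) := fun k => by
    rw [hT]; exact p.isClosedMap _ (hPclosed k)
  have hTcover : ∀ z : Z, ∃ k, z ∈ T k := fun z => by
    obtain ⟨y, rfl⟩ := p.surjective z
    obtain ⟨k, hk⟩ := hcover (j y)
    exact ⟨k, by rw [← SetLike.mem_coe, hT]; exact ⟨y, hk, rfl⟩⟩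
  obtain ⟨F, hF⟩ := (isCompact_univ (X := Z)).elim_finite_subcover (fun k => (T k : Set Z)) (fun k => (T k).isOpen)
    fun z _ => Set.mem_iUnion.2 (hTcover z)
  let n := F.toList.length
  let t : Fin n → κ := fun a => F.toList.get a
  let D : Fin n → Z.Opens := fun a =>
    ⟨(T (t a) : Set Z) \ ⋃ b : {b : Fin n // b < a}, (T (t b.1) : Set Z),
      (T (t a)).isOpen.sdiff (isClosed_iUnion_of_finite fun b => hTclosed _)⟩
  have hDsup : iSup D = ⊤ := by
    refine top_le_iff.1 fun z _ => ?_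
    obtain ⟨k, hk⟩ := Set.mem_iUnion.1 (hF (Set.mem_univ z))
    obtain ⟨hkF, hk⟩ := Set.mem_iUnion.1 hk
    obtain ⟨a, ha⟩ := List.get_of_mem (Finset.mem_toList.2 hkF)
    have hex : ∃ a, z ∈ T (t a) := ⟨a, by show z ∈ T (F.toList.get a); rw [ha]; exact hk⟩
    refine TopologicalSpace.Opens.mem_iSup.2 ⟨Fin.find _ hex, Fin.find_spec hex, ?_⟩
    rintro ⟨_, ⟨b, rfl⟩, hb⟩
    exact Fin.find_min hex b.2 hb
  have hDdisj : ∀ a b, a ≠ b → ∀ z, z ∈ D a → z ∉ D b := fun a b hab z ha hb => by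
    rcases lt_or_gt_of_ne hab with h | h
    · exact hb.2 (Set.mem_iUnion.2 ⟨⟨a, h⟩, ha.1⟩)
    · exact ha.2 (Set.mem_iUnion.2 ⟨⟨b, h⟩, hb.1⟩)
  have hle : ∀ a, Set.range (D a).ι ⊆ Set.range ((P (t a)).ι ≫ p) := fun a => by
    rw [Scheme.Opens.range_ι]; exact fun z hz => hz.1
  let U := Z.openCoverOfIsOpenCover D hDsup
  let sec : ∀ a, U.X a ⟶ Y := fun a => IsOpenImmersion.lift ((P (t a)).ι ≫ p) (D a).ι (hle a) ≫ (P (t a)).ι
  have hsec : ∀ a, sec a ≫ p = (D a).ι := fun a => by
    rw [Category.assoc]; exact IsOpenImmersion.lift_fac _ _ _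
  refine ⟨Scheme.Cover.glueMorphisms U sec fun a b => ?_, Scheme.Cover.hom_ext U _ _ fun a => ?_⟩
  · by_cases hab : a = b
    · subst hab
      exact congrArg (· ≫ sec a) ((cancel_mono (U.f a)).1 pullback.condition)
    · haveI : IsEmpty ↥(pullback (U.f a) (U.f b)) := ⟨fun w => hDdisj a b hab _
        (show (U.f a) ((pullback.fst (U.f a) (U.f b)) w) ∈ D a from ((pullback.fst (U.f a) (U.f b)) w).2)
        (by
          rw [← Scheme.Hom.comp_apply, pullback.condition, Scheme.Hom.comp_apply]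
          exact ((pullback.snd (U.f a) (U.f b)) w).2)⟩
      exact (isInitialOfIsEmpty (X := pullback (U.f a) (U.f b))).hom_ext _ _
  · rw [Scheme.Cover.ι_glueMorphisms_assoc, hsec, Category.comp_id]
    rfl

end Groth.Agent.H1DFun
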