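import Groth.Agent.H1DFun.ProperAcyc

/-!
# Stalks of higher direct images to separably closed fields and along proper morphisms
-/

set_option autoImplicit false
set_option linter.style.haveILetI false
set_option backward.isDefEq.respectTransparency false
set_option backward.isDefEq.respectTransparency.types false

universe u

open CategoryTheory CategoryTheory.Limits AlgebraicGeometry Opposite Abelian
open Groth.Agent.H18Et Groth.Agent.H1Lim Groth.Agent.H12AlgSp.EtStrictHens
open scoped Groth.Agent.H18Et Groth.Agent.H18Et.CohColim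

namespace Groth.Agent.H1DFun

attribute [local instance] Groth.Agent.H18Et.pull_preservesFiniteLimits

variable (Ω : Type u) [Field Ω] [IsSepClosed Ω]

theorem bijective_valueHom_id :
    Function.Bijective (valueHom (𝟙 (Spec (CommRingCat.of Ω)))).hom := by
  let B := Spec (CommRingCat.of Ω)
  let η : B ⟶ B := 𝟙 B
  constructor
  · refine (injective_iff_map_eq_zero _).2 fun r hr => ?_
    obtain ⟨U, z, a, rfl⟩ := funGerm_surjective η r
    let l : B ⟶ U.left := z.left
    have hl : l ≫ U.hom = 𝟙 B := Over.w z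
    let g : EtCoh.top B ⟶ U := MorphismProperty.Over.homMk l hl trivial
    let z' : (Scheme.pointSmallEtale η).fiber.obj (EtCoh.top B) := Over.homMk η (Category.comp_id _)
    have hz : (Scheme.pointSmallEtale η).fiber.map g z' = z :=
      Over.OverMorphism.ext (Category.id_comp l)
    rw [← hz, ← funGerm_map η g z' a]
    refine (congrArg (funGerm η (EtCoh.top B) z') ?_).trans (map_zero _)
    have h0 : funValue η U z a = 0 := (funGerm_valueHom η U z a).symm.trans hr
    show l.appTop a = 0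
    exact (ConcreteCategory.bijective_of_isIso (Scheme.ΓSpecIso (CommRingCat.of Ω)).hom).1
      (h0.trans (map_zero _).symm)
  · intro x
    obtain ⟨φ, hφ⟩ := Spec.map_surjective (strictBase (𝟙 (Spec (CommRingCat.of Ω))))
    refine ⟨φ.hom x, ?_⟩
    have e2 : φ ≫ valueHom (𝟙 (Spec (CommRingCat.of Ω))) = 𝟙 _ :=
      Spec.map_injective (((Spec.map_comp _ _).trans ((congrArg (_ ≫ ·) hφ).trans (valueHom_fac _))).trans
        (Spec.map_id _).symm)
    exact ConcreteCategory.congr_hom e2 x

variable {Ω}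

/-- Stalks of higher direct images to the spectrum of a separably closed field. -/
theorem nonempty_stalk_Rpush_point {Z : Scheme.{u}} (h : Z ⟶ Spec (CommRingCat.of Ω)) [QuasiCompact h]
    [QuasiSeparated h] (G : EtCoh.Ab Z) (n : ℕ) :
    Nonempty ((EtCoh.stalk (𝟙 (Spec (CommRingCat.of Ω)))).obj ((EtCoh.Rpush h n).obj G) ≅
      AddCommGrpCat.of (EtCoh.H Z G n)) := by
  let η := 𝟙 (Spec (CommRingCat.of Ω))
  haveI : IsIso (valueHom η) := (ConcreteCategory.isIso_iff_bijective _).2 (bijective_valueHom_id Ω)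
  let e : Spec (CommRingCat.of Ω) ≅ Spec (EtBase.etaleLocalRing η) := asIso (Spec.map (valueHom η))
  obtain ⟨i⟩ := nonempty_Rpush_stalk_iso η h (𝟙 _) e (valueHom_fac η) n
  let m := pullback.fst h (𝟙 (Spec (CommRingCat.of Ω)))
  haveI := TopInvLocal.bc_isEquivalence m
  let b : EtCoh.H Z G n ≃+ EtCoh.H (pullback h (𝟙 (Spec (CommRingCat.of Ω)))) ((EtCoh.pull m).obj G) n :=
    AddEquiv.ofBijective (hpull m G n) (TopInvSheaf.bijective_Hpull m G n)
  exact ⟨i.app G ≪≫ b.symm.toAddCommGrpIso⟩

/-- Proper base change at geometric points. -/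
theorem nonempty_stalk_Rpush_fibre {X Y : Scheme.{u}} (f : X ⟶ Y) [IsProper f]
    (ξ : Spec (CommRingCat.of Ω) ⟶ Y) (F : EtCoh.Ab X) (hF : EtCoh.IsTorsion F) (n : ℕ) :
    Nonempty ((EtCoh.stalk ξ).obj ((EtCoh.Rpush f n).obj F) ≅
      AddCommGrpCat.of (EtCoh.H (pullback f ξ) ((EtCoh.pull (pullback.fst f ξ)).obj F) n)) := by
  have sq := IsPullback.of_hasPullback f ξ
  haveI := isIso_bcQ_of_isProper ξ f (pullback.snd f ξ) (pullback.fst f ξ) sq n F hF
  obtain ⟨i⟩ := nonempty_stalk_Rpush_point (pullback.snd f ξ) ((EtCoh.pull (pullback.fst f ξ)).obj F) n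
  let η := 𝟙 (Spec (CommRingCat.of Ω))
  exact ⟨(eqToIso (congrArg (fun k => EtCoh.stalk k) (Category.id_comp ξ)).symm).app _ ≪≫
    ((H18Et.stalkPullIso ξ η).app ((EtCoh.Rpush f n).obj F)).symm ≪≫
    (EtCoh.stalk η).mapIso (asIso (EtBC.bcQ f ξ (pullback.snd f ξ) (pullback.fst f ξ) sq.w n F)) ≪≫ i⟩

end Groth.Agent.H1DFun
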