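import Groth.Agent.H1DFun.ZarEt
import Groth.Agent.H1DFun.ZarContinuous
import Groth.Agent.H18Et.Flasque
import Groth.Agent.H18Et.Vanishing
import Mathlib.Topology.Sheaves.Flasque

/-!
# Etale sheaves that are flasque on opens
-/

set_option autoImplicit false
set_option backward.isDefEq.respectTransparency false
set_option backward.isDefEq.respectTransparency.types false

universe u

open CategoryTheory CategoryTheory.Limits AlgebraicGeometry Opposite TopologicalSpace Abelian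
open Groth.Agent.H18Et

namespace Groth.Agent.H1DFun

variable {S : Scheme.{u}}

/-- Restriction between opens. -/
noncomputable abbrev zres (G : EtCoh.Ab S) {U V : S.Opens} (h : V ≤ U) :
    G.obj.obj (op ((EtZar.zarToEt S).obj U)) ⟶ G.obj.obj (op ((EtZar.zarToEt S).obj V)) :=
  G.obj.map ((EtZar.zarToEt S).map (homOfLE h)).op

theorem zres_zres (G : EtCoh.Ab S) {U V W : S.Opens} (h₁ : V ≤ U) (h₂ : W ≤ V)
    (s : G.obj.obj (op ((EtZar.zarToEt S).obj U))) :
    zres G h₂ (zres G h₁ s) = zres G (h₂.trans h₁) s := by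
  show G.obj.map ((EtZar.zarToEt S).map (homOfLE h₂)).op
      (G.obj.map ((EtZar.zarToEt S).map (homOfLE h₁)).op s) = _
  rw [← Functor.map_comp_apply, ← op_comp, ← Functor.map_comp]
  rfl

theorem zres_self (G : EtCoh.Ab S) {U : S.Opens} (h : U ≤ U) (s : G.obj.obj (op ((EtZar.zarToEt S).obj U))) :
    zres G h s = s := by
  show G.obj.map ((EtZar.zarToEt S).map (homOfLE h)).op s = s
  rw [show homOfLE h = 𝟙 U from Subsingleton.elim _ _, CategoryTheory.Functor.map_id, op_id,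
    CategoryTheory.Functor.map_id]
  rfl

theorem zres_app {G G' : EtCoh.Ab S} (φ : G ⟶ G') {U V : S.Opens} (h : V ≤ U)
    (s : G.obj.obj (op ((EtZar.zarToEt S).obj U))) :
    φ.hom.app _ (zres G h s) = zres G' h (φ.hom.app _ s) :=
  NatTrans.naturality_apply φ.hom ((EtZar.zarToEt S).map (homOfLE h)).op s

/-- Gluing on opens. -/
theorem exists_zglue (G : EtCoh.Ab S) {ι : Type u} (U : ι → S.Opens)
    (s : ∀ i, G.obj.obj (op ((EtZar.zarToEt S).obj (U i))))
    (h : ∀ i j, zres G (inf_le_left : U i ⊓ U j ≤ U i) (s i) = zres G inf_le_right (s j)) :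
    ∃ g : G.obj.obj (op ((EtZar.zarToEt S).obj (iSup U))), ∀ i, zres G (le_iSup U i) g = s i := by
  haveI := zarCont S
  obtain ⟨g, hg, -⟩ := TopCat.Sheaf.existsUnique_gluing
    (F := ((EtZar.resZar S).obj G : TopCat.Sheaf AddCommGrpCat.{u + 1} (S : TopCat.{u}))) U s h
  exact ⟨g, hg⟩

theorem zext (G : EtCoh.Ab S) {ι : Type u} (U : ι → S.Opens) {V : S.Opens} (hU : ∀ i, U i ≤ V)
    (hc : V ≤ iSup U) (a b : G.obj.obj (op ((EtZar.zarToEt S).obj V)))
    (h : ∀ i, zres G (hU i) a = zres G (hU i) b) : a = b := by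
  haveI := zarCont S
  exact TopCat.Sheaf.eq_of_locally_eq'
    (F := ((EtZar.resZar S).obj G : TopCat.Sheaf AddCommGrpCat.{u + 1} (S : TopCat.{u}))) U V
    (fun i => homOfLE (hU i)) hc a b h

/-- Flasque on opens. -/
def ZFlasque (G : EtCoh.Ab S) : Prop :=
  ∀ ⦃U V : S.Opens⦄ (h : V ≤ U), Function.Surjective (zres G h)

theorem zflasque_of_injective (I : EtCoh.Ab S) [Injective I] : ZFlasque I := by
  intro U V h s
  let m := (EtZar.zarToEt S).map (homOfLE h)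
  haveI : Mono m := ⟨fun a b _ => zarToEt_hom_ext S a b⟩
  haveI := FreeSheaf.mono_map m
  refine ⟨FreeSheaf.homEquiv _ I (Injective.factorThru ((FreeSheaf.homEquiv _ I).symm s)
    ((FreeSheaf.free S).map m)), ?_⟩
  show I.obj.map m.op _ = s
  rw [← FreeSheaf.homEquiv_map, Injective.comp_factorThru, Equiv.apply_symm_apply]

/-- Flasqueness on opens is local. -/
theorem zflasque_of_local (G : EtCoh.Ab S)
    (hG : ∀ x : S, ∃ U : S.Opens, x ∈ U ∧ ∀ ⦃W V : S.Opens⦄ (h : V ≤ W), W ≤ U → Function.Surjective (zres G h)) :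
    ZFlasque G := by
  intro T V hVT s
  let P := {p : Σ W : S.Opens, G.obj.obj (op ((EtZar.zarToEt S).obj W)) //
    p.1 ≤ T ∧ ∃ h : V ≤ p.1, zres G h p.2 = s}
  let r : P → P → Prop := fun a b => ∃ h : a.1.1 ≤ b.1.1, zres G h b.1.2 = a.1.2
  have htrans : ∀ {a b c : P}, r a b → r b c → r a c := by
    rintro a b c ⟨h₁, e₁⟩ ⟨h₂, e₂⟩
    exact ⟨h₁.trans h₂, by rw [← zres_zres G h₂ h₁, e₂, e₁]⟩
  obtain ⟨m, hm⟩ : ∃ m : P, ∀ a, r m a → r a m := by
    refine exists_maximal_of_chains_bounded (fun c hc => ?_) htrans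
    rcases c.eq_empty_or_nonempty with rfl | ⟨a₀, ha₀⟩
    · exact ⟨⟨⟨V, s⟩, hVT, le_rfl, zres_self G _ s⟩, fun a ha => ha.elim⟩
    let ι := {W : S.Opens // ∃ a ∈ c, a.1.1 = W}
    have hch : ∀ i : ι, ∃ a : c, a.1.1.1 = i.1 := fun ⟨W, a, ha, e⟩ => ⟨⟨a, ha⟩, e⟩
    choose pick hpick using hch
    let U : ι → S.Opens := fun i => (pick i).1.1.1
    obtain ⟨g, hg⟩ := exists_zglue G U (fun i => (pick i).1.1.2) (fun i j => by
      rcases eq_or_ne (pick i) (pick j) with e | hne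
      · have e' : i = j := Subtype.ext ((hpick i).symm.trans ((congrArg (fun a => a.1.1.1) e).trans (hpick j)))
        subst e'; rfl
      rcases hc (pick i).2 (pick j).2 (fun h => hne (Subtype.ext h)) with ⟨h, e⟩ | ⟨h, e⟩
      · show zres G _ (pick i).1.1.2 = zres G _ (pick j).1.1.2
        rw [← e]
        exact zres_zres G h _ _
      · show zres G _ (pick i).1.1.2 = zres G _ (pick j).1.1.2
        rw [← e]
        exact (zres_zres G h _ _).symm)
    have hle : ∀ a ∈ c, a.1.1 ≤ iSup U := fun a ha => by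
      refine le_trans (le_of_eq ?_) (le_iSup U ⟨a.1.1, a, ha, rfl⟩)
      exact (hpick ⟨a.1.1, a, ha, rfl⟩).symm
    have hg' : ∀ a (ha : a ∈ c), zres G (hle a ha) g = a.1.2 := fun a ha => by
      let i : ι := ⟨a.1.1, a, ha, rfl⟩
      have e1 : a.1.1 = U i := (hpick i).symm
      have e2 : zres G (le_iSup U i) g = (pick i).1.1.2 := hg i
      rcases eq_or_ne (pick i).1 a with he | hne
      · have key : ∀ b : P, b = a → ∀ h₀ : b.1.1 ≤ iSup U, zres G h₀ g = b.1.2 →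
            ∀ h₁ : a.1.1 ≤ iSup U, zres G h₁ g = a.1.2 := by
          rintro b rfl h₀ e h₁; exact e
        exact key _ he _ e2 _
      rcases hc (pick i).2 ha hne with ⟨h, e⟩ | ⟨h, e⟩
      · rw [← zres_zres G (le_iSup U i) (le_of_eq e1), e2, ← e, zres_zres, zres_self]
      · rw [← zres_zres G (le_iSup U i) h, e2, e]
    obtain ⟨hV₀, e₀⟩ := a₀.2.2
    refine ⟨⟨⟨iSup U, g⟩, iSup_le fun i => (pick i).1.2.1, hV₀.trans (hle a₀ ha₀), ?_⟩,
      fun a ha => ⟨hle a ha, hg' a ha⟩⟩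
    rw [← zres_zres G (hle a₀ ha₀) hV₀, hg' a₀ ha₀, e₀]
  by_cases htop : T ≤ m.1.1
  · obtain ⟨hVm, em⟩ := m.2.2
    exact ⟨zres G htop m.1.2, (zres_zres G htop hVT _).trans em⟩
  exfalso
  obtain ⟨x, hxT, hxm⟩ := SetLike.not_le_iff_exists.1 htop
  obtain ⟨U, hxU, hU⟩ := hG x
  let W := U ⊓ T
  obtain ⟨t, ht⟩ := hU (inf_le_right : m.1.1 ⊓ W ≤ W) inf_le_left
    (zres G (inf_le_left : m.1.1 ⊓ W ≤ m.1.1) m.1.2)
  let D : ULift.{u} Bool → S.Opens := fun b => cond b.down m.1.1 W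
  obtain ⟨gl, hgl⟩ := exists_zglue G D (fun b => match b with
    | ⟨true⟩ => m.1.2
    | ⟨false⟩ => t) (by
    rintro ⟨_ | _⟩ ⟨_ | _⟩
    · rfl
    · show zres G _ t = zres G _ m.1.2
      refine ((zres_zres G (inf_le_right : m.1.1 ⊓ W ≤ W) (le_inf inf_le_right inf_le_left : W ⊓ m.1.1 ≤ m.1.1 ⊓ W)
        t).symm.trans ?_).trans (zres_zres G (inf_le_left : m.1.1 ⊓ W ≤ m.1.1)
        (le_inf inf_le_right inf_le_left : W ⊓ m.1.1 ≤ m.1.1 ⊓ W) m.1.2)
      exact congrArg _ ht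
    · show zres G _ m.1.2 = zres G _ t
      exact ht.symm
    · rfl)
  have hmle : m.1.1 ≤ iSup D := le_iSup D ⟨true⟩
  have hm' : zres G hmle gl = m.1.2 := hgl ⟨true⟩
  obtain ⟨hVm, em⟩ := m.2.2
  obtain ⟨h', -⟩ := hm ⟨⟨iSup D, gl⟩, iSup_le (fun b => by
      rcases b with ⟨_ | _⟩
      · exact inf_le_right
      · exact m.2.1), hVm.trans hmle, by rw [← zres_zres G hmle hVm, hm', em]⟩ ⟨hmle, hm'⟩
  exact hxm (h' ((le_iSup D ⟨false⟩ : W ≤ iSup D) ⟨hxU, hxT⟩))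

variable (hS : ∀ s : S, EtCoh.IsStrictlyHenselianLocalRing (S.presheaf.stalk s))

include hS in
theorem exists_local_lift {E G : EtCoh.Ab S} (g : E ⟶ G) [Epi g] {U : S.Opens}
    (s : G.obj.obj (op ((EtZar.zarToEt S).obj U))) {x : S} (hx : x ∈ U) :
    ∃ (W : S.Opens) (h : W ≤ U) (t : E.obj.obj (op ((EtZar.zarToEt S).obj W))),
      x ∈ W ∧ g.hom.app _ t = zres G h s := by
  haveI := zarCont S
  haveI := isLocallySurjective_resZar S hS g
  obtain ⟨W, i, ⟨t, ht⟩, hxW⟩ := Presheaf.imageSieve_mem (Opens.grothendieckTopology S)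
    ((EtZar.resZar S).map g).hom (U := op U) s x hx
  exact ⟨W, i.le, t, hxW, ht⟩

include hS in
/-- Sections over opens are exact on short exact sequences with flasque kernel. -/
theorem surjective_zsections {Sh : ShortComplex (EtCoh.Ab S)} (hSh : Sh.ShortExact) (hF : ZFlasque Sh.X₁)
    (U : S.Opens) : Function.Surjective (Sh.g.hom.app (op ((EtZar.zarToEt S).obj U))) := by
  intro s
  haveI := hSh.epi_g
  have hex : ∀ (V : S.Opens) (t : Sh.X₂.obj.obj (op ((EtZar.zarToEt S).obj V))), Sh.g.hom.app _ t = 0 →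
      ∃ a, Sh.f.hom.app (op ((EtZar.zarToEt S).obj V)) a = t := fun V t ht => by
    let G₀ := (sheafToPresheaf S.smallEtaleTopology AddCommGrpCat.{u + 1}) ⋙
      (evaluation _ _).obj (op ((EtZar.zarToEt S).obj V))
    haveI := hSh.mono_f
    exact (ShortComplex.ab_exact_iff _).1
      (hSh.exact.map_of_mono_of_preservesKernel G₀ inferInstance inferInstance) t ht
  let P := {p : Σ W : S.Opens, Sh.X₂.obj.obj (op ((EtZar.zarToEt S).obj W)) //
    ∃ h : p.1 ≤ U, Sh.g.hom.app _ p.2 = zres Sh.X₃ h s}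
  let r : P → P → Prop := fun a b => ∃ h : a.1.1 ≤ b.1.1, zres Sh.X₂ h b.1.2 = a.1.2
  have htrans : ∀ {a b c : P}, r a b → r b c → r a c := by
    rintro a b c ⟨h₁, e₁⟩ ⟨h₂, e₂⟩
    exact ⟨h₁.trans h₂, by rw [← zres_zres Sh.X₂ h₂ h₁, e₂, e₁]⟩
  obtain ⟨m, hm⟩ : ∃ m : P, ∀ a, r m a → r a m := by
    refine exists_maximal_of_chains_bounded (fun c hc => ?_) htrans
    let ι := {W : S.Opens // ∃ a ∈ c, a.1.1 = W}
    have hch : ∀ i : ι, ∃ a : c, a.1.1.1 = i.1 := fun ⟨W, a, ha, e⟩ => ⟨⟨a, ha⟩, e⟩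
    choose pick hpick using hch
    let D : ι → S.Opens := fun i => (pick i).1.1.1
    obtain ⟨g, hg⟩ := exists_zglue Sh.X₂ D (fun i => (pick i).1.1.2) (fun i j => by
      rcases eq_or_ne (pick i) (pick j) with e | hne
      · have e' : i = j := Subtype.ext ((hpick i).symm.trans ((congrArg (fun a => a.1.1.1) e).trans (hpick j)))
        subst e'; rfl
      rcases hc (pick i).2 (pick j).2 (fun h => hne (Subtype.ext h)) with ⟨h, e⟩ | ⟨h, e⟩
      · show zres _ _ (pick i).1.1.2 = zres _ _ (pick j).1.1.2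
        rw [← e]
        exact zres_zres _ h _ _
      · show zres _ _ (pick i).1.1.2 = zres _ _ (pick j).1.1.2
        rw [← e]
        exact (zres_zres _ h _ _).symm)
    have hDU : iSup D ≤ U := iSup_le fun i => (pick i).1.2.1
    refine ⟨⟨⟨iSup D, g⟩, hDU, ?_⟩, fun a ha => ?_⟩
    · refine zext Sh.X₃ D (fun i => le_iSup D i) le_rfl _ _ fun i => ?_
      rw [← zres_app, hg, zres_zres]
      exact (pick i).1.2.2
    · let i : ι := ⟨a.1.1, a, ha, rfl⟩
      have e1 : a.1.1 = D i := (hpick i).symm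
      have e2 : zres Sh.X₂ (le_iSup D i) g = (pick i).1.1.2 := hg i
      refine ⟨(le_of_eq e1).trans (le_iSup D i), ?_⟩
      rcases eq_or_ne (pick i).1 a with he | hne
      · have key : ∀ b : P, b = a → ∀ h₀ : b.1.1 ≤ iSup D, zres Sh.X₂ h₀ g = b.1.2 →
            ∀ h₁ : a.1.1 ≤ iSup D, zres Sh.X₂ h₁ g = a.1.2 := by
          rintro b rfl h₀ e h₁; exact e
        exact key _ he _ e2 _
      rcases hc (pick i).2 ha hne with ⟨h, e⟩ | ⟨h, e⟩
      · rw [← zres_zres _ (le_iSup D i) (le_of_eq e1), e2, ← e, zres_zres, zres_self]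
      · rw [← zres_zres _ (le_iSup D i) h, e2, e]
  obtain ⟨hmU, em⟩ := m.2
  by_cases htop : U ≤ m.1.1
  · refine ⟨zres Sh.X₂ htop m.1.2, ?_⟩
    rw [zres_app, em, zres_zres, zres_self]
  exfalso
  obtain ⟨x, hxU, hxm⟩ := SetLike.not_le_iff_exists.1 htop
  obtain ⟨W, hWU, t, hxW, ht⟩ := exists_local_lift hS Sh.g s hxU
  let δ := zres Sh.X₂ (inf_le_left : m.1.1 ⊓ W ≤ m.1.1) m.1.2 - zres Sh.X₂ inf_le_right t
  obtain ⟨a, ha⟩ := hex _ δ (by rw [map_sub, zres_app, zres_app, em, ht, zres_zres, zres_zres, sub_self])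
  obtain ⟨a', ha'⟩ := hF (inf_le_right : m.1.1 ⊓ W ≤ W) a
  let t' := t + Sh.f.hom.app _ a'
  have ht' : zres Sh.X₂ (inf_le_right : m.1.1 ⊓ W ≤ W) t' = zres Sh.X₂ inf_le_left m.1.2 := by
    rw [map_add, ← zres_app, ha', ha, add_sub_cancel]
  let D : ULift.{u} Bool → S.Opens := fun b => cond b.down m.1.1 W
  obtain ⟨gl, hgl⟩ := exists_zglue Sh.X₂ D (fun b => match b with
    | ⟨true⟩ => m.1.2
    | ⟨false⟩ => t') (by
    rintro ⟨_ | _⟩ ⟨_ | _⟩
    · rfl
    · show zres _ _ t' = zres _ _ m.1.2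
      refine ((zres_zres _ (inf_le_right : m.1.1 ⊓ W ≤ W) (le_inf inf_le_right inf_le_left : W ⊓ m.1.1 ≤ m.1.1 ⊓ W)
        t').symm.trans ?_).trans (zres_zres _ (inf_le_left : m.1.1 ⊓ W ≤ m.1.1)
        (le_inf inf_le_right inf_le_left : W ⊓ m.1.1 ≤ m.1.1 ⊓ W) m.1.2)
      exact congrArg _ ht'
    · show zres _ _ m.1.2 = zres _ _ t'
      exact ht'.symm
    · rfl)
  have hD : iSup D ≤ U := iSup_le (fun b => by
    rcases b with ⟨_ | _⟩
    · exact hWU
    · exact hmU)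
  have hgl' : Sh.g.hom.app _ gl = zres Sh.X₃ hD s := by
    refine zext Sh.X₃ D (fun b => le_iSup D b) le_rfl _ _ fun b => ?_
    rw [← zres_app, hgl, zres_zres]
    rcases b with ⟨_ | _⟩
    · show Sh.g.hom.app _ t' = zres Sh.X₃ hWU s
      rw [map_add, ht]
      refine (add_eq_left.2 ?_)
      exact ConcreteCategory.congr_hom (congrArg (fun φ : Sh.X₁ ⟶ Sh.X₃ => φ.hom.app _) Sh.zero) a'
    · exact em
  obtain ⟨h', -⟩ := hm ⟨⟨iSup D, gl⟩, hD, hgl'⟩ ⟨le_iSup D ⟨true⟩, hgl ⟨true⟩⟩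
  exact hxm (h' ((le_iSup D ⟨false⟩ : W ≤ iSup D) hxW))

include hS in
theorem zflasque_X₃ {Sh : ShortComplex (EtCoh.Ab S)} (hSh : Sh.ShortExact) (h₁ : ZFlasque Sh.X₁)
    (h₂ : ZFlasque Sh.X₂) : ZFlasque Sh.X₃ := by
  intro U V h s
  obtain ⟨t, rfl⟩ := surjective_zsections hS hSh h₁ V s
  obtain ⟨t, rfl⟩ := h₂ h t
  exact ⟨Sh.g.hom.app _ t, (zres_app Sh.g h t).symm⟩

include hS in
/-- Flasque on opens implies acyclic. -/
theorem subsingleton_H_of_zflasque (G : EtCoh.Ab S) (hG : ZFlasque G) (n : ℕ) :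
    Subsingleton (EtCoh.H S G (n + 1)) := by
  have hSh := H10Coh.injSeq_shortExact G
  have : Subsingleton (Ext (EtCoh.const S ℤ) (H10Coh.injSeq G).X₂ (n + 1)) :=
    subsingleton_of_forall_eq 0 fun x => Ext.eq_zero_of_injective x
  induction n generalizing G with
  | zero =>
    refine H10Coh.subsingleton_ext_one hSh fun ψ => ?_
    let T := (EtZar.zarToEt S).obj ⊤
    let i := zarTopIso S
    let y := Sheaf.H.equiv₀ _ (EtCore.topIsTerminal S) (Ext.mk₀ ψ)
    obtain ⟨t, ht⟩ := surjective_zsections hS hSh hG ⊤ ((H10Coh.injSeq G).X₃.obj.map i.hom.op y)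
    let t₀ := (H10Coh.injSeq G).X₂.obj.map i.inv.op t
    have h0 : (H10Coh.injSeq G).g.hom.app (op (EtCoh.top S)) t₀ = y := by
      refine (NatTrans.naturality_apply (H10Coh.injSeq G).g.hom i.inv.op t).trans ?_
      rw [ht, ← Functor.map_comp_apply, ← op_comp, Iso.inv_hom_id, op_id, CategoryTheory.Functor.map_id]
      rfl
    obtain ⟨φ, hφ⟩ := (Ext.mk₀_bijective _ _).2 ((Sheaf.H.equiv₀ _ (EtCore.topIsTerminal S)).symm t₀)
    refine ⟨φ, (Ext.mk₀_bijective _ _).1 ((Sheaf.H.equiv₀ _ (EtCore.topIsTerminal S)).injective ?_)⟩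
    rw [← Ext.mk₀_comp_mk₀, hφ]
    refine ((Sheaf.H.equiv₀_naturality _ _ _).symm.trans ?_)
    rw [AddEquiv.apply_symm_apply]
    exact h0
  | succ n ih =>
    exact H10Coh.subsingleton_ext_X₁ hSh (ih _ (zflasque_X₃ hS hSh hG (zflasque_of_injective _))
      (H10Coh.injSeq_shortExact _) (subsingleton_of_forall_eq 0 fun x => Ext.eq_zero_of_injective x))

end Groth.Agent.H1DFun
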